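import Cfsg.Agent.CLAS.AschSp
import Cfsg.Agent.CLAS.Eichler4
import Cfsg.Agent.CLAS.SpAlt
import Cfsg.Agent.CLAS.UniGen

/-!
The quasisimple classical groups lie in no geometric subgroup.
-/

set_option autoImplicit false

namespace CL.Asch

open Matrix Cfsg.Geo
open scoped Kronecker MatrixGroups commutatorElement

variable {F : Type*} [Field F] {ι κ μ : Type} [Fintype ι] [DecidableEq ι] [Fintype κ] [DecidableEq κ]
  [Fintype μ] [DecidableEq μ] {σ : F →+* F}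

/-- what we use of a quasisimple classical group `X` inside the isometry group `I`; `s` says that a
vector is singular -/
structure Amb (σ : F →+* F) (ε : F) (G : Matrix ι ι F) (s : (ι → F) → Prop) (I X : Subgroup (GL ι F))
    (τ : ℕ) : Prop where
  herm : Herm σ ε G
  two_le : 2 ≤ Fintype.card ι
  smul : ∀ (c : F) x, s x → s (c • x)
  sing : ∀ x, s x → gf σ G x x = 0
  move : ∀ u x, s x → gf σ G x u = 0 → u ∉ Submodule.span F {x} →
    ∃ g ∈ X, (g : Matrix ι ι F) *ᵥ u = u + x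
  iso : ∀ W : Submodule F (ι → F), τ ≤ Module.finrank F W → ∃ x ∈ W, x ≠ 0 ∧ s x
  irr : Irr X
  scal : ∀ z : Matrix ι ι F, (∀ g ∈ X, z * g = g * z) → ∃ c : F, z = c • (1 : Matrix ι ι F)
  perf : ⁅X, X⁆ = X
  norm : ∀ N ≤ I, NormBy X N → ¬ N ≤ scalars ι F → X ≤ N

theorem amb_of_form {T : Witt.FormType F} {f : Witt.Form T (ι → F)} (hf : f.Nondeg) (hp : f.Prim)
    (hE : ⁅f.E, f.E⁆ = f.E) {ε : F} {G : Matrix ι ι F} (hG : Herm σ ε G)
    (hB : ∀ u v, gf σ G u v = 0 ↔ f.B u v = 0) {I X : Subgroup (GL ι F)}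
    (hI : ∀ g ∈ I, Orth.glEquiv ι F g ∈ f.O) (hX : ∀ g, g ∈ X ↔ Orth.glEquiv ι F g ∈ f.E) {τ : ℕ}
    (hiso : ∀ W : Submodule F (ι → F), τ ≤ Module.finrank F W → ∃ x ∈ W, x ≠ 0 ∧ f.q x = 0)
    (hτ : τ ≤ Fintype.card ι) (h2 : 2 ≤ Fintype.card ι) :
    Amb σ ε G (fun x => f.q x = 0) I X τ := by
  haveI := nonempty_of_two_le h2
  obtain ⟨x₀, -, hx0, hx⟩ := hiso ⊤ (by simpa using hτ)
  have hX' : ∀ g ∈ f.E, (Orth.glEquiv ι F).symm g ∈ X := fun g hg => (hX _).mpr (by simpa using hg)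
  have hap : ∀ (g : (ι → F) ≃ₗ[F] (ι → F)) v,
      (((Orth.glEquiv ι F).symm g : GL ι F) : Matrix ι ι F) *ᵥ v = g v := fun g v => by
    rw [← Orth.glEquiv_apply, MulEquiv.apply_symm_apply]
  have hmap : X.map (Orth.glEquiv ι F).toMonoidHom = f.E := by
    ext g
    constructor
    · rintro ⟨g, hg, rfl⟩; exact (hX g).mp hg
    · exact fun hg => ⟨_, hX' g hg, by simp⟩
  refine ⟨hG, h2, fun c x h => f.q_smul_eq_zero h c, fun x h => (hB _ _).mpr (f.B_self_eq_zero h),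
    fun u x hx hxu hu => ?_, hiso, fun W hW => ?_, fun z hz => ?_, ?_, fun N hN hXN hns => ?_⟩
  · obtain ⟨v, h1, h3⟩ := hf.exists_perp_eq hu (-T.ε)
    obtain ⟨a, ha⟩ := Witt.Form.exists_eichOK hx
      (f.B_eq_zero_symm (h1 x (Submodule.mem_span_singleton_self x)))
    refine ⟨_, hX' _ (Witt.Form.ei_mem_E x v a), ?_⟩
    rw [hap, ha.ei_apply_of_perp ((hB _ _).mp hxu), h3, mul_neg, T.εε]
    simp
  · by_cases h0 : W = ⊥
    · exact Or.inl h0
    refine Or.inr (hf.submodule_eq_top hp.1 hx hx0 (fun u v a _ d hd => ?_) h0)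
    rw [← hap]
    exact hW _ (hX' _ (Witt.Form.ei_mem_E u v a)) d hd
  · obtain ⟨c, hc⟩ := hf.eq_smul_of_commute_E hp.1 hx hx0 (g := toLin' z) fun u v a _ w => by
      rw [← hap, ← hap, toLin'_apply, toLin'_apply, mulVec_mulVec, mulVec_mulVec,
        hz _ (hX' _ (Witt.Form.ei_mem_E u v a))]
    exact ⟨c, eq_of_mulVec fun v => by rw [smul_mulVec, one_mulVec, ← hc, toLin'_apply]⟩
  · apply Subgroup.map_injective (f := (Orth.glEquiv ι F).toMonoidHom) (Orth.glEquiv ι F).injective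
    rw [Subgroup.map_commutator, hmap, hE]
  · have := hf.E_le_of_normalized hp hE (N := N.map (Orth.glEquiv ι F).toMonoidHom) ?_ ?_ ?_ hx hx0
    · intro g hg
      obtain ⟨k, hk, h⟩ := this ((hX g).mp hg)
      rwa [← (Orth.glEquiv ι F).injective h]
    · rintro _ ⟨g, hg, rfl⟩; exact hI g (hN hg)
    · rintro g hg _ ⟨k, hk, rfl⟩
      exact ⟨_, hXN _ (hX' g hg) k hk, by simp⟩
    · obtain ⟨k, hk, h⟩ := SetLike.not_le_iff_exists.mp hns
      refine ⟨_, ⟨k, hk, rfl⟩, fun ⟨c, hc⟩ => h (mem_scalars'.mpr ⟨c, eq_of_mulVec fun v => ?_⟩)⟩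
      rw [smul_mulVec, one_mulVec, ← hc]; rfl

theorem IsMaximalIn.not_between {G : Type*} [Group G] {X H : Subgroup G} (h : IsMaximalIn X H) :
    ¬ ∃ K, H < K ∧ K < X := fun ⟨K, h1, h2⟩ =>
  (h.2 K h1.le h2.le).elim h1.ne' h2.ne

theorem finrank_ker_ge {α : Type} [Fintype α] (L : (ι → F) →ₗ[F] (α → F)) :
    Fintype.card ι ≤ Module.finrank F (LinearMap.ker L) + Fintype.card α := by
  have h1 := L.finrank_range_add_finrank_ker
  have h2 := Submodule.finrank_le (LinearMap.range L)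
  simp only [Module.finrank_fintype_fun_eq_card] at h1 h2
  omega

theorem not_mem_span_of {u x : ι → F} (L : (ι → F) →ₗ[F] F) (h1 : L x = 0) (h2 : L u ≠ 0) :
    u ∉ Submodule.span F {x} := fun h => by
  obtain ⟨c, rfl⟩ := Submodule.mem_span_singleton.mp h
  simp [h1] at h2

theorem conj_conj_comm [Finite F] [Nonempty ι] {r : ℕ} {K : Subalgebra F (Matrix ι ι F)}
    (hK : IsFieldSubalgebra r K) {g h : GL ι F} (hg : g ∈ subalgebraNormalizer K)
    (hh : h ∈ subalgebraNormalizer K) {k : Matrix ι ι F} (hk : k ∈ K) :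
    conjAlgHom g (conjAlgHom h k) = conjAlgHom h (conjAlgHom g k) := by
  letI := (IsFieldSubalgebra.isField hK).toField
  obtain ⟨w, hw⟩ := IsCyclic.exists_monoid_generator (α := Kˣ)
  have key : ∀ y ∈ K, y ≠ 0 → ∃ n : ℕ, y = ((w : K) : Matrix ι ι F) ^ n := fun y hy h0 => by
    obtain ⟨n, hn⟩ := hw (Units.mk0 ⟨y, hy⟩ fun h => h0 (congrArg Subtype.val h))
    exact ⟨n, (congrArg (fun u : Kˣ => ((u : K) : Matrix ι ι F)) hn).symm⟩
  have hw0 : ((w : K) : Matrix ι ι F) ≠ 0 := fun h => w.ne_zero (Subtype.ext h)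
  have hne : ∀ g : GL ι F, conjAlgHom g ((w : K) : Matrix ι ι F) ≠ 0 := fun g h =>
    hw0 (conjAlgHom_injective g (by rw [h, map_zero]))
  by_cases h0 : k = 0
  · simp [h0]
  obtain ⟨n, rfl⟩ := key k hk h0
  obtain ⟨a, ha⟩ := key _ ((hg _).mp (w : K).2) (hne g)
  obtain ⟨b, hb⟩ := key _ ((hh _).mp (w : K).2) (hne h)
  rw [← conjAlgHom_apply] at ha hb
  simp only [map_pow, ha, hb, ← pow_mul]
  congr 1; ring

namespace Amb

variable {ε : F} {G : Matrix ι ι F} {s : (ι → F) → Prop} {I X : Subgroup (GL ι F)} {τ : ℕ}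
  (h : Amb σ ε G s I X τ)
include h

theorem exists_ker {α : Type} [Fintype α] (L : (ι → F) →ₗ[F] (α → F))
    (hα : τ + Fintype.card α ≤ Fintype.card ι) : ∃ x, x ≠ 0 ∧ s x ∧ L x = 0 := by
  obtain ⟨x, h1, h2, h3⟩ := h.iso (LinearMap.ker L) (by have := finrank_ker_ge L; omega)
  exact ⟨x, h2, h3, h1⟩

theorem not_le_subspace {W : Submodule F (ι → F)} (h1 : W ≠ ⊥) (h2 : W ≠ ⊤) :
    ¬ X ≤ subspaceStabilizer W := fun hle =>
  (h.irr W fun g hg v hv => ((mem_subspaceStabilizer W g).mp (hle hg) v).mp hv).elim h1 h2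

theorem not_le_ts {W : Submodule F (ι → F)} (h1 : W ≠ ⊥) (h2 : IsTotallySingularFor (gf σ G) W) :
    ¬ X ≤ subspaceStabilizer W :=
  haveI := nonempty_of_two_le h.two_le
  h.not_le_subspace h1 (IsTotallySingularFor.ne_top h.herm h2)

theorem not_le_decomp {t m : ℕ} {D : Fin t → Submodule F (ι → F)}
    (hD : IsNondegenerateMDecomposition (gf σ G) m D) (hτ : τ + m ≤ Fintype.card ι) :
    ¬ X ≤ decompositionStabilizer D := fun hle => by
  have ht := hD.decomp.two_le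
  let i : Fin t := ⟨0, by omega⟩
  obtain ⟨u, hu, hu0⟩ := IsMDecomposition.exists_ne_zero hD.decomp i
  obtain ⟨x, h1, h2, h3⟩ := h.iso (perp σ G (D i)) (by
    have := finrank_perp h.herm (D i); rw [hD.decomp.finrank_eq] at this; omega)
  have hb := inf_perp_eq_bot (hD.nondegenerate i)
  have hb' : ∀ v ∈ D i, v ∈ perp σ G (D i) → v = 0 := fun v a b =>
    (Submodule.mem_bot F).mp (hb ▸ ⟨a, b⟩)
  obtain ⟨g, hg, hgu⟩ := h.move u x h3 (h1 u hu) fun hm => by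
    obtain ⟨c, rfl⟩ := Submodule.mem_span_singleton.mp hm
    exact hu0 (hb' _ hu (Submodule.smul_mem _ _ h1))
  obtain ⟨p, hp⟩ := decomposition_maps (hle hg)
  have h4 := hp i u hu
  rw [hgu] at h4
  by_cases hi : p i = i
  · rw [hi] at h4
    exact h2 (hb' x (by simpa using (D i).sub_mem h4 hu) h1)
  · have h5 : u + x ∈ perp σ G (D i) := fun w hw => hD.orthogonal _ _ hi _ h4 w hw
    exact hu0 (hb' u hu (by simpa using (perp σ G (D i)).sub_mem h5 h1))

theorem not_le_pair {m : ℕ} {D : Fin 2 → Submodule F (ι → F)} (hD : IsMDecomposition m D) :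
    ¬ X ≤ decompositionStabilizer D := fun hle => by
  have key : ∀ g ∈ X, ∃ p : Equiv.Perm (Fin 2), ∀ i, ∀ v ∈ D i, (g : Matrix ι ι F) *ᵥ v ∈ D (p i) :=
    fun g hg => decomposition_maps (hle hg)
  have hcomm : ∀ p q : Equiv.Perm (Fin 2), ∀ i, p (q (p⁻¹ (q⁻¹ i))) = i := by decide
  have hinv : ∀ g ∈ X, ∀ p : Equiv.Perm (Fin 2), (∀ i, ∀ v ∈ D i, (g : Matrix ι ι F) *ᵥ v ∈ D (p i)) →
      ∀ i, ∀ v ∈ D i, ((g⁻¹ : GL ι F) : Matrix ι ι F) *ᵥ v ∈ D (p⁻¹ i) := by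
    intro g hg p hp i v hv
    obtain ⟨q, hq⟩ := key _ (X.inv_mem hg)
    obtain ⟨u, hu, hu0⟩ := IsMDecomposition.exists_ne_zero hD i
    have h1 := hp _ _ (hq i u hu)
    rw [mulVec_inv_mulVec] at h1
    have h2 : p (q i) = i := by
      by_contra h3
      exact hu0 (Submodule.disjoint_def.mp (hD.indep.pairwiseDisjoint h3) u h1 hu)
    have h3 : p⁻¹ i = q i := by rw [Equiv.Perm.inv_eq_iff_eq, h2]
    rw [h3]; exact hq i v hv
  obtain ⟨u, hu, hu0⟩ := IsMDecomposition.exists_ne_zero hD 0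
  obtain ⟨w, hw, hw0⟩ := IsMDecomposition.exists_ne_zero hD 1
  refine h.not_le_subspace (W := D 0) (fun h0 => hu0 (by simpa [h0] using hu)) (fun h0 => hw0
    (Submodule.disjoint_def.mp (hD.indep.pairwiseDisjoint (show (0 : Fin 2) ≠ 1 by decide)) w
      (h0 ▸ trivial) hw)) ?_
  rw [← h.perf, Subgroup.commutator_le]
  intro a ha b hb
  obtain ⟨p, hp⟩ := key a ha
  obtain ⟨q, hq⟩ := key b hb
  have : ∀ g ∈ Subgroup.closure {⁅a, b⁆}, ∀ v ∈ D 0, (g : Matrix ι ι F) *ᵥ v ∈ D 0 := by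
    have hab : ∀ v ∈ D 0, ((⁅a, b⁆ : GL ι F) : Matrix ι ι F) *ᵥ v ∈ D 0 := fun v hv => by
      have := hp _ _ (hq _ _ (hinv a ha p hp _ _ (hinv b hb q hq _ _ hv)))
      rw [hcomm] at this
      simpa only [commutatorElement_def, Units.val_mul, ← mulVec_mulVec] using this
    intro g hg
    have h1 : ⁅a, b⁆ ∈ subspaceStabilizer (D 0) := (FGL.mem_subspaceStabilizer).mpr
      (Witt.mem_stab_of_le hab)
    intro v hv
    exact ((mem_subspaceStabilizer _ g).mp ((Subgroup.closure_le _).mpr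
      (Set.singleton_subset_iff.mpr h1) hg) v).mp hv
  exact le_subspaceStabilizer this (Subgroup.subset_closure rfl)

theorem not_le_field [Finite F] {r : ℕ} {K : Subalgebra F (Matrix ι ι F)} (hK : IsFieldSubalgebra r K)
    (hr : 2 ≤ r) : ¬ X ≤ subalgebraNormalizer K := fun hle => by
  haveI := nonempty_of_two_le h.two_le
  obtain ⟨k, hk, hks⟩ := IsFieldSubalgebra.exists_nonscalar hK hr
  refine hks (h.scal k fun g hg => ((conjAlgHom_eq_self_iff g k).mp ?_).symm)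
  let C : Subgroup (GL ι F) :=
    { carrier := {g | conjAlgHom g k = k}
      mul_mem' := fun {a b} ha hb => by
        rw [Set.mem_ofPred_eq] at ha hb ⊢; rw [conjAlgHom_mul, hb, ha]
      one_mem' := conjAlgHom_one k
      inv_mem' := fun {a} ha => by
        rw [Set.mem_ofPred_eq] at ha ⊢
        conv_lhs => rw [← ha, conjAlgHom_inv_cancel] }
  have : X ≤ C := by
    rw [← h.perf, Subgroup.commutator_le]
    intro a ha b hb
    show conjAlgHom ⁅a, b⁆ k = k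
    rw [commutatorElement_def, conjAlgHom_mul, conjAlgHom_mul, conjAlgHom_mul,
      conj_conj_comm hK (inv_mem (hle ha)) (inv_mem (hle hb)) hk, conjAlgHom_cancel_inv,
      conjAlgHom_cancel_inv]
  exact this hg

theorem not_le_normalizer {R : Subgroup (GL ι F)} (hR : R ≤ I) (hns : ¬ R ≤ scalars ι F)
    (hc : ⁅R, R⁆ ≤ scalars ι F) : ¬ X ≤ subgroupNormalizer R := fun hle => by
  have h1 : X ≤ R := h.norm R hR (fun g hg x hx => (Subgroup.mem_normalizer_iff.mp (hle hg) x).mp hx) hns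
  refine not_le_scalars_of_irr h.two_le h.irr ?_
  rw [← h.perf]
  exact (Subgroup.commutator_mono h1 h1).trans hc

theorem not_le_c6 {R : Subgroup (GL ι F)} (hR : R ≤ I) (htop : alg R = ⊤)
    (hc : ⁅R, R⁆ ≤ scalars ι F) : ¬ X ≤ subgroupNormalizer R :=
  h.not_le_normalizer hR (not_le_scalars_of_irr h.two_le (irr_of_alg_top htop)) hc

theorem not_le_tensor' {n₁ n₂ : ℕ} (e : ι ≃ Fin n₁ × Fin n₂) (P : GL ι F) (a : Fin n₁) (b : Fin n₂)
    {x : Fin n₁ × Fin n₂ → F} (hx0 : x ≠ 0) (hs : s (cvec e P x))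
    (hp : gf σ G (cvec e P x) (cvec e P (Pi.single (a, b) 1)) = 0) (h1 : ∀ i, x (i, b) = 0)
    (h2 : ∀ j, x (a, j) = 0) : ¬ X ≤ tensorProductSubgroup n₁ n₂ e P := fun hle => by
  obtain ⟨g, hg, hgu⟩ := h.move _ _ hs hp (not_mem_span_of
    (LinearMap.proj (a, b) ∘ₗ (cvec e P).symm.toLinearMap) (by simp [h1]) (by simp))
  obtain ⟨u, v, huv⟩ := tensorProduct_maps (hle hg) (Pi.single a 1) (Pi.single b 1)
  rw [← single_eq_pv2, hgu, ← map_add] at huv
  have h3 := congrFun ((cvec e P).injective huv)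
  simp only [Pi.add_apply, pv2] at h3
  have h4 := h3 (a, b)
  rw [h1, Pi.single_eq_same, add_zero] at h4
  refine hx0 (funext fun ⟨i, j⟩ => ?_)
  by_cases hi : i = a
  · rw [hi]; exact h2 j
  have h5 := h3 (i, b)
  rw [h1, Pi.single_eq_of_ne (by simp [hi]), add_zero] at h5
  have h6 := h3 (i, j)
  rw [Pi.single_eq_of_ne (by simp [hi]), zero_add,
    (mul_eq_zero.mp h5.symm).resolve_right (right_ne_zero_of_mul_eq_one h4.symm), zero_mul] at h6
  exact h6

theorem not_le_tensor {n₁ n₂ : ℕ} (e : ι ≃ Fin n₁ × Fin n₂) (P : GL ι F) (h1 : 0 < n₁) (h2 : 0 < n₂)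
    (hτ : τ + (n₁ + n₂) ≤ Fintype.card ι) : ¬ X ≤ tensorProductSubgroup n₁ n₂ e P := by
  obtain ⟨l, rfl⟩ : ∃ l, n₂ = l + 1 := ⟨n₂ - 1, by omega⟩
  let a : Fin n₁ := ⟨0, h1⟩
  obtain ⟨x, h3, h4, h5⟩ := h.exists_ker (α := Unit ⊕ Fin n₁ ⊕ Fin l) (LinearMap.pi (Sum.elim
    (fun _ => gfL σ G (cvec e P (Pi.single (a, 0) 1))) (Sum.elim
    (fun i => LinearMap.proj (i, 0) ∘ₗ (cvec e P).symm.toLinearMap)
    (fun j => LinearMap.proj (a, j.succ) ∘ₗ (cvec e P).symm.toLinearMap)))) (by simp; omega)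
  obtain ⟨x, rfl⟩ := (cvec e P).surjective x
  have h6 : ∀ i, x (i, 0) = 0 := fun i => by simpa using congrFun h5 (Sum.inr (Sum.inl i))
  refine h.not_le_tensor' e P a 0 (by simpa using h3) h4 (congrFun h5 (Sum.inl ())) h6 fun j => ?_
  refine Fin.cases (h6 a) (fun j => ?_) j
  simpa using congrFun h5 (Sum.inr (Sum.inr j))

theorem not_le_wreath [Finite F] {m t : ℕ} (e : ι ≃ (Fin t → Fin m)) (P : GL ι F) (h1 : 0 < m)
    (hτ : τ + (2 + t * (m - 1)) ≤ Fintype.card ι) : ¬ X ≤ tensorWreathSubgroup m t e P := fun hle => by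
  obtain ⟨l, rfl⟩ : ∃ l, m = l + 1 := ⟨m - 1, by omega⟩
  obtain ⟨x, h3, h4, h5⟩ := h.exists_ker (α := Unit ⊕ Unit ⊕ Fin t × Fin l) (LinearMap.pi (Sum.elim
    (fun _ => gfL σ G (cvec e P (Pi.single 0 1))) (Sum.elim
    (fun _ => LinearMap.proj 0 ∘ₗ (cvec e P).symm.toLinearMap)
    (fun j => LinearMap.proj (Function.update (0 : Fin t → Fin (l + 1)) j.1 j.2.succ) ∘ₗ
      (cvec e P).symm.toLinearMap))))
    (by simp at hτ ⊢; omega)
  obtain ⟨x, rfl⟩ := (cvec e P).surjective x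
  have h6 : x 0 = 0 := by simpa using congrFun h5 (Sum.inr (Sum.inl ()))
  have h7 : ∀ i (j : Fin l), x (Function.update 0 i j.succ) = 0 := fun i j => by
    simpa using congrFun h5 (Sum.inr (Sum.inr (i, j)))
  obtain ⟨g, hg, hgu⟩ := h.move _ _ h4 (congrFun h5 (Sum.inl ())) (not_mem_span_of
    (LinearMap.proj 0 ∘ₗ (cvec e P).symm.toLinearMap) (by simp [h6]) (by simp))
  obtain ⟨u, huv⟩ := tensorWreath_maps (hle hg) (fun i => Pi.single ((0 : Fin t → Fin (l + 1)) i) 1)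
  rw [← single_eq_pvT, hgu, ← map_add] at huv
  have h8 := congrFun ((cvec e P).injective huv)
  simp only [Pi.add_apply] at h8
  have h9 := h8 0
  rw [h6, Pi.single_eq_same, add_zero] at h9
  apply h3
  rw [show x = 0 from funext fun a => ?_, map_zero]
  by_cases ha : a = 0
  · rw [ha]; exact h6
  obtain ⟨i, hi⟩ := Function.ne_iff.mp ha
  obtain ⟨j, hj⟩ := Fin.exists_succ_eq.mpr hi
  have h10 := pvT_swap u 0 a i
  rw [← h9, ← h8 a, ← h8 (Function.update 0 i (a i)), ← hj, h7, Pi.single_eq_of_ne ha,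
    Pi.single_eq_of_ne (fun h => by simpa using congrFun h i)] at h10
  simpa using h10

theorem not_le_subfield' {F₀ : Subfield F} (hF : ∃ a, a ∉ F₀) (P : GL ι F) {u x : ι → F}
    (hu : ∀ i, u i ∈ F₀) (hx0 : x ≠ 0) (hs : s x) (hp : gf σ G x ((P : Matrix ι ι F) *ᵥ u) = 0)
    (hux : (P : Matrix ι ι F) *ᵥ u ∉ Submodule.span F {x}) : ¬ X ≤ subfieldSubgroup F₀ P := fun hle => by
  obtain ⟨w, rfl⟩ : ∃ w, x = (P : Matrix ι ι F) *ᵥ w := ⟨_, (mulVec_inv_mulVec P x).symm⟩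
  have key : ∀ c : F, (P : Matrix ι ι F) *ᵥ (u + c • w) ∈ subPts F₀ P := fun c => by
    obtain ⟨g, hg, hgu⟩ := h.move _ _ (h.smul c _ hs) (by rw [gf_smul_left, hp, mul_zero])
      fun hm => hux (Submodule.span_le.mpr (Set.singleton_subset_iff.mpr
        (Submodule.smul_mem _ c (Submodule.mem_span_singleton_self _))) hm)
    rw [Matrix.mulVec_add, Matrix.mulVec_smul, ← hgu]
    exact subPts_maps (hle hg) _ ⟨1, u, hu, one_smul _ _⟩
  obtain ⟨b, hb⟩ : ∃ b, w b ≠ 0 := by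
    by_contra h0
    push Not at h0
    exact hx0 (by rw [show w = 0 from funext h0, mulVec_zero])
  obtain ⟨a, ha⟩ : ∃ a, u a * w b - u b * w a ≠ 0 := by
    by_contra h0
    push Not at h0
    refine hux (Submodule.mem_span_singleton.mpr ⟨u b / w b, ?_⟩)
    rw [← Matrix.mulVec_smul]
    congr 1
    funext a
    rw [Pi.smul_apply, smul_eq_mul]
    field_simp
    linear_combination -h0 a
  obtain ⟨γ, hγ, h1⟩ : ∃ γ, γ ∉ F₀ ∧ w b - γ * w a ≠ 0 := by
    obtain ⟨γ, hγ⟩ := hF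
    by_cases h1 : w b - γ * w a = 0
    · refine ⟨γ + 1, fun h2 => hγ (by simpa using F₀.sub_mem h2 F₀.one_mem), fun h2 => hb ?_⟩
      have : w a = 0 := by linear_combination h1 - h2
      rw [this] at h1
      simpa using h1
    · exact ⟨γ, hγ, h1⟩
  have h2 : (u + ((γ * u a - u b) / (w b - γ * w a)) • w) a =
      (u a * w b - u b * w a) / (w b - γ * w a) := by
    simp only [Pi.add_apply, Pi.smul_apply, smul_eq_mul]; field_simp; ring
  have h3 := mem_of_mem_subPts (key ((γ * u a - u b) / (w b - γ * w a))) (a := a) (b := b)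
    (by rw [h2]; exact div_ne_zero ha h1)
  rw [h2] at h3
  convert hγ.elim (show γ ∈ F₀ from ?_)
  convert h3 using 1
  simp only [Pi.add_apply, Pi.smul_apply, smul_eq_mul]; field_simp; ring

theorem not_le_subfield {F₀ : Subfield F} (hF : ∃ a, a ∉ F₀) (P : GL ι F)
    (hτ : τ + 2 ≤ Fintype.card ι) : ¬ X ≤ subfieldSubgroup F₀ P := by
  obtain ⟨a⟩ := nonempty_of_two_le h.two_le
  obtain ⟨x, h3, h4, h5⟩ := h.exists_ker (α := Unit ⊕ Unit) (LinearMap.pi (Sum.elim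
    (fun _ => gfL σ G ((P : Matrix ι ι F) *ᵥ (Pi.single a 1)))
    (fun _ => LinearMap.proj a ∘ₗ toLin' ((P⁻¹ : GL ι F) : Matrix ι ι F)))) (by simpa using hτ)
  refine h.not_le_subfield' hF P (single_mem_subfield F₀ a) h3 h4 (congrFun h5 (Sum.inl ()))
    (not_mem_span_of (LinearMap.proj a ∘ₗ toLin' ((P⁻¹ : GL ι F) : Matrix ι ι F))
      (congrFun h5 (Sum.inr ())) ?_)
  rw [LinearMap.comp_apply, toLin'_apply, inv_mulVec_mulVec]
  simp

theorem not_le_subfield_of_ne {F₀ : Subfield F} (hF : ∃ a, a ∉ F₀) (P : GL ι F)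
    (hτ : τ + 1 ≤ Fintype.card ι) {u : ι → F} (hu : ∀ i, u i ∈ F₀)
    (hne : gf σ G ((P : Matrix ι ι F) *ᵥ u) ((P : Matrix ι ι F) *ᵥ u) ≠ 0) :
    ¬ X ≤ subfieldSubgroup F₀ P := by
  obtain ⟨x, h3, h4, h5⟩ := h.exists_ker (α := Unit) (LinearMap.pi
    (fun _ => gfL σ G ((P : Matrix ι ι F) *ᵥ u))) (by simpa using hτ)
  exact h.not_le_subfield' hF P hu h3 h4 (congrFun h5 ())
    (not_mem_span_of (gfL σ G ((P : Matrix ι ι F) *ᵥ u)) (congrFun h5 ()) hne)

end Amb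

end CL.Asch
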