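import Cfsg.Agent.CLAS.AschTr

/-!
Small fields given by tables, and kernel-friendly checks on coded vectors.
-/

set_option autoImplicit false

namespace CL.Asch

open Matrix

/-- entry `a` of a table of 5-bit numbers -/
def tb1 (T a : ℕ) : ℕ := Nat.land (Nat.shiftRight T (Nat.mul (nat_lit 5) a)) (nat_lit 31)

/-- entry `(a, b)` of a table of 5-bit numbers -/
def tb2 (T a b : ℕ) : ℕ :=
  Nat.land (Nat.shiftRight T (Nat.add (Nat.mul (nat_lit 160) a) (Nat.mul (nat_lit 5) b))) (nat_lit 31)

/-- conjunction, evaluated from the left -/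
noncomputable def andB (a b : Bool) : Bool := Bool.rec false b a

/-- disjunction, evaluated from the left -/
noncomputable def orB (a b : Bool) : Bool := Bool.rec b true a

/-- implication, evaluated from the left -/
noncomputable def impB (a b : Bool) : Bool := Bool.rec true b a

theorem andB_iff {a b : Bool} : andB a b = true ↔ a = true ∧ b = true := by cases a <;> simp [andB]

theorem orB_iff {a b : Bool} : orB a b = true ↔ a = true ∨ b = true := by cases a <;> simp [orB]

theorem impB_iff {a b : Bool} : impB a b = true ↔ (a = true → b = true) := by cases a <;> simp [impB]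

/-- bounded universal quantifier -/
noncomputable def allN (n : ℕ) (f : ℕ → Bool) : Bool := Nat.rec true (fun k r => andB (f k) r) n

/-- bounded existential quantifier -/
noncomputable def exN (n : ℕ) (f : ℕ → Bool) : Bool := Nat.rec false (fun k r => orB (f k) r) n

theorem allN_iff {n : ℕ} {f : ℕ → Bool} : allN n f = true ↔ ∀ k < n, f k = true := by
  induction n with
  | zero => simp [allN]
  | succ n ih =>
    rw [Nat.forall_lt_succ_right, ← ih, and_comm]
    exact andB_iff

theorem exN_iff {n : ℕ} {f : ℕ → Bool} : exN n f = true ↔ ∃ k < n, f k = true := by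
  induction n with
  | zero => simp [exN]
  | succ n ih =>
    rw [Nat.exists_lt_succ_right, ← ih, or_comm]
    exact orB_iff

theorem all3 (n : ℕ) (f g : ℕ → ℕ → ℕ → ℕ)
    (h : (allN n fun a => allN n fun b => allN n fun c => Nat.beq (f a b c) (g a b c)) = true)
    (a b c : Fin n) : f a b c = g a b c :=
  Nat.eq_of_beq_eq_true (allN_iff.mp (allN_iff.mp (allN_iff.mp h a a.2) b b.2) c c.2)

/-- all lists of length `m` with entries below `n` -/
noncomputable def allV (n m : ℕ) : (List ℕ → Bool) → Bool :=
  Nat.rec (fun f => f []) (fun _ r f => allN n fun a => r fun l => f (a :: l)) m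

/-- equality of lists -/
noncomputable def eqL (l : List ℕ) : List ℕ → Bool :=
  List.rec (fun l' => List.rec true (fun _ _ _ => false) l')
    (fun a _ r l' => List.rec false (fun b t _ => andB (Nat.beq a b) (r t)) l') l

theorem eqL_iff {l l' : List ℕ} : eqL l l' = true ↔ l = l' := by
  induction l generalizing l' with
  | nil => cases l' <;> simp [eqL]
  | cons a l ih =>
    cases l' with
    | nil => simp [eqL]
    | cons b t => rw [List.cons.injEq, ← ih, ← Nat.beq_eq]; exact andB_iff

/-- map on lists -/
noncomputable def mapL {α β : Type} (f : α → β) (l : List α) : List β :=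
  List.rec [] (fun a _ r => f a :: r) l

theorem mapL_eq {α β : Type} (f : α → β) (l : List α) : mapL f l = l.map f := by
  induction l with
  | nil => rfl
  | cons a l ih => rw [List.map_cons, ← ih]; rfl

/-- fold on lists -/
noncomputable def foldL (f : ℕ → ℕ → ℕ) (z : ℕ) (l : List ℕ) : ℕ := List.rec z (fun a _ r => f a r) l

/-- membership of a coded vector in a set given by a bit mask -/
noncomputable def mask (n M : ℕ) (l : List ℕ) : Bool :=
  Nat.beq (Nat.land (Nat.shiftRight M (foldL (fun a r => Nat.add a (Nat.mul n r)) 0 l)) 1) 1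

/-- iteration -/
noncomputable def iter {α : Type} (f : α → α) (k : ℕ) (x : α) : α := Nat.rec x (fun _ r => f r) k

/-- a coding of a field with a ring endomorphism by numbers -/
structure Cod (E : Type) [Field E] (τ : E →+* E) where
  n : ℕ
  c : E → ℕ
  d : ℕ → E
  ad : ℕ → ℕ → ℕ
  mu : ℕ → ℕ → ℕ
  fc : ℕ → ℕ
  lt : ∀ a, c a < n
  inj : Function.Injective c
  zero : c 0 = 0
  one : c 1 = 1
  add : ∀ a b, c (a + b) = ad (c a) (c b)
  mul : ∀ a b, c (a * b) = mu (c a) (c b)
  fr : ∀ a, c (τ a) = fc (c a)

namespace Cod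

variable {E : Type} [Field E] {τ : E →+* E} (C : Cod E τ) {m : ℕ}

/-- code of a vector -/
def cv (v : Fin m → E) : List ℕ := List.ofFn fun i => C.c (v i)

/-- code of a matrix -/
def cm (g : Matrix (Fin m) (Fin m) E) : List (List ℕ) := List.ofFn fun i => C.cv (g i)

/-- the vector with a given code -/
def dv (m : ℕ) (l : List ℕ) : Fin m → E := fun i => C.d (l.getD i 0)

/-- the matrix with a given code -/
def dm (m : ℕ) (M : List (List ℕ)) : Matrix (Fin m) (Fin m) E := of fun i => C.dv m (M.getD i [])

/-- dot product of codes -/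
noncomputable def dot (l : List ℕ) : List ℕ → ℕ :=
  List.rec (fun _ => 0) (fun a _ r l' => List.rec 0 (fun b t _ => C.ad (C.mu a b) (r t)) l') l

/-- matrix times vector on codes -/
noncomputable def mv (M : List (List ℕ)) (l : List ℕ) : List ℕ := mapL (fun r => C.dot r l) M

/-- hermitian form on codes -/
noncomputable def hf (M : List (List ℕ)) (l l' : List ℕ) : ℕ := C.dot l (C.mv M (mapL C.fc l'))

theorem cv_succ (v : Fin (m + 1) → E) : C.cv v = C.c (v 0) :: C.cv fun i => v i.succ :=
  List.ofFn_succ ..

theorem cv_inj {u v : Fin m → E} (h : C.cv u = C.cv v) : u = v :=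
  funext fun i => C.inj (congrFun (List.ofFn_injective h) i)

theorem allV_cv {f : List ℕ → Bool} (h : allV C.n m f = true) (v : Fin m → E) : f (C.cv v) = true := by
  induction m generalizing f with
  | zero => exact h
  | succ m ih => rw [cv_succ]; exact ih (f := fun l => f (_ :: l)) (allN_iff.mp h _ (C.lt _)) _

theorem dot_cv (u v : Fin m → E) : C.dot (C.cv u) (C.cv v) = C.c (u ⬝ᵥ v) := by
  induction m with
  | zero => simp [dotProduct, C.zero, cv, dot]
  | succ m ih =>
    rw [cv_succ, cv_succ, dotProduct, Fin.sum_univ_succ, C.add, C.mul, ← dotProduct, ← ih]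
    rfl

theorem mv_cv (g : Matrix (Fin m) (Fin m) E) (v : Fin m → E) :
    C.mv (C.cm g) (C.cv v) = C.cv (g *ᵥ v) := by
  rw [mv, mapL_eq, cm, List.map_ofFn]
  exact congrArg _ (funext fun i => C.dot_cv _ _)

theorem map_cv (f : E → E) (f' : ℕ → ℕ) (h : ∀ a, C.c (f a) = f' (C.c a)) (v : Fin m → E) :
    mapL f' (C.cv v) = C.cv (f ∘ v) := by
  rw [mapL_eq, cv, List.map_ofFn]
  exact congrArg _ (funext fun i => (h _).symm)

theorem hf_cv (G : Matrix (Fin m) (Fin m) E) (u v : Fin m → E) :
    C.hf (C.cm G) (C.cv u) (C.cv v) = C.c (gf τ G u v) := by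
  rw [hf, C.map_cv τ _ C.fr, mv_cv, dot_cv, gf]

theorem iter_cv (g : Matrix (Fin m) (Fin m) E) (k : ℕ) (v : Fin m → E) :
    iter (C.mv (C.cm g)) k (C.cv v) = C.cv ((g ^ k) *ᵥ v) := by
  induction k with
  | zero => rw [pow_zero, one_mulVec]; rfl
  | succ k ih => rw [pow_succ', ← mulVec_mulVec, ← mv_cv, ← ih]; rfl

theorem prod_cv (v : Fin m → E) : foldL C.mu 1 (C.cv v) = C.c (∏ i, v i) := by
  induction m with
  | zero => simp [C.one, cv, foldL]
  | succ m ih => rw [cv_succ, Fin.prod_univ_succ, C.mul, ← ih]; rfl

theorem sum_cv (f : ℕ → ℕ) (v : Fin m → E) :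
    foldL (fun a r => Nat.add (f a) r) 0 (C.cv v) = ∑ i, f (C.c (v i)) := by
  induction m with
  | zero => simp [cv, foldL]
  | succ m ih => rw [cv_succ, Fin.sum_univ_succ, ← ih]; rfl

/-- the set of vectors whose code passes a test -/
def set (m : ℕ) (p : List ℕ → Bool) : Set (Fin m → E) := {v | p (C.cv v) = true}

/-- the check that coded matrices preserve a set -/
noncomputable def pres (m : ℕ) (p : List ℕ → Bool) (L : List (List (List ℕ))) : Bool :=
  allV C.n m fun l => impB (p l) (List.rec true (fun M _ r => andB (p (C.mv M l)) r) L)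

theorem mem_of_pres [Finite E] {p : List ℕ → Bool} {L : List (List (List ℕ))} (h : C.pres m p L = true)
    {g : GL (Fin m) E} (hg : C.cm g.1 ∈ L) :
    g ∈ Cfsg.stabilizing (Cfsg.glToMat (Fin m) E) (C.set m p) := by
  refine mem_stabilizing_of_mapsTo fun v hv => ?_
  have h1 := impB_iff.mp (C.allV_cv h v) hv
  clear h
  induction L with
  | nil => cases hg
  | cons M L ih =>
    rcases List.mem_cons.mp hg with rfl | hg
    · exact (congrArg p (C.mv_cv g.1 v)).symm.trans (andB_iff.mp h1).1
    · exact ih hg (andB_iff.mp h1).2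

theorem not_mem_of {p : List ℕ → Bool} {g : GL (Fin m) E} (v : Fin m → E) (h1 : p (C.cv v) = true)
    (h2 : p (C.mv (C.cm g.1) (C.cv v)) = false) :
    g ∉ Cfsg.stabilizing (Cfsg.glToMat (Fin m) E) (C.set m p) := fun h => by
  have : p (C.cv (g.1 *ᵥ v)) = true := (h v).mp h1
  rw [← mv_cv, h2] at this
  cases this

end Cod

/-- The field with 4 elements, given by tables. -/
def E4 : Type := Fin 4

namespace E4

instance : DecidableEq E4 := inferInstanceAs (DecidableEq (Fin 4))
instance : Fintype E4 := inferInstanceAs (Fintype (Fin 4))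
instance instDecAll (p : E4 → Prop) [h : DecidablePred p] : Decidable (∀ a, p a) :=
  @Nat.decidableForallFin _ p h
instance instDecEx (p : E4 → Prop) [h : DecidablePred p] : Decidable (∃ a, p a) :=
  @Nat.decidableExistsFin _ p h

/-- addition table -/
def ad (a b : ℕ) : ℕ := tb2 (nat_lit 0x44300000000000000000000000000000000000080620000000000000000000000000000000000010c010000000000000000000000000000000000018820) a b
/-- multiplication table -/
def mu (a b : ℕ) : ℕ := tb2 (nat_lit 0x104600000000000000000000000000000000000008c4000000000000000000000000000000000000188200000000000000000000000000000000000000000) a b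
/-- Frobenius table -/
def fc (a : ℕ) : ℕ := tb1 (nat_lit 0x10c20) a

theorem add_lt : ∀ a b : Fin 4, ad a.1 b.1 < 4 := by decide +kernel
theorem mul_lt : ∀ a b : Fin 4, mu a.1 b.1 < 4 := by decide +kernel
theorem neg_lt : ∀ a : Fin 4, tb1 (nat_lit 0x18820) a.1 < 4 := by decide +kernel
theorem inv_lt : ∀ a : Fin 4, tb1 (nat_lit 0x10c20) a.1 < 4 := by decide +kernel
theorem fr_lt : ∀ a : Fin 4, fc a.1 < 4 := by decide +kernel

instance : Zero E4 := ⟨⟨0, by decide⟩⟩
instance : One E4 := ⟨⟨1, by decide⟩⟩
instance : Add E4 := ⟨fun a b => ⟨_, add_lt a b⟩⟩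
instance : Mul E4 := ⟨fun a b => ⟨_, mul_lt a b⟩⟩
instance : Neg E4 := ⟨fun a => ⟨_, neg_lt a⟩⟩
instance : Inv E4 := ⟨fun a => ⟨_, inv_lt a⟩⟩

instance : Field E4 :=
  Field.ofMinimalAxioms E4
    (fun a b c => Fin.ext (all3 4 (fun a b c => ad (ad a b) c) (fun a b c => ad a (ad b c))
      (by decide +kernel) a b c))
    (by decide +kernel) (by decide +kernel)
    (fun a b c => Fin.ext (all3 4 (fun a b c => mu (mu a b) c) (fun a b c => mu a (mu b c))
      (by decide +kernel) a b c))
    (by decide +kernel) (by decide +kernel) (by decide +kernel) (by decide +kernel)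
    (fun a b c => Fin.ext (all3 4 (fun a b c => mu a (ad b c)) (fun a b c => ad (mu a b) (mu a c))
      (by decide +kernel) a b c))
    ⟨0, 1, by decide +kernel⟩

/-- The Frobenius map. -/
def frF (a : E4) : E4 := ⟨_, fr_lt a⟩

/-- The Frobenius involution. -/
def fr : E4 →+* E4 where
  toFun := frF
  map_one' := by decide +kernel
  map_zero' := by decide +kernel
  map_mul' := by decide +kernel
  map_add' := by decide +kernel

theorem fr_eq : ∀ a, fr a = a ^ 2 := by decide +kernel

theorem card_eq : Fintype.card E4 = 2 ^ 2 := Fintype.card_fin _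

/-- The coding by numbers. -/
def cod : Cod E4 fr where
  n := 4
  c a := a.1
  d a := ⟨a % 4, Nat.mod_lt _ (by decide)⟩
  ad := ad
  mu := mu
  fc := fc
  lt a := a.2
  inj _ _ h := Fin.ext h
  zero := rfl
  one := rfl
  add _ _ := rfl
  mul _ _ := rfl
  fr _ := rfl

end E4

/-- The field with 9 elements, given by tables. -/
def E9 : Type := Fin 9

namespace E9

instance : DecidableEq E9 := inferInstanceAs (DecidableEq (Fin 9))
instance : Fintype E9 := inferInstanceAs (Fintype (Fin 9))
instance instDecAll (p : E9 → Prop) [h : DecidablePred p] : Decidable (∀ a, p a) :=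
  @Nat.decidableForallFin _ p h
instance instDecEx (p : E9 → Prop) [h : DecidablePred p] : Decidable (∃ a, p a) :=
  @Nat.decidableExistsFin _ p h

/-- addition table -/
def ad (a b : ℕ) : ℕ := tb2 (nat_lit 0x41942011cc8000000000000000000000000000003290020990700000000000000000000000000000520c41020e6000000000000000000000000000001008e641065000000000000000000000000000000104c838ca40000000000000000000000000000020810731483000000000000000000000000000007320832840200000000000000000000000000000641c6520041000000000000000000000000000008398a418820) a b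
/-- multiplication table -/
def mu (a b : ℕ) : ℕ := tb2 (nat_lit 0x609443391000000000000000000000000000000011a0c2214e00000000000000000000000000000054088708cc00000000000000000000000000000023106141ca000000000000000000000000000000311c262a080000000000000000000000000000007205051186000000000000000000000000000000428ce830440000000000000000000000000000008398a4188200000000000000000000000000000000000000000) a b
/-- Frobenius table -/
def fc (a : ℕ) : ℕ := tb1 (nat_lit 0x520d0730820) a

theorem add_lt : ∀ a b : Fin 9, ad a.1 b.1 < 9 := by decide +kernel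
theorem mul_lt : ∀ a b : Fin 9, mu a.1 b.1 < 9 := by decide +kernel
theorem neg_lt : ∀ a : Fin 9, tb1 (nat_lit 0x428ce830440) a.1 < 9 := by decide +kernel
theorem inv_lt : ∀ a : Fin 9, tb1 (nat_lit 0x740c8530820) a.1 < 9 := by decide +kernel
theorem fr_lt : ∀ a : Fin 9, fc a.1 < 9 := by decide +kernel

instance : Zero E9 := ⟨⟨0, by decide⟩⟩
instance : One E9 := ⟨⟨1, by decide⟩⟩
instance : Add E9 := ⟨fun a b => ⟨_, add_lt a b⟩⟩
instance : Mul E9 := ⟨fun a b => ⟨_, mul_lt a b⟩⟩
instance : Neg E9 := ⟨fun a => ⟨_, neg_lt a⟩⟩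
instance : Inv E9 := ⟨fun a => ⟨_, inv_lt a⟩⟩

instance : Field E9 :=
  Field.ofMinimalAxioms E9
    (fun a b c => Fin.ext (all3 9 (fun a b c => ad (ad a b) c) (fun a b c => ad a (ad b c))
      (by decide +kernel) a b c))
    (by decide +kernel) (by decide +kernel)
    (fun a b c => Fin.ext (all3 9 (fun a b c => mu (mu a b) c) (fun a b c => mu a (mu b c))
      (by decide +kernel) a b c))
    (by decide +kernel) (by decide +kernel) (by decide +kernel) (by decide +kernel)
    (fun a b c => Fin.ext (all3 9 (fun a b c => mu a (ad b c)) (fun a b c => ad (mu a b) (mu a c))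
      (by decide +kernel) a b c))
    ⟨0, 1, by decide +kernel⟩

/-- The Frobenius map. -/
def frF (a : E9) : E9 := ⟨_, fr_lt a⟩

/-- The Frobenius involution. -/
def fr : E9 →+* E9 where
  toFun := frF
  map_one' := by decide +kernel
  map_zero' := by decide +kernel
  map_mul' := by decide +kernel
  map_add' := by decide +kernel

theorem fr_eq : ∀ a, fr a = a ^ 3 := by decide +kernel

theorem card_eq : Fintype.card E9 = 3 ^ 2 := Fintype.card_fin _

/-- The coding by numbers. -/
def cod : Cod E9 fr where
  n := 9
  c a := a.1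
  d a := ⟨a % 9, Nat.mod_lt _ (by decide)⟩
  ad := ad
  mu := mu
  fc := fc
  lt a := a.2
  inj _ _ h := Fin.ext h
  zero := rfl
  one := rfl
  add _ _ := rfl
  mul _ _ := rfl
  fr _ := rfl

end E9

/-- The field with 25 elements, given by tables. -/
def E25 : Type := Fin 25

namespace E25

instance : DecidableEq E25 := inferInstanceAs (DecidableEq (Fin 25))
instance : Fintype E25 := inferInstanceAs (Fintype (Fin 25))
instance instDecAll (p : E25 → Prop) [h : DecidablePred p] : Decidable (∀ a, p a) :=
  @Nat.decidableForallFin _ p h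
instance instDecEx (p : E25 → Prop) [h : DecidablePred p] : Decidable (∃ a, p a) :=
  @Nat.decidableExistsFin _ p h

/-- addition table -/
def ad (a b : ℕ) : ℕ := tb2 (nat_lit 0x128c1f36b16a720e62a46208097b5698000000001183e7262d4e69cc54a04101076ad31700000000107ce515a9cd618a941c2020c55a62f6000000000f9ca30539ac595283980418834c5ed500000000139460f7358b525073148310418bdab4000000000d62d4e41cc548c41012f6ad3128c1f3000000000c5a9cd398a94082020ed5a62f183e72000000000b539ac315283840418ab4c5ed07ce51000000000a7358b2a5073008310698bdaaf9ca30000000000e6b16a4a0e62906208317b56939460f0000000008398a91882025ed5a625183e6d62d4e000000000731528104041dab4c5e307ce4c5a9cd00000000062a5070808315698bda0f9ca2b539ac00000000054a0e6010620d317b55f39460a7358b000000000941cc520c41062f6ad2728c1ee6b16a000000000310404bdab4c4a307cdac5a9c8398a9000000000208083b5698bc60f9c98b539a731528000000000101062ad317b41f39456a735862a507000000000020c41a62f6abe728c14e6b1654a0e6000000000418820c5ed5a4e5183dcd62d4941cc50000000017b56989460f9b58b5390731523104040000000016ad3178c1f39316a734e62a502080830000000015a62f683e728ad4e6b0c54a0e1010620000000014c5ed57ce51829cd62ca941cc020c410000000018bdab49ca307b9ac5a928398a418820)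 a b
/-- multiplication table -/
def mu (a b : ℕ) : ℕ := tb2 (nat_lit 0xd9d0277d44875869540855c6e664b000000000013a8cac0a151c35f621a824ae47742e00000000014199d163ee1490ea95618115a85cec000000000012ba56b88ca9bf033ad90a11096c6a00000000007646c24ba7821970a850d95c6553e80000000000f0b2e9c160268dd4344f222aabb2260000000001543c4e2c48bbcc2da1c6ab260cc1a40000000000255cd3811944164175b0778d6daa62000000000088855812e89954b31b1e46d8ceb9e00000000000ec26646dd121b2c7889753402aa15e00000000016691e61ccb56268b149418a3103ddc0000000000379f0b70645b5184820d750a714d5a00000000009b2870a34333ac912dc4f455d236180000000000a248f5351c388a05c36ec0bd334596000000000103556189ecc1491768e69c388f2d1400000000004a418838f0f5a8c2bce4e286d58b52000000000051620d928e4a86ef625c61d2369ad00000000000b48a92259ed345480e0a3acd97838e000000000115949752476820557b8349b4f8930c0000000001793503ac1660e26e492d161c547a8a000000000063a1255b1ae542329beb6be28110c80000000000c72daab62b7a1d2641633849e220460000000001284e2f419272deb8b51ab73143090400000000018bdab49ca307b9ac5a928398a4188200000000000000000000000000000000000000000)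 a b
/-- Frobenius table -/
def fc (a : ℕ) : ℕ := tb1 (nat_lit 0x941cc57358b54e5183f17b568418820) a

theorem add_lt : ∀ a b : Fin 25, ad a.1 b.1 < 25 := by decide +kernel
theorem mul_lt : ∀ a b : Fin 25, mu a.1 b.1 < 25 := by decide +kernel
theorem neg_lt : ∀ a : Fin 25, tb1 (nat_lit 0x63a1255b1ae542329beb6be28110c80) a.1 < 25 := by decide +kernel
theorem inv_lt : ∀ a : Fin 25, tb1 (nat_lit 0x159c30abb5962a2513d0ce5a5e410c20) a.1 < 25 := by decide +kernel
theorem fr_lt : ∀ a : Fin 25, fc a.1 < 25 := by decide +kernel

instance : Zero E25 := ⟨⟨0, by decide⟩⟩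
instance : One E25 := ⟨⟨1, by decide⟩⟩
instance : Add E25 := ⟨fun a b => ⟨_, add_lt a b⟩⟩
instance : Mul E25 := ⟨fun a b => ⟨_, mul_lt a b⟩⟩
instance : Neg E25 := ⟨fun a => ⟨_, neg_lt a⟩⟩
instance : Inv E25 := ⟨fun a => ⟨_, inv_lt a⟩⟩

instance : Field E25 :=
  Field.ofMinimalAxioms E25
    (fun a b c => Fin.ext (all3 25 (fun a b c => ad (ad a b) c) (fun a b c => ad a (ad b c))
      (by decide +kernel) a b c))
    (by decide +kernel) (by decide +kernel)
    (fun a b c => Fin.ext (all3 25 (fun a b c => mu (mu a b) c) (fun a b c => mu a (mu b c))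
      (by decide +kernel) a b c))
    (by decide +kernel) (by decide +kernel) (by decide +kernel) (by decide +kernel)
    (fun a b c => Fin.ext (all3 25 (fun a b c => mu a (ad b c)) (fun a b c => ad (mu a b) (mu a c))
      (by decide +kernel) a b c))
    ⟨0, 1, by decide +kernel⟩

/-- The Frobenius map. -/
def frF (a : E25) : E25 := ⟨_, fr_lt a⟩

/-- The Frobenius involution. -/
def fr : E25 →+* E25 where
  toFun := frF
  map_one' := by decide +kernel
  map_zero' := by decide +kernel
  map_mul' := by decide +kernel
  map_add' := by decide +kernel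

theorem fr_eq : ∀ a, fr a = a ^ 5 := by decide +kernel

theorem card_eq : Fintype.card E25 = 5 ^ 2 := Fintype.card_fin _

/-- The coding by numbers. -/
def cod : Cod E25 fr where
  n := 25
  c a := a.1
  d a := ⟨a % 25, Nat.mod_lt _ (by decide)⟩
  ad := ad
  mu := mu
  fc := fc
  lt a := a.2
  inj _ _ h := Fin.ext h
  zero := rfl
  one := rfl
  add _ _ := rfl
  mul _ _ := rfl
  fr _ := rfl

end E25

end CL.Asch
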