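import Cfsg.Agent.CLAS.AschSL3

/-!
Groups of isometries of a form: perpendicular spaces, the reducible case, adjoint-closed
commutative algebras, tensor factors.
-/

set_option autoImplicit false

namespace CL.Asch

open Matrix Cfsg.Geo
open scoped Kronecker MatrixGroups

variable {F : Type*} [Field F] {ι κ μ : Type} [Fintype ι] [DecidableEq ι] [Fintype κ] [DecidableEq κ]
  [Fintype μ] [DecidableEq μ] {σ : F →+* F}

/-- the form as a linear map in its first argument -/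
def gfL (σ : F →+* F) (G : Matrix ι ι F) (w : ι → F) : (ι → F) →ₗ[F] F where
  toFun v := gf σ G v w
  map_add' u v := gf_add_left G u v w
  map_smul' c v := gf_smul_left G c v w

/-- the perpendicular space -/
def perp (σ : F →+* F) (G : Matrix ι ι F) (W : Submodule F (ι → F)) : Submodule F (ι → F) where
  carrier := {v | ∀ w ∈ W, gf σ G v w = 0}
  add_mem' := fun {a b} ha hb w hw => by rw [gf_add_left, ha w hw, hb w hw, add_zero]
  zero_mem' := fun w _ => gf_zero_left G w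
  smul_mem' := fun c v hv w hw => by rw [gf_smul_left, hv w hw, mul_zero]

theorem mem_perp {G : Matrix ι ι F} {W : Submodule F (ι → F)} {v : ι → F} :
    v ∈ perp σ G W ↔ ∀ w ∈ W, gf σ G v w = 0 := Iff.rfl

theorem gf_sum_right {α : Type*} (s : Finset α) (G : Matrix ι ι F) (u : ι → F) (v : α → ι → F) :
    gf σ G u (∑ i ∈ s, v i) = ∑ i ∈ s, gf σ G u (v i) := by
  classical
  induction s using Finset.induction_on with
  | empty => simp [gf_zero_right]
  | insert a s ha ih => rw [Finset.sum_insert ha, Finset.sum_insert ha, gf_add_right, ih]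

theorem mem_perp_span {G : Matrix ι ι F} {S : Set (ι → F)} {v : ι → F} :
    v ∈ perp σ G (Submodule.span F S) ↔ ∀ w ∈ S, gf σ G v w = 0 := by
  refine ⟨fun h w hw => h w (Submodule.subset_span hw), fun h w hw => ?_⟩
  induction hw using Submodule.span_induction with
  | mem x hx => exact h x hx
  | zero => exact gf_zero_right G v
  | add x y _ _ hx hy => rw [gf_add_right, hx, hy, add_zero]
  | smul c x _ hx => rw [gf_smul_right, hx, mul_zero]

theorem finrank_perp_ge (G : Matrix ι ι F) (W : Submodule F (ι → F)) :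
    Fintype.card ι ≤ Module.finrank F (perp σ G W) + Module.finrank F W := by
  let b := Module.finBasis F W
  let L : (ι → F) →ₗ[F] (Fin (Module.finrank F W) → F) := LinearMap.pi fun i => gfL σ G (b i)
  have h1 := LinearMap.finrank_range_add_finrank_ker L
  have h2 := Submodule.finrank_le (LinearMap.range L)
  have h3 : LinearMap.ker L ≤ perp σ G W := by
    intro v hv w hw
    have : w = ∑ i, b.repr ⟨w, hw⟩ i • (b i : ι → F) := by
      have := congrArg W.subtype (b.sum_repr ⟨w, hw⟩)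
      rw [map_sum] at this
      exact this.symm
    rw [this, gf_sum_right]
    refine Finset.sum_eq_zero fun i _ => ?_
    have h : gf σ G v (b i) = 0 := congrFun hv i
    rw [gf_smul_right, h, mul_zero]
  have h4 := Submodule.finrank_mono h3
  simp only [Module.finrank_fintype_fun_eq_card, Fintype.card_fin] at h1 h2
  omega

theorem perp_inv {G : Matrix ι ι F} {H : Subgroup (GL ι F)} (hH : ∀ h ∈ H, ∃ c, IsSim σ G c h)
    {W : Submodule F (ι → F)} (hW : ∀ h ∈ H, ∀ v ∈ W, (h : Matrix ι ι F) *ᵥ v ∈ W) :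
    ∀ h ∈ H, ∀ v ∈ perp σ G W, (h : Matrix ι ι F) *ᵥ v ∈ perp σ G W := by
  intro h hh v hv w hw
  obtain ⟨c, hc⟩ := hH h hh
  rw [← mulVec_inv_mulVec h w, isSim_iff.mp hc, hv _ (hW _ (inv_mem hh) w hw), mul_zero]

/-- an orthogonal splitting -/
structure OrthSplit (σ : F →+* F) (G : Matrix ι ι F) (W U : Submodule F (ι → F)) : Prop where
  ne₁ : W ≠ ⊥
  ne₂ : U ≠ ⊥
  compl : IsCompl W U
  orth : ∀ u ∈ W, ∀ v ∈ U, gf σ G u v = 0

theorem OrthSplit.symm {ε : F} {G : Matrix ι ι F} (hG : Herm σ ε G) {W U : Submodule F (ι → F)}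
    (h : OrthSplit σ G W U) : OrthSplit σ G U W :=
  ⟨h.ne₂, h.ne₁, h.compl.symm, fun u hu v hv => hG.eq_zero_symm (h.orth v hv u hu)⟩

theorem OrthSplit.finrank {G : Matrix ι ι F} {W U : Submodule F (ι → F)} (h : OrthSplit σ G W U) :
    Module.finrank F W + Module.finrank F U = Fintype.card ι := by
  rw [Submodule.finrank_add_eq_of_isCompl h.compl, Module.finrank_fintype_fun_eq_card]

theorem OrthSplit.ne_top {G : Matrix ι ι F} {W U : Submodule F (ι → F)} (h : OrthSplit σ G W U) :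
    W ≠ ⊤ := by
  rintro rfl
  exact h.ne₂ (top_disjoint.mp h.compl.disjoint)

theorem OrthSplit.nondeg {ε : F} {G : Matrix ι ι F} (hG : Herm σ ε G) {W U : Submodule F (ι → F)}
    (h : OrthSplit σ G W U) : IsNondegenerateOn (gf σ G) W := by
  have key : ∀ w ∈ W, w ≠ 0 → ∃ x ∈ W, gf σ G w x ≠ 0 := by
    intro w hw hw0
    by_contra hcon
    push Not at hcon
    apply hw0
    refine eq_zero_of_gf_left hG.surj hG.det_ne fun x => ?_
    obtain ⟨a, ha, b, hb, rfl⟩ := Submodule.mem_sup.mp (h.compl.sup_eq_top ▸ Submodule.mem_top (x := x))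
    rw [gf_add_right, hcon a ha, h.orth w hw b hb, add_zero]
  intro w hw hw0
  obtain ⟨x, hx, hx'⟩ := key w hw hw0
  exact ⟨⟨x, hx, fun h0 => hx' (hG.eq_zero_symm h0)⟩, x, hx, hx'⟩

theorem orthSplit_perp {ε : F} {G : Matrix ι ι F} (hG : Herm σ ε G) {W : Submodule F (ι → F)}
    (h1 : W ≠ ⊥) (h2 : W ≠ ⊤) (h : W ⊓ perp σ G W = ⊥) : OrthSplit σ G W (perp σ G W) := by
  have hc : IsCompl W (perp σ G W) := by
    refine ⟨disjoint_iff.mpr h, codisjoint_iff.mpr (Submodule.eq_top_of_finrank_eq ?_)⟩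
    have h3 := Submodule.finrank_sup_add_finrank_inf_eq W (perp σ G W)
    have h4 := finrank_perp_ge (σ := σ) G W
    have h5 := Submodule.finrank_le (W ⊔ perp σ G W)
    rw [h, finrank_bot] at h3
    rw [Module.finrank_fintype_fun_eq_card] at h5 ⊢
    omega
  refine ⟨h1, fun h0 => h2 ?_, hc, fun u hu v hv => hG.eq_zero_symm (hv u hu)⟩
  rw [← hc.sup_eq_top, h0, sup_bot_eq]

theorem inf_perp_eq_bot {G : Matrix ι ι F} {W : Submodule F (ι → F)}
    (h : IsNondegenerateOn (gf σ G) W) : W ⊓ perp σ G W = ⊥ := by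
  rw [eq_bot_iff]
  rintro v ⟨hv, hv'⟩
  by_contra h0
  obtain ⟨x, hx, hx'⟩ := (h v hv h0).2
  exact hx' (hv' x hx)

theorem OrthSplit.eq_perp {ε : F} {G : Matrix ι ι F} (hG : Herm σ ε G) {W U : Submodule F (ι → F)}
    (h : OrthSplit σ G W U) : U = perp σ G W := by
  have h1 : U ≤ perp σ G W := fun v hv w hw => hG.eq_zero_symm (h.orth w hw v hv)
  refine Submodule.eq_of_le_of_finrank_eq h1 ?_
  have h2 := (orthSplit_perp hG h.ne₁ h.ne_top (inf_perp_eq_bot (h.nondeg hG))).finrank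
  have h3 := h.finrank
  omega

theorem OrthSplit.decomp {ε : F} {G : Matrix ι ι F} (hG : Herm σ ε G) {W U : Submodule F (ι → F)}
    (h : OrthSplit σ G W U) (hd : Module.finrank F W = Module.finrank F U) :
    IsNondegenerateMDecomposition (gf σ G) (Module.finrank F W) ![W, U] := by
  refine ⟨⟨le_rfl, Nat.pos_of_ne_zero fun h0 => h.ne₁ (Submodule.finrank_eq_zero.mp h0), ?_, ?_, ?_⟩,
    ?_, ?_⟩
  · intro i; fin_cases i
    · rfl
    · exact hd.symm
  · rw [iSupIndep_pair (i := 0) (j := 1) (by decide) (by decide)]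
    exact h.compl.disjoint
  · rw [eq_top_iff, ← h.compl.sup_eq_top]
    exact sup_le (le_iSup ![W, U] 0) (le_iSup ![W, U] 1)
  · intro i; fin_cases i
    · exact h.nondeg hG
    · exact (h.symm hG).nondeg hG
  · intro i j hij
    fin_cases i <;> fin_cases j
    · exact absurd rfl hij
    · exact h.orth
    · exact (h.symm hG).orth
    · exact absurd rfl hij

theorem map_eq_of_inv {H : Subgroup (GL ι F)} {W : Submodule F (ι → F)}
    (hW : ∀ h ∈ H, ∀ v ∈ W, (h : Matrix ι ι F) *ᵥ v ∈ W) {h : GL ι F} (hh : h ∈ H) :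
    W.map (toLin' (h : Matrix ι ι F)) = W := by
  apply le_antisymm
  · rintro _ ⟨v, hv, rfl⟩; exact hW h hh v hv
  · intro v hv
    exact ⟨_, hW _ (inv_mem hh) v hv, mulVec_inv_mulVec h v⟩

theorem le_decomp_pair {H : Subgroup (GL ι F)} {W U : Submodule F (ι → F)}
    (hW : ∀ h ∈ H, ∀ v ∈ W, (h : Matrix ι ι F) *ᵥ v ∈ W)
    (hU : ∀ h ∈ H, ∀ v ∈ U, (h : Matrix ι ι F) *ᵥ v ∈ U) : H ≤ decompositionStabilizer ![W, U] := by
  intro h hh
  refine ⟨1, fun i => ?_⟩
  fin_cases i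
  · exact map_eq_of_inv hW hh
  · exact map_eq_of_inv hU hh

/-- the reducible case -/
theorem reducible_cases {ε : F} {G : Matrix ι ι F} (hG : Herm σ ε G) {H : Subgroup (GL ι F)}
    (hH : ∀ h ∈ H, ∃ c, IsSim σ G c h) (hirr : ¬ Irr H) :
    (∃ W : Submodule F (ι → F), W ≠ ⊥ ∧ IsTotallySingularFor (gf σ G) W ∧
      ∀ h ∈ H, ∀ v ∈ W, (h : Matrix ι ι F) *ᵥ v ∈ W) ∨
    (∃ W U : Submodule F (ι → F), OrthSplit σ G W U ∧ Module.finrank F W ≤ Module.finrank F U ∧
      (∀ h ∈ H, ∀ v ∈ W, (h : Matrix ι ι F) *ᵥ v ∈ W) ∧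
      ∀ h ∈ H, ∀ v ∈ U, (h : Matrix ι ι F) *ᵥ v ∈ U) := by
  obtain ⟨W, h1, h2, hW⟩ := exists_of_not_irr hirr
  have hU := perp_inv hH hW
  by_cases h : W ⊓ perp σ G W = ⊥
  · right
    have hs := orthSplit_perp hG h1 h2 h
    rcases le_total (Module.finrank F W) (Module.finrank F (perp σ G W)) with hle | hle
    · exact ⟨W, _, hs, hle, hW, hU⟩
    · exact ⟨_, W, hs.symm hG, hle, hU, hW⟩
  · exact Or.inl ⟨_, h, fun u hu v hv => hu.2 v hv.1,
      fun g hg v hv => ⟨hW g hg v hv.1, hU g hg v hv.2⟩⟩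

theorem IsTotallySingularFor.ne_top [Nonempty ι] {ε : F} {G : Matrix ι ι F} (hG : Herm σ ε G)
    {W : Submodule F (ι → F)} (h : IsTotallySingularFor (gf σ G) W) : W ≠ ⊤ := by
  rintro rfl
  obtain ⟨i⟩ := ‹Nonempty ι›
  exact single_one_ne_zero i (eq_zero_of_gf_right hG.det_ne fun x => h x trivial _ trivial)

/-! ### idempotents -/

theorem IdemFam.nondeg_decomp {ε : F} {G : Matrix ι ι F} (hG : Herm σ ε G) {H : Subgroup (GL ι F)}
    {t : ℕ} {e : Fin t → Matrix ι ι F} (he : IdemFam H e) (ht : 2 ≤ t)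
    (hadj : ∀ i, IsAdj σ G (e i) (e i)) :
    ∃ m, IsNondegenerateMDecomposition (gf σ G) m (fun i => rg (e i)) := by
  obtain ⟨m, hm⟩ := he.isMDecomposition ht
  refine ⟨m, hm, fun i w hw hw0 => ?_, fun i j hij u hu v hv => ?_⟩
  · obtain ⟨x, hx⟩ := (hG.nondeg w hw0).2
    have h1 : gf σ G w (e i *ᵥ x) ≠ 0 := by
      rwa [← isAdj_iff.mp (hadj i), (mem_rg_idem (he.idem i)).mp hw]
    exact ⟨⟨_, mem_rg.mpr ⟨x, rfl⟩, fun h0 => h1 (hG.eq_zero_symm h0)⟩, _, mem_rg.mpr ⟨x, rfl⟩, h1⟩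
  · obtain ⟨a, rfl⟩ := mem_rg.mp hu
    obtain ⟨b, rfl⟩ := mem_rg.mp hv
    rw [isAdj_iff.mp (hadj i), mulVec_mulVec, he.orth i j hij, zero_mulVec, gf_zero_right]

theorem ts_pair {ε : F} {G : Matrix ι ι F} (hG : Herm σ ε G) {e : Matrix ι ι F} (he : e * e = e)
    (hadj : IsAdj σ G e (1 - e)) (i : Fin 2) : IsTotallySingularFor (gf σ G) (rg (![e, 1 - e] i)) := by
  intro u hu v hv
  obtain ⟨a, rfl⟩ := mem_rg.mp hu
  obtain ⟨b, rfl⟩ := mem_rg.mp hv
  fin_cases i
  · change gf σ G (e *ᵥ a) (e *ᵥ b) = 0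
    rw [isAdj_iff.mp hadj, mulVec_mulVec, sub_mul, he, one_mul, sub_self, zero_mulVec, gf_zero_right]
  · change gf σ G ((1 - e) *ᵥ a) ((1 - e) *ᵥ b) = 0
    rw [isAdj_iff.mp (hG.isAdj_symm hadj), mulVec_mulVec, mul_sub, he, mul_one, sub_self, zero_mulVec,
      gf_zero_right]

theorem IsAdj.pow {G x y : Matrix ι ι F} (h : IsAdj σ G x y) (n : ℕ) : IsAdj σ G (x ^ n) (y ^ n) := by
  induction n with
  | zero => simpa using isAdj_one G
  | succ n ih => rw [pow_succ, pow_succ']; exact ih.mul h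

/-- self-adjoint elements of a commutative subring -/
def fixAdj (σ : F →+* F) (G : Matrix ι ι F) (Z : Subring (Matrix ι ι F))
    (hcomm : ∀ x ∈ Z, ∀ y ∈ Z, x * y = y * x) : Subring (Matrix ι ι F) where
  carrier := {x | x ∈ Z ∧ IsAdj σ G x x}
  mul_mem' := fun {a b} ha hb => ⟨Z.mul_mem ha.1 hb.1, by
    have := ha.2.mul hb.2; rwa [hcomm b hb.1 a ha.1] at this⟩
  one_mem' := ⟨Z.one_mem, isAdj_one G⟩
  add_mem' := fun {a b} ha hb => ⟨Z.add_mem ha.1 hb.1, ha.2.add hb.2⟩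
  zero_mem' := ⟨Z.zero_mem, isAdj_zero G⟩
  neg_mem' := fun {a} ha => ⟨Z.neg_mem ha.1, ha.2.neg⟩

theorem idemFam_pair {H : Subgroup (GL ι F)} (hirr : Irr H) {f : Matrix ι ι F} (hff : f * f = f)
    (hf0 : f ≠ 0) (hf1 : f ≠ 1) (hH : ∀ h ∈ H, conjAlgHom h f = f ∨ conjAlgHom h f = 1 - f) :
    IdemFam H ![f, 1 - f] := by
  have hex : ∃ h ∈ H, conjAlgHom h f = 1 - f := by
    by_contra hcon
    push Not at hcon
    rcases hirr (rg f) (fun h hh v hv => by
      obtain ⟨w, rfl⟩ := mem_rg.mp hv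
      rw [← conj_mulVec, (hH h hh).resolve_right (hcon h hh)]
      exact mem_rg.mpr ⟨_, rfl⟩) with h | h
    · exact hf0 (rg_eq_bot_iff.mp h)
    · exact hf1 (eq_of_mulVec fun v => by
        rw [one_mulVec]; exact (mem_rg_idem hff).mp (h ▸ Submodule.mem_top))
  obtain ⟨g, hg, hgf⟩ := hex
  refine ⟨fun i => ?_, fun i j hij => ?_, fun i => ?_, by simp, fun h hh => ?_, fun i j => ?_⟩
  · fin_cases i
    · exact hff
    · change (1 - f) * (1 - f) = 1 - f
      simp [mul_sub, sub_mul, hff]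
  · fin_cases i <;> fin_cases j
    · exact absurd rfl hij
    · change f * (1 - f) = 0
      rw [mul_sub, hff]; simp
    · change (1 - f) * f = 0
      rw [sub_mul, hff]; simp
    · exact absurd rfl hij
  · fin_cases i
    · exact hf0
    · exact sub_ne_zero.mpr hf1.symm
  · rcases hH h hh with h1 | h1
    · refine ⟨1, fun i => ?_⟩
      fin_cases i
      · exact h1
      · change conjAlgHom h (1 - f) = 1 - f
        rw [map_sub, map_one, h1]
    · refine ⟨Equiv.swap 0 1, fun i => ?_⟩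
      fin_cases i
      · exact h1
      · change conjAlgHom h (1 - f) = f
        rw [map_sub, map_one, h1, sub_sub_cancel]
  · fin_cases i <;> fin_cases j
    · exact ⟨1, H.one_mem, conjAlgHom_one _⟩
    · exact ⟨g, hg, hgf⟩
    · refine ⟨g, hg, ?_⟩
      change conjAlgHom g (1 - f) = f
      rw [map_sub, map_one, hgf, sub_sub_cancel]
    · exact ⟨1, H.one_mem, conjAlgHom_one _⟩

/-- adjoint-closed commutative normalised subrings -/
theorem form_comm_cases [Finite F] {ε : F} {G : Matrix ι ι F} (hG : Herm σ ε G)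
    {H : Subgroup (GL ι F)} (hirr : Irr H) (hH : ∀ h ∈ H, ∃ c, IsSim σ G c h)
    (Z : Subring (Matrix ι ι F)) (hcomm : ∀ x ∈ Z, ∀ y ∈ Z, x * y = y * x)
    (hN : ∀ h ∈ H, ∀ x ∈ Z, conjAlgHom h x ∈ Z) (hadj : ∀ x ∈ Z, ∃ y ∈ Z, IsAdj σ G x y) :
    (∃ (t : ℕ) (e : Fin t → Matrix ι ι F), 2 ≤ t ∧ IdemFam H e ∧ (∀ i, e i ∈ Z) ∧
      ∀ i, IsAdj σ G (e i) (e i)) ∨
    (∃ e ∈ Z, IdemFam H ![e, 1 - e] ∧ IsAdj σ G e (1 - e)) ∨
    (∀ x ∈ Z, x ≠ 0 → ∃ y ∈ Z, x * y = 1) := by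
  by_cases h0 : ∃ f ∈ Z, IsAdj σ G f f ∧ f * f = f ∧ f ≠ 0 ∧ f ≠ 1
  · obtain ⟨f, hf, hfa, hff, hf0, hf1⟩ := h0
    obtain ⟨t, e, ht, he, hm, -⟩ := exists_idemFam (fixAdj σ G Z hcomm) H
      (fun x hx y hy => hcomm x hx.1 y hy.1) (fun h hh x hx => ⟨hN h hh x hx.1, by
        obtain ⟨c, hc⟩ := hH h hh
        exact hx.2.conj hc⟩) hirr (f := f) ⟨hf, hfa⟩ hff hf0 hf1
    exact Or.inl ⟨t, e, ht, he, fun i => (hm i).1, fun i => (hm i).2⟩
  right
  push Not at h0
  rcases idem_or_inv Z H hcomm hN hirr with ⟨f, hf, hff, hf0, hf1⟩ | h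
  swap
  · exact Or.inr h
  left
  have key : ∀ f ∈ Z, f * f = f → f ≠ 0 → f ≠ 1 → IsAdj σ G f (1 - f) := by
    intro f hf hff hf0 hf1
    obtain ⟨g, hg, hfg⟩ := hadj f hf
    have hgg : g * g = g := by
      have := hfg.mul hfg
      rw [hff] at this
      exact this.unique hG.det_ne hfg
    have hgf := hG.isAdj_symm hfg
    have hc := hcomm f hf g hg
    have h1 : f * g = 0 := by
      by_contra hne
      have := h0 (f * g) (Z.mul_mem hf hg) (hfg.mul hgf)
        (by rw [mul_assoc, ← mul_assoc g, ← hc, mul_assoc, hgg, ← mul_assoc, hff]) hne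
      apply hf1
      rw [← mul_one f, ← this, ← mul_assoc, hff]
    have h2 : f + g = 1 := by
      refine h0 (f + g) (Z.add_mem hf hg) (by have := hfg.add hgf; rwa [add_comm g] at this)
        (by rw [add_mul, mul_add, mul_add, hff, hgg, h1, ← hc, h1]; simp) fun h3 => hf0 ?_
      have h4 := congrArg (f * ·) h3
      simpa only [mul_add, hff, h1, add_zero, mul_zero] using h4
    rwa [← h2, add_sub_cancel_left]
  have hf' := key f hf hff hf0 hf1
  have key2 : ∀ f ∈ Z, f * f = f → f ≠ 0 → f ≠ 1 → ∀ g ∈ Z, g * g = g → g ≠ 0 → g ≠ 1 →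
      f * g ≠ 0 → f = f * g := by
    intro f hf hff hf0 hf1 g hg hgg hg0 hg1 hfg
    have hc := hcomm f hf g hg
    have h1 := key (f * g) (Z.mul_mem hf hg)
      (by rw [mul_assoc, ← mul_assoc g, ← hc, mul_assoc, hgg, ← mul_assoc, hff]) hfg
      (fun h => hf1 (by rw [← mul_one f, ← h, ← mul_assoc, hff]))
    have h2 := ((key f hf hff hf0 hf1).mul (key g hg hgg hg0 hg1)).unique hG.det_ne h1
    have h3 := congrArg (· * f) h2
    simp only [mul_assoc, sub_mul, one_mul, hff, sub_self, mul_zero] at h3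
    rw [← hc, ← mul_assoc, hff] at h3
    exact sub_eq_zero.mp h3.symm
  refine ⟨f, hf, idemFam_pair hirr hff hf0 hf1 fun h hh => ?_, hf'⟩
  have hg := hN h hh f hf
  have hgg : conjAlgHom h f * conjAlgHom h f = conjAlgHom h f := by rw [← map_mul, hff]
  have hg0 : conjAlgHom h f ≠ 0 := fun h0 => hf0 (conjAlgHom_injective h (by rw [h0, map_zero]))
  have hg1 : conjAlgHom h f ≠ 1 := fun h0 => hf1 (conjAlgHom_injective h (by rw [h0, map_one]))
  generalize conjAlgHom h f = g at hg hgg hg0 hg1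
  have hc := hcomm f hf g hg
  by_cases hfg : f * g = 0
  · right
    have h1 : (1 - f) * g = g := by rw [sub_mul, hfg, one_mul, sub_zero]
    rw [key2 (1 - f) (Z.sub_mem Z.one_mem hf) (by simp [mul_sub, sub_mul, hff])
      (sub_ne_zero.mpr hf1.symm) (fun h => hf0 (by simpa using h)) g hg hgg hg0 hg1 (by rwa [h1]), h1]
  · left
    rw [key2 g hg hgg hg0 hg1 f hf hff hf0 hf1 (by rwa [← hc]), ← hc,
      ← key2 f hf hff hf0 hf1 g hg hgg hg0 hg1 hfg]

/-! ### fields -/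

theorem exists_adj_field [Fintype F] [Nonempty ι] {ε : F} {G : Matrix ι ι F} (hG : Herm σ ε G)
    {H : Subgroup (GL ι F)} (Z : Subalgebra F (Matrix ι ι F)) (hcomm : ∀ x ∈ Z, ∀ y ∈ Z, x * y = y * x)
    (hN : ∀ h ∈ H, ∀ x ∈ Z, conjAlgHom h x ∈ Z) (hadj : ∀ x ∈ Z, ∃ y ∈ Z, IsAdj σ G x y)
    (hinv : ∀ x ∈ Z, x ≠ 0 → ∃ y ∈ Z, x * y = 1) {r : ℕ} (hr : r ∣ Module.finrank F Z) :
    ∃ K : Subalgebra F (Matrix ι ι F), IsFieldSubalgebra r K ∧ K ≤ Z ∧
      (∀ x ∈ K, ∃ y ∈ K, IsAdj σ G x y) ∧ ∀ h ∈ H, ∀ x ∈ K, conjAlgHom h x ∈ K := by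
  obtain ⟨K, hK, hKm⟩ := exists_prime_fieldSubalgebra Z hcomm hinv r hr
  refine ⟨K, hK, fun x hx => ((hKm x).mp hx).1, fun x hx => ?_, fun g hg x hx => ?_⟩
  · rw [hKm] at hx
    obtain ⟨y, hy, hxy⟩ := hadj x hx.1
    refine ⟨y, (hKm y).mpr ⟨hy, ?_⟩, hxy⟩
    have := hxy.pow (Fintype.card F ^ r)
    rw [hx.2] at this
    exact this.unique hG.det_ne hxy
  · rw [hKm] at hx ⊢
    exact ⟨hN g hg x hx.1, by rw [← map_pow, hx.2]⟩

theorem finrank_ne_one_of_nonscalar [Nonempty ι] {Z : Subalgebra F (Matrix ι ι F)} {z : Matrix ι ι F} (hz : z ∈ Z)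
    (hzs : ¬ ∃ c : F, z = c • (1 : Matrix ι ι F)) : Module.finrank F Z ≠ 1 := by
  intro h1
  rw [Subalgebra.finrank_eq_one_iff] at h1
  rw [h1, Algebra.mem_bot] at hz
  obtain ⟨c, hc⟩ := hz
  exact hzs ⟨c, by rw [← hc, Algebra.algebraMap_eq_smul_one]⟩

theorem exists_adjHom {ε : F} {G : Matrix ι ι F} (hG : Herm σ ε G) (K : Subring (Matrix ι ι F))
    (hcomm : ∀ x ∈ K, ∀ y ∈ K, x * y = y * x) (hadj : ∀ x ∈ K, ∃ y ∈ K, IsAdj σ G x y) :
    ∃ θ : K →+* K, (∀ x : K, IsAdj σ G x (θ x)) ∧ ∀ x, θ (θ x) = x := by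
  choose f hf hf' using fun x : K => hadj x x.2
  refine ⟨{ toFun := fun x => ⟨f x, hf x⟩
            map_one' := Subtype.ext ((hf' 1).unique hG.det_ne (isAdj_one G))
            map_mul' := fun x y => Subtype.ext ((hf' (x * y)).unique hG.det_ne (by
              have := (hf' x).mul (hf' y)
              rwa [hcomm _ (hf y) _ (hf x)] at this))
            map_zero' := Subtype.ext ((hf' 0).unique hG.det_ne (isAdj_zero G))
            map_add' := fun x y => Subtype.ext ((hf' (x + y)).unique hG.det_ne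
              ((hf' x).add (hf' y))) }, hf', fun x => Subtype.ext ?_⟩
  exact (hf' _).unique hG.det_ne (hG.isAdj_symm (hf' x))

theorem invol_fixed {K : Type*} [Field K] [Finite K] (θ : K →+* K) (hθ : ∀ x, θ (θ x) = x) {a : K}
    (ha : θ a ≠ a) : ∃ Q, Nat.card K = Q ^ 2 ∧ ∀ x, θ x = x ↔ x ^ Q = x := by
  let K₀ := θ.eqLocusField (RingHom.id K)
  have hm : ∀ x, x ∈ K₀ ↔ θ x = x := fun x => Iff.rfl
  have ha' : a - θ a ≠ 0 := sub_ne_zero.mpr ha.symm
  have hcard : Nat.card K = Nat.card K₀ ^ 2 := by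
    rw [sq, ← Nat.card_prod]
    symm
    refine Nat.card_congr (Equiv.ofBijective (fun p => (p.1 : K) + p.2 * a) ⟨?_, fun x => ?_⟩)
    · rintro ⟨⟨u, hu⟩, v, hv⟩ ⟨⟨u', hu'⟩, v', hv'⟩ h
      simp only at h
      have h2 := congrArg θ h
      rw [map_add, map_add, map_mul, map_mul, (hm _).mp hu, (hm _).mp hv, (hm _).mp hu',
        (hm _).mp hv'] at h2
      have h3 : v = v' := by
        apply mul_right_cancel₀ ha'
        linear_combination h - h2
      subst h3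
      obtain rfl : u = u' := by linear_combination h
      rfl
    · have ha'' : θ a - a ≠ 0 := sub_ne_zero.mpr ha
      refine ⟨(⟨x - (x - θ x) / (a - θ a) * a, ?_⟩, ⟨(x - θ x) / (a - θ a), ?_⟩), by simp⟩
      · rw [hm]
        simp only [map_sub, map_mul, map_div₀, hθ]
        field_simp
        ring
      · rw [hm]
        simp only [map_sub, map_div₀, hθ]
        field_simp
        ring
  obtain ⟨S, hS, hSc⟩ := exists_subfield_of_card hcard
  refine ⟨_, hcard, fun x => ?_⟩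
  have hle : K₀ ≤ S := fun y hy => (hS y).mpr (by
    haveI := Fintype.ofFinite K₀
    have := FiniteField.pow_card (⟨y, hy⟩ : K₀)
    rw [← Nat.card_eq_fintype_card] at this
    exact congrArg Subtype.val this)
  have heq : K₀ = S := by
    apply SetLike.coe_injective
    exact Set.eq_of_subset_of_ncard_le hle (by
      rw [← Nat.card_coe_set_eq, ← Nat.card_coe_set_eq]; exact hSc.le)
  rw [← hm, ← hS, heq]

theorem odd_of_adj_field [Finite F] [Nonempty ι] {ε : F} {G : Matrix ι ι F} (hG : Herm σ ε G)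
    (hσ : ¬ ∀ a, σ a = a) {r : ℕ} {K : Subalgebra F (Matrix ι ι F)} (hK : IsFieldSubalgebra r K)
    (hadj : ∀ x ∈ K, ∃ y ∈ K, IsAdj σ G x y) : Odd r := by
  haveI := Fintype.ofFinite F
  obtain ⟨θ, h1, h2⟩ := exists_adjHom hG K.toSubring hK.comm hadj
  letI := (IsFieldSubalgebra.isField hK).toField
  push Not at hσ
  obtain ⟨a, ha⟩ := hσ
  have hθ : θ (algebraMap F K a) ≠ algebraMap F K a := fun h => ha (by
    have h3 := h1 (algebraMap F K a)
    rw [h] at h3
    have h4 := (isAdj_one G).smul hG.invol a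
    rw [← Algebra.algebraMap_eq_smul_one] at h4
    have := h4.unique hG.det_ne h3
    exact smul_one_inj (this.trans (Algebra.algebraMap_eq_smul_one a)))
  obtain ⟨Q, hQ, hfix⟩ := invol_fixed (K := K) θ h2 hθ
  rw [← Nat.not_even_iff_odd]
  rintro ⟨d, hd⟩
  rw [Module.natCard_eq_pow_finrank (K := F), hK.finrank_eq, hd, ← two_mul, mul_comm, pow_mul] at hQ
  obtain rfl := Nat.pow_left_injective two_ne_zero hQ
  apply hθ
  refine (hfix _).mpr ?_
  rw [← map_pow, Nat.card_eq_fintype_card, FiniteField.pow_card_pow]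

theorem selfAdj_or_even [Finite F] [Nonempty ι] {ε : F} {G : Matrix ι ι F}
    (hG : Herm (RingHom.id F) ε G) {r : ℕ} {K : Subalgebra F (Matrix ι ι F)}
    (hK : IsFieldSubalgebra r K) (hadj : ∀ x ∈ K, ∃ y ∈ K, IsAdj (RingHom.id F) G x y) :
    (∀ x ∈ K, IsAdj (RingHom.id F) G x x) ∨ Even r := by
  obtain ⟨θ, h1, h2⟩ := exists_adjHom hG K.toSubring hK.comm hadj
  letI := (IsFieldSubalgebra.isField hK).toField
  let θ' : K ≃ₐ[F] K :=
    { toFun := θ, invFun := θ, left_inv := h2, right_inv := h2, map_mul' := θ.map_mul,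
      map_add' := θ.map_add, commutes' := fun a => Subtype.ext (by
        have h4 := (isAdj_one G).smul hG.invol a
        rw [RingHom.id_apply, ← Algebra.algebraMap_eq_smul_one] at h4
        exact (h1 (algebraMap F K a)).unique hG.det_ne h4) }
  by_cases h : θ' = 1
  · left
    intro x hx
    have := h1 ⟨x, hx⟩
    rwa [show θ ⟨x, hx⟩ = ⟨x, hx⟩ from congrArg (fun f : K ≃ₐ[F] K => f ⟨x, hx⟩) h] at this
  · right
    haveI : Fact (Nat.Prime 2) := ⟨Nat.prime_two⟩
    have h3 : orderOf θ' = 2 := orderOf_eq_prime (AlgEquiv.ext h2) h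
    have h4 := orderOf_dvd_natCard θ'
    rw [IsGalois.card_aut_eq_finrank, hK.finrank_eq, h3] at h4
    exact even_iff_two_dvd.mpr h4

end CL.Asch
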