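import Cfsg.Agent.CLAS.AschFC
import Cfsg.Agent.CHAR.Burnside

/-!
Tensor factors of groups of isometries; quadratic forms in characteristic two.
-/

set_option autoImplicit false

namespace CL.Asch

open Matrix Cfsg.Geo
open scoped Kronecker MatrixGroups

variable {F : Type*} [Field F] {ι κ μ : Type} [Fintype ι] [DecidableEq ι] [Fintype κ] [DecidableEq κ]
  [Fintype μ] [DecidableEq μ] {σ : F →+* F}

/-- the group induced on a tensor factor -/
def facGrp (H : Subgroup (GL ι F)) (φ : Matrix κ κ F →ₐ[F] Matrix ι ι F) : Subgroup (GL κ F) where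
  carrier := {a | ∃ h ∈ H, ∀ x, conjAlgHom h (φ x) = φ (conjAlgHom a x)}
  mul_mem' := by
    rintro a b ⟨h, hh, ha⟩ ⟨k, hk, hb⟩
    exact ⟨h * k, H.mul_mem hh hk, fun x => by rw [conjAlgHom_mul, hb, ha, conjAlgHom_mul]⟩
  one_mem' := ⟨1, H.one_mem, fun x => by rw [conjAlgHom_one, conjAlgHom_one]⟩
  inv_mem' := by
    rintro a ⟨h, hh, ha⟩
    refine ⟨h⁻¹, H.inv_mem hh, fun x => ?_⟩
    conv_lhs => rw [← conjAlgHom_cancel_inv a x, ← ha, conjAlgHom_inv_cancel]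

theorem exists_facGrp [Nonempty κ] [Nonempty ι] {H : Subgroup (GL ι F)}
    {φ : Matrix κ κ F →ₐ[F] Matrix ι ι F} {h : GL ι F} (hh : h ∈ H)
    (hφ : ∀ x, ∃ y, conjAlgHom h (φ x) = φ y) :
    ∃ a ∈ facGrp H φ, ∀ x, conjAlgHom h (φ x) = φ (conjAlgHom a x) := by
  obtain ⟨a, ha⟩ := exists_conj_of_range_le ((conjAlgHom h).comp φ) φ hφ
  exact ⟨a, ⟨h, hh, ha⟩, ha⟩

theorem irr_facGrp [Nonempty κ] [Nonempty ι] {H : Subgroup (GL ι F)} (hirr : Irr H)
    {φ : Matrix κ κ F →ₐ[F] Matrix ι ι F} (hφ : ∀ h ∈ H, ∀ x, ∃ y, conjAlgHom h (φ x) = φ y) :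
    Irr (facGrp H φ) := by
  intro W hW
  by_contra hcon
  push Not at hcon
  let U := Submodule.span F {w | ∃ x v, (∀ u, x *ᵥ u ∈ W) ∧ φ x *ᵥ v = w}
  rcases hirr U (fun h hh v hv => by
    obtain ⟨a, ha, ha'⟩ := exists_facGrp hh (hφ h hh)
    have : U.map (toLin' (h : Matrix ι ι F)) ≤ U := by
      rw [Submodule.map_span_le]
      rintro _ ⟨x, v, hx, rfl⟩
      refine Submodule.subset_span ⟨conjAlgHom a x, (h : Matrix ι ι F) *ᵥ v, fun u => ?_, ?_⟩
      · rw [← mulVec_inv_mulVec a u, conj_mulVec]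
        exact hW a ha _ (hx _)
      · rw [← ha', conj_mulVec]; rfl
    exact this ⟨v, hv, rfl⟩) with h | h
  · obtain ⟨w, hw, hw0⟩ := (Submodule.ne_bot_iff W).mp hcon.1
    obtain ⟨ψ, -, hψ⟩ := exists_fun ⊥ (u := w) (by simpa using hw0)
    have h1 : φ (vecMulVec w ψ) = 0 := eq_of_mulVec fun v => by
      have : φ (vecMulVec w ψ) *ᵥ v ∈ U := Submodule.subset_span ⟨_, v, fun u => by
        rw [vecMulVec_mulVec']; exact W.smul_mem _ hw, rfl⟩
      rw [h] at this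
      rw [zero_mulVec]; exact this
    have h2 : vecMulVec w ψ = 0 := algHom_injective φ (by rw [h1, map_zero])
    have h3 := vecMulVec_mulVec' w ψ w
    rw [h2, hψ, one_smul, zero_mulVec] at h3
    exact hw0 h3.symm
  · obtain ⟨u, hu⟩ : ∃ u, u ∉ W := by
      by_contra h1; push Not at h1; exact hcon.2 (eq_top_iff.mpr fun x _ => h1 x)
    obtain ⟨ψ, hψ, hψu⟩ := exists_fun W hu
    have h1 : φ (vecMulVec u ψ) = 0 := eq_of_mulVec fun v => by
      have : U ≤ LinearMap.ker (toLin' (φ (vecMulVec u ψ))) := by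
        rw [Submodule.span_le]
        rintro _ ⟨x, v, hx, rfl⟩
        change φ _ *ᵥ (φ x *ᵥ v) = 0
        rw [mulVec_mulVec, ← map_mul, show vecMulVec u ψ * x = 0 from eq_of_mulVec fun z => by
          rw [← mulVec_mulVec, vecMulVec_mulVec', hψ _ (hx z), zero_smul, zero_mulVec], map_zero,
          zero_mulVec]
      rw [zero_mulVec]
      exact this (h ▸ Submodule.mem_top)
    have h2 : vecMulVec u ψ = 0 := algHom_injective φ (by rw [h1, map_zero])
    have h3 := vecMulVec_mulVec' u ψ u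
    rw [h2, hψu, one_smul, zero_mulVec] at h3
    exact hu (h3 ▸ W.zero_mem)

theorem isSim_facGrp [Nonempty κ] {ε₁ : F} {G : Matrix ι ι F} {G₁ : Matrix κ κ F}
    (hG₁ : Herm σ ε₁ G₁) {φ : Matrix κ κ F →ₐ[F] Matrix ι ι F}
    (hφ : ∀ x y, IsAdj σ G₁ x y ↔ IsAdj σ G (φ x) (φ y)) {H : Subgroup (GL ι F)}
    (hH : ∀ h ∈ H, ∃ c, IsSim σ G c h) : ∀ a ∈ facGrp H φ, ∃ c, IsSim σ G₁ c a := by
  rintro a ⟨h, hh, ha⟩
  obtain ⟨c, hc⟩ := hH h hh
  exact exists_isSim_of_conj hG₁ hφ hc ha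

/-- tensor pair with forms -/
structure TPForm (σ : F →+* F) (G : Matrix ι ι F) (H : Subgroup (GL ι F)) {k l : ℕ}
    (φ : Matrix (Fin k) (Fin k) F →ₐ[F] Matrix ι ι F) (ψ : Matrix (Fin l) (Fin l) F →ₐ[F] Matrix ι ι F)
    (ε₁ ε₂ : F) (G₁ : Matrix (Fin k) (Fin k) F) (G₂ : Matrix (Fin l) (Fin l) F) : Prop where
  pair : TensorPair H φ ψ
  herm₁ : Herm σ ε₁ G₁
  herm₂ : Herm σ ε₂ G₂
  adj₁ : ∀ x y, IsAdj σ G₁ x y ↔ IsAdj σ G (φ x) (φ y)
  adj₂ : ∀ x y, IsAdj σ G₂ x y ↔ IsAdj σ G (ψ x) (ψ y)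

section TP
variable {G : Matrix ι ι F} {H : Subgroup (GL ι F)} {k l : ℕ}
  {φ : Matrix (Fin k) (Fin k) F →ₐ[F] Matrix ι ι F} {ψ : Matrix (Fin l) (Fin l) F →ₐ[F] Matrix ι ι F}
  {ε ε₁ ε₂ : F} {G₁ : Matrix (Fin k) (Fin k) F} {G₂ : Matrix (Fin l) (Fin l) F}

theorem TPForm.symm (h : TPForm σ G H φ ψ ε₁ ε₂ G₁ G₂) : TPForm σ G H ψ φ ε₂ ε₁ G₂ G₁ :=
  ⟨h.pair.symm, h.herm₂, h.herm₁, h.adj₂, h.adj₁⟩

theorem TensorPair.neZero₁ (h : TensorPair H φ ψ) : NeZero k := ⟨by have := h.two_le_k; omega⟩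

theorem TensorPair.neZero₂ (h : TensorPair H φ ψ) : NeZero l := ⟨by have := h.two_le_l; omega⟩

theorem TensorPair.nonempty (h : TensorPair H φ ψ) : Nonempty ι :=
  Fintype.card_pos_iff.mp (by
    rw [h.card]; exact Nat.mul_pos (by have := h.two_le_k; omega) (by have := h.two_le_l; omega))

theorem TensorPair.exists_form (h : TensorPair H φ ψ) (hG : Herm σ ε G)
    (hφ : ∀ x, ∃ y, IsAdj σ G (φ x) (φ y)) :
    ∃ ε₁ ε₂ G₁ G₂, TPForm σ G H φ ψ ε₁ ε₂ G₁ G₂ := by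
  haveI := h.neZero₁
  haveI := h.neZero₂
  haveI := h.nonempty
  obtain ⟨ε₁, G₁, h1, h2⟩ := exists_herm_of_range hG φ hφ
  obtain ⟨ε₂, G₂, h3, h4⟩ := exists_herm_of_range hG ψ (fun y => by
    obtain ⟨z, hz⟩ := exists_isAdj hG.invol hG.det_ne (ψ y)
    obtain ⟨y', rfl⟩ := h.centralizer z (fun x => by
      obtain ⟨x', hx'⟩ := hφ x
      have h5 := hz.mul (hG.isAdj_symm hx')
      have h6 := (hG.isAdj_symm hx').mul hz
      rw [h.comm] at h6
      exact h6.unique hG.det_ne h5)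
    exact ⟨y', hz⟩)
  exact ⟨ε₁, ε₂, G₁, G₂, h, h1, h3, h2, h4⟩

theorem TPForm.exists_coord (h : TPForm σ G H φ ψ ε₁ ε₂ G₁ G₂) (hG : Herm σ ε G) :
    ∃ (e : ι ≃ Fin k × Fin l) (P : GL ι F) (c : F), (∀ x, φ x = coord e P (kronL _ _ F x)) ∧
      (∀ y, ψ y = coord e P (kronR _ _ F y)) ∧ H ≤ tensorProductSubgroup k l e P ∧ c ≠ 0 ∧
      cpull σ G e P = c • (G₁ ⊗ₖ G₂) := by
  haveI := h.pair.neZero₁
  haveI := h.pair.neZero₂
  obtain ⟨e, P, h1, h2, h3⟩ := h.pair.exists_coord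
  obtain ⟨c, hc, hc'⟩ := exists_cpull_eq_kron hG h.herm₁ h.herm₂ e P
    (fun x y hxy => by rw [← h1, ← h1]; exact (h.adj₁ x y).mp hxy)
    (fun x y hxy => by rw [← h2, ← h2]; exact (h.adj₂ x y).mp hxy)
  exact ⟨e, P, c, h1, h2, h3, hc, hc'⟩

theorem TPForm.eps (h : TPForm (RingHom.id F) G H φ ψ ε₁ ε₂ G₁ G₂) (hG : Herm (RingHom.id F) ε G) :
    ε = ε₁ * ε₂ := by
  haveI := h.pair.neZero₁
  haveI := h.pair.neZero₂
  obtain ⟨e, P, c, -, -, -, -, h5⟩ := h.exists_coord hG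
  exact eps_eq_mul (hG.cpull e P) h.herm₁ h.herm₂ h5

theorem isAdj_gpull {G : Matrix κ κ F} {a : GL κ F} {x y : Matrix κ κ F} :
    IsAdj σ (gpull σ G a) x y ↔ IsAdj σ G (conjAlgHom a x) (conjAlgHom a y) := by
  refine ⟨fun h => ?_, isAdj_pull⟩
  rw [isAdj_iff] at h ⊢
  intro u v
  rw [← mulVec_inv_mulVec a u, ← mulVec_inv_mulVec a v, conj_mulVec, conj_mulVec, ← gf_gpull,
    ← gf_gpull, h]

theorem isAdj_smul_iff {G x y : Matrix κ κ F} {c : F} (hc : c ≠ 0) :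
    IsAdj σ (c • G) x y ↔ IsAdj σ G x y :=
  ⟨fun h => by simpa [smul_smul, hc] using h.smul_gram c⁻¹, fun h => h.smul_gram c⟩

/-- change of coordinates in the second factor -/
theorem TPForm.congr (h : TPForm σ G H φ ψ ε₁ ε₂ G₁ G₂) {ε' c : F} {G' : Matrix (Fin l) (Fin l) F}
    (hG' : Herm σ ε' G') {a : GL (Fin l) F} (hc : c ≠ 0) (ha : G' = c • gpull σ G₂ a) :
    TPForm σ G H φ (ψ.comp (conjAlgHom a)) ε₁ ε' G₁ G' := by
  refine ⟨⟨h.pair.two_le_k, h.pair.two_le_l, fun x y => h.pair.comm x _, h.pair.card, h.pair.norm₁,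
    fun g hg x => ?_⟩, h.herm₁, hG', h.adj₁, fun x y => ?_⟩
  · obtain ⟨y, hy⟩ := h.pair.norm₂ g hg (conjAlgHom a x)
    exact ⟨conjAlgHom a⁻¹ y, by rw [AlgHom.comp_apply, hy, AlgHom.comp_apply, conjAlgHom_cancel_inv]⟩
  · rw [ha, isAdj_smul_iff hc, isAdj_gpull, h.adj₂]; rfl

end TP

/-- tensor family with forms -/
structure TFForm (σ : F →+* F) (G : Matrix ι ι F) (H : Subgroup (GL ι F)) {m t : ℕ}
    (φ : Fin t → (Matrix (Fin m) (Fin m) F →ₐ[F] Matrix ι ι F)) (ε₁ : F)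
    (G₁ : Matrix (Fin m) (Fin m) F) : Prop where
  fam : TensorFam H φ
  herm : Herm σ ε₁ G₁
  adj : ∀ i x y, IsAdj σ G₁ x y ↔ IsAdj σ G (φ i x) (φ i y)

theorem TPForm.fam {G : Matrix ι ι F} {H : Subgroup (GL ι F)} {k : ℕ}
    {φ ψ : Matrix (Fin k) (Fin k) F →ₐ[F] Matrix ι ι F} {ε₁ ε₂ : F} {G₁ : Matrix (Fin k) (Fin k) F}
    (h : TPForm σ G H φ ψ ε₁ ε₂ G₁ G₁) : TFForm σ G H ![φ, ψ] ε₁ G₁ :=
  ⟨h.pair.fam, h.herm₁, fun i => by
    fin_cases i
    · exact h.adj₁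
    · exact h.adj₂⟩

section TF
variable {G : Matrix ι ι F} {H : Subgroup (GL ι F)} {m t : ℕ}
  {φ : Fin t → (Matrix (Fin m) (Fin m) F →ₐ[F] Matrix ι ι F)} {ε ε₁ : F} {G₁ : Matrix (Fin m) (Fin m) F}

theorem TensorFam.neZero (h : TensorFam H φ) : NeZero m := ⟨by have := h.two_le_m; omega⟩

theorem TensorFam.nonempty (h : TensorFam H φ) : Nonempty ι :=
  Fintype.card_pos_iff.mp (by rw [h.card]; exact Nat.pow_pos (by have := h.two_le_m; omega))

theorem isAdj_conj_iff {G x y : Matrix ι ι F} {g : GL ι F} {c : F} (hc : c ≠ 0)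
    (hg : IsSim σ G c g) : IsAdj σ G (conjAlgHom g x) (conjAlgHom g y) ↔ IsAdj σ G x y := by
  rw [← isAdj_gpull, gpull, hg, isAdj_smul_iff hc]

theorem TensorInd.exists_form (h : TensorInd H φ) (hG : Herm σ ε G)
    (hH : ∀ h ∈ H, IsSim σ G 1 (h : Matrix ι ι F)) : ∃ ε₁ G₁, TFForm σ G H φ ε₁ G₁ := by
  haveI := h.fam.neZero
  haveI := h.fam.nonempty
  let i₀ : Fin t := ⟨0, by have := h.two_le_t; omega⟩
  obtain ⟨L, hLH, -, hL⟩ := h.perf i₀
  obtain ⟨ε₁, G₁, h1, h2⟩ := exists_herm_of_range hG (φ i₀) (fun x => by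
    obtain ⟨y, hy, hy'⟩ := isAdj_alg hG.invol (fun g hg => hH g (hLH hg)) (φ i₀ x) (hL ▸ ⟨x, rfl⟩)
    rw [← hL] at hy
    obtain ⟨y, rfl⟩ := hy
    exact ⟨y, hy'⟩)
  refine ⟨ε₁, G₁, h.fam, h1, fun i x y => ?_⟩
  obtain ⟨g, hg, hg'⟩ := h.conj i₀ i
  rw [hg', hg', isAdj_conj_iff one_ne_zero (hH g hg), h2]

theorem TFForm.exists_coord (h : TFForm σ G H φ ε₁ G₁) (hG : Herm σ ε G) :
    ∃ (e : ι ≃ (Fin t → Fin m)) (P : GL ι F) (c : F), (∀ i x, φ i x = coord e P (embT i x)) ∧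
      H ≤ tensorWreathSubgroup m t e P ∧ c ≠ 0 ∧ cpull σ G e P = c • pureM (fun _ => G₁) := by
  haveI := h.fam.neZero
  obtain ⟨e, P, h1, h2⟩ := h.fam.exists_coord
  obtain ⟨c, hc, hc'⟩ := exists_cpull_eq_pure hG (G₁ := fun _ => G₁) (fun _ => h.herm.det_ne) e P
    (fun i x y hxy => by rw [← h1, ← h1]; exact (h.adj i x y).mp hxy)
  exact ⟨e, P, c, h1, h2, hc, hc'⟩

theorem TFForm.eps (h : TFForm (RingHom.id F) G H φ ε₁ G₁) (hG : Herm (RingHom.id F) ε G) :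
    ε = ε₁ ^ t := by
  haveI := h.fam.neZero
  obtain ⟨e, P, c, -, -, -, h5⟩ := h.exists_coord hG
  exact eps_eq_pow (hG.cpull e P) h.herm h5

theorem TensorFam.exists_conj (h : TensorFam H φ) {g : GL ι F} (hg : g ∈ H) :
    ∃ (s : Equiv.Perm (Fin t)) (a : Fin t → GL (Fin m) F),
      ∀ i x, conjAlgHom g (φ i x) = φ (s i) (conjAlgHom (a i) x) := by
  haveI := h.neZero
  haveI := h.nonempty
  obtain ⟨s, hs⟩ := h.perm g hg
  choose a ha using fun i => exists_conj_of_range_le ((conjAlgHom g).comp (φ i)) (φ (s i)) (hs i)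
  exact ⟨s, a, ha⟩

theorem TFForm.exists_conj (h : TFForm σ G H φ ε₁ G₁) (hG : Herm σ ε G) {g : GL ι F} (hg : g ∈ H)
    {c : F} (hc : IsSim σ G c g) : ∃ (s : Equiv.Perm (Fin t)) (a : Fin t → GL (Fin m) F),
      (∀ i x, conjAlgHom g (φ i x) = φ (s i) (conjAlgHom (a i) x)) ∧
      ∀ i, ∃ c, IsSim σ G₁ c (a i : Matrix (Fin m) (Fin m) F) := by
  haveI := h.fam.neZero
  haveI := h.fam.nonempty
  obtain ⟨s, a, ha⟩ := h.fam.exists_conj hg
  refine ⟨s, a, ha, fun i => ?_⟩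
  obtain ⟨d, hd⟩ := exists_smul_of_isAdj (σ := σ) h.herm.det_ne (G' := gpull σ G₁ (a i)) Set.univ
    scalar_of_commute_univ (fun x _ => by
      obtain ⟨y, hy⟩ := exists_isAdj h.herm.invol h.herm.det_ne x
      refine ⟨y, hy, ?_⟩
      rw [isAdj_gpull, h.adj (s i), ← ha, ← ha, isAdj_conj_iff (hc.ne_zero hG.det_ne) hc]
      exact (h.adj i x y).mp hy)
  exact ⟨d, hd⟩

end TF

theorem gf_kron_pv2 (G₁ : Matrix κ κ F) (G₂ : Matrix μ μ F) (u u' : κ → F) (v v' : μ → F) :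
    gf σ (G₁ ⊗ₖ G₂) (pv2 u v) (pv2 u' v') = gf σ G₁ u u' * gf σ G₂ v v' := by
  have h1 : σ ∘ pv2 u' v' = pv2 (σ ∘ u') (σ ∘ v') := by
    funext a; simp [pv2]
  simp only [gf, h1, kron_mulVec_pv2, dotProduct, pv2, Fintype.sum_prod_type, Finset.sum_mul_sum]
  exact Finset.sum_congr rfl fun c _ => Finset.sum_congr rfl fun d _ => by ring

theorem gf_pure_pvT {t : ℕ} (G : Fin t → Matrix κ κ F) (u v : Fin t → κ → F) :
    gf σ (pureM G) (pvT u) (pvT v) = ∏ i, gf σ (G i) (u i) (v i) := by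
  have h1 : σ ∘ pvT v = pvT fun i => σ ∘ v i := by
    funext a; simp [pvT]
  simp only [gf, h1, pureM_mulVec_pvT, dotProduct, pvT, ← Finset.prod_mul_distrib]
  rw [Finset.prod_univ_sum, Fintype.piFinset_univ]

/-! ### perfect groups spanning a small matrix algebra -/

theorem not_perfect_of_card [Finite F] [Nonempty ι] (hκ : 2 ≤ Fintype.card κ)
    (φ : Matrix κ κ F →ₐ[F] Matrix ι ι F) {L : Subgroup (GL ι F)} (hL : ⁅L, L⁆ = L)
    (hφ : φ.range = alg L) (X : Subgroup (GL κ F))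
    (hX : ∀ a : GL κ F, Units.map (φ : Matrix κ κ F →* Matrix ι ι F) a ∈ L → a ∈ X) {a b : ℕ}
    (hc : Nat.card X ∣ 2 ^ a * 3 ^ b) : False := by
  haveI := nonempty_of_two_le hκ
  let f : GL κ F →* GL ι F := Units.map (φ : Matrix κ κ F →* Matrix ι ι F)
  have h1 : L ≤ X.map f := by
    intro x hx
    obtain ⟨y, hy⟩ : (x : Matrix ι ι F) ∈ φ.range := hφ ▸ mem_alg hx
    obtain ⟨y', hy'⟩ : ((x⁻¹ : GL ι F) : Matrix ι ι F) ∈ φ.range := hφ ▸ mem_alg (inv_mem hx)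
    have hy : φ y = x := hy
    have hy' : φ y' = (x⁻¹ : GL ι F) := hy'
    let a : GL κ F := ⟨y, y', algHom_injective φ (by rw [map_mul, hy, hy', map_one, Units.mul_inv]),
      algHom_injective φ (by rw [map_mul, hy, hy', map_one, Units.inv_mul])⟩
    have ha : f a = x := Units.ext hy
    exact ⟨a, hX a (ha ▸ hx), ha⟩
  haveI : Group.IsSolvable L := CL.Char.isSolvable_of_card_dvd_pow_mul_pow Nat.prime_two
    Nat.prime_three ((Subgroup.card_dvd_of_le h1).trans ((Subgroup.card_map_dvd X f).trans hc))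
  have h2 : L = ⊥ := by
    by_contra hne
    haveI := (Subgroup.nontrivial_iff_ne_bot L).mpr hne
    have h3 := Group.IsSolvable.commutator_lt_top_of_nontrivial L
    apply h3.ne
    apply Subgroup.map_injective L.subtype_injective
    rw [commutator_def, Subgroup.map_commutator, ← MonoidHom.range_eq_map, Subgroup.range_subtype, hL]
  refine not_forall_comm hκ fun x y => algHom_injective φ ?_
  rw [map_mul, map_mul]
  refine commute_alg (N := L) (fun z hz => ?_) _ (hφ ▸ ⟨y, rfl⟩)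
  rw [h2, Subgroup.mem_bot] at hz
  simp [hz]

theorem card_GL_two [Fintype F] : Nat.card (GL (Fin 2) F) =
    (Fintype.card F ^ 2 - 1) * (Fintype.card F ^ 2 - Fintype.card F) := by
  rw [card_GL_field]; simp [Fin.prod_univ_two]

theorem TensorInd.four_le [Fintype F] {H : Subgroup (GL ι F)} {t : ℕ}
    {φ : Fin t → (Matrix (Fin 2) (Fin 2) F →ₐ[F] Matrix ι ι F)} (h : TensorInd H φ) :
    4 ≤ Fintype.card F := by
  haveI := h.fam.nonempty
  obtain ⟨L, -, hL, hφ⟩ := h.perf ⟨0, by have := h.two_le_t; omega⟩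
  by_contra hlt
  have h1 := Fintype.one_lt_card (α := F)
  refine not_perfect_of_card (by simp) _ hL hφ ⊤ (fun _ _ => trivial) (a := 4) (b := 1) ?_
  rw [Subgroup.card_top, card_GL_two]
  obtain h2 | h2 : Fintype.card F = 2 ∨ Fintype.card F = 3 := by omega
  all_goals rw [h2]; decide

/-! ### quadratic forms in characteristic two -/

theorem eq_zero_of_irr_two [Finite F] (hn : 2 ≤ Fintype.card ι) {H : Subgroup (GL ι F)}
    (hirr : Irr H) (D : (ι → F) → F) (hadd : ∀ u v, D (u + v) = D u + D v)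
    (hsm : ∀ (c : F) v, D v = 0 → D (c • v) = 0) (hH : ∀ h ∈ H, ∀ v, D v = 0 → D ((h : Matrix ι ι F) *ᵥ v) = 0)
    (v : ι → F) : D v = 0 := by
  let f : (ι → F) →+ F := AddMonoidHom.mk' D hadd
  let W : Submodule F (ι → F) := { f.ker with smul_mem' := fun c v hv => hsm c v hv }
  rcases hirr W (fun h hh v hv => hH h hh v hv) with h | h
  · exfalso
    have hinj : Function.Injective f := (injective_iff_map_eq_zero f).mpr fun v hv => by
      have : v ∈ W := hv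
      rwa [h, Submodule.mem_bot] at this
    haveI := Fintype.ofFinite F
    have h3 := Fintype.card_le_of_injective f hinj
    rw [Fintype.card_fun] at h3
    have h4 : Fintype.card F ^ 1 < Fintype.card F ^ Fintype.card ι :=
      Nat.pow_lt_pow_right Fintype.one_lt_card hn
    rw [pow_one] at h4
    omega
  · have : v ∈ W := by rw [h]; trivial
    exact this

theorem Herm.one_of_two {ε : F} {G : Matrix ι ι F} (hG : Herm σ ε G) (h2 : (2 : F) = 0) :
    Herm σ 1 G := by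
  have hε : ε = 1 := by
    rcases hG.eps with h | ⟨h, -⟩
    · exact h
    · rw [h]; linear_combination -h2
  exact hε ▸ hG

theorem polar_gf_u (h2 : (2 : F) = 0) {G u : Matrix ι ι F} (hG : Herm (RingHom.id F) 1 G)
    (hu : IsAdj (RingHom.id F) G u (1 - u)) (a b : ι → F) :
    QuadraticMap.polar (fun v => gf (RingHom.id F) G (u *ᵥ v) v) a b = gf (RingHom.id F) G a b := by
  have h1 : gf (RingHom.id F) G (u *ᵥ b) a = gf (RingHom.id F) G a b - gf (RingHom.id F) G (u *ᵥ a) b := by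
    rw [isAdj_iff.mp hu, hG.symm, Matrix.sub_mulVec, one_mulVec, gf_sub_left]
  simp only [QuadraticMap.polar, Matrix.mulVec_add, gf_add_left, gf_add_right, h1]
  ring

theorem quad_of_u (h2 : (2 : F) = 0) {G u : Matrix ι ι F} (hG : Herm (RingHom.id F) 1 G)
    (hu : IsAdj (RingHom.id F) G u (1 - u)) {H : Subgroup (GL ι F)}
    (hH : ∀ h ∈ H, IsSim (RingHom.id F) G 1 (h : Matrix ι ι F))
    (hinv : ∀ h ∈ H, ∀ v, gf (RingHom.id F) G ((conjAlgHom h u - u) *ᵥ v) v = 0) :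
    ∃ Q : (ι → F) → F, IsNondegenerateQuadraticForm Q ∧
      (∀ a b, QuadraticMap.polar Q a b = gf (RingHom.id F) G a b) ∧ H ≤ quadSimilarityGroup Q := by
  have hp := polar_gf_u h2 hG hu
  have hp' : QuadraticMap.polar (fun v => gf (RingHom.id F) G (u *ᵥ v) v) = gf (RingHom.id F) G := by
    funext a b; exact hp a b
  refine ⟨_, ⟨fun c v => ?_, by rw [hp']; exact isBilinearForm_gf G,
    by rw [hp']; exact hG.nondeg⟩, hp, fun h hh => ⟨1, fun v => ?_⟩⟩
  · rw [Matrix.mulVec_smul, gf_smul_left, gf_smul_right, RingHom.id_apply]; ring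
  · have := hinv h hh ((h : Matrix ι ι F) *ᵥ v)
    rw [Matrix.sub_mulVec, gf_sub_left, conj_mulVec, isSim_one_iff.mp (hH h hh)] at this
    simp only [Units.val_one, one_mul]
    exact (sub_eq_zero.mp this).symm

theorem exists_u_of_alt (h2 : (2 : F) = 0) {G : Matrix ι ι F} (hG : Herm (RingHom.id F) 1 G)
    (halt : ∀ v, gf (RingHom.id F) G v v = 0) : ∃ u, IsAdj (RingHom.id F) G u (1 - u) := by
  classical
  obtain ⟨r⟩ : Nonempty (LinearOrder ι) := ⟨LinearOrder.lift' (Fintype.equivFin ι) (Equiv.injective _)⟩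
  let A : Matrix ι ι F := Matrix.of fun a b => if a < b then G a b else 0
  have hGs : ∀ a b, G b a = G a b := fun a b => by
    have := congrFun (congrFun hG.transpose_eq a) b
    simpa using this
  have hA : A + Aᵀ = G := by
    ext a b
    simp only [Matrix.add_apply, transpose_apply, A, of_apply]
    rcases lt_trichotomy a b with h | rfl | h
    · simp [h, h.not_gt]
    · have := halt (Pi.single a 1)
      rw [gf_single] at this
      simp [this]
    · simp [h, h.not_gt, hGs]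
  refine ⟨G⁻¹ * A, ?_⟩
  have hGt : Gᵀ = G := by rw [hG.transpose_eq, one_smul]
  have hu : IsUnit G.det := hG.det_ne.isUnit
  rw [IsAdj, transpose_mul, transpose_nonsing_inv, hGt, mul_assoc, nonsing_inv_mul _ hu, mul_one]
  change Aᵀ = G * (1 - G⁻¹ * A)
  rw [mul_sub, ← mul_assoc, mul_nonsing_inv _ hu, one_mul, mul_one, ← hA, add_sub_cancel_left]

/-- a self-adjoint map whose form vanishes on a basis -/
theorem alt_of_selfAdj (h2 : (2 : F) = 0) {G y : Matrix ι ι F} (hG : Herm (RingHom.id F) 1 G)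
    (hy : IsAdj (RingHom.id F) G y y) (L : (κ → F) ≃ₗ[F] (ι → F))
    (h : ∀ a, gf (RingHom.id F) G (y *ᵥ L (Pi.single a 1)) (L (Pi.single a 1)) = 0) (v : ι → F) :
    gf (RingHom.id F) G (y *ᵥ v) v = 0 := by
  let W : Submodule F (ι → F) :=
    { carrier := {v | gf (RingHom.id F) G (y *ᵥ v) v = 0}
      add_mem' := fun {a b} ha hb => by
        simp only [Set.mem_ofPred_eq] at ha hb ⊢
        rw [Matrix.mulVec_add, gf_add_left, gf_add_right, gf_add_right, ha, hb, isAdj_iff.mp hy b,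
          hG.symm b]
        linear_combination gf (RingHom.id F) G (y *ᵥ a) b * h2
      zero_mem' := gf_zero_right _ _
      smul_mem' := fun c v hv => by
        simp only [Set.mem_ofPred_eq] at hv ⊢
        rw [Matrix.mulVec_smul, gf_smul_left, gf_smul_right, hv, mul_zero, mul_zero] }
  obtain ⟨u, rfl⟩ := L.surjective v
  have : L u ∈ W := by
    rw [pi_eq_sum_univ' u, map_sum]
    exact W.sum_mem fun a _ => by rw [map_smul]; exact W.smul_mem _ (h a)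
  exact this

theorem IsAdj.conj_sub {G u : Matrix ι ι F} (hu : IsAdj σ G u (1 - u)) {u' : Matrix ι ι F}
    (hu' : IsAdj σ G u' (1 - u')) (h2 : (2 : F) = 0) : IsAdj σ G (u' - u) (u' - u) := by
  have := hu'.sub hu
  rwa [show 1 - u' - (1 - u) = u' - u by
    have : (2 : F) • (u' - u) = 0 := by rw [h2, zero_smul]
    rw [two_smul] at this
    rw [← add_zero (1 - u' - (1 - u)), ← this]
    abel] at this

theorem IsAdj.conj_u {G u : Matrix ι ι F} (hu : IsAdj σ G u (1 - u)) {g : GL ι F} {c : F}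
    (hg : IsSim σ G c g) : IsAdj σ G (conjAlgHom g u) (1 - conjAlgHom g u) := by
  have := hu.conj hg
  rwa [map_sub, map_one] at this

end CL.Asch
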