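import Cfsg.Agent.CLAS.AschFC2
import Cfsg.Agent.CLAS.FormGL
import Cfsg.Agent.CLAS.UniBasic
import Cfsg.Agent.KSG.OrthDisc

/-!
Commutative normalised algebras, restriction of forms, congruence of forms.
-/

set_option autoImplicit false

namespace CL.Asch

open Matrix Cfsg.Geo
open scoped Kronecker MatrixGroups

variable {F : Type*} [Field F] {ι κ μ : Type} [Fintype ι] [DecidableEq ι] [Fintype κ] [DecidableEq κ]
  [Fintype μ] [DecidableEq μ] {σ : F →+* F}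

/-- a commutative adjoint-closed non-scalar algebra normalised by `H` -/
structure CommAlg (σ : F →+* F) (G : Matrix ι ι F) (H : Subgroup (GL ι F))
    (Z : Subalgebra F (Matrix ι ι F)) : Prop where
  comm : ∀ x ∈ Z, ∀ y ∈ Z, x * y = y * x
  norm : ∀ h ∈ H, ∀ x ∈ Z, conjAlgHom h x ∈ Z
  adj : ∀ x ∈ Z, ∃ y ∈ Z, IsAdj σ G x y
  nonsc : ∃ z ∈ Z, ¬ ∃ c : F, z = c • (1 : Matrix ι ι F)

theorem adjoin_comm {S : Set (Matrix ι ι F)} (hc : ∀ x ∈ S, ∀ y ∈ S, x * y = y * x) :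
    ∀ x ∈ Algebra.adjoin F S, ∀ y ∈ Algebra.adjoin F S, x * y = y * x := fun _ hx _ hy =>
  Algebra.commute_of_mem_adjoin_of_forall_mem_commute hy fun _ hb =>
    (Algebra.commute_of_mem_adjoin_of_forall_mem_commute hx fun a ha => hc _ hb a ha).symm

theorem conj_mem_adjoin {S : Set (Matrix ι ι F)} {h : GL ι F}
    (hN : ∀ x ∈ S, conjAlgHom h x ∈ Algebra.adjoin F S) :
    ∀ x ∈ Algebra.adjoin F S, conjAlgHom h x ∈ Algebra.adjoin F S := fun _ hx =>
  (Algebra.adjoin_le (S := (Algebra.adjoin F S).comap (conjAlgHom h)) hN) hx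

theorem isAdj_algebraMap (hσ : ∀ a, σ (σ a) = a) (G : Matrix ι ι F) (c : F) :
    IsAdj σ G (algebraMap F (Matrix ι ι F) c) (algebraMap F (Matrix ι ι F) (σ c)) := by
  rw [Algebra.algebraMap_eq_smul_one, Algebra.algebraMap_eq_smul_one]
  exact (isAdj_one G).smul hσ c

theorem isAdj_adjoin (hσ : ∀ a, σ (σ a) = a) {G : Matrix ι ι F} {S : Set (Matrix ι ι F)}
    (h : ∀ x ∈ S, ∃ y ∈ Algebra.adjoin F S, IsAdj σ G x y) :
    ∀ x ∈ Algebra.adjoin F S, ∃ y ∈ Algebra.adjoin F S, IsAdj σ G x y := by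
  intro x hx
  induction hx using Algebra.adjoin_induction with
  | mem x hx => exact h x hx
  | algebraMap c => exact ⟨_, Subalgebra.algebraMap_mem _ _, isAdj_algebraMap hσ G c⟩
  | add x y _ _ hx hy =>
    obtain ⟨a, ha, ha'⟩ := hx
    obtain ⟨b, hb, hb'⟩ := hy
    exact ⟨_, add_mem ha hb, ha'.add hb'⟩
  | mul x y _ _ hx hy =>
    obtain ⟨a, ha, ha'⟩ := hx
    obtain ⟨b, hb, hb'⟩ := hy
    exact ⟨_, mul_mem hb ha, ha'.mul hb'⟩

theorem selfAdj_adjoin {G : Matrix ι ι F} {S : Set (Matrix ι ι F)}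
    (hc : ∀ x ∈ S, ∀ y ∈ S, x * y = y * x) (h : ∀ x ∈ S, IsAdj (RingHom.id F) G x x) :
    ∀ x ∈ Algebra.adjoin F S, IsAdj (RingHom.id F) G x x := by
  intro x hx
  induction hx using Algebra.adjoin_induction with
  | mem x hx => exact h x hx
  | algebraMap c => exact isAdj_algebraMap (σ := RingHom.id F) (fun _ => rfl) G c
  | add x y _ _ hx hy => exact hx.add hy
  | mul x y hx' hy' hx hy =>
    have := hx.mul hy
    rwa [adjoin_comm hc y hy' x hx'] at this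

theorem commAlg_adjoin (hσ : ∀ a, σ (σ a) = a) {G : Matrix ι ι F} {H : Subgroup (GL ι F)}
    {S : Set (Matrix ι ι F)} (hc : ∀ x ∈ S, ∀ y ∈ S, x * y = y * x)
    (hN : ∀ h ∈ H, ∀ x ∈ S, conjAlgHom h x ∈ Algebra.adjoin F S)
    (h : ∀ x ∈ S, ∃ y ∈ Algebra.adjoin F S, IsAdj σ G x y)
    (hz : ∃ z ∈ S, ¬ ∃ c : F, z = c • (1 : Matrix ι ι F)) : CommAlg σ G H (Algebra.adjoin F S) :=
  ⟨adjoin_comm hc, fun g hg => conj_mem_adjoin (hN g hg), isAdj_adjoin hσ h,
    let ⟨z, hz, hz'⟩ := hz; ⟨z, Algebra.subset_adjoin hz, hz'⟩⟩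

theorem commAlg_single (hσ : ∀ a, σ (σ a) = a) {G s : Matrix ι ι F} {H : Subgroup (GL ι F)}
    (hN : ∀ h ∈ H, ∃ c : F, conjAlgHom h s = c • s) {d : F} (h : IsAdj σ G s (d • s))
    (hz : ¬ ∃ c : F, s = c • (1 : Matrix ι ι F)) : CommAlg σ G H (Algebra.adjoin F {s}) := by
  have hs : s ∈ Algebra.adjoin F ({s} : Set (Matrix ι ι F)) := Algebra.subset_adjoin rfl
  refine commAlg_adjoin hσ (by rintro _ rfl _ rfl; rfl) ?_ ?_ ⟨s, rfl, hz⟩
  · rintro g hg _ rfl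
    obtain ⟨c, hc⟩ := hN g hg
    rw [hc]; exact Subalgebra.smul_mem _ hs c
  · rintro _ rfl
    exact ⟨_, Subalgebra.smul_mem _ hs d, h⟩

theorem commAlg_zalg {ε : F} {G : Matrix ι ι F} (hG : Herm σ ε G) {H N : Subgroup (GL ι F)}
    (hN : NormBy H N) (hNG : ∀ x ∈ N, IsSim σ G 1 (x : Matrix ι ι F)) {z : Matrix ι ι F}
    (hz : z ∈ alg N) (hz1 : ∀ x ∈ alg N, z * x = x * z) (hz2 : ¬ ∃ c : F, z = c • (1 : Matrix ι ι F)) :
    CommAlg σ G H (zalg N) := by
  refine ⟨zalg_comm N, conj_mem_zalg hN, fun x hx => ?_, z, mem_zalg.mpr ⟨hz, hz1⟩, hz2⟩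
  rw [mem_zalg] at hx
  obtain ⟨y, hy, hxy⟩ := isAdj_alg hG.invol hNG x hx.1
  refine ⟨y, mem_zalg.mpr ⟨hy, fun w hw => ?_⟩, hxy⟩
  obtain ⟨w', hw', hww⟩ := isAdj_alg hG.invol hNG w hw
  have h5 := hxy.mul (hG.isAdj_symm hww)
  have h6 := (hG.isAdj_symm hww).mul hxy
  rw [← hx.2 w' hw'] at h6
  exact h6.unique hG.det_ne h5

theorem CommAlg.cases [Finite F] [Nonempty ι] {ε : F} {G : Matrix ι ι F} (hG : Herm σ ε G)
    {H : Subgroup (GL ι F)} (hirr : Irr H) (hH : ∀ h ∈ H, ∃ c, IsSim σ G c h)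
    {Z : Subalgebra F (Matrix ι ι F)} (hZ : CommAlg σ G H Z) :
    (∃ (t : ℕ) (e : Fin t → Matrix ι ι F), 2 ≤ t ∧ IdemFam H e ∧ (∀ i, e i ∈ Z) ∧
      ∀ i, IsAdj σ G (e i) (e i)) ∨
    (∃ e ∈ Z, IdemFam H ![e, 1 - e] ∧ IsAdj σ G e (1 - e)) ∨
    (∃ d, 2 ≤ d ∧ IsFieldSubalgebra d Z) := by
  rcases form_comm_cases hG hirr hH Z.toSubring hZ.comm hZ.norm hZ.adj with h | h | h
  · exact Or.inl h
  · exact Or.inr (Or.inl h)
  · obtain ⟨z, hz, hz'⟩ := hZ.nonsc
    have h1 := finrank_ne_one_of_nonscalar hz hz'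
    have h2 : 0 < Module.finrank F Z := Module.finrank_pos
    exact Or.inr (Or.inr ⟨_, by omega, hZ.comm, h, rfl⟩)

theorem CommAlg.subfield [Fintype F] [Nonempty ι] {ε : F} {G : Matrix ι ι F} (hG : Herm σ ε G)
    {H : Subgroup (GL ι F)} {Z : Subalgebra F (Matrix ι ι F)} (hZ : CommAlg σ G H Z) {d r : ℕ}
    (hd : IsFieldSubalgebra d Z) (hr : r ∣ d) (hr2 : 2 ≤ r) :
    ∃ K : Subalgebra F (Matrix ι ι F), IsFieldSubalgebra r K ∧ K ≤ Z ∧ CommAlg σ G H K := by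
  obtain ⟨K, h1, h2, h3, h4⟩ := exists_adj_field hG Z hZ.comm hZ.norm hZ.adj hd.inv
    (hd.finrank_eq ▸ hr)
  exact ⟨K, h1, h2, h1.comm, h4, h3, IsFieldSubalgebra.exists_nonscalar h1 hr2⟩

theorem CommAlg.mono {G : Matrix ι ι F} {H K : Subgroup (GL ι F)} {Z : Subalgebra F (Matrix ι ι F)}
    (hZ : CommAlg σ G H Z) (h : K ≤ H) : CommAlg σ G K Z :=
  ⟨hZ.comm, fun g hg => hZ.norm g (h hg), hZ.adj, hZ.nonsc⟩

theorem nonscalar_map [Nonempty κ] [Nonempty ι] (φ : Matrix κ κ F →ₐ[F] Matrix ι ι F) {z : Matrix κ κ F}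
    (hz : ¬ ∃ c : F, z = c • (1 : Matrix κ κ F)) : ¬ ∃ c : F, φ z = c • (1 : Matrix ι ι F) :=
  fun ⟨c, hc⟩ => hz ⟨c, algHom_injective φ (by rw [hc, map_smul, map_one])⟩

theorem TPForm.commAlg {G : Matrix ι ι F} {H : Subgroup (GL ι F)} {k l : ℕ}
    {φ : Matrix (Fin k) (Fin k) F →ₐ[F] Matrix ι ι F} {ψ : Matrix (Fin l) (Fin l) F →ₐ[F] Matrix ι ι F}
    {ε₁ ε₂ : F} {G₁ : Matrix (Fin k) (Fin k) F} {G₂ : Matrix (Fin l) (Fin l) F}
    (h : TPForm σ G H φ ψ ε₁ ε₂ G₁ G₂) (hH : ∀ h ∈ H, ∃ c, IsSim σ G c h)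
    {D : Subalgebra F (Matrix (Fin k) (Fin k) F)} (hD : CommAlg σ G₁ (similarityGroup (gf σ G₁)) D) :
    CommAlg σ G H (D.map φ) := by
  haveI := h.pair.neZero₁
  haveI := h.pair.nonempty
  refine ⟨?_, ?_, ?_, ?_⟩
  · rintro _ ⟨x, hx, rfl⟩ _ ⟨y, hy, rfl⟩
    exact (map_mul φ x y).symm.trans ((congrArg φ (hD.comm x hx y hy)).trans (map_mul φ y x))
  · rintro g hg _ ⟨x, hx, rfl⟩
    obtain ⟨a, ha, ha'⟩ := exists_facGrp hg (h.pair.norm₁ g hg)
    exact ⟨_, hD.norm a ((mem_similarityGroup h.herm₁.det_ne).mpr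
      (isSim_facGrp h.herm₁ h.adj₁ hH a ha)) x hx, (ha' x).symm⟩
  · rintro _ ⟨x, hx, rfl⟩
    obtain ⟨y, hy, hxy⟩ := hD.adj x hx
    exact ⟨_, ⟨y, hy, rfl⟩, (h.adj₁ x y).mp hxy⟩
  · obtain ⟨z, hz, hz'⟩ := hD.nonsc
    exact ⟨_, ⟨z, hz, rfl⟩, nonscalar_map φ hz'⟩

theorem TFForm.commAlg {ε : F} {G : Matrix ι ι F} (hG : Herm σ ε G) {H : Subgroup (GL ι F)} {m t : ℕ}
    {φ : Fin t → (Matrix (Fin m) (Fin m) F →ₐ[F] Matrix ι ι F)} {ε₁ : F}
    {G₁ : Matrix (Fin m) (Fin m) F} (h : TFForm σ G H φ ε₁ G₁) (hH : ∀ h ∈ H, ∃ c, IsSim σ G c h)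
    {D : Subalgebra F (Matrix (Fin m) (Fin m) F)} (hD : CommAlg σ G₁ (similarityGroup (gf σ G₁)) D) :
    CommAlg σ G H (Algebra.adjoin F {x | ∃ i, ∃ y ∈ D, φ i y = x}) := by
  haveI := h.fam.neZero
  haveI := h.fam.nonempty
  refine commAlg_adjoin hG.invol ?_ ?_ ?_ ?_
  · rintro _ ⟨i, x, hx, rfl⟩ _ ⟨j, y, hy, rfl⟩
    by_cases hij : i = j
    · subst hij; rw [← map_mul, ← map_mul, hD.comm x hx y hy]
    · exact h.fam.comm i j hij x y
  · rintro g hg _ ⟨i, x, hx, rfl⟩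
    obtain ⟨c, hc⟩ := hH g hg
    obtain ⟨s, a, ha, ha'⟩ := h.exists_conj hG hg hc
    exact Algebra.subset_adjoin ⟨s i, _, hD.norm (a i)
      ((mem_similarityGroup h.herm.det_ne).mpr (ha' i)) x hx, (ha i x).symm⟩
  · rintro _ ⟨i, x, hx, rfl⟩
    obtain ⟨y, hy, hxy⟩ := hD.adj x hx
    exact ⟨_, Algebra.subset_adjoin ⟨i, y, hy, rfl⟩, (h.adj i x y).mp hxy⟩
  · obtain ⟨z, hz, hz'⟩ := hD.nonsc
    exact ⟨_, ⟨⟨0, by have := h.fam.two_le_t; omega⟩, z, hz, rfl⟩, nonscalar_map _ hz'⟩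

/-- skew elements for a symmetric form in dimension two -/
theorem exists_skew_two (h2 : (2 : F) ≠ 0) {G : Matrix (Fin 2) (Fin 2) F}
    (hG : Herm (RingHom.id F) 1 G) : ∃ s, IsAdj (RingHom.id F) G s (-s) ∧
      CommAlg (RingHom.id F) G (similarityGroup (gf (RingHom.id F) G)) (Algebra.adjoin F {s}) := by
  have hGt : Gᵀ = G := by rw [hG.transpose_eq, one_smul]
  have hu : IsUnit G.det := hG.det_ne.isUnit
  have hs : IsAdj (RingHom.id F) G (G⁻¹ * J2 F) (-(G⁻¹ * J2 F)) := by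
    rw [IsAdj, transpose_mul, transpose_nonsing_inv, hGt, mul_assoc, nonsing_inv_mul _ hu, mul_one]
    change _ = G * -(G⁻¹ * J2 F)
    rw [mul_neg, ← mul_assoc, mul_nonsing_inv _ hu, one_mul, herm_J2.transpose_eq, neg_one_smul]
  have key : ∀ y, IsAdj (RingHom.id F) G y (-y) → ∃ c : F, y = c • (G⁻¹ * J2 F) := by
    intro y hy
    have h1 : (G * y)ᵀ = -(G * y) := by
      rw [transpose_mul, hGt, hy]; exact mul_neg _ _
    refine ⟨(G * y) 0 1, ?_⟩
    rw [← Matrix.mul_smul, show (G * y) 0 1 • J2 F = G * y from ?_, ← mul_assoc, nonsing_inv_mul _ hu,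
      one_mul]
    generalize G * y = z at h1
    have h3 : ∀ a b, z b a = - z a b := fun a b => congrFun (congrFun h1 a) b
    have h4 : ∀ a, z a a = 0 := fun a => by
      apply (mul_eq_zero.mp (show 2 * z a a = 0 by linear_combination h3 a a)).resolve_left h2
    ext a b
    fin_cases a <;> fin_cases b <;> simp [J2, h4, h3 0 1]
  refine ⟨_, hs, commAlg_single (d := -1) (fun _ => rfl) (fun g hg => ?_) (by rwa [neg_one_smul]) ?_⟩
  · obtain ⟨c, hc⟩ := (mem_similarityGroup hG.det_ne).mp hg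
    have := hs.conj hc
    rw [map_neg] at this
    exact key _ this
  · rintro ⟨c, hc⟩
    have h3 := ((isAdj_one G).smul (σ := RingHom.id F) (fun _ => rfl) c)
    rw [RingHom.id_apply, ← hc] at h3
    have h4 := h3.unique hG.det_ne hs
    have h5 : (2 : F) • (G⁻¹ * J2 F) = 0 := by rw [two_smul]; exact add_eq_zero_iff_eq_neg.mpr h4
    have h6 := congrArg (G * ·) ((smul_eq_zero.mp h5).resolve_left h2)
    simp only [← mul_assoc, mul_nonsing_inv _ hu, one_mul, mul_zero] at h6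
    exact herm_J2.det_ne (by rw [h6, det_zero])

/-! ### restriction of forms -/

/-- Gram matrix of a family of vectors -/
def gres (σ : F →+* F) (G : Matrix ι ι F) (b : κ → ι → F) : Matrix κ κ F :=
  Matrix.of fun a c => gf σ G (b a) (b c)

theorem gf_gres (G : Matrix ι ι F) (b : κ → ι → F) (u v : κ → F) :
    gf σ (gres σ G b) u v = gf σ G (∑ a, u a • b a) (∑ a, v a • b a) := by
  rw [gf_eq_sum, gf_sum_left]
  refine Finset.sum_congr rfl fun a _ => ?_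
  rw [gf_sum_right]
  refine Finset.sum_congr rfl fun c _ => ?_
  rw [gf_smul_left, gf_smul_right, gres, of_apply]; ring

theorem exists_restrict {ε : F} {G : Matrix ι ι F} (hG : Herm σ ε G) {W : Submodule F (ι → F)}
    (hW : IsNondegenerateOn (gf σ G) W) {k : ℕ} (hk : Module.finrank F W = k) :
    ∃ (G' : Matrix (Fin k) (Fin k) F) (L : (Fin k → F) ≃ₗ[F] W), Herm σ ε G' ∧
      ∀ u v, gf σ G' u v = gf σ G (L u) (L v) := by
  let b := Module.finBasisOfFinrankEq F W hk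
  have h1 : ∀ u v, gf σ (gres σ G fun a => (b a : ι → F)) u v =
      gf σ G (b.equivFun.symm u) (b.equivFun.symm v) := fun u v => by
    rw [gf_gres, b.equivFun_symm_apply, b.equivFun_symm_apply]
    simp
  refine ⟨_, b.equivFun.symm, ⟨hG.invol, det_ne_zero_of_gf hG.surj fun v hv => ?_, ?_, hG.eps⟩, h1⟩
  · obtain ⟨x, hx, hx'⟩ := (hW _ (b.equivFun.symm v).2 (fun h0 => hv (b.equivFun.symm.map_eq_zero_iff.mp
      (Subtype.ext h0)))).1
    exact ⟨b.equivFun ⟨x, hx⟩, by rwa [h1, LinearEquiv.symm_apply_apply]⟩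
  · ext a c
    simp only [transpose_apply, map_apply, gres, of_apply, Matrix.smul_apply, smul_eq_mul]
    exact hG.swap _ _

theorem even_finrank_of_alt {ε : F} {G : Matrix ι ι F} (hG : Herm (RingHom.id F) ε G)
    {W : Submodule F (ι → F)} (halt : ∀ v ∈ W, gf (RingHom.id F) G v v = 0)
    (hW : IsNondegenerateOn (gf (RingHom.id F) G) W) : Even (Module.finrank F W) := by
  obtain ⟨G', L, h1, h2⟩ := exists_restrict hG hW rfl
  simpa using even_card_of_gf h1.det_ne fun v => by rw [h2, halt _ (L v).2]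

theorem finrank_perp {ε : F} {G : Matrix ι ι F} (hG : Herm σ ε G) (W : Submodule F (ι → F)) :
    Module.finrank F (perp σ G W) + Module.finrank F W = Fintype.card ι := by
  refine le_antisymm ?_ (finrank_perp_ge G W)
  let b := Module.finBasis F W
  let L : (ι → F) →ₗ[F] (Fin (Module.finrank F W) → F) := LinearMap.pi fun i => gfL σ G (b i)
  have h1 := LinearMap.finrank_range_add_finrank_ker L
  have h3 : perp σ G W ≤ LinearMap.ker L := fun v hv => funext fun i => hv _ (b i).2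
  have h4 := Submodule.finrank_mono h3
  have h5 : LinearMap.range L = ⊤ := by
    by_contra hne
    obtain ⟨u, hu⟩ : ∃ u, u ∉ LinearMap.range L := by
      by_contra h; push Not at h; exact hne (eq_top_iff.mpr fun x _ => h x)
    obtain ⟨c, hc, hcu⟩ := exists_fun _ hu
    have h6 : ∑ i, σ (c i) • (b i : ι → F) = 0 := eq_zero_of_gf_right hG.det_ne fun x => by
      rw [gf_sum_right, ← hc (L x) ⟨x, rfl⟩]
      exact Finset.sum_congr rfl fun i _ => by rw [gf_smul_right, hG.invol]; rfl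
    have h7 := Fintype.linearIndependent_iff.mp b.linearIndependent (fun i => σ (c i))
      (Subtype.ext (by simpa using h6))
    have h8 : c = 0 := funext fun i => σ.injective (by rw [h7 i, Pi.zero_apply, map_zero])
    rw [h8, zero_dotProduct] at hcu
    exact zero_ne_one hcu
  rw [h5, finrank_top] at h1
  simp only [Module.finrank_fintype_fun_eq_card, Fintype.card_fin] at h1
  omega

theorem two_mul_finrank_le {ε : F} {G : Matrix ι ι F} (hG : Herm σ ε G) {W : Submodule F (ι → F)}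
    (hW : IsTotallySingularFor (gf σ G) W) : 2 * Module.finrank F W ≤ Fintype.card ι := by
  have h1 := finrank_perp hG W
  have h2 : Module.finrank F W ≤ Module.finrank F (perp σ G W) :=
    Submodule.finrank_mono fun v hv w hw => hW v hv w hw
  omega

theorem finrank_dvd_of_inv [Nonempty ι] {r : ℕ} {K : Subalgebra F (Matrix ι ι F)}
    (hK : IsFieldSubalgebra r K) {W : Submodule F (ι → F)} (hW : ∀ k ∈ K, ∀ v ∈ W, k *ᵥ v ∈ W) :
    r ∣ Module.finrank F W := by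
  letI := (IsFieldSubalgebra.isField hK).toField
  letI iS : SMul K W := ⟨fun k v => ⟨(k : Matrix ι ι F) *ᵥ v, hW k k.2 v v.2⟩⟩
  letI iM : Module K W :=
    { one_smul := fun v => Subtype.ext (one_mulVec _)
      mul_smul := fun a b v => Subtype.ext (mulVec_mulVec _ _ _).symm
      smul_zero := fun a => Subtype.ext (mulVec_zero _)
      smul_add := fun a u v => Subtype.ext (Matrix.mulVec_add _ _ _)
      add_smul := fun a b v => Subtype.ext (Matrix.add_mulVec _ _ _)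
      zero_smul := fun v => Subtype.ext (zero_mulVec _) }
  haveI iT : IsScalarTower F K W := ⟨fun c k v => Subtype.ext (by
    change ((c • k : K) : Matrix ι ι F) *ᵥ v = c • ((k : Matrix ι ι F) *ᵥ v)
    rw [Subalgebra.coe_smul, smul_mulVec])⟩
  have := Module.finrank_mul_finrank F K W
  rw [hK.finrank_eq] at this
  exact ⟨_, this.symm⟩

/-- a self-adjoint field with an alternating trace form -/
theorem two_mul_dvd_of_selfAdj [Nonempty ι] {ε : F} {G : Matrix ι ι F} (hG : Herm σ ε G) {r : ℕ}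
    {K : Subalgebra F (Matrix ι ι F)} (hK : IsFieldSubalgebra r K) (hadj : ∀ x ∈ K, IsAdj σ G x x)
    (halt : ∀ k ∈ K, ∀ v, gf σ G (k *ᵥ v) v = 0) : 2 * r ∣ Fintype.card ι := by
  let P : Submodule F (ι → F) → Prop := fun W => IsTotallySingularFor (gf σ G) W ∧
    ∀ k ∈ K, ∀ v ∈ W, k *ᵥ v ∈ W
  obtain ⟨W, hW, hmax⟩ := (set_has_maximal_iff_noetherian.mpr inferInstance) {W | P W}
    ⟨⊥, fun u hu v _ => by rw [(Submodule.mem_bot F).mp hu, gf_zero_left], fun k _ v hv => by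
      rw [(Submodule.mem_bot F).mp hv, mulVec_zero]; exact Submodule.zero_mem _⟩
  have h1 : perp σ G W ≤ W := by
    intro v hv
    let U : Submodule F (ι → F) := (Subalgebra.toSubmodule K).map
      ({ toFun := fun k => k *ᵥ v, map_add' := fun a b => Matrix.add_mulVec a b v,
         map_smul' := fun c a => smul_mulVec c a v } : Matrix ι ι F →ₗ[F] (ι → F))
    have hU : ∀ k ∈ K, ∀ w ∈ W, gf σ G (k *ᵥ v) w = 0 := fun k hk w hw => by
      rw [isAdj_iff.mp (hadj k hk)]; exact hv _ (hW.2 k hk w hw)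
    have hP : P (W ⊔ U) := by
      constructor
      · intro a' ha' b' hb'
        obtain ⟨a, ha, _, ⟨k, hk, rfl⟩, rfl⟩ := Submodule.mem_sup.mp ha'
        obtain ⟨b, hb, _, ⟨l, hl, rfl⟩, rfl⟩ := Submodule.mem_sup.mp hb'
        change gf σ G (a + k *ᵥ v) (b + l *ᵥ v) = 0
        rw [gf_add_left, gf_add_right, gf_add_right, hW.1 a ha b hb, hU k hk b hb,
          hG.eq_zero_symm (hU l hl a ha), ← isAdj_iff.mp (hadj l hl), mulVec_mulVec,
          halt _ (K.mul_mem hl hk)]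
        simp
      · intro k hk a' ha'
        obtain ⟨a, ha, _, ⟨l, hl, rfl⟩, rfl⟩ := Submodule.mem_sup.mp ha'
        rw [Matrix.mulVec_add]
        exact Submodule.add_mem_sup (hW.2 k hk a ha) ⟨k * l, K.mul_mem hk hl, (mulVec_mulVec _ _ _).symm⟩
    have h2 : W ⊔ U ≤ W := (eq_of_le_of_not_lt le_sup_left (hmax _ hP)).ge
    exact h2 (Submodule.mem_sup_right ⟨1, K.one_mem, one_mulVec v⟩)
  have h2 := finrank_perp hG W
  rw [le_antisymm h1 fun v hv w hw => hW.1 v hv w hw] at h2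
  obtain ⟨d, hd⟩ := finrank_dvd_of_inv hK hW.2
  exact ⟨d, by rw [← h2, hd]; ring⟩

/-! ### congruence of forms -/

theorem exists_congr_of_equiv {G G' : Matrix κ κ F} {c : F} (L : (κ → F) ≃ₗ[F] (κ → F))
    (h : ∀ u v, gf σ G' u v = c * gf σ G (L u) (L v)) : ∃ a : GL κ F, G' = c • gpull σ G a := by
  refine ⟨Matrix.GeneralLinearGroup.toLin.symm (LinearMap.GeneralLinearGroup.ofLinearEquiv L),
    gf_inj (σ := σ) fun u v => ?_⟩
  have : ∀ u, ((Matrix.GeneralLinearGroup.toLin.symm (LinearMap.GeneralLinearGroup.ofLinearEquiv L) :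
      GL κ F) : Matrix κ κ F) *ᵥ u = L u := fun u => by
    change LinearMap.toMatrix' (L : (κ → F) →ₗ[F] (κ → F)) *ᵥ u = _
    rw [LinearMap.toMatrix'_mulVec]; rfl
  rw [gf_smul_gram, gf_gpull, this, this, h]

theorem gf_eq_of_quad (h2 : (2 : F) ≠ 0) {G : Matrix ι ι F} {G' : Matrix κ κ F}
    (hG : Herm (RingHom.id F) 1 G) (hG' : Herm (RingHom.id F) 1 G') {c : F}
    (L : (κ → F) →ₗ[F] (ι → F))
    (h : ∀ u, gf (RingHom.id F) G' u u = c * gf (RingHom.id F) G (L u) (L u)) (u v : κ → F) :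
    gf (RingHom.id F) G' u v = c * gf (RingHom.id F) G (L u) (L v) := by
  have h3 := h (u + v)
  rw [map_add, gf_add_left, gf_add_right, gf_add_right, gf_add_left, gf_add_right, gf_add_right, h u,
    h v, hG.symm (L v) (L u), hG'.symm v u] at h3
  apply mul_left_cancel₀ h2
  linear_combination h3

theorem nondeg_quadOf {Q : (ι → F) → F} (hQ : IsNondegenerateQuadraticForm Q) :
    (QuadraticMap.polarBilin (FGL.quadOf hQ)).Nondegenerate :=
  (Witt.Form.ofQuad_nondeg_iff _).mp (FGL.quadOf_nondeg hQ)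

theorem exists_congr_odd [Finite F] (h2 : (2 : F) ≠ 0) {G G' : Matrix κ κ F}
    (hG : Herm (RingHom.id F) 1 G) (hG' : Herm (RingHom.id F) 1 G') (hodd : Odd (Fintype.card κ)) :
    ∃ (c : F) (a : GL κ F), c ≠ 0 ∧ G' = c • gpull (RingHom.id F) G a := by
  obtain ⟨m, hm⟩ := hodd
  rw [← Module.finrank_fintype_fun_eq_card F] at hm
  obtain ⟨c, φ, hc, hφ⟩ := Orth.odd_classification (nondeg_quadOf (hG.isQuad h2)) hm
  obtain ⟨c', φ', hc', hφ'⟩ := Orth.odd_classification (nondeg_quadOf (hG'.isQuad h2)) hm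
  obtain ⟨a, ha⟩ := exists_congr_of_equiv (c := c' / c) (φ'.symm.trans φ)
    (gf_eq_of_quad h2 hG hG' (φ'.symm.trans φ).toLinearMap fun u => by
      have h3 := hφ (φ'.symm u)
      have h4 := hφ' (φ'.symm u)
      rw [LinearEquiv.apply_symm_apply] at h4
      change gf _ G (φ (φ'.symm u)) (φ (φ'.symm u)) = _ at h3
      change gf _ G' u u = _ at h4
      change _ = c' / c * gf _ G (φ (φ'.symm u)) (φ (φ'.symm u))
      rw [h3, h4]; field_simp)
  exact ⟨_, a, div_ne_zero hc' hc, ha⟩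

theorem exists_congr_type [Finite F] (h2 : (2 : F) ≠ 0) {G G' : Matrix κ κ F}
    (hG : Herm (RingHom.id F) 1 G) (hG' : Herm (RingHom.id F) 1 G') (he : Even (Fintype.card κ))
    (h : IsPlusTypeOn (fun v => gf (RingHom.id F) G' v v) ⊤ ↔
      IsPlusTypeOn (fun v => gf (RingHom.id F) G v v) ⊤) :
    ∃ a : GL κ F, G' = gpull (RingHom.id F) G a := by
  have key : ∀ {G : Matrix κ κ F} (hG : Herm (RingHom.id F) 1 G),
      Orth.IsPlus (FGL.quadOf (hG.isQuad h2)) ↔ IsPlusTypeOn (fun v => gf (RingHom.id F) G v v) ⊤ :=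
    fun hG => ⟨fun ⟨W, h1, h3⟩ => ⟨W, le_top, h1, by rw [h3, finrank_top]⟩,
      fun ⟨W, _, h1, h3⟩ => ⟨W, h1, by rw [h3, finrank_top]⟩⟩
  obtain ⟨φ, hφ⟩ := Orth.exists_isometry_of_isPlus_iff (nondeg_quadOf (hG'.isQuad h2))
    (nondeg_quadOf (hG.isQuad h2)) (by rwa [Module.finrank_fintype_fun_eq_card]) rfl
    (by rw [key hG', key hG, h])
  obtain ⟨a, ha⟩ := exists_congr_of_equiv (c := 1) φ
    (gf_eq_of_quad h2 hG hG' φ.toLinearMap fun u => by rw [one_mul]; exact (hφ u).symm)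
  exact ⟨a, by rw [ha, one_smul]⟩

/-- the hermitian form of a Gram matrix, in the language of the Witt library -/
def hermOf {G : Matrix ι ι F} (hG : Herm σ 1 G) (hσ : σ ≠ RingHom.id F) :
    Witt.Form (Witt.FormType.herm σ hG.invol) (ι → F) :=
  Witt.Form.ofHerm hσ hG.invol
    (LinearMap.mk₂'ₛₗ σ (RingHom.id F) (fun x y => gf σ G y x) (fun x x' y => gf_add_right G y x x')
      (fun c x y => gf_smul_right G c y x) (fun x y y' => gf_add_left G y y' x)
      (fun c x y => gf_smul_left G c y x))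
    ⟨fun x y => (hG.swap y x).trans (one_mul _)⟩

theorem hermOf_nondeg {G : Matrix ι ι F} (hG : Herm σ 1 G) (hσ : σ ≠ RingHom.id F) :
    (hermOf hG hσ).Nondeg := fun _ h => eq_zero_of_gf_right hG.det_ne h

theorem ne_id_of {σ : F →+* F} (h : ¬ ∀ a, σ a = a) : σ ≠ RingHom.id F := fun h' => h (by simp [h'])

theorem exists_congr_herm [Finite F] {G G' : Matrix κ κ F} (hG : Herm σ 1 G) (hG' : Herm σ 1 G')
    (hσ : ¬ ∀ a, σ a = a) : ∃ a : GL κ F, G' = gpull σ G a := by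
  obtain ⟨φ, hφ⟩ := Uni.exists_isIsom (ne_id_of hσ) (hermOf_nondeg hG' (ne_id_of hσ))
    (hermOf_nondeg hG (ne_id_of hσ)) rfl
  obtain ⟨a, ha⟩ := exists_congr_of_equiv (σ := σ) (G := G) (G' := G') (c := 1) φ fun u v => by
    rw [one_mul]; exact (hφ.B_eq v u).symm
  exact ⟨a, by rw [ha, one_smul]⟩

theorem Herm.one_of_ne {ε : F} {G : Matrix ι ι F} (hG : Herm σ ε G) (hσ : ¬ ∀ a, σ a = a) :
    Herm σ 1 G := by
  rcases hG.eps with rfl | ⟨-, h⟩
  · exact hG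
  · exact absurd h hσ

theorem CommAlg.of_congr [Nonempty κ] {G G' : Matrix κ κ F} (hG : G.det ≠ 0) (hG' : G'.det ≠ 0) {c : F}
    {a : GL κ F} (hc : c ≠ 0) (h : G' = c • gpull σ G a) {D : Subalgebra F (Matrix κ κ F)}
    (hD : CommAlg σ G' (similarityGroup (gf σ G')) D) :
    CommAlg σ G (similarityGroup (gf σ G)) (D.map (conjAlgHom a)) := by
  refine ⟨?_, ?_, ?_, ?_⟩
  · rintro _ ⟨x, hx, rfl⟩ _ ⟨y, hy, rfl⟩
    exact (map_mul _ x y).symm.trans ((congrArg _ (hD.comm x hx y hy)).trans (map_mul _ y x))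
  · rintro g hg _ ⟨x, hx, rfl⟩
    obtain ⟨d, hd⟩ := (mem_similarityGroup hG).mp hg
    refine ⟨_, hD.norm (a⁻¹ * g * a) ((mem_similarityGroup hG').mpr ⟨d, ?_⟩) x hx, ?_⟩
    · rw [isSim_iff]
      intro u v
      simp only [h, gf_smul_gram, gf_gpull, Units.val_mul, ← mulVec_mulVec, mulVec_inv_mulVec,
        isSim_iff.mp hd]
      ring
    · change conjAlgHom a _ = conjAlgHom g (conjAlgHom a x)
      rw [conjAlgHom_mul, conjAlgHom_mul, conjAlgHom_cancel_inv]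
  · rintro _ ⟨x, hx, rfl⟩
    obtain ⟨y, hy, hxy⟩ := hD.adj x hx
    rw [h, isAdj_smul_iff hc, isAdj_gpull] at hxy
    exact ⟨_, ⟨y, hy, rfl⟩, hxy⟩
  · obtain ⟨z, hz, hz'⟩ := hD.nonsc
    exact ⟨_, ⟨z, hz, rfl⟩, nonscalar_map (conjAlgHom a) hz'⟩

end CL.Asch
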