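import Cfsg.Agent.CLAS.AschFC3

/-!
Frames over small fields, extraspecial groups of isometries, characteristic two.
-/

set_option autoImplicit false

namespace CL.Asch

open Matrix Cfsg.Geo
open scoped Kronecker MatrixGroups commutatorElement

variable {F : Type*} [Field F] {ι κ μ : Type} [Fintype ι] [DecidableEq ι] [Fintype κ] [DecidableEq κ]
  [Fintype μ] [DecidableEq μ] {σ : F →+* F}

/-- diagonal matrices -/
def diagAlg (κ : Type) [Fintype κ] [DecidableEq κ] (F : Type*) [Field F] :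
    Subalgebra F (Matrix κ κ F) := (diagonalAlgHom F).range

theorem mem_diagAlg {x : Matrix κ κ F} : x ∈ diagAlg κ F ↔ ∀ a b, a ≠ b → x a b = 0 := by
  constructor
  · rintro ⟨d, rfl⟩ a b hab
    exact diagonal_apply_ne _ hab
  · intro h
    refine ⟨x.diag, ?_⟩
    ext a b
    by_cases hab : a = b
    · subst hab; exact diagonal_apply_eq _ _
    · rw [h a b hab]; exact diagonal_apply_ne _ hab

theorem isAdj_one_iff {x y : Matrix κ κ F} : IsAdj σ 1 x y ↔ xᵀ = y.map σ := by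
  rw [IsAdj, mul_one, one_mul]

theorem isSim_one_gram_iff {x : Matrix κ κ F} {c : F} :
    IsSim σ 1 c x ↔ xᵀ * x.map σ = c • (1 : Matrix κ κ F) := by
  rw [IsSim, mul_one]

theorem inv_eq_of_isSim_one [Nonempty κ] (hσ : ∀ a, σ (σ a) = a) {g : GL κ F} {c : F}
    (h : IsSim σ 1 c (g : Matrix κ κ F)) :
    ((g⁻¹ : GL κ F) : Matrix κ κ F) = (σ c)⁻¹ • ((g : Matrix κ κ F).map σ)ᵀ := by
  have hc := h.ne_zero (by simp)
  have h1 := congrArg (fun x : Matrix κ κ F => x.map σ) (isSim_one_gram_iff.mp h)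
  simp only [Matrix.map_mul, map_map_invol hσ, map_smul_eq, transpose_map] at h1
  rw [Matrix.map_one _ (map_zero σ) (map_one σ)] at h1
  apply Units.inv_eq_of_mul_eq_one_left
  rw [Matrix.smul_mul, h1, smul_smul, inv_mul_cancel₀ ((map_ne_zero σ).mpr hc), one_smul]

theorem commAlg_diag (hκ : 2 ≤ Fintype.card κ) (hσ : ∀ a, σ (σ a) = a) {X : Subgroup (GL κ F)}
    (hX : ∀ g ∈ X, ∃ c, IsSim σ 1 c (g : Matrix κ κ F))
    (hm : ∀ g ∈ X, ∀ j a b, a ≠ b → (g : Matrix κ κ F) a j = 0 ∨ (g : Matrix κ κ F) b j = 0) :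
    CommAlg σ 1 X (diagAlg κ F) := by
  haveI := nonempty_of_two_le hκ
  refine ⟨?_, fun g hg x hx => ?_, fun x hx => ⟨(x.map σ)ᵀ, ?_, ?_⟩, ?_⟩
  · rintro _ ⟨a, rfl⟩ _ ⟨b, rfl⟩
    exact (map_mul (diagonalAlgHom F) a b).symm.trans ((congrArg _ (mul_comm a b)).trans
      (map_mul (diagonalAlgHom F) b a))
  · obtain ⟨d, rfl⟩ := hx
    obtain ⟨c, hc⟩ := hX g hg
    rw [mem_diagAlg]
    intro a b hab
    change ((g : Matrix κ κ F) * diagonal d * ((g⁻¹ : GL κ F) : Matrix κ κ F)) a b = 0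
    rw [inv_eq_of_isSim_one hσ hc, mul_apply]
    refine Finset.sum_eq_zero fun j _ => ?_
    rcases hm g hg j a b hab with h | h <;> simp [h]
  · rw [mem_diagAlg] at hx ⊢
    intro a b hab
    simp [hx b a hab.symm]
  · rw [isAdj_one_iff, ← transpose_map, map_map_invol hσ]
  · obtain ⟨a, b, hab⟩ := Fintype.exists_pair_of_one_lt_card (α := κ) hκ
    refine ⟨single a a 1, mem_diagAlg.mpr fun i j hij => ?_, ?_⟩
    · rw [single_apply, if_neg]; rintro ⟨rfl, rfl⟩; exact hij rfl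
    · rintro ⟨c, hc⟩
      have h1 := congrFun (congrFun hc a) a
      have h2 := congrFun (congrFun hc b) b
      simp [hab] at h1 h2
      exact one_ne_zero (h1.trans h2.symm)

theorem selfAdj_diag {x : Matrix κ κ F} (hx : x ∈ diagAlg κ F) : IsAdj (RingHom.id F) 1 x x := by
  obtain ⟨d, rfl⟩ := hx
  rw [isAdj_one_iff]
  exact diagonal_transpose d

theorem three_eq_zero [Fintype F] (hq : Fintype.card F = 3) : (3 : F) = 0 := by
  have := FiniteField.cast_card_eq_zero F
  rwa [hq] at this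

theorem sq_eq_one_of_three [Fintype F] (hq : Fintype.card F = 3) {a : F} (ha : a ≠ 0) : a * a = 1 := by
  rw [← sq]; exact pow_card_sub_one' (k := 2) hq ha

theorem two_ne_zero_of_three [Fintype F] (hq : Fintype.card F = 3) : (2 : F) ≠ 0 :=
  two_ne_zero_of_odd (by rw [hq]; decide)

theorem IsSim.col {g : Matrix κ κ F} {c : F} (h : IsSim σ 1 c g) (j : κ) :
    ∑ a, g a j * σ (g a j) = c := by
  have := congrFun (congrFun (isSim_one_gram_iff.mp h) j) j
  simpa [mul_apply] using this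

theorem commAlg_frame_three [Fintype F] (hq : Fintype.card F = 3) :
    CommAlg (RingHom.id F) 1 (similarityGroup (gf (RingHom.id F) (1 : Matrix (Fin 3) (Fin 3) F)))
      (diagAlg (Fin 3) F) := by
  have h3 := three_eq_zero hq
  have hX : ∀ g ∈ similarityGroup (gf (RingHom.id F) (1 : Matrix (Fin 3) (Fin 3) F)),
      ∃ c, IsSim (RingHom.id F) 1 c (g : Matrix (Fin 3) (Fin 3) F) :=
    fun g hg => (mem_similarityGroup (by simp)).mp hg
  refine commAlg_diag (by simp) (fun _ => rfl) hX fun g hg j a b hab => ?_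
  obtain ⟨c, hc⟩ := hX g hg
  have h1 := congrArg det (isSim_one_gram_iff.mp hc)
  rw [det_mul, det_transpose, det_smul, det_one, mul_one, Fintype.card_fin] at h1
  change _ * (g : Matrix (Fin 3) (Fin 3) F).det = _ at h1
  rw [sq_eq_one_of_three hq g.det_ne_zero, pow_succ, sq, sq_eq_one_of_three hq (hc.ne_zero (by simp)),
    one_mul] at h1
  have h2 := hc.col j
  rw [← h1, Fin.sum_univ_three] at h2
  by_contra hcon
  push Not at hcon
  have h4 := sq_eq_one_of_three hq hcon.1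
  have h5 := sq_eq_one_of_three hq hcon.2
  have key : ∀ z : F, 1 + 1 + z * z ≠ 1 := fun z hz => by
    by_cases h0 : z = 0
    · subst h0; exact one_ne_zero (α := F) (by linear_combination hz)
    · rw [sq_eq_one_of_three hq h0] at hz
      exact one_ne_zero (α := F) (by linear_combination h3 - hz)
  simp only [RingHom.id_apply] at h2
  fin_cases a <;> fin_cases b <;> simp only [Fin.reduceFinMk, Fin.isValue] at h4 h5 hab <;>
    first
    | exact hab rfl
    | exact key ((g : Matrix (Fin 3) (Fin 3) F) 0 j) (by linear_combination h2 - h4 - h5)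
    | exact key ((g : Matrix (Fin 3) (Fin 3) F) 1 j) (by linear_combination h2 - h4 - h5)
    | exact key ((g : Matrix (Fin 3) (Fin 3) F) 2 j) (by linear_combination h2 - h4 - h5)

theorem exists_frame_three [Fintype F] (hq : Fintype.card F = 3) {G : Matrix (Fin 3) (Fin 3) F}
    (hG : Herm (RingHom.id F) 1 G) : ∃ D, CommAlg (RingHom.id F) G (similarityGroup (gf (RingHom.id F) G)) D ∧
      ∀ x ∈ D, IsAdj (RingHom.id F) G x x := by
  obtain ⟨c, a, hc, h⟩ := exists_congr_odd (two_ne_zero_of_three hq) hG (herm_one fun _ => rfl)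
    (by simp; decide)
  refine ⟨_, CommAlg.of_congr hG.det_ne (by simp) hc h (commAlg_frame_three hq), ?_⟩
  rintro _ ⟨x, hx, rfl⟩
  have := selfAdj_diag hx
  rwa [h, isAdj_smul_iff hc, isAdj_gpull] at this

theorem exists_frame_unitary_two [Fintype F] (hq : Fintype.card F = 4) (hσ : ∀ a, σ a = a ^ 2)
    {G : Matrix (Fin 2) (Fin 2) F} (hG : Herm σ 1 G) :
    ∃ D, CommAlg σ G (similarityGroup (gf σ G)) D ∧ ∃ x ∈ D, IsAdj σ G x x ∧ x * x = x ∧ x ≠ 0 ∧ x ≠ 1 := by
  obtain ⟨τ, h1, -, h3⟩ := exists_invol_of_card (F := F) (q := 2) hq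
  obtain ⟨a, h⟩ := exists_congr_herm hG (herm_one hG.invol) (fun h => h3 fun a => by rw [h1, ← hσ, h])
  have hX : ∀ g ∈ similarityGroup (gf σ (1 : Matrix (Fin 2) (Fin 2) F)),
      ∃ c, IsSim σ 1 c (g : Matrix (Fin 2) (Fin 2) F) :=
    fun g hg => (mem_similarityGroup (by simp)).mp hg
  have h2 : (2 : F) = 0 := two_eq_zero_of_not_odd (by rw [hq]; decide)
  refine ⟨_, CommAlg.of_congr hG.det_ne (by simp) one_ne_zero (by rw [one_smul]; exact h)
    (commAlg_diag (by simp) hG.invol hX fun g hg j a b hab => ?_), conjAlgHom a (single 0 0 1),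
    ⟨_, mem_diagAlg.mpr fun i j hij => ?_, rfl⟩, ?_, ?_, ?_, ?_⟩
  · obtain ⟨c, hc⟩ := hX g hg
    have h4 := hc.col j
    by_contra hcon
    push Not at hcon
    have key : ∀ z : F, z ≠ 0 → z * σ z = 1 := fun z hz => by
      rw [hσ, ← pow_succ', pow_card_sub_one' (k := 3) hq hz]
    have h5 := key _ hcon.1
    have h6 := key _ hcon.2
    apply hc.ne_zero (by simp)
    rw [Fin.sum_univ_two] at h4
    fin_cases a <;> fin_cases b <;> simp only [Fin.reduceFinMk, Fin.isValue] at h5 h6 hab <;>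
      first
      | exact absurd rfl hab
      | linear_combination h5 + h6 + h2 - h4
  · rw [single_apply, if_neg]; rintro ⟨rfl, rfl⟩; exact hij rfl
  · rw [← isAdj_gpull, ← h, isAdj_one_iff]
    ext i j; fin_cases i <;> fin_cases j <;> simp
  · rw [← map_mul, single_mul_single_same, mul_one]
  · intro h0
    have := conjAlgHom_injective a (h0.trans (map_zero _).symm)
    simpa using congrFun (congrFun this 0) 0
  · intro h0
    have := conjAlgHom_injective a (h0.trans (map_one _).symm)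
    simpa using congrFun (congrFun this 1) 1

/-! ### extraspecial groups -/

theorem IsSim.scalar [Nonempty ι] {G : Matrix ι ι F} (hG : G.det ≠ 0) {c d : F}
    (h : IsSim σ G d (c • (1 : Matrix ι ι F))) : c * σ c = d := by
  have h1 : IsSim σ G 1 (1 : Matrix ι ι F) := isSim_one_iff.mpr fun u v => by simp
  have h2 := (h1.smul c).symm.trans h
  have hG0 : G ≠ 0 := by rintro rfl; exact hG det_zero
  rw [mul_one] at h2
  exact smul_left_injective F hG0 h2

theorem Nil2.card_center_dvd [Finite F] [Nonempty ι] {H N : Subgroup (GL ι F)} (h : Nil2 H N)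
    {G : Matrix ι ι F} (hG : G.det ≠ 0) (hN : ∀ x ∈ N, IsSim σ G 1 (x : Matrix ι ι F)) {k : ℕ}
    (hk : ∀ c : F, c * σ c = 1 → c ^ k = 1) : Nat.card (Subgroup.center N) ∣ k := by
  obtain ⟨x, hx, c, hc, ho⟩ := exists_scalar_orderOf h.top
  rw [← ho]
  exact orderOf_dvd_of_pow_eq_one (hk c (IsSim.scalar hG (hc ▸ hN x hx)))

/-- data for bilinear forms -/
theorem Nil2.bilinear [Fintype F] (hn : 2 ≤ Fintype.card ι) {H N : Subgroup (GL ι F)} (h : Nil2 H N)
    {G : Matrix ι ι F} (hG : G.det ≠ 0) (hN : ∀ x ∈ N, IsSim (RingHom.id F) G 1 (x : Matrix ι ι F)) :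
    IsSymplecticTypeGroup 2 N ∧ (Fintype.card F).Prime ∧ Odd (Fintype.card F) ∧
      Nat.card (Subgroup.center N) = 2 ∧ (∀ x ∈ N, x ^ 2 ∈ scalars ι F) ∧
      ∃ k, 1 ≤ k ∧ Fintype.card ι = 2 ^ k ∧ Nat.card N = 2 ^ (1 + 2 * k) := by
  haveI := nonempty_of_two_le hn
  obtain ⟨r, k, p, e, hs, hrp, hmin, hk, hcard, hN', hr, hZ⟩ := h.data hn
  have h1 := h.card_center_dvd hG hN (k := 2) fun c hc => by rw [sq]; exact hc
  have h2 := Nat.le_of_dvd two_pos h1
  rcases hZ with ⟨h3, h4⟩ | ⟨rfl, h3 | h3⟩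
  · exfalso
    have := hs.prime.two_le
    rw [h4] at h2
    obtain rfl : r = 2 := by omega
    exact absurd h3 (by decide)
  · obtain ⟨hp, -, hq, hdvd, hlt⟩ := hmin
    have hodd := hp.odd_of_ne_two hrp.symm
    have hq1 := Fintype.one_lt_card (α := F)
    obtain rfl : e = 1 := by
      by_contra hne
      rcases e with _ | _ | e
      · rw [pow_zero] at hq; omega
      · exact hne rfl
      · refine hlt 1 one_pos (by omega) ?_
        rw [h3, pow_one]
        obtain ⟨j, rfl⟩ := hodd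
        exact ⟨j, by omega⟩
    rw [pow_one] at hq
    exact ⟨hs, hq ▸ hp, hq ▸ hodd, h3, hr, k, hk, hcard, by rw [hN', h3, pow_add, pow_one]⟩
  · omega

theorem conj_eq_smul_of_comm [Nonempty ι] {N : Subgroup (GL ι F)} (hc : ⁅N, N⁆ ≤ scalars ι F)
    {x y : GL ι F} (hx : x ∈ N) (hy : y ∈ N) : ∃ c : F, conjAlgHom x (y : Matrix ι ι F) = c • y := by
  obtain ⟨c, hc⟩ := mem_scalars'.mp (comm_scalar hc hx hy)
  refine ⟨c, ?_⟩
  rw [conjAlgHom_coe, show x * y * x⁻¹ = x * y * x⁻¹ * y⁻¹ * y by group, Units.val_mul, hc,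
    Matrix.smul_mul, one_mul]

theorem card_le_of_elemAb [Finite F] [Nonempty ι] {N : Subgroup (GL ι F)} (htop : alg N = ⊤)
    (hc : ⁅N, N⁆ ≤ scalars ι F) (h2 : (2 : F) ≠ 0) (A : Subgroup N) (hA : IsMulCommutative A)
    (hA2 : ∀ x ∈ A, x * x = 1) : Nat.card A ≤ 2 ∨ ∃ (t : ℕ) (e : Fin t → Matrix ι ι F), 2 ≤ t ∧
      IdemFam N e ∧ (∀ i, e i ∈ alg (A.map N.subtype)) ∧ Nat.card A ≤ 2 * t := by
  classical
  let S : Subgroup A := (scalars ι F).comap (N.subtype.comp A.subtype)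
  have hS : Nat.card S ≤ 2 := by
    refine (Nat.card_le_card_of_injective (fun s : S => decide (s = 1)) fun s s' hss => ?_).trans
      (by simp)
    have key : ∀ s : S, s ≠ 1 → (((s : A) : N) : GL ι F) = -1 := fun s hs => by
      obtain ⟨c, hc⟩ := mem_scalars'.mp s.2
      have h3 : ((((s : A) : N) : GL ι F) : Matrix ι ι F) = c • (1 : Matrix ι ι F) := hc
      have h4 := congrArg (fun x : N => ((x : GL ι F) : Matrix ι ι F)) (hA2 _ s.1.2)
      simp only [Subgroup.coe_mul, Units.val_mul, h3, smul_mul_smul_comm, mul_one, Subgroup.coe_one,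
        Units.val_one] at h4
      rcases mul_self_eq_one_iff.mp (smul_one_inj (h4.trans (one_smul F _).symm)) with rfl | rfl
      · exact absurd (Subtype.ext (Subtype.ext (Subtype.ext (Units.ext (h3.trans (one_smul _ _)))))) hs
      · exact Units.ext (h3.trans (neg_one_smul _ _))
    by_cases h1 : s = 1
    · have : s' = 1 := by simpa [h1] using hss
      rw [h1, this]
    · have h1' : s' ≠ 1 := by simpa [h1] using hss
      exact Subtype.ext (Subtype.ext (Subtype.ext ((key s h1).trans (key s' h1').symm)))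
  by_cases hT : S = ⊤
  · left; rwa [hT, Subgroup.card_top] at hS
  right
  obtain ⟨a, ha⟩ : ∃ a, a ∉ S := by
    by_contra h; push Not at h; exact hT (eq_top_iff.mpr fun x _ => h x)
  have hmem : ∀ a : A, (((a : N) : GL ι F) : Matrix ι ι F) ∈ alg (A.map N.subtype) :=
    fun a => mem_alg ⟨a, a.2, rfl⟩
  have hidem : ∀ a : A, ((2 : F)⁻¹ • (1 + (((a : N) : GL ι F) : Matrix ι ι F))) *
      ((2 : F)⁻¹ • (1 + (((a : N) : GL ι F) : Matrix ι ι F))) =
      (2 : F)⁻¹ • (1 + (((a : N) : GL ι F) : Matrix ι ι F)) := fun a => by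
    have h4 := congrArg (fun x : N => ((x : GL ι F) : Matrix ι ι F)) (hA2 _ a.2)
    simp only [Subgroup.coe_mul, Units.val_mul, Subgroup.coe_one, Units.val_one] at h4
    rw [smul_mul_smul_comm, mul_add, add_mul, add_mul, h4, mul_one, one_mul, mul_one, add_comm _ 1,
      ← two_smul F, smul_smul, mul_assoc, inv_mul_cancel₀ h2, mul_one]
  have hmem' : ∀ a : A, (2 : F)⁻¹ • (1 + (((a : N) : GL ι F) : Matrix ι ι F)) ∈ alg (A.map N.subtype) :=
    fun a => Subalgebra.smul_mem _ (add_mem (one_mem _) (hmem a)) _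
  obtain ⟨t, e, ht, he, hm, hprim⟩ := exists_idemFam (alg (A.map N.subtype)).toSubring N
    (adjoin_comm (by
      rintro _ ⟨_, ⟨x, hx, rfl⟩, rfl⟩ _ ⟨_, ⟨y, hy, rfl⟩, rfl⟩
      exact congrArg (fun x : A => (((x : N) : GL ι F) : Matrix ι ι F))
        (hA.is_comm.comm ⟨x, hx⟩ ⟨y, hy⟩)))
    (fun h hh => conj_mem_adjoin (by
      rintro _ ⟨_, ⟨x, hx, rfl⟩, rfl⟩
      obtain ⟨c, hc⟩ := conj_eq_smul_of_comm hc hh x.2
      exact hc ▸ Subalgebra.smul_mem _ (hmem ⟨x, hx⟩) c))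
    (irr_of_alg_top htop) (hmem' a) (hidem a)
    (fun h0 => ha (mem_scalars'.mpr ⟨-1, by
      rw [neg_one_smul]
      exact eq_neg_of_add_eq_zero_right ((smul_eq_zero.mp h0).resolve_left (inv_ne_zero h2))⟩))
    (fun h0 => ha (mem_scalars'.mpr ⟨1, by
      have := congrArg ((2 : F) • ·) h0
      simp only [smul_smul, mul_inv_cancel₀ h2, one_smul, two_smul] at this
      rw [one_smul]
      exact add_left_cancel this⟩))
  refine ⟨t, e, ht, he, hm, ?_⟩
  have hli := linearIndependent_of_cosets htop hc (fun q : A ⧸ S => ((q.out : N) : GL ι F))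
    (fun q => (q.out : N).2) (fun q q' hq => by
      rw [← q.out_eq, ← q'.out_eq]
      exact QuotientGroup.eq.mpr hq)
  haveI := Fintype.ofFinite (A ⧸ S)
  have h5 := linearIndependent_le_span_aux' _ hli (Set.range e) (by
    rintro _ ⟨q, rfl⟩
    have h6 : ∀ i, e i * (((q.out : N) : GL ι F) : Matrix ι ι F) ∈ Submodule.span F (Set.range e) := by
      intro i
      have h7 : e i ∈ Submodule.span F (Set.range e) := Submodule.subset_span ⟨i, rfl⟩
      have h8 : e i * (((q.out : N) : GL ι F) : Matrix ι ι F) = (2 : F) • (e i * ((2 : F)⁻¹ •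
          (1 + (((q.out : N) : GL ι F) : Matrix ι ι F)))) - e i := by
        rw [Matrix.mul_smul, smul_smul, mul_inv_cancel₀ h2, one_smul, mul_add, mul_one,
          add_sub_cancel_left]
      rw [h8]
      rcases hprim i _ (hmem' q.out) (hidem q.out) with h9 | h9 <;> rw [h9]
      · exact sub_mem (Submodule.smul_mem _ _ (zero_mem _)) h7
      · exact sub_mem (Submodule.smul_mem _ _ h7) h7
    change (((q.out : N) : GL ι F) : Matrix ι ι F) ∈ Submodule.span F (Set.range e)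
    rw [← one_mul (((q.out : N) : GL ι F) : Matrix ι ι F), ← he.sum, Finset.sum_mul]
    exact Submodule.sum_mem _ fun i _ => h6 i)
  have h6 := (Fintype.card_range_le e).trans_eq (Fintype.card_fin t)
  rw [Subgroup.card_eq_card_quotient_mul_card_subgroup S, Nat.card_eq_fintype_card, mul_comm]
  exact Nat.mul_le_mul hS (h5.trans h6)

theorem isOfMinusType_of_alt [Finite F] [Nonempty ι] {N : Subgroup (GL ι F)} (htop : alg N = ⊤)
    (hc : ⁅N, N⁆ ≤ scalars ι F) (h2 : (2 : F) ≠ 0) {G : Matrix ι ι F}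
    (hG : Herm (RingHom.id F) (-1) G) (hN : ∀ x ∈ N, IsSim (RingHom.id F) G 1 (x : Matrix ι ι F))
    {k : ℕ} (hk : 1 ≤ k) (hcard : Fintype.card ι = 2 ^ k) : IsOfMinusType k N := by
  intro A hA hA2
  have h1 : 2 ^ 1 ≤ 2 ^ k := Nat.pow_le_pow_right two_pos hk
  rw [pow_succ]
  rcases card_le_of_elemAb htop hc h2 A hA hA2 with h | ⟨t, e, ht, he, hm, h⟩
  · omega
  obtain ⟨m, hm'⟩ := he.nondeg_decomp hG ht fun i => selfAdj_adjoin (by
      rintro _ ⟨_, ⟨x, hx, rfl⟩, rfl⟩ _ ⟨_, ⟨y, hy, rfl⟩, rfl⟩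
      exact congrArg (fun x : A => (((x : N) : GL ι F) : Matrix ι ι F))
        (hA.is_comm.comm ⟨x, hx⟩ ⟨y, hy⟩)) (by
      rintro _ ⟨_, ⟨x, hx, rfl⟩, rfl⟩
      have := (hN x x.2).isAdj_inv
      rwa [show (x : GL ι F)⁻¹ = x from inv_eq_of_mul_eq_one_right (congrArg Subtype.val (hA2 x hx))]
        at this) _ (hm i)
  have h3 := card_eq_of_isMDecomposition hm'.decomp
  have h4 := even_finrank_of_alt hG (fun v _ => hG.alt_of_two_ne h2 v) (hm'.nondegenerate ⟨0, by omega⟩)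
  rw [hm'.decomp.finrank_eq] at h4
  have h5 := hm'.decomp.pos
  obtain ⟨j, rfl⟩ := h4
  have : t * 2 ≤ t * (j + j) := Nat.mul_le_mul_left _ (by omega)
  omega

/-! ### characteristic two -/

theorem exists_sqrt_field [Finite F] [Nonempty ι] (h2 : (2 : F) = 0) {r : ℕ}
    {K : Subalgebra F (Matrix ι ι F)} (hK : IsFieldSubalgebra r K) {y : Matrix ι ι F} (hy : y ∈ K) :
    ∃ c ∈ K, c * c = y ∧ ∀ d ∈ K, d * d = y → d = c := by
  letI := (IsFieldSubalgebra.isField hK).toField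
  have h3 : (2 : K) = 0 := by rw [← map_ofNat (algebraMap F K), h2, map_zero]
  have hinj : Function.Injective fun x : K => x * x := fun a b hab => by
    have : (a - b) * (a - b) = 0 := by
      simp only at hab
      linear_combination hab + (b * b - a * b) * h3
    exact sub_eq_zero.mp (mul_self_eq_zero.mp this)
  obtain ⟨c, hc⟩ := Finite.injective_iff_surjective.mp hinj ⟨y, hy⟩
  exact ⟨c, c.2, congrArg Subtype.val hc, fun d hd hdy =>
    congrArg Subtype.val (hinj (a₁ := ⟨d, hd⟩) (a₂ := c) (hc ▸ Subtype.ext hdy))⟩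

theorem exists_sqrt_selfAdj [Finite F] [Nonempty ι] (h2 : (2 : F) = 0) {ε : F} {G : Matrix ι ι F}
    (hG : Herm σ ε G) {r : ℕ} {K : Subalgebra F (Matrix ι ι F)} (hK : IsFieldSubalgebra r K)
    (hadj : ∀ x ∈ K, ∃ y ∈ K, IsAdj σ G x y) {y : Matrix ι ι F} (hy : y ∈ K) (hy' : IsAdj σ G y y) :
    ∃ c ∈ K, c * c = y ∧ IsAdj σ G c c := by
  obtain ⟨c, hc, hcc, hu⟩ := exists_sqrt_field h2 hK hy
  obtain ⟨d, hd, hcd⟩ := hadj c hc
  have := hcd.mul hcd
  rw [hcc] at this
  exact ⟨c, hc, hcc, hu d hd (this.unique hG.det_ne hy') ▸ hcd⟩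

theorem alt_of_selfAdj_field [Finite F] [Nonempty ι] {ε : F} {G : Matrix ι ι F}
    (hG : Herm (RingHom.id F) ε G) (halt : ∀ v, gf (RingHom.id F) G v v = 0) {r : ℕ}
    {K : Subalgebra F (Matrix ι ι F)} (hK : IsFieldSubalgebra r K)
    (hadj : ∀ x ∈ K, ∃ y ∈ K, IsAdj (RingHom.id F) G x y) {y : Matrix ι ι F} (hy : y ∈ K)
    (hy' : IsAdj (RingHom.id F) G y y) (v : ι → F) : gf (RingHom.id F) G (y *ᵥ v) v = 0 := by
  by_cases h2 : (2 : F) = 0
  · obtain ⟨c, -, rfl, hc⟩ := exists_sqrt_selfAdj h2 hG hK hadj hy hy'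
    rw [← mulVec_mulVec, isAdj_iff.mp hc, halt]
  · have h3 := halt (y *ᵥ v + v)
    rw [gf_add_left, gf_add_right, gf_add_right, halt, halt, ← isAdj_iff.mp hy'] at h3
    apply mul_left_cancel₀ h2
    linear_combination h3

theorem exists_u_field [Finite F] [Nonempty ι] (h2 : (2 : F) = 0) {ε : F} {G : Matrix ι ι F}
    (hG : Herm σ ε G) {r : ℕ} {K : Subalgebra F (Matrix ι ι F)} (hK : IsFieldSubalgebra r K)
    (hadj : ∀ x ∈ K, ∃ y ∈ K, IsAdj σ G x y) (hns : ¬ ∀ x ∈ K, IsAdj σ G x x) :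
    ∃ u ∈ K, IsAdj σ G u (1 - u) := by
  push Not at hns
  obtain ⟨a, ha, ha'⟩ := hns
  obtain ⟨b, hb, hab⟩ := hadj a ha
  have h1 : IsAdj σ G (a - b) (a - b) := by
    have := hab.sub (hG.isAdj_symm hab)
    rwa [show b - a = a - b by
      have : (2 : F) • (a - b) = 0 := by rw [h2, zero_smul]
      rw [two_smul] at this
      rw [← add_zero (b - a), ← this]; abel] at this
  obtain ⟨s, hs, hs'⟩ := hK.inv (a - b) (K.sub_mem ha hb) fun h0 => ha' (by rwa [← sub_eq_zero.mp h0] at hab)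
  obtain ⟨s', hs2, hss⟩ := hadj s hs
  have h3 := h1.mul hss
  rw [hs'] at h3
  have h4 : s' = s := by
    rw [← mul_one s', ← hs', ← mul_assoc, ← (isAdj_one G).unique hG.det_ne h3, one_mul]
  subst h4
  refine ⟨a * s', K.mul_mem ha hs, ?_⟩
  have h5 := hab.mul hss
  have h6 : (2 : F) • (b * s') = 0 := by rw [h2, zero_smul]
  rw [two_smul] at h6
  rwa [hK.comm _ hs _ hb, show b * s' = 1 - a * s' by
    rw [← hs', sub_mul, ← add_zero (a * s' - b * s' - a * s'), ← h6]; abel] at h5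

end CL.Asch
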