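import Cfsg.Agent.CLAS.AschAlg

/-!
Sesquilinear forms given by Gram matrices, adjoints, uniqueness of invariant forms and
tensor structures of forms.
-/

set_option autoImplicit false

namespace CL.Asch

open Matrix Cfsg.Geo
open scoped Kronecker MatrixGroups

variable {F : Type*} [Field F] {ι κ μ : Type} [Fintype ι] [DecidableEq ι] [Fintype κ] [DecidableEq κ]
  [Fintype μ] [DecidableEq μ] {σ : F →+* F}

/-- the sesquilinear form with Gram matrix `G` -/
def gf (σ : F →+* F) (G : Matrix ι ι F) (u v : ι → F) : F := u ⬝ᵥ (G *ᵥ (σ ∘ v))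

theorem gf_eq_sum (G : Matrix ι ι F) (u v : ι → F) :
    gf σ G u v = ∑ a, ∑ b, u a * G a b * σ (v b) := by
  simp only [gf, dotProduct, mulVec, Finset.mul_sum, Function.comp_apply, mul_assoc]

theorem formOfGram_eq (G : Matrix κ κ F) : formOfGram σ G = gf σ G := by
  funext u v; rw [gf_eq_sum]; rfl

theorem gf_single (G : Matrix ι ι F) (a b : ι) : gf σ G (Pi.single a 1) (Pi.single b 1) = G a b := by
  rw [gf_eq_sum, Finset.sum_eq_single a, Finset.sum_eq_single b] <;> simp +contextual [Pi.single_apply]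

theorem gramMatrix_gf (G : Matrix ι ι F) : gramMatrix (gf σ G) = G := by
  ext a b; exact gf_single G a b

theorem gf_inj {G G' : Matrix ι ι F} (h : ∀ u v, gf σ G u v = gf σ G' u v) : G = G' := by
  ext a b; rw [← gf_single (σ := σ) G a b, h, gf_single]

theorem comp_mulVec (x : Matrix ι ι F) (v : ι → F) : σ ∘ (x *ᵥ v) = x.map σ *ᵥ (σ ∘ v) := by
  funext i; exact RingHom.map_mulVec σ x v i

theorem gf_mulVec_left (G x : Matrix ι ι F) (u v : ι → F) :
    gf σ G (x *ᵥ u) v = gf σ (xᵀ * G) u v := by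
  rw [gf, gf, ← mulVec_mulVec, dotProduct_mulVec u, vecMul_transpose]

theorem gf_mulVec_right (G y : Matrix ι ι F) (u v : ι → F) :
    gf σ G u (y *ᵥ v) = gf σ (G * y.map σ) u v := by
  rw [gf, gf, comp_mulVec, mulVec_mulVec]

theorem gf_mulVec (G x : Matrix ι ι F) (u v : ι → F) :
    gf σ G (x *ᵥ u) (x *ᵥ v) = gf σ (xᵀ * G * x.map σ) u v := by
  rw [gf_mulVec_left, gf_mulVec_right]

theorem gf_smul_gram (c : F) (G : Matrix ι ι F) (u v : ι → F) : gf σ (c • G) u v = c * gf σ G u v := by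
  rw [gf, gf, smul_mulVec, dotProduct_smul, smul_eq_mul]

theorem gf_add_left (G : Matrix ι ι F) (u u' v : ι → F) :
    gf σ G (u + u') v = gf σ G u v + gf σ G u' v := add_dotProduct _ _ _

theorem gf_sub_left (G : Matrix ι ι F) (u u' v : ι → F) :
    gf σ G (u - u') v = gf σ G u v - gf σ G u' v := sub_dotProduct _ _ _

theorem gf_smul_left (G : Matrix ι ι F) (c : F) (u v : ι → F) :
    gf σ G (c • u) v = c * gf σ G u v := smul_dotProduct _ _ _

theorem gf_add_right (G : Matrix ι ι F) (u v v' : ι → F) :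
    gf σ G u (v + v') = gf σ G u v + gf σ G u v' := by
  simp only [gf_eq_sum, Pi.add_apply, map_add, mul_add, Finset.sum_add_distrib]

theorem gf_sub_right (G : Matrix ι ι F) (u v v' : ι → F) :
    gf σ G u (v - v') = gf σ G u v - gf σ G u v' := by
  simp only [gf_eq_sum, Pi.sub_apply, map_sub, mul_sub, Finset.sum_sub_distrib]

theorem gf_smul_right (G : Matrix ι ι F) (c : F) (u v : ι → F) :
    gf σ G u (c • v) = σ c * gf σ G u v := by
  simp only [gf_eq_sum, Pi.smul_apply, smul_eq_mul, map_mul, Finset.mul_sum]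
  exact Finset.sum_congr rfl fun a _ => Finset.sum_congr rfl fun b _ => by ring

theorem gf_zero_left (G : Matrix ι ι F) (v : ι → F) : gf σ G 0 v = 0 := zero_dotProduct _

theorem gf_zero_right (G : Matrix ι ι F) (u : ι → F) : gf σ G u 0 = 0 := by
  simp [gf_eq_sum]

theorem gf_neg_left (G : Matrix ι ι F) (u v : ι → F) : gf σ G (-u) v = - gf σ G u v :=
  neg_dotProduct _ _

theorem gf_neg_right (G : Matrix ι ι F) (u v : ι → F) : gf σ G u (-v) = - gf σ G u v := by
  simp [gf_eq_sum]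

theorem gf_sum_left {α : Type*} (s : Finset α) (G : Matrix ι ι F) (u : α → ι → F) (v : ι → F) :
    gf σ G (∑ i ∈ s, u i) v = ∑ i ∈ s, gf σ G (u i) v := sum_dotProduct _ _ _

theorem gf_swap (hσ : ∀ a, σ (σ a) = a) (G : Matrix ι ι F) (u v : ι → F) :
    σ (gf σ G u v) = gf σ (G.map σ)ᵀ v u := by
  simp only [gf_eq_sum, map_sum, map_mul, hσ, transpose_apply, map_apply]
  rw [Finset.sum_comm]
  exact Finset.sum_congr rfl fun a _ => Finset.sum_congr rfl fun b _ => by ring

theorem eq_gf_of_semilinear {f : (ι → F) → (ι → F) → F}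
    (h1 : ∀ x y v, f (x + y) v = f x v + f y v) (h2 : ∀ (c : F) x v, f (c • x) v = c * f x v)
    (h3 : ∀ v x y, f v (x + y) = f v x + f v y) (h4 : ∀ (c : F) v x, f v (c • x) = σ c * f v x) :
    f = gf σ (gramMatrix f) := by
  funext u v
  let L : (ι → F) →ₗ[F] (ι → F) →ₛₗ[σ] F := LinearMap.mk₂'ₛₗ (RingHom.id F) σ f h1 h2 h3
    (fun c x y => h4 c x y)
  have hL : ∀ u v, L u v = f u v := fun _ _ => rfl
  rw [gf_eq_sum, ← hL]
  conv_lhs => rw [pi_eq_sum_univ' u, pi_eq_sum_univ' v]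
  simp only [map_sum, LinearMap.sum_apply, map_smul, LinearMap.smul_apply, map_smulₛₗ, hL, smul_eq_mul,
    Finset.mul_sum]
  rw [Finset.sum_comm]
  refine Finset.sum_congr rfl fun a _ => Finset.sum_congr rfl fun b _ => ?_
  simp only [gramMatrix]
  ring

theorem IsBilinearForm.eq_gf {f : (ι → F) → (ι → F) → F} (h : IsBilinearForm f) :
    f = gf (RingHom.id F) (gramMatrix f) :=
  eq_gf_of_semilinear h.add_left h.smul_left h.add_right h.smul_right

theorem isBilinearForm_gf (G : Matrix ι ι F) : IsBilinearForm (gf (RingHom.id F) G) :=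
  ⟨gf_add_left G, gf_smul_left G, gf_add_right G, fun c v x => gf_smul_right G c v x⟩

theorem det_ne_zero_of_gf {G : Matrix ι ι F} (hσ : Function.Surjective σ)
    (h : ∀ v, v ≠ 0 → ∃ x, gf σ G x v ≠ 0) : G.det ≠ 0 := by
  intro h0
  obtain ⟨w, hw, hGw⟩ := Matrix.exists_mulVec_eq_zero_iff.mpr h0
  choose v hv using fun i => hσ (w i)
  have : σ ∘ v = w := funext hv
  obtain ⟨x, hx⟩ := h v (by rintro rfl; apply hw; rw [← this]; funext i; simp)
  apply hx
  rw [gf, this, hGw, dotProduct_zero]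

theorem eq_zero_of_gf_right {G : Matrix ι ι F} (hG : G.det ≠ 0) {v : ι → F}
    (h : ∀ x, gf σ G x v = 0) : v = 0 := by
  have h1 : G *ᵥ (σ ∘ v) = 0 := dotProduct_eq_zero _ (fun x => by rw [dotProduct_comm]; exact h x)
  have h2 := eq_zero_of_mulVec_eq_zero hG h1
  funext i
  exact σ.injective (by rw [Pi.zero_apply, map_zero]; exact congrFun h2 i)

theorem eq_zero_of_gf_left {G : Matrix ι ι F} (hσ : Function.Surjective σ) (hG : G.det ≠ 0)
    {v : ι → F} (h : ∀ x, gf σ G v x = 0) : v = 0 := by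
  apply eq_zero_of_vecMul_eq_zero hG
  apply dotProduct_eq_zero
  intro w
  choose x hx using fun i => hσ (w i)
  have : σ ∘ x = w := funext hx
  rw [← dotProduct_mulVec, ← this]
  exact h x

theorem isNondegenerateForm_gf {G : Matrix ι ι F} (hσ : Function.Surjective σ) (hG : G.det ≠ 0) :
    IsNondegenerateForm (gf σ G) := by
  intro v hv
  constructor
  · by_contra h; push Not at h; exact hv (eq_zero_of_gf_right hG h)
  · by_contra h; push Not at h; exact hv (eq_zero_of_gf_left hσ hG h)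

theorem surj_of_invol (hσ : ∀ a, σ (σ a) = a) : Function.Surjective σ := fun a => ⟨σ a, hσ a⟩

/-! ### adjoints -/

/-- `y` is the adjoint of `x` -/
def IsAdj (σ : F →+* F) (G x y : Matrix ι ι F) : Prop := xᵀ * G = G * y.map σ

theorem isAdj_iff {G x y : Matrix ι ι F} :
    IsAdj σ G x y ↔ ∀ u v, gf σ G (x *ᵥ u) v = gf σ G u (y *ᵥ v) := by
  simp only [gf_mulVec_left, gf_mulVec_right]
  exact ⟨fun h u v => by rw [h], gf_inj⟩

theorem IsAdj.mul {G x y x' y' : Matrix ι ι F} (h : IsAdj σ G x y) (h' : IsAdj σ G x' y') :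
    IsAdj σ G (x * x') (y' * y) := by
  unfold IsAdj at *
  rw [transpose_mul, mul_assoc, h, ← mul_assoc, h', mul_assoc, Matrix.map_mul]

theorem IsAdj.add {G x y x' y' : Matrix ι ι F} (h : IsAdj σ G x y) (h' : IsAdj σ G x' y') :
    IsAdj σ G (x + x') (y + y') := by
  unfold IsAdj at *
  rw [transpose_add, add_mul, h, h', Matrix.map_add _ (map_add σ), mul_add]

theorem IsAdj.neg {G x y : Matrix ι ι F} (h : IsAdj σ G x y) : IsAdj σ G (-x) (-y) := by
  unfold IsAdj at *
  rw [transpose_neg, neg_mul, h, Matrix.map_neg _ (map_neg σ), mul_neg]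

theorem IsAdj.sub {G x y x' y' : Matrix ι ι F} (h : IsAdj σ G x y) (h' : IsAdj σ G x' y') :
    IsAdj σ G (x - x') (y - y') := by
  rw [sub_eq_add_neg, sub_eq_add_neg]; exact h.add h'.neg

theorem map_smul_eq (c : F) (y : Matrix ι κ F) : (c • y).map σ = σ c • y.map σ := by
  ext a b; simp

theorem IsAdj.smul (hσ : ∀ a, σ (σ a) = a) {G x y : Matrix ι ι F} (h : IsAdj σ G x y) (c : F) :
    IsAdj σ G (c • x) (σ c • y) := by
  unfold IsAdj at *
  rw [transpose_smul, Matrix.smul_mul, h, map_smul_eq, hσ, Matrix.mul_smul]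

theorem isAdj_one (G : Matrix ι ι F) : IsAdj σ G 1 1 := by
  unfold IsAdj
  rw [transpose_one, Matrix.map_one _ (map_zero σ) (map_one σ), one_mul, mul_one]

theorem isAdj_zero (G : Matrix ι ι F) : IsAdj σ G 0 0 := by
  unfold IsAdj
  rw [transpose_zero, Matrix.map_zero _ (map_zero σ), zero_mul, mul_zero]

theorem IsAdj.smul_gram {G x y : Matrix ι ι F} (h : IsAdj σ G x y) (c : F) : IsAdj σ (c • G) x y := by
  unfold IsAdj at *
  rw [Matrix.mul_smul, h, Matrix.smul_mul]

theorem map_inj_of {x y : Matrix ι κ F} (h : x.map σ = y.map σ) : x = y :=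
  Matrix.map_injective σ.injective h

theorem map_map_invol (hσ : ∀ a, σ (σ a) = a) (x : Matrix ι κ F) : (x.map σ).map σ = x := by
  ext a b; simp [hσ]

theorem IsAdj.unique {G x y y' : Matrix ι ι F} (hG : G.det ≠ 0) (h : IsAdj σ G x y)
    (h' : IsAdj σ G x y') : y = y' := by
  apply map_inj_of (σ := σ)
  have hu : IsUnit G := (isUnit_iff_isUnit_det G).mpr hG.isUnit
  exact hu.mul_left_cancel (h.symm.trans h')

theorem exists_isAdj (hσ : ∀ a, σ (σ a) = a) {G : Matrix ι ι F} (hG : G.det ≠ 0) (x : Matrix ι ι F) :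
    ∃ y, IsAdj σ G x y :=
  ⟨(G⁻¹ * xᵀ * G).map σ, by
    rw [IsAdj, map_map_invol hσ, ← mul_assoc, ← mul_assoc, mul_nonsing_inv _ hG.isUnit, one_mul]⟩

/-- `g` is a similarity with multiplier `c` -/
def IsSim (σ : F →+* F) (G : Matrix ι ι F) (c : F) (g : Matrix ι ι F) : Prop :=
  gᵀ * G * g.map σ = c • G

theorem isSim_iff {G g : Matrix ι ι F} {c : F} :
    IsSim σ G c g ↔ ∀ u v, gf σ G (g *ᵥ u) (g *ᵥ v) = c * gf σ G u v := by
  simp only [gf_mulVec, ← gf_smul_gram]
  exact ⟨fun h u v => by rw [h], gf_inj⟩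

theorem isSim_one_iff {G g : Matrix ι ι F} :
    IsSim σ G 1 g ↔ ∀ u v, gf σ G (g *ᵥ u) (g *ᵥ v) = gf σ G u v := by
  simp only [isSim_iff, one_mul]

theorem IsSim.ne_zero [Nonempty ι] {G : Matrix ι ι F} {c : F} {g : GL ι F} (hG : G.det ≠ 0)
    (h : IsSim σ G c g) : c ≠ 0 := by
  rintro rfl
  have := congrArg det h
  rw [zero_smul, det_zero, det_mul, det_mul, det_transpose, ← RingHom.mapMatrix_apply,
    ← RingHom.map_det] at this
  have hg : (g : Matrix ι ι F).det ≠ 0 := g.det_ne_zero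
  simp [hg, hG] at this

theorem mem_similarityGroup [Nonempty ι] {G : Matrix ι ι F} (hG : G.det ≠ 0) {g : GL ι F} :
    g ∈ similarityGroup (gf σ G) ↔ ∃ c, IsSim σ G c g := by
  constructor
  · rintro ⟨c, hc⟩
    exact ⟨c, isSim_iff.mpr hc⟩
  · rintro ⟨c, hc⟩
    exact ⟨Units.mk0 c (hc.ne_zero hG), isSim_iff.mp hc⟩

theorem IsSim.isAdj_inv {G : Matrix ι ι F} {g : GL ι F} (h : IsSim σ G 1 g) :
    IsAdj σ G g ((g⁻¹ : GL ι F) : Matrix ι ι F) := by
  rw [isAdj_iff]
  intro u v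
  rw [← isSim_one_iff.mp h u, mulVec_inv_mulVec]

theorem IsSim.of_isAdj_inv {G : Matrix ι ι F} {g : GL ι F}
    (h : IsAdj σ G g ((g⁻¹ : GL ι F) : Matrix ι ι F)) : IsSim σ G 1 g := by
  rw [isSim_one_iff]
  intro u v
  rw [isAdj_iff.mp h, inv_mulVec_mulVec]

theorem IsAdj.conj {G x y : Matrix ι ι F} {g : GL ι F} {c : F} (h : IsAdj σ G x y)
    (hg : IsSim σ G c g) : IsAdj σ G (conjAlgHom g x) (conjAlgHom g y) := by
  rw [isAdj_iff] at h ⊢
  intro u v
  rw [← mulVec_inv_mulVec g u, ← mulVec_inv_mulVec g v, conj_mulVec, conj_mulVec,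
    isSim_iff.mp hg, isSim_iff.mp hg, h]

theorem isAdj_pull {G x y : Matrix ι ι F} {g : GL ι F}
    (h : IsAdj σ G (conjAlgHom g x) (conjAlgHom g y)) :
    IsAdj σ ((g : Matrix ι ι F)ᵀ * G * (g : Matrix ι ι F).map σ) x y := by
  rw [isAdj_iff] at h ⊢
  intro u v
  rw [← gf_mulVec, ← gf_mulVec, ← conj_mulVec, ← conj_mulVec, h]

/-- forms with the same adjoints on a set with trivial centraliser are proportional -/
theorem exists_smul_of_isAdj {G G' : Matrix ι ι F} (hG : G.det ≠ 0) (S : Set (Matrix ι ι F))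
    (hS : ∀ z : Matrix ι ι F, (∀ x ∈ S, z * x = x * z) → ∃ c : F, z = c • (1 : Matrix ι ι F))
    (h : ∀ x ∈ S, ∃ y, IsAdj σ G x y ∧ IsAdj σ G' x y) : ∃ c : F, G' = c • G := by
  obtain ⟨c, hc⟩ := hS (G' * G⁻¹)ᵀ (fun x hx => by
    obtain ⟨y, h1, h2⟩ := h x hx
    unfold IsAdj at h1 h2
    rw [← transpose_transpose x, ← transpose_mul, ← transpose_mul, transpose_inj, ← mul_assoc, h2,
      mul_assoc, mul_assoc]
    congr 1
    rw [← one_mul (y.map σ * G⁻¹), ← nonsing_inv_mul G hG.isUnit, mul_assoc, ← mul_assoc G, ← h1,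
      mul_assoc, mul_nonsing_inv G hG.isUnit, mul_one])
  refine ⟨c, ?_⟩
  have := congrArg transpose hc
  rw [transpose_transpose, transpose_smul, transpose_one] at this
  rw [← mul_one G', ← nonsing_inv_mul G hG.isUnit, ← mul_assoc, this, Matrix.smul_mul, one_mul]

theorem scalar_of_commute_univ (z : Matrix ι ι F)
    (h : ∀ x ∈ (Set.univ : Set (Matrix ι ι F)), z * x = x * z) : ∃ c : F, z = c • (1 : Matrix ι ι F) :=
  exists_smul_one_of_commute fun _ _ => h _ trivial

/-- A non-degenerate `ε`-hermitian Gram matrix. -/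
structure Herm (σ : F →+* F) (ε : F) (G : Matrix ι ι F) : Prop where
  invol : ∀ a, σ (σ a) = a
  det_ne : G.det ≠ 0
  herm : (G.map σ)ᵀ = ε • G
  eps : ε = 1 ∨ (ε = -1 ∧ ∀ a, σ a = a)

theorem Herm.swap {ε : F} {G : Matrix ι ι F} (h : Herm σ ε G) (u v : ι → F) :
    σ (gf σ G u v) = ε * gf σ G v u := by
  rw [gf_swap h.invol, h.herm, gf_smul_gram]

theorem Herm.eps_sq {ε : F} {G : Matrix ι ι F} (h : Herm σ ε G) : ε * ε = 1 := by
  rcases h.eps with h | ⟨h, -⟩ <;> simp [h]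

theorem Herm.eps_ne {ε : F} {G : Matrix ι ι F} (h : Herm σ ε G) : ε ≠ 0 :=
  left_ne_zero_of_mul_eq_one h.eps_sq

theorem Herm.map_eps {ε : F} {G : Matrix ι ι F} (h : Herm σ ε G) : σ ε = ε := by
  rcases h.eps with h | ⟨h, -⟩ <;> simp [h]

theorem Herm.swap' {ε : F} {G : Matrix ι ι F} (h : Herm σ ε G) (u v : ι → F) :
    gf σ G u v = ε * σ (gf σ G v u) := by
  rw [h.swap, ← mul_assoc, h.eps_sq, one_mul]

theorem Herm.eq_zero_symm {ε : F} {G : Matrix ι ι F} (h : Herm σ ε G) {u v : ι → F}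
    (huv : gf σ G u v = 0) : gf σ G v u = 0 := by
  rw [h.swap', huv, map_zero, mul_zero]

theorem Herm.surj {ε : F} {G : Matrix ι ι F} (h : Herm σ ε G) : Function.Surjective σ :=
  surj_of_invol h.invol

theorem Herm.nondeg {ε : F} {G : Matrix ι ι F} (h : Herm σ ε G) : IsNondegenerateForm (gf σ G) :=
  isNondegenerateForm_gf h.surj h.det_ne

theorem isAdj_star (hσ : ∀ a, σ (σ a) = a) {G x y : Matrix ι ι F} (h : IsAdj σ G x y) :
    IsAdj σ (G.map σ)ᵀ y x := by
  rw [isAdj_iff] at h ⊢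
  intro u v
  rw [← gf_swap hσ, ← gf_swap hσ, h]

theorem Herm.isAdj_symm {ε : F} {G x y : Matrix ι ι F} (hG : Herm σ ε G) (h : IsAdj σ G x y) :
    IsAdj σ G y x := by
  have := (isAdj_star hG.invol h).smul_gram ε
  rwa [hG.herm, smul_smul, hG.eps_sq, one_smul] at this

theorem exists_herm_of_star [Nonempty ι] (hσ : ∀ a, σ (σ a) = a) {G : Matrix ι ι F} (hG : G.det ≠ 0)
    {m : F} (h : (G.map σ)ᵀ = m • G) : ∃ c ε : F, c ≠ 0 ∧ Herm σ ε (c • G) := by
  have hG0 : G ≠ 0 := by rintro rfl; exact hG det_zero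
  have hm : σ m * m = 1 := by
    have h2 := congrArg (fun x : Matrix ι ι F => (x.map σ)ᵀ) h
    simp only [← transpose_map, transpose_transpose, map_map_invol hσ, map_smul_eq] at h2
    rw [transpose_smul, ← transpose_map, transpose_map, h, smul_smul] at h2
    by_contra hne
    apply hG0
    have : (σ m * m - 1) • G = 0 := by rw [sub_smul, ← h2, one_smul, sub_self]
    exact (smul_eq_zero.mp this).resolve_left (sub_ne_zero.mpr hne)
  by_cases h1 : ∃ a, a + σ a * m ≠ 0
  · obtain ⟨a, ha⟩ := h1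
    refine ⟨a + σ a * m, 1, ha, hσ, ?_, ?_, Or.inl rfl⟩
    · rw [det_smul]; exact mul_ne_zero (pow_ne_zero _ ha) hG
    · rw [map_smul_eq, transpose_smul, h, smul_smul, one_smul, map_add, map_mul, hσ, add_mul,
        mul_assoc, hm, mul_one, add_comm]
  · push Not at h1
    have hm1 : m = -1 := by have := h1 1; rw [map_one, one_mul] at this; linear_combination this
    refine ⟨1, -1, one_ne_zero, hσ, by rwa [one_smul], by rw [one_smul, h, hm1],
      Or.inr ⟨rfl, fun a => ?_⟩⟩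
    have := h1 a
    rw [hm1] at this
    linear_combination -this

/-- A form restricted to an adjoint-closed matrix subalgebra comes from a form. -/
theorem exists_herm_of_range [Nonempty ι] [Nonempty κ] {ε : F} {G : Matrix ι ι F} (hG : Herm σ ε G)
    (φ : Matrix κ κ F →ₐ[F] Matrix ι ι F) (hφ : ∀ x, ∃ y, IsAdj σ G (φ x) (φ y)) :
    ∃ (ε₁ : F) (G₁ : Matrix κ κ F), Herm σ ε₁ G₁ ∧ ∀ x y, IsAdj σ G₁ x y ↔ IsAdj σ G (φ x) (φ y) := by
  choose θ hθ using hφ
  have hinj := algHom_injective φ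
  have huniq : ∀ x y, IsAdj σ G (φ x) (φ y) → θ x = y := fun x y h =>
    hinj ((hθ x).unique hG.det_ne h)
  let ψ : Matrix κ κ F →ₐ[F] Matrix κ κ F :=
    { toFun := fun x => ((θ x).map σ)ᵀ
      map_one' := by
        rw [huniq 1 1 (by rw [map_one]; exact isAdj_one G),
          Matrix.map_one _ (map_zero σ) (map_one σ), transpose_one]
      map_mul' := fun x y => by
        rw [huniq (x * y) (θ y * θ x) (by rw [map_mul, map_mul]; exact (hθ x).mul (hθ y)),
          Matrix.map_mul, transpose_mul]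
      map_zero' := by
        rw [huniq 0 0 (by rw [map_zero]; exact isAdj_zero G), Matrix.map_zero _ (map_zero σ),
          transpose_zero]
      map_add' := fun x y => by
        rw [huniq (x + y) (θ x + θ y) (by rw [map_add, map_add]; exact (hθ x).add (hθ y)),
          Matrix.map_add _ (map_add σ), transpose_add]
      commutes' := fun c => by
        rw [Algebra.algebraMap_eq_smul_one, huniq (c • 1) (σ c • 1) (by
          rw [map_smul, map_smul, map_one]; exact (isAdj_one G).smul hG.invol c), map_smul_eq,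
          hG.invol, Matrix.map_one _ (map_zero σ) (map_one σ), transpose_smul, transpose_one] }
  obtain ⟨P, hP⟩ := exists_conj_algHom ψ (AlgHom.id F _)
  have hdet : (P : Matrix κ κ F)ᵀ.det ≠ 0 := by rw [det_transpose]; exact P.det_ne_zero
  have h1 : ∀ x, IsAdj σ (P : Matrix κ κ F)ᵀ x (θ x) := by
    intro x
    have h2 : ((θ x).map σ)ᵀ = P * x * ((P⁻¹ : GL κ F) : Matrix κ κ F) := hP x
    rw [Units.eq_mul_inv_iff_mul_eq] at h2
    rw [IsAdj, ← transpose_mul, ← h2, transpose_mul, transpose_transpose]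
  obtain ⟨m, hm⟩ := exists_smul_of_isAdj (σ := σ) (G' := (((P : Matrix κ κ F)ᵀ).map σ)ᵀ) hdet
    Set.univ scalar_of_commute_univ (fun x _ => ⟨θ x, h1 x, by
      have := isAdj_star hG.invol (h1 (θ x))
      rwa [huniq _ _ (hG.isAdj_symm (hθ x))] at this⟩)
  obtain ⟨c, ε₁, hc, hH⟩ := exists_herm_of_star hG.invol hdet hm
  refine ⟨ε₁, _, hH, fun x y => ⟨fun h => ?_, fun h => ?_⟩⟩
  · rw [h.unique hH.det_ne ((h1 x).smul_gram c)]; exact hθ x
  · rw [← huniq x y h]; exact (h1 x).smul_gram c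

theorem exists_isSim_of_conj [Nonempty κ] {ε₁ : F} {G : Matrix ι ι F} {G₁ : Matrix κ κ F}
    (hG₁ : Herm σ ε₁ G₁) {φ : Matrix κ κ F →ₐ[F] Matrix ι ι F}
    (hφ : ∀ x y, IsAdj σ G₁ x y ↔ IsAdj σ G (φ x) (φ y)) {g : GL ι F} {c : F} (hg : IsSim σ G c g)
    {a : GL κ F} (ha : ∀ x, conjAlgHom g (φ x) = φ (conjAlgHom a x)) : ∃ c₁, IsSim σ G₁ c₁ a := by
  refine exists_smul_of_isAdj (σ := σ) hG₁.det_ne Set.univ scalar_of_commute_univ (fun x _ => ?_)
  obtain ⟨y, hy⟩ := exists_isAdj hG₁.invol hG₁.det_ne x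
  refine ⟨y, hy, isAdj_pull ((hφ _ _).mpr ?_)⟩
  rw [← ha, ← ha]
  exact ((hφ _ _).mp hy).conj hg

/-- a group normalising an absolutely irreducible group of isometries acts by similarities -/
theorem exists_isSim_of_normalizes {G : Matrix ι ι F} (hG : G.det ≠ 0) {N : Subgroup (GL ι F)}
    (hN : ∀ z : Matrix ι ι F, (∀ x ∈ N, z * x = x * z) → ∃ c : F, z = c • (1 : Matrix ι ι F))
    (hNG : ∀ x ∈ N, IsSim σ G 1 (x : Matrix ι ι F)) {h : GL ι F} (hh : ∀ x ∈ N, h * x * h⁻¹ ∈ N) :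
    ∃ c, IsSim σ G c h := by
  refine exists_smul_of_isAdj (σ := σ) hG (matrixSet N)
    (fun z hz => hN z fun x hx => hz _ ⟨x, hx, rfl⟩) ?_
  rintro _ ⟨x, hx, rfl⟩
  refine ⟨_, (hNG x hx).isAdj_inv, isAdj_pull ?_⟩
  have := (hNG _ (hh x hx)).isAdj_inv
  rw [conjAlgHom_coe, conjAlgHom_coe]
  convert this using 2
  group

theorem exists_smul_of_fixes {G G' : Matrix ι ι F} (hG : G.det ≠ 0) {N : Subgroup (GL ι F)}
    (hN : ∀ z : Matrix ι ι F, (∀ x ∈ N, z * x = x * z) → ∃ c : F, z = c • (1 : Matrix ι ι F))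
    (hNG : ∀ x ∈ N, IsSim σ G 1 (x : Matrix ι ι F)) (hNG' : ∀ x ∈ N, IsSim σ G' 1 (x : Matrix ι ι F)) :
    ∃ c : F, G' = c • G := by
  refine exists_smul_of_isAdj (σ := σ) hG (matrixSet N)
    (fun z hz => hN z fun x hx => hz _ ⟨x, hx, rfl⟩) ?_
  rintro _ ⟨x, hx, rfl⟩
  exact ⟨_, (hNG x hx).isAdj_inv, (hNG' x hx).isAdj_inv⟩

theorem IsSim.star (hσ : ∀ a, σ (σ a) = a) {G g : Matrix ι ι F} (h : IsSim σ G 1 g) :
    IsSim σ (G.map σ)ᵀ 1 g := by
  rw [isSim_one_iff] at h ⊢
  intro u v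
  rw [← gf_swap hσ, ← gf_swap hσ, h]

theorem IsSim.smul_gram {G g : Matrix ι ι F} {c : F} (h : IsSim σ G c g) (d : F) :
    IsSim σ (d • G) c g := by
  unfold IsSim at *
  rw [Matrix.mul_smul, Matrix.smul_mul, h, smul_comm]

/-- an invariant non-degenerate form of an absolutely irreducible group is reflexive -/
theorem exists_herm_of_fixes [Nonempty ι] (hσ : ∀ a, σ (σ a) = a) {G : Matrix ι ι F} (hG : G.det ≠ 0)
    {N : Subgroup (GL ι F)}
    (hN : ∀ z : Matrix ι ι F, (∀ x ∈ N, z * x = x * z) → ∃ c : F, z = c • (1 : Matrix ι ι F))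
    (hNG : ∀ x ∈ N, IsSim σ G 1 (x : Matrix ι ι F)) :
    ∃ (ε : F) (G' : Matrix ι ι F), Herm σ ε G' ∧ ∀ x ∈ N, IsSim σ G' 1 (x : Matrix ι ι F) := by
  obtain ⟨m, hm⟩ := exists_smul_of_fixes hG hN hNG (fun x hx => (hNG x hx).star hσ)
  obtain ⟨c, ε, -, hH⟩ := exists_herm_of_star hσ hG hm
  exact ⟨ε, _, hH, fun x hx => (hNG x hx).smul_gram c⟩

theorem det_ne_zero_of_irr (hσ : Function.Surjective σ) {G : Matrix ι ι F} (hG : G ≠ 0)
    {N : Subgroup (GL ι F)} (hN : Irr N) (hNG : ∀ x ∈ N, IsSim σ G 1 (x : Matrix ι ι F)) :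
    G.det ≠ 0 := by
  let W : Submodule F (ι → F) :=
    { carrier := {v | ∀ u, gf σ G u v = 0}
      add_mem' := fun {a b} ha hb u => by rw [gf_add_right, ha u, hb u, add_zero]
      zero_mem' := fun u => gf_zero_right G u
      smul_mem' := fun c v hv u => by rw [gf_smul_right, hv u, mul_zero] }
  rcases hN W (fun h hh v hv u => by
    rw [← mulVec_inv_mulVec h u, isSim_one_iff.mp (hNG h hh), hv]) with h | h
  · apply det_ne_zero_of_gf hσ
    intro v hv
    by_contra hc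
    push Not at hc
    have : v ∈ W := hc
    rw [h] at this
    exact hv this
  · exfalso
    apply hG
    apply gf_inj (σ := σ)
    intro u v
    have : v ∈ W := by rw [h]; trivial
    rw [this u]; simp [gf]

theorem even_card_of_alt {G : Matrix ι ι F} (hG : G.det ≠ 0) (h1 : Gᵀ = -G) (h2 : ∀ a, G a a = 0) :
    Even (Fintype.card ι) := by
  classical
  by_contra hodd
  rw [Nat.not_even_iff_odd] at hodd
  let e := Fintype.equivFin ι
  let X : Matrix ι ι (MvPolynomial (ι × ι) ℤ) := Matrix.of fun a b =>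
    if e a < e b then MvPolynomial.X (a, b) else if e b < e a then - MvPolynomial.X (b, a) else 0
  have hX : Xᵀ = -X := by
    ext1 a b
    simp only [X, transpose_apply, of_apply, Matrix.neg_apply]
    rcases lt_trichotomy (e a) (e b) with h | h | h
    · simp [h, not_lt.mpr h.le]
    · simp [h]
    · simp [h, not_lt.mpr h.le]
  have hdet : X.det = 0 := by
    have := det_transpose X
    rw [hX, det_neg, hodd.neg_one_pow] at this
    have h3 : (2 : MvPolynomial (ι × ι) ℤ) * X.det = 0 := by linear_combination -this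
    exact (mul_eq_zero.mp h3).resolve_left two_ne_zero
  let ev : MvPolynomial (ι × ι) ℤ →+* F := MvPolynomial.eval₂Hom (Int.castRingHom F) (fun p => G p.1 p.2)
  have : ev.mapMatrix X = G := by
    ext a b
    simp only [X, RingHom.mapMatrix_apply, map_apply, of_apply]
    rcases lt_trichotomy (e a) (e b) with h | h | h
    · simp [h, ev]
    · obtain rfl := e.injective h; simp [h2]
    · have := congrFun (congrFun h1 a) b
      simp only [transpose_apply, Matrix.neg_apply] at this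
      simp [h, not_lt.mpr h.le, ev, this]
  apply hG
  rw [← this, ← RingHom.map_det, hdet, map_zero]

end CL.Asch
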