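import Cfsg.Agent.CLAS.AschForm

/-!
The group-theoretic core of Aschbacher's theorem.
-/

set_option autoImplicit false

namespace CL.Asch

open Matrix Cfsg.Geo
open scoped Kronecker MatrixGroups commutatorElement

variable {F : Type*} [Field F] {ι : Type} [Fintype ι] [DecidableEq ι]

/-- the enveloping algebra -/
def alg (N : Subgroup (GL ι F)) : Subalgebra F (Matrix ι ι F) := Algebra.adjoin F (matrixSet N)

/-- the enveloping ring -/
def rclos (N : Subgroup (GL ι F)) : Subring (Matrix ι ι F) := Subring.closure (matrixSet N)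

/-- `H` normalises `N` -/
def NormBy (H N : Subgroup (GL ι F)) : Prop := ∀ h ∈ H, ∀ x ∈ N, h * x * h⁻¹ ∈ N

theorem mem_alg {N : Subgroup (GL ι F)} {x : GL ι F} (hx : x ∈ N) : (x : Matrix ι ι F) ∈ alg N :=
  Algebra.subset_adjoin ⟨x, hx, rfl⟩

theorem mem_rclos {N : Subgroup (GL ι F)} {x : GL ι F} (hx : x ∈ N) : (x : Matrix ι ι F) ∈ rclos N :=
  Subring.subset_closure ⟨x, hx, rfl⟩

theorem alg_le {N : Subgroup (GL ι F)} {A : Subalgebra F (Matrix ι ι F)}
    (h : ∀ x ∈ N, (x : Matrix ι ι F) ∈ A) : alg N ≤ A := by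
  apply Algebra.adjoin_le
  rintro _ ⟨x, hx, rfl⟩
  exact h x hx

theorem rclos_le {N : Subgroup (GL ι F)} {A : Subring (Matrix ι ι F)}
    (h : ∀ x ∈ N, (x : Matrix ι ι F) ∈ A) : rclos N ≤ A := by
  apply Subring.closure_le.mpr
  rintro _ ⟨x, hx, rfl⟩
  exact h x hx

theorem closure_matrixSet (N : Subgroup (GL ι F)) :
    (Submonoid.closure (matrixSet N) : Set (Matrix ι ι F)) = matrixSet N := by
  have : matrixSet N = (N.toSubmonoid.map (Units.coeHom (Matrix ι ι F)) : Submonoid _) := rfl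
  rw [this, Submonoid.closure_eq]

theorem alg_le_submodule {N : Subgroup (GL ι F)} {W : Submodule F (Matrix ι ι F)}
    (h : ∀ x ∈ N, (x : Matrix ι ι F) ∈ W) : ∀ y ∈ alg N, y ∈ W := by
  intro y hy
  have : y ∈ Subalgebra.toSubmodule (alg N) := hy
  rw [alg, Algebra.adjoin_eq_span, closure_matrixSet] at this
  refine Submodule.span_le.mpr ?_ this
  rintro _ ⟨x, hx, rfl⟩
  exact h x hx

theorem rclos_le_addSubgroup {N : Subgroup (GL ι F)} {W : AddSubgroup (Matrix ι ι F)}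
    (h : ∀ x ∈ N, (x : Matrix ι ι F) ∈ W) : ∀ y ∈ rclos N, y ∈ W := by
  intro y hy
  rw [rclos, Subring.mem_closure_iff, closure_matrixSet] at hy
  refine (AddSubgroup.closure_le W).mpr ?_ hy
  rintro _ ⟨x, hx, rfl⟩
  exact h x hx

theorem conj_mem_alg {N N' : Subgroup (GL ι F)} {h : GL ι F} (hh : ∀ x ∈ N, h * x * h⁻¹ ∈ N') :
    ∀ y ∈ alg N, conjAlgHom h y ∈ alg N' := fun _ hy =>
  alg_le (A := (alg N').comap (conjAlgHom h)) (fun x hx => mem_alg (hh x hx)) hy

theorem conj_mem_rclos {N N' : Subgroup (GL ι F)} {h : GL ι F} (hh : ∀ x ∈ N, h * x * h⁻¹ ∈ N') :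
    ∀ y ∈ rclos N, conjAlgHom h y ∈ rclos N' := fun _ hy =>
  rclos_le (A := (rclos N').comap (conjAlgHom h : Matrix ι ι F →+* Matrix ι ι F))
    (fun x hx => mem_rclos (hh x hx)) hy

theorem commute_alg {N : Subgroup (GL ι F)} {z : Matrix ι ι F} (hz : ∀ x ∈ N, z * x = x * z) :
    ∀ y ∈ alg N, z * y = y * z := fun y hy =>
  (Subalgebra.mem_centralizer_iff F).mp
    (alg_le (A := Subalgebra.centralizer F {z}) (fun x hx => (Subalgebra.mem_centralizer_iff F).mpr
      (fun w hw => by obtain rfl : w = z := hw; exact hz x hx)) hy) z rfl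

theorem scalar_of_alg_top {N : Subgroup (GL ι F)} (hN : alg N = ⊤) (z : Matrix ι ι F)
    (hz : ∀ x ∈ N, z * x = x * z) : ∃ c : F, z = c • (1 : Matrix ι ι F) :=
  scalar_of_commute_univ z fun y _ => commute_alg hz y (by rw [hN]; trivial)

theorem mulVec_mem_of_alg {N : Subgroup (GL ι F)} {W : Submodule F (ι → F)}
    (hW : ∀ h ∈ N, ∀ v ∈ W, (h : Matrix ι ι F) *ᵥ v ∈ W) : ∀ y ∈ alg N, ∀ v ∈ W, y *ᵥ v ∈ W := by
  intro y hy v hv
  let L : Matrix ι ι F →ₗ[F] (ι → F) :=
    { toFun := fun x => x *ᵥ v, map_add' := fun x y => add_mulVec x y v,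
      map_smul' := fun c x => smul_mulVec c x v }
  exact alg_le_submodule (W := W.comap L) (fun x hx => hW x hx v hv) y hy

theorem eq_bot_or_top_of_all (W : Submodule F (ι → F)) (hW : ∀ y : Matrix ι ι F, ∀ v ∈ W, y *ᵥ v ∈ W) :
    W = ⊥ ∨ W = ⊤ := by
  by_cases h : W = ⊥
  · exact Or.inl h
  right
  obtain ⟨v, hv, hv0⟩ := Submodule.exists_mem_ne_zero_of_ne_bot h
  obtain ⟨i, hi⟩ := Function.ne_iff.mp hv0
  rw [eq_top_iff]
  intro w _
  have := hW (vecMulVec w (Pi.single i (v i)⁻¹)) v hv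
  rwa [vecMulVec_mulVec, single_dotProduct, inv_mul_cancel₀ hi, MulOpposite.op_one, one_smul] at this

theorem irr_of_alg_top {N : Subgroup (GL ι F)} (hN : alg N = ⊤) : Irr N := fun W hW =>
  eq_bot_or_top_of_all W fun y => mulVec_mem_of_alg hW y (by rw [hN]; trivial)

theorem absIrr_of_alg_top {N : Subgroup (GL ι F)} (hN : alg N = ⊤) :
    ActsAbsolutelyIrreducibly (matrixSet N) :=
  ⟨(irr_iff N).mp (irr_of_alg_top hN), fun M hM =>
    scalar_of_alg_top hN M fun x hx => hM _ ⟨x, hx, rfl⟩⟩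

theorem Irr.mono {H K : Subgroup (GL ι F)} (h : Irr H) (hle : H ≤ K) : Irr K :=
  fun W hW => h W fun g hg => hW g (hle hg)

theorem isAdj_alg {σ : F →+* F} (hσ : ∀ a, σ (σ a) = a) {G : Matrix ι ι F} {N : Subgroup (GL ι F)}
    (hN : ∀ x ∈ N, IsSim σ G 1 (x : Matrix ι ι F)) : ∀ y ∈ alg N, ∃ y' ∈ alg N, IsAdj σ G y y' := by
  let W : Submodule F (Matrix ι ι F) :=
    { carrier := {y | ∃ y' ∈ alg N, IsAdj σ G y y'}
      add_mem' := by
        rintro a b ⟨a', ha', ha⟩ ⟨b', hb', hb⟩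
        exact ⟨a' + b', add_mem ha' hb', ha.add hb⟩
      zero_mem' := ⟨0, zero_mem _, isAdj_zero G⟩
      smul_mem' := by
        rintro c a ⟨a', ha', ha⟩
        exact ⟨σ c • a', Subalgebra.smul_mem _ ha' _, ha.smul hσ c⟩ }
  exact alg_le_submodule (W := W) fun x hx => ⟨_, mem_alg (inv_mem hx), (hN x hx).isAdj_inv⟩

theorem isAdj_rclos {σ : F →+* F} {G : Matrix ι ι F} {N : Subgroup (GL ι F)}
    (hN : ∀ x ∈ N, IsSim σ G 1 (x : Matrix ι ι F)) : ∀ y ∈ rclos N, ∃ y' ∈ rclos N, IsAdj σ G y y' := by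
  let W : AddSubgroup (Matrix ι ι F) :=
    { carrier := {y | ∃ y' ∈ rclos N, IsAdj σ G y y'}
      add_mem' := by
        rintro a b ⟨a', ha', ha⟩ ⟨b', hb', hb⟩
        exact ⟨a' + b', add_mem ha' hb', ha.add hb⟩
      zero_mem' := ⟨0, zero_mem _, isAdj_zero G⟩
      neg_mem' := by
        rintro a ⟨a', ha', ha⟩
        exact ⟨-a', neg_mem ha', ha.neg⟩ }
  exact rclos_le_addSubgroup (W := W) fun x hx => ⟨_, mem_rclos (inv_mem hx), (hN x hx).isAdj_inv⟩

theorem mem_scalars' [Nonempty ι] {g : GL ι F} :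
    g ∈ scalars ι F ↔ ∃ c : F, (g : Matrix ι ι F) = c • (1 : Matrix ι ι F) := by
  rw [mem_scalars_iff]
  constructor
  · rintro ⟨c, hc⟩; exact ⟨c, hc⟩
  · rintro ⟨c, hc⟩
    refine ⟨Units.mk0 c ?_, hc⟩
    rintro rfl
    rw [zero_smul] at hc
    exact g.ne_zero hc

theorem scalars_comm {z : GL ι F} (hz : z ∈ scalars ι F) (g : GL ι F) : z * g = g * z := by
  obtain ⟨c, hc⟩ := (mem_scalars_iff z).mp hz
  apply Units.ext
  rw [Units.val_mul, Units.val_mul, hc, Matrix.smul_mul, Matrix.mul_smul, one_mul, mul_one]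

theorem isCyclic_scalars [Finite F] : IsCyclic (scalars ι F) :=
  isCyclic_of_surjective _ (MonoidHom.rangeRestrict_surjective _)

theorem nonempty_of_two_le (hn : 2 ≤ Fintype.card ι) : Nonempty ι :=
  Fintype.card_pos_iff.mp (by omega)

theorem not_forall_comm (hn : 2 ≤ Fintype.card ι) :
    ¬ ∀ x y : Matrix ι ι F, x * y = y * x := by
  intro h
  obtain ⟨a, b, hab⟩ := Fintype.exists_pair_of_one_lt_card hn
  have := congrFun (congrFun (h (single a a 1) (single a b 1)) a) b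
  rw [single_mul_single_same, single_mul_single_of_ne _ _ _ _ (Ne.symm hab)] at this
  simp at this

theorem not_comm_of_alg_top (hn : 2 ≤ Fintype.card ι) {N : Subgroup (GL ι F)} (hN : alg N = ⊤) :
    ¬ ∀ x ∈ N, ∀ y ∈ N, x * y = y * x := by
  intro h
  apply not_forall_comm (F := F) hn
  intro x y
  refine commute_alg (N := N) (fun g hg => ?_) y (by rw [hN]; trivial)
  refine (commute_alg (N := N) (fun g' hg' => ?_) x (by rw [hN]; trivial)).symm
  exact congrArg Units.val (h g hg g' hg')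

theorem not_le_scalars_of_irr (hn : 2 ≤ Fintype.card ι) {H : Subgroup (GL ι F)} (hH : Irr H) :
    ¬ H ≤ scalars ι F := by
  intro hle
  obtain ⟨a, b, hab⟩ := Fintype.exists_pair_of_one_lt_card hn
  rcases hH (LinearMap.ker (LinearMap.proj a)) (fun h hh v hv => by
    obtain ⟨c, hc⟩ := (mem_scalars_iff h).mp (hle hh)
    rw [hc, smul_mulVec, one_mulVec]
    exact Submodule.smul_mem _ _ hv) with h | h
  · have : (Pi.single b 1 : ι → F) ∈ LinearMap.ker (LinearMap.proj (R := F) (φ := fun _ => F) a) := by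
      simp [Pi.single_eq_of_ne hab]
    rw [h, Submodule.mem_bot] at this
    simpa using congrFun this b
  · have : (Pi.single a 1 : ι → F) ∈ LinearMap.ker (LinearMap.proj (R := F) (φ := fun _ => F) a) := by
      rw [h]; trivial
    simp at this

theorem commute_of_perfect {L : Subgroup (GL ι F)} (hL : ⁅L, L⁆ = L) {y : GL ι F}
    (h : ∀ x ∈ L, y * x * y⁻¹ * x⁻¹ ∈ scalars ι F) : ∀ x ∈ L, y * x = x * y := by
  have : ⁅L, L⁆ ≤ Subgroup.centralizer {y} := by
    rw [Subgroup.commutator_le]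
    intro a ha b hb
    rw [Subgroup.mem_centralizer_iff]
    rintro w rfl
    have h1 := scalars_comm (h a ha)
    have h2 := scalars_comm (h b hb)
    set z := w * a * w⁻¹ * a⁻¹ with hz
    set z' := w * b * w⁻¹ * b⁻¹ with hz'
    have e1 : w * a * w⁻¹ = z * a := by rw [hz]; group
    have e2 : w * b * w⁻¹ = z' * b := by rw [hz']; group
    have : w * ⁅a, b⁆ * w⁻¹ = ⁅a, b⁆ := by
      calc w * ⁅a, b⁆ * w⁻¹
          = (w * a * w⁻¹) * (w * b * w⁻¹) * (w * a * w⁻¹)⁻¹ * (w * b * w⁻¹)⁻¹ := by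
            rw [commutatorElement_def]; group
        _ = z * (a * z' * b * a⁻¹) * z⁻¹ * b⁻¹ * z'⁻¹ := by rw [e1, e2]; group
        _ = z' * (a * b * a⁻¹ * b⁻¹) * z'⁻¹ := by rw [h1, ← h2 a]; group
        _ = ⁅a, b⁆ := by rw [h2, commutatorElement_def]; group
    rw [mul_inv_eq_iff_eq_mul] at this
    exact this
  intro x hx
  rw [hL] at this
  exact Subgroup.mem_centralizer_iff.mp (this hx) y rfl

theorem NormBy.commutator {H N : Subgroup (GL ι F)} (h : NormBy H N) : NormBy H ⁅N, N⁆ := by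
  intro g hg x hx
  have : ⁅N, N⁆ ≤ ⁅N, N⁆.comap (MulAut.conj g).toMonoidHom := by
    rw [Subgroup.commutator_le]
    intro a ha b hb
    rw [Subgroup.mem_comap, map_commutatorElement]
    exact Subgroup.commutator_mem_commutator (h g hg a ha) (h g hg b hb)
  exact this hx

theorem commutator_le_self' (N : Subgroup (GL ι F)) : ⁅N, N⁆ ≤ N := by
  rw [Subgroup.commutator_le]
  intro a ha b hb
  exact N.mul_mem (N.mul_mem (N.mul_mem ha hb) (N.inv_mem ha)) (N.inv_mem hb)

theorem normBy_self (N : Subgroup (GL ι F)) : NormBy N N := fun _ hh _ hx =>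
  N.mul_mem (N.mul_mem hh hx) (N.inv_mem hh)

theorem NormBy.mono {H K N : Subgroup (GL ι F)} (h : NormBy H N) (hle : K ≤ H) : NormBy K N :=
  fun g hg => h g (hle hg)

theorem NormBy.le_normalizer {H N : Subgroup (GL ι F)} (h : NormBy H N) :
    H ≤ subgroupNormalizer N := by
  intro g hg
  rw [subgroupNormalizer, Subgroup.mem_set_normalizer_iff]
  intro x
  refine ⟨h g hg x, fun hx => ?_⟩
  have := h g⁻¹ (inv_mem hg) _ hx
  simpa [mul_assoc] using this

theorem exists_minimal_nonscalar [Finite F] (H N : Subgroup (GL ι F)) (hN : NormBy H N)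
    (hns : ¬ N ≤ scalars ι F) : ∃ L ≤ N, NormBy H L ∧ ¬ L ≤ scalars ι F ∧
      ∀ M ≤ L, NormBy H M → M ≤ scalars ι F ∨ M = L := by
  obtain ⟨L, ⟨h1, h2, h3⟩, hmin⟩ := (Set.toFinite
    {L : Subgroup (GL ι F) | L ≤ N ∧ NormBy H L ∧ ¬ L ≤ scalars ι F}).exists_minimal
    ⟨N, le_rfl, hN, hns⟩
  refine ⟨L, h1, h2, h3, fun M hM hM' => ?_⟩
  by_cases hs : M ≤ scalars ι F
  · exact Or.inl hs
  · exact Or.inr (le_antisymm hM (hmin ⟨hM.trans h1, hM', hs⟩ hM))

theorem algHom_fin_one (φ : Matrix (Fin 1) (Fin 1) F →ₐ[F] Matrix ι ι F) (y : Matrix (Fin 1) (Fin 1) F) :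
    φ y = y 0 0 • (1 : Matrix ι ι F) := by
  have : y = y 0 0 • (1 : Matrix (Fin 1) (Fin 1) F) := by
    ext a b
    simp [Subsingleton.elim a 0, Subsingleton.elim b 0]
  conv_lhs => rw [this]
  rw [map_smul, map_one]

/-- data of the tensor-induced case -/
structure TensorInd (H : Subgroup (GL ι F)) {m t : ℕ}
    (φ : Fin t → (Matrix (Fin m) (Fin m) F →ₐ[F] Matrix ι ι F)) : Prop where
  two_le_t : 2 ≤ t
  two_le_m : 2 ≤ m
  comm : ∀ i j, i ≠ j → ∀ x y, φ i x * φ j y = φ j y * φ i x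
  card : Fintype.card ι = m ^ t
  perm : ∀ h ∈ H, ∃ σ : Equiv.Perm (Fin t), ∀ i x, ∃ y, conjAlgHom h (φ i x) = φ (σ i) y
  conj : ∀ i j, ∃ h ∈ H, ∀ x, φ j x = conjAlgHom h (φ i x)
  perf : ∀ i, ∃ L ≤ H, ⁅L, L⁆ = L ∧ (φ i).range = alg L

/-- conjugate subgroup -/
def cj (h : GL ι F) (L : Subgroup (GL ι F)) : Subgroup (GL ι F) := L.map (MulAut.conj h).toMonoidHom

theorem mem_cj {h x : GL ι F} {L : Subgroup (GL ι F)} : x ∈ cj h L ↔ h⁻¹ * x * h ∈ L := by
  constructor
  · rintro ⟨y, hy, rfl⟩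
    simpa [mul_assoc] using hy
  · intro hx
    exact ⟨_, hx, by simp [mul_assoc]⟩

theorem cj_cj (h k : GL ι F) (L : Subgroup (GL ι F)) : cj h (cj k L) = cj (h * k) L := by
  ext x; simp only [mem_cj, _root_.mul_inv_rev, mul_assoc]

theorem cj_one (L : Subgroup (GL ι F)) : cj 1 L = L := by
  ext x; simp [mem_cj]

theorem cj_injective (h : GL ι F) : Function.Injective (cj h) := fun L M hLM => by
  rw [← cj_one L, ← cj_one M, ← inv_mul_cancel h, ← cj_cj, ← cj_cj, hLM]

theorem conj_mem_cj {h x : GL ι F} {L : Subgroup (GL ι F)} (hx : x ∈ L) : h * x * h⁻¹ ∈ cj h L :=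
  ⟨x, hx, rfl⟩

theorem cj_le_scalars {h : GL ι F} {L : Subgroup (GL ι F)} : cj h L ≤ scalars ι F ↔ L ≤ scalars ι F := by
  constructor
  · intro hle x hx
    exact (scalars_normal.mem_comm_iff.mp (hle (conj_mem_cj hx))) |> fun h' => by simpa using h'
  · rintro hle _ ⟨x, hx, rfl⟩
    exact scalars_normal.conj_mem x (hle hx) h

theorem alg_cj (h : GL ι F) (L : Subgroup (GL ι F)) : alg (cj h L) = (alg L).map (conjAlgHom h) := by
  apply le_antisymm
  · apply alg_le
    rintro _ ⟨x, hx, rfl⟩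
    exact ⟨x, mem_alg hx, rfl⟩
  · rintro _ ⟨y, hy, rfl⟩
    exact conj_mem_alg (fun x hx => conj_mem_cj hx) y hy

theorem exists_tensorInd [Finite F] [Nonempty ι] {H N L : Subgroup (GL ι F)} (hNH : N ≤ H)
    (hN : NormBy H N) (htop : alg N = ⊤) (hperf : ⁅N, N⁆ = N) (hns : ¬ N ≤ scalars ι F)
    (hmin : ∀ M ≤ N, NormBy H M → M ≤ scalars ι F ∨ M = N)
    (hLN : L ≤ N) (hL : NormBy N L) (hLns : ¬ L ≤ scalars ι F)
    (hLmin : ∀ M ≤ L, NormBy N M → M ≤ scalars ι F ∨ M = L) (hne : L ≠ N) :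
    ∃ (m t : ℕ) (φ : Fin t → (Matrix (Fin m) (Fin m) F →ₐ[F] Matrix ι ι F)), TensorInd H φ := by
  classical
  let O : Set (Subgroup (GL ι F)) := {M | ∃ h ∈ H, cj h L = M}
  have hnorm : ∀ h ∈ H, ∀ M, NormBy N M → NormBy N (cj h M) := by
    intro h hh M hM g hg x hx
    rw [mem_cj] at hx ⊢
    have := hM _ (hN h⁻¹ (inv_mem hh) g hg) _ hx
    simpa [mul_assoc] using this
  have hOle : ∀ M ∈ O, M ≤ N := by
    rintro _ ⟨h, hh, rfl⟩ _ ⟨x, hx, rfl⟩
    exact hN h hh x (hLN hx)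
  have hOnorm : ∀ M ∈ O, NormBy N M := by
    rintro _ ⟨h, hh, rfl⟩
    exact hnorm h hh L hL
  have hOmin : ∀ M ∈ O, ∀ K ≤ M, NormBy N K → K ≤ scalars ι F ∨ K = M := by
    rintro _ ⟨h, hh, rfl⟩ K hK hK'
    rcases hLmin (cj h⁻¹ K) (fun x hx => by
      have := hK (mem_cj.mp hx)
      rw [mem_cj] at this
      simpa [mul_assoc] using this) (hnorm _ (inv_mem hh) K hK') with h1 | h1
    · exact Or.inl (cj_le_scalars.mp h1)
    · right; rw [← h1, cj_cj, mul_inv_cancel, cj_one]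
  have hOns : ∀ M ∈ O, ¬ M ≤ scalars ι F := by
    rintro _ ⟨h, hh, rfl⟩
    rwa [cj_le_scalars]
  have hLO : L ∈ O := ⟨1, H.one_mem, cj_one L⟩
  have hOH : ∀ h ∈ H, ∀ M ∈ O, cj h M ∈ O := by
    rintro h hh _ ⟨k, hk, rfl⟩
    exact ⟨h * k, H.mul_mem hh hk, (cj_cj h k L).symm⟩
  have hsup : ∀ K : Subgroup (GL ι F), (∀ M ∈ O, M ≤ K) → N ≤ K := by
    have : sSup O = N := by
      rcases hmin (sSup O) (sSup_le hOle) (fun h hh x hx => by
        have : sSup O ≤ (sSup O).comap (MulAut.conj h).toMonoidHom :=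
          sSup_le fun M hM y hy => le_sSup (hOH h hh M hM) (conj_mem_cj hy)
        exact this hx) with h1 | h1
      · exact absurd ((le_sSup hLO).trans h1) hLns
      · exact h1
    intro K hK
    rw [← this]
    exact sSup_le hK
  have hcommsc : ∀ M ∈ O, ∀ M' ∈ O, M ≠ M' → ∀ x ∈ M, ∀ y ∈ M', x * y * x⁻¹ * y⁻¹ ∈ scalars ι F := by
    intro M hM M' hM' hne x hx y hy
    rcases hOmin M hM (M ⊓ M') inf_le_left (fun g hg z hz =>
      ⟨hOnorm M hM g hg z hz.1, hOnorm M' hM' g hg z hz.2⟩) with h1 | h1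
    · apply h1
      refine ⟨?_, M'.mul_mem (hOnorm M' hM' x (hOle M hM hx) y hy) (M'.inv_mem hy)⟩
      have := M.mul_mem hx (hOnorm M hM y (hOle M' hM' hy) _ (M.inv_mem hx))
      simpa [mul_assoc] using this
    · rcases hOmin M' hM' M (inf_eq_left.mp h1) (hOnorm M hM) with h2 | h2
      · exact absurd h2 (hOns M hM)
      · exact absurd h2 hne
  have hLperf : ⁅L, L⁆ = L := by
    rcases hLmin _ (commutator_le_self' L) hL.commutator with h1 | h1
    swap
    · exact h1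
    exfalso
    let π := QuotientGroup.mk' (scalars ι F)
    have hπ : ∀ x y : GL ι F, x * y * x⁻¹ * y⁻¹ ∈ scalars ι F ↔ π x * π y = π y * π x := by
      intro x y
      rw [← commutatorElement_eq_one_iff_mul_comm, ← map_commutatorElement]
      exact (QuotientGroup.eq_one_iff _).symm
    have h2 : ∀ M ∈ O, ∀ M' ∈ O, ∀ x ∈ M, ∀ y ∈ M', π x * π y = π y * π x := by
      intro M hM M' hM' x hx y hy
      rw [← hπ]
      by_cases he : M = M'
      · subst he
        obtain ⟨h, hh, rfl⟩ := hM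
        obtain ⟨a, ha, rfl⟩ := hx
        obtain ⟨b, hb, rfl⟩ := hy
        rw [← commutatorElement_def, ← map_commutatorElement]
        exact scalars_normal.conj_mem _ (h1 (Subgroup.commutator_mem_commutator ha hb)) h
      · exact hcommsc M hM M' hM' he x hx y hy
    have h3 : ∀ x ∈ N, ∀ y ∈ N, π x * π y = π y * π x := by
      intro x hx y hy
      refine Subgroup.mem_centralizer_iff.mp (hsup ((Subgroup.centralizer {π x}).comap π) ?_ hy) _ rfl
      intro M' hM' b hb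
      rw [Subgroup.mem_comap, Subgroup.mem_centralizer_iff]
      rintro _ rfl
      refine (Subgroup.mem_centralizer_iff.mp
        (hsup ((Subgroup.centralizer {π b}).comap π) ?_ hx) _ rfl).symm
      intro M hM a ha
      rw [Subgroup.mem_comap, Subgroup.mem_centralizer_iff]
      rintro _ rfl
      exact h2 M' hM' M hM b hb a ha
    apply hns
    rw [← hperf, Subgroup.commutator_le]
    intro a ha b hb
    exact (hπ a b).mpr (h3 a ha b hb)
  have hOperf : ∀ M ∈ O, ⁅M, M⁆ = M := by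
    rintro _ ⟨h, hh, rfl⟩
    rw [cj, ← Subgroup.map_commutator, hLperf]
  have hcomm : ∀ M ∈ O, ∀ M' ∈ O, M ≠ M' → ∀ x ∈ alg M, ∀ y ∈ alg M', x * y = y * x := by
    intro M hM M' hM' hne x hx
    refine commute_alg fun b hb => (commute_alg (fun a ha => ?_) x hx).symm
    exact congrArg Units.val (commute_of_perfect (hOperf M hM)
      (fun a ha => hcommsc M' hM' M hM hne.symm b hb a ha) a ha)
  obtain ⟨m, hm, φ₀, hφ₀⟩ := exists_algHom_range_eq (alg L) N
    (fun h hh => conj_mem_alg (hL h hh)) (fun W _ hW => irr_of_alg_top htop W hW) (fun z hz hz' => by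
      apply scalar_of_alg_top htop
      intro x hx
      have := hsup ((Submonoid.centralizer {z}).units) (fun M hM y hy => by
        rw [Submonoid.mem_units_iff]
        have key : ∀ y ∈ M, (y : Matrix ι ι F) ∈ Submonoid.centralizer {z} := by
          intro y hy
          rw [Submonoid.mem_centralizer_iff]
          rintro _ rfl
          by_cases he : M = L
          · subst he; exact hz' _ (mem_alg hy)
          · exact hcomm L hLO M hM (Ne.symm he) _ hz _ (mem_alg hy)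
        exact ⟨key y hy, key _ (M.inv_mem hy)⟩) hx
      exact Submonoid.mem_centralizer_iff.mp ((Submonoid.mem_units_iff _ _).mp this).1 z rfl)
  let ε : Fin (Nat.card O) ≃ O := (Finite.equivFin O).symm
  choose g hgH hg using fun i => (ε i).2
  have hrange : ∀ i, ((conjAlgHom (g i)).comp φ₀).range = alg (ε i) := fun i => by
    rw [AlgHom.range_comp, hφ₀, ← alg_cj, hg]
  have hmem : ∀ i x, ((conjAlgHom (g i)).comp φ₀) x ∈ alg (ε i : Subgroup (GL ι F)) := fun i x => by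
    rw [← hrange]; exact ⟨x, rfl⟩
  haveI : NeZero m := ⟨hm.ne'⟩
  have hc : ∀ i j, i ≠ j → ∀ x y, ((conjAlgHom (g i)).comp φ₀) x * ((conjAlgHom (g j)).comp φ₀) y =
      ((conjAlgHom (g j)).comp φ₀) y * ((conjAlgHom (g i)).comp φ₀) x := fun i j hij x y =>
    hcomm _ (ε i).2 _ (ε j).2 (fun h => hij (ε.injective (Subtype.ext h))) _ (hmem i x) _ (hmem j y)
  refine ⟨m, Nat.card O, fun i => (conjAlgHom (g i)).comp φ₀, ?_, ?_, hc, ?_, ?_, ?_, ?_⟩
  · by_contra hlt
    haveI : Subsingleton O := (Finite.card_le_one_iff_subsingleton).mp (by omega)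
    apply hne
    refine le_antisymm hLN (hsup L fun M hM => le_of_eq ?_)
    exact congrArg Subtype.val (Subsingleton.elim (⟨M, hM⟩ : O) ⟨L, hLO⟩)
  · by_contra hlt
    obtain rfl : m = 1 := by omega
    apply hLns
    intro x hx
    have : (x : Matrix ι ι F) ∈ φ₀.range := by rw [hφ₀]; exact mem_alg hx
    obtain ⟨y, hy⟩ := this
    refine mem_scalars'.mpr ⟨y 0 0, ?_⟩
    rw [← hy]
    exact algHom_fin_one φ₀ y
  · rw [card_eq_pow_of_adjoin _ hc, Fintype.card_fin]
    intro A hA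
    rw [eq_top_iff, ← htop]
    apply alg_le
    intro x hx
    have := hsup A.toSubmonoid.units (fun M hM y hy => by
      rw [Submonoid.mem_units_iff]
      have key : ∀ y ∈ M, (y : Matrix ι ι F) ∈ A := by
        intro y hy
        have h1 : (y : Matrix ι ι F) ∈ alg (ε (ε.symm ⟨M, hM⟩) : Subgroup (GL ι F)) := by
          rw [ε.apply_symm_apply]; exact mem_alg hy
        rw [← hrange] at h1
        obtain ⟨w, hw⟩ := h1
        rw [← hw]; exact hA _ w
      exact ⟨key y hy, key _ (M.inv_mem hy)⟩) hx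
    exact ((Submonoid.mem_units_iff _ _).mp this).1
  · intro h hh
    let s : Fin (Nat.card O) → Fin (Nat.card O) := fun i => ε.symm ⟨_, hOH h hh _ (ε i).2⟩
    have hs : ∀ i, (ε (s i) : Subgroup (GL ι F)) = cj h (ε i) := fun i =>
      congrArg Subtype.val (ε.apply_symm_apply _)
    have hinj : Function.Injective s := fun i j hij =>
      ε.injective (Subtype.ext (cj_injective h (by rw [← hs, ← hs, hij])))
    refine ⟨Equiv.ofBijective s (Finite.injective_iff_bijective.mp hinj), fun i x => ?_⟩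
    have : conjAlgHom h (((conjAlgHom (g i)).comp φ₀) x) ∈ ((conjAlgHom (g (s i))).comp φ₀).range := by
      rw [hrange, hs, alg_cj]; exact ⟨_, hmem i x, rfl⟩
    obtain ⟨y, hy⟩ := this
    exact ⟨y, hy.symm⟩
  · intro i j
    refine ⟨g j * (g i)⁻¹, H.mul_mem (hgH j) (H.inv_mem (hgH i)), fun x => ?_⟩
    rw [AlgHom.comp_apply, AlgHom.comp_apply, conjAlgHom_mul, conjAlgHom_inv_cancel]
  · intro i
    exact ⟨ε i, (hOle _ (ε i).2).trans hNH, hOperf _ (ε i).2, hrange i⟩

theorem isResidualCore_of [Nonempty ι] {H N : Subgroup (GL ι F)} (hNH : N ≤ H)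
    (hN : NormBy H N) (htop : alg N = ⊤) (hperf : ⁅N, N⁆ = N) (hns : ¬ N ≤ scalars ι F)
    (hmin : ∀ M ≤ N, NormBy N M → M ≤ scalars ι F ∨ M = N)
    (hsc : ∀ c : F, c • (1 : Matrix ι ι F) ∈ rclos N) : IsResidualCore H N := by
  refine ⟨hNH, hN, hperf, ?_, ?_, ?_, absIrr_of_alg_top htop, ?_⟩
  · haveI : Nontrivial (N ⧸ (scalars ι F).subgroupOf N) := by
      rw [QuotientGroup.nontrivial_iff]
      intro h
      exact hns (Subgroup.subgroupOf_eq_top.mp h)
    refine ⟨fun K hK => ?_⟩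
    let π := QuotientGroup.mk' ((scalars ι F).subgroupOf N)
    have hK' : (K.comap π).Normal := hK.comap π
    have hnb : NormBy N ((K.comap π).map N.subtype) := by
      intro g hg y hy
      obtain ⟨x, hx, rfl⟩ := Subgroup.mem_map.mp hy
      exact Subgroup.mem_map.mpr ⟨_, hK'.conj_mem x hx ⟨g, hg⟩, rfl⟩
    rcases hmin ((K.comap π).map N.subtype) (Subgroup.map_subtype_le _) hnb with h | h
    · left
      rw [eq_bot_iff]
      intro y hy
      obtain ⟨x, rfl⟩ := QuotientGroup.mk'_surjective _ y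
      exact (QuotientGroup.eq_one_iff x).mpr (h ⟨x, hy, rfl⟩)
    · right
      rw [eq_top_iff]
      intro y _
      obtain ⟨x, rfl⟩ := QuotientGroup.mk'_surjective _ y
      have : (x : GL ι F) ∈ (K.comap π).map N.subtype := by rw [h]; exact x.2
      obtain ⟨x', hx', he⟩ := this
      obtain rfl : x' = x := Subtype.ext he
      exact hx'
  · intro hc
    apply hns
    rw [← hperf, Subgroup.commutator_le]
    intro a ha b hb
    have : (⁅(⟨a, ha⟩ : N), (⟨b, hb⟩ : N)⁆ : N) ∈ (scalars ι F).subgroupOf N := by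
      rw [← QuotientGroup.ker_mk' ((scalars ι F).subgroupOf N), MonoidHom.mem_ker,
        map_commutatorElement, commutatorElement_eq_one_iff_mul_comm]
      exact hc.is_comm.comm _ _
    exact this
  · intro h _ hh
    exact mem_scalars'.mpr (scalar_of_alg_top htop _ fun x hx =>
      congrArg Units.val (commute_of_perfect hperf hh x hx))
  · rintro F₀ hF₀ ⟨B, hB⟩
    apply hF₀
    rw [eq_top_iff]
    intro c _
    let W : AddSubgroup (Matrix ι ι F) :=
      { carrier := {y | ∀ i j, conjAlgHom B y i j ∈ F₀}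
        add_mem' := fun {a b} ha hb i j => by rw [map_add]; exact F₀.add_mem (ha i j) (hb i j)
        zero_mem' := fun i j => by rw [map_zero]; exact F₀.zero_mem
        neg_mem' := fun {a} ha i j => by rw [map_neg]; exact F₀.neg_mem (ha i j) }
    obtain ⟨i⟩ := ‹Nonempty ι›
    have := rclos_le_addSubgroup (W := W) (fun x hx => hB _ ⟨x, hx, rfl⟩) _ (hsc c) i i
    rw [map_smul, map_one] at this
    simpa using this

/-- data of the symplectic-type case -/
structure Nil2 (H N : Subgroup (GL ι F)) : Prop where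
  le : N ≤ H
  norm : NormBy H N
  top : alg N = ⊤
  scal : ∀ c : F, c • (1 : Matrix ι ι F) ∈ rclos N
  comm : ⁅N, N⁆ ≤ scalars ι F
  min : ∀ M ≤ N, NormBy H M → M ≤ scalars ι F ∨ M = N

/-- The group-theoretic core of Aschbacher's theorem. -/
theorem core [Finite F] (hn : 2 ≤ Fintype.card ι) (H : Subgroup (GL ι F)) (hirr : Irr H) :
    (∃ N ≤ H, NormBy H N ∧ ∃ z ∈ alg N, (∀ x ∈ alg N, z * x = x * z) ∧
      ¬ ∃ c : F, z = c • (1 : Matrix ι ι F)) ∨
    (∃ N ≤ H, NormBy H N ∧ ∃ (k : ℕ) (φ : Matrix (Fin k) (Fin k) F →ₐ[F] Matrix ι ι F),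
      2 ≤ k ∧ k < Fintype.card ι ∧ φ.range = alg N) ∨
    (∃ N ≤ H, NormBy H N ∧ alg N = ⊤ ∧ ∃ c : F, c • (1 : Matrix ι ι F) ∉ rclos N) ∨
    (∃ N, Nil2 H N) ∨
    (∃ (m t : ℕ) (φ : Fin t → (Matrix (Fin m) (Fin m) F →ₐ[F] Matrix ι ι F)), TensorInd H φ) ∨
    (∃ N, IsResidualCore H N ∧ alg N = ⊤ ∧ ∀ c : F, c • (1 : Matrix ι ι F) ∈ rclos N) := by
  haveI := nonempty_of_two_le hn
  obtain ⟨N, hNH, hN, hns, hmin⟩ := exists_minimal_nonscalar H H (normBy_self H)
    (not_le_scalars_of_irr hn hirr)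
  by_cases hA : ∀ z ∈ alg N, (∀ x ∈ alg N, z * x = x * z) → ∃ c : F, z = c • (1 : Matrix ι ι F)
  swap
  · left
    push Not at hA
    obtain ⟨z, hz, h1, h2⟩ := hA
    exact ⟨N, hNH, hN, z, hz, h1, fun ⟨c, hc⟩ => h2 c hc⟩
  right
  obtain ⟨k, hk, φ, hφ⟩ := exists_algHom_range_eq (alg N) H (fun h hh => conj_mem_alg (hN h hh))
    (fun W _ hW => hirr W hW) hA
  haveI : NeZero k := ⟨hk.ne'⟩
  have hk2 : 2 ≤ k := by
    by_contra hlt
    obtain rfl : k = 1 := by omega
    apply hns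
    intro x hx
    have : (x : Matrix ι ι F) ∈ φ.range := by rw [hφ]; exact mem_alg hx
    obtain ⟨y, hy⟩ := this
    refine mem_scalars'.mpr ⟨y 0 0, ?_⟩
    rw [← hy]
    exact algHom_fin_one φ y
  by_cases hB : k < Fintype.card ι
  · exact Or.inl ⟨N, hNH, hN, k, φ, hk2, hB, hφ⟩
  right
  have htop : alg N = ⊤ := by
    have hle := Nat.le_of_dvd (by omega) (card_dvd_of_algHom φ)
    rw [Fintype.card_fin] at hle
    rw [← hφ, AlgHom.range_eq_top]
    refine (LinearMap.injective_iff_surjective_of_finrank_eq_finrank (f := φ.toLinearMap) ?_).mp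
      (algHom_injective φ)
    rw [Module.finrank_matrix, Module.finrank_matrix, Fintype.card_fin, le_antisymm hle (by omega)]
  by_cases hC : ∀ c : F, c • (1 : Matrix ι ι F) ∈ rclos N
  swap
  · left
    push Not at hC
    exact ⟨N, hNH, hN, htop, hC⟩
  right
  rcases hmin _ (commutator_le_self' N) hN.commutator with h1 | hperf
  · exact Or.inl ⟨N, hNH, hN, htop, hC, h1, hmin⟩
  right
  obtain ⟨L, hLN, hL, hLns, hLmin⟩ := exists_minimal_nonscalar N N (normBy_self N) hns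
  by_cases hne : L = N
  · subst hne
    exact Or.inr ⟨L, isResidualCore_of hNH hN htop hperf hns hLmin hC, htop, hC⟩
  · exact Or.inl (exists_tensorInd hNH hN htop hperf hns hmin hLN hL hLns hLmin hne)

end CL.Asch
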