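import Cfsg.Agent.CLAS.AschTForm

/-!
Aschbacher's theorem, linear case.
-/

set_option autoImplicit false

namespace CL.Asch

open Matrix Cfsg.Geo
open scoped Kronecker MatrixGroups

variable {F : Type*} [Field F] {ι : Type} [Fintype ι] [DecidableEq ι]

theorem alt_of_irr_char_two [Finite F] (hn : 2 ≤ Fintype.card ι) (h2 : (2 : F) = 0) {ε : F}
    {G : Matrix ι ι F} (hG : Herm (RingHom.id F) ε G) {H : Subgroup (GL ι F)} (hirr : Irr H)
    (hH : ∀ h ∈ H, ∃ c, IsSim (RingHom.id F) G c (h : Matrix ι ι F)) (v : ι → F) :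
    gf (RingHom.id F) G v v = 0 := by
  classical
  have hε : ε = 1 := by
    rcases hG.eps with h | ⟨h, -⟩
    · exact h
    · rw [h]; linear_combination -h2
  subst hε
  let f : (ι → F) →+ F :=
    { toFun := fun v => gf (RingHom.id F) G v v
      map_zero' := gf_zero_left _ _
      map_add' := fun u v => by
        rw [gf_add_left, gf_add_right, gf_add_right, hG.symm v u]
        linear_combination (gf (RingHom.id F) G u v) * h2 }
  let W : Submodule F (ι → F) :=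
    { f.ker with
      smul_mem' := fun c v hv => by
        change gf _ G (c • v) (c • v) = 0
        have : gf _ G v v = 0 := hv
        rw [gf_smul_left, gf_smul_right, this, mul_zero, mul_zero] }
  rcases hirr W (fun h hh v hv => by
    obtain ⟨c, hc⟩ := hH h hh
    change gf _ G _ _ = 0
    have : gf _ G v v = 0 := hv
    rw [isSim_iff.mp hc, this, mul_zero]) with h | h
  · exfalso
    have hinj : Function.Injective f := (injective_iff_map_eq_zero f).mpr fun v hv => by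
      have : v ∈ W := hv
      rwa [h, Submodule.mem_bot] at this
    haveI := Fintype.ofFinite F
    have h3 := Fintype.card_le_of_injective f hinj
    rw [Fintype.card_fun] at h3
    have h4 : Fintype.card F ^ 1 < Fintype.card F ^ Fintype.card ι :=
      Nat.pow_lt_pow_right Fintype.one_lt_card hn
    rw [pow_one] at h4
    omega
  · have : v ∈ W := by rw [h]; trivial
    exact this

theorem sim_bilinear [Fintype F] (hn : 2 ≤ Fintype.card ι) {ε : F}
    {G : Matrix ι ι F} (hG : Herm (RingHom.id F) ε G) {H : Subgroup (GL ι F)} (hirr : Irr H)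
    (hH : ∀ h ∈ H, ∃ c, IsSim (RingHom.id F) G c (h : Matrix ι ι F)) :
    (∃ f : (ι → F) → (ι → F) → F, IsSymplecticForm f ∧ Even (Fintype.card ι) ∧ H ≤ similarityGroup f) ∨
    (∃ Q : (ι → F) → F, IsNondegenerateQuadraticForm Q ∧ Odd (Fintype.card F) ∧
      H ≤ quadSimilarityGroup Q) := by
  haveI := nonempty_of_two_le hn
  by_cases halt : ∀ v, gf (RingHom.id F) G v v = 0
  · exact Or.inl ⟨_, isSymplecticForm_gf hG.det_ne halt, even_card_of_gf hG.det_ne halt,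
      fun h hh => (mem_similarityGroup hG.det_ne).mpr (hH h hh)⟩
  by_cases hodd : Odd (Fintype.card F)
  · have h2 := two_ne_zero_of_odd hodd
    rcases hG.eps with rfl | ⟨rfl, -⟩
    · refine Or.inr ⟨_, hG.isQuad h2, hodd, fun h hh => ?_⟩
      obtain ⟨c, hc⟩ := hH h hh
      exact mem_quadSimilarityGroup_gf hG.det_ne hc
    · exact absurd (hG.alt_of_two_ne h2) halt
  · exact absurd (alt_of_irr_char_two hn (two_eq_zero_of_not_odd hodd) hG hirr hH) halt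

/-- commutative normalised subalgebras give a decomposition or a field -/
theorem comm_cases [Fintype F] [Nonempty ι] {H : Subgroup (GL ι F)} (hirr : Irr H)
    (Z : Subalgebra F (Matrix ι ι F)) (hcomm : ∀ x ∈ Z, ∀ y ∈ Z, x * y = y * x)
    (hN : ∀ h ∈ H, ∀ x ∈ Z, conjAlgHom h x ∈ Z) {z : Matrix ι ι F} (hz : z ∈ Z)
    (hzs : ¬ ∃ c : F, z = c • (1 : Matrix ι ι F)) :
    (∃ f ∈ Z, f * f = f ∧ f ≠ 0 ∧ f ≠ 1) ∨
    (∃ (r : ℕ) (K : Subalgebra F (Matrix ι ι F)), r.Prime ∧ IsFieldSubalgebra r K ∧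
      (∀ x, x ∈ K ↔ x ∈ Z ∧ x ^ (Fintype.card F ^ r) = x) ∧
      (∀ x ∈ Z, x ≠ 0 → ∃ y ∈ Z, x * y = 1) ∧ ∀ h ∈ H, ∀ x ∈ K, conjAlgHom h x ∈ K) := by
  rcases idem_or_inv Z.toSubring H hcomm hN hirr with h | h
  · exact Or.inl h
  right
  have hd : Module.finrank F Z ≠ 1 := by
    intro h1
    rw [Subalgebra.finrank_eq_one_iff] at h1
    rw [h1, Algebra.mem_bot] at hz
    obtain ⟨c, hc⟩ := hz
    exact hzs ⟨c, by rw [← hc, Algebra.algebraMap_eq_smul_one]⟩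
  obtain ⟨r, hr, hrd⟩ := Nat.exists_prime_and_dvd hd
  obtain ⟨K, hK, hKm⟩ := exists_prime_fieldSubalgebra Z hcomm h r hrd
  refine ⟨r, K, hr, hK, hKm, h, fun g hg x hx => ?_⟩
  rw [hKm] at hx ⊢
  exact ⟨hN g hg x hx.1, by rw [← map_pow, hx.2]⟩

/-- the centre of the enveloping algebra -/
def zalg (N : Subgroup (GL ι F)) : Subalgebra F (Matrix ι ι F) :=
  alg N ⊓ Subalgebra.centralizer F (alg N)

theorem mem_zalg {N : Subgroup (GL ι F)} {z : Matrix ι ι F} :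
    z ∈ zalg N ↔ z ∈ alg N ∧ ∀ x ∈ alg N, z * x = x * z := by
  rw [zalg, Algebra.mem_inf, Subalgebra.mem_centralizer_iff]
  exact ⟨fun h => ⟨h.1, fun x hx => (h.2 x hx).symm⟩, fun h => ⟨h.1, fun x hx => (h.2 x hx).symm⟩⟩

theorem zalg_comm (N : Subgroup (GL ι F)) : ∀ x ∈ zalg N, ∀ y ∈ zalg N, x * y = y * x :=
  fun _ hx y hy => (mem_zalg.mp hx).2 y (mem_zalg.mp hy).1

theorem conj_mem_zalg {H N : Subgroup (GL ι F)} (hN : NormBy H N) :
    ∀ h ∈ H, ∀ x ∈ zalg N, conjAlgHom h x ∈ zalg N := by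
  intro h hh x hx
  rw [mem_zalg] at hx ⊢
  refine ⟨conj_mem_alg (hN h hh) x hx.1, fun y hy => ?_⟩
  rw [← conjAlgHom_cancel_inv h y, ← map_mul, ← map_mul,
    hx.2 _ (conj_mem_alg (hN h⁻¹ (inv_mem hh)) y hy)]

/-- a pair of commuting matrix algebras normalised by `H` -/
structure TensorPair (H : Subgroup (GL ι F)) {k l : ℕ} (φ : Matrix (Fin k) (Fin k) F →ₐ[F] Matrix ι ι F)
    (ψ : Matrix (Fin l) (Fin l) F →ₐ[F] Matrix ι ι F) : Prop where
  two_le_k : 2 ≤ k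
  two_le_l : 2 ≤ l
  comm : ∀ x y, φ x * ψ y = ψ y * φ x
  card : Fintype.card ι = k * l
  norm₁ : ∀ h ∈ H, ∀ x, ∃ y, conjAlgHom h (φ x) = φ y
  norm₂ : ∀ h ∈ H, ∀ x, ∃ y, conjAlgHom h (ψ x) = ψ y

theorem TensorPair.symm {H : Subgroup (GL ι F)} {k l : ℕ}
    {φ : Matrix (Fin k) (Fin k) F →ₐ[F] Matrix ι ι F} {ψ : Matrix (Fin l) (Fin l) F →ₐ[F] Matrix ι ι F}
    (h : TensorPair H φ ψ) : TensorPair H ψ φ :=
  ⟨h.two_le_l, h.two_le_k, fun x y => (h.comm y x).symm, by rw [h.card, mul_comm], h.norm₂, h.norm₁⟩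

theorem TensorPair.centralizer {H : Subgroup (GL ι F)} {k l : ℕ}
    {φ : Matrix (Fin k) (Fin k) F →ₐ[F] Matrix ι ι F} {ψ : Matrix (Fin l) (Fin l) F →ₐ[F] Matrix ι ι F}
    (h : TensorPair H φ ψ) (z : Matrix ι ι F) (hz : ∀ x, z * φ x = φ x * z) : ∃ y, z = ψ y := by
  haveI : NeZero k := ⟨by have := h.two_le_k; omega⟩
  haveI : NeZero l := ⟨by have := h.two_le_l; omega⟩
  exact exists_eq_of_commute_pair φ ψ h.comm (by rw [h.card]; simp) z hz

theorem exists_tensorPair {H N : Subgroup (GL ι F)} (hN : NormBy H N) {k : ℕ}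
    {φ : Matrix (Fin k) (Fin k) F →ₐ[F] Matrix ι ι F} (hk : 2 ≤ k) (hkn : k < Fintype.card ι)
    (hφ : φ.range = alg N) :
    ∃ (l : ℕ) (ψ : Matrix (Fin l) (Fin l) F →ₐ[F] Matrix ι ι F), TensorPair H φ ψ := by
  haveI : NeZero k := ⟨by omega⟩
  obtain ⟨l, ψ, hl, hc⟩ := exists_complement φ
  rw [Fintype.card_fin] at hl
  have hl2 : 2 ≤ l := by
    by_contra h
    have : l = 0 ∨ l = 1 := by omega
    rcases this with rfl | rfl <;> omega
  haveI : NeZero l := ⟨by omega⟩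
  have h1 : ∀ h ∈ H, ∀ x, ∃ y, conjAlgHom h (φ x) = φ y := by
    intro h hh x
    have : conjAlgHom h (φ x) ∈ φ.range := by
      rw [hφ]; apply conj_mem_alg (hN h hh); rw [← hφ]; exact ⟨x, rfl⟩
    obtain ⟨y, hy⟩ := this
    exact ⟨y, hy.symm⟩
  refine ⟨l, ψ, hk, hl2, hc, hl, h1, fun h hh y => ?_⟩
  refine exists_eq_of_commute_pair φ ψ hc (by rw [hl]; simp) _ fun x => ?_
  obtain ⟨x', hx'⟩ := h1 h⁻¹ (inv_mem hh) x
  rw [← conjAlgHom_cancel_inv h (φ x), hx', ← map_mul, ← map_mul, hc]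

theorem TensorPair.exists_coord {H : Subgroup (GL ι F)} {k l : ℕ}
    {φ : Matrix (Fin k) (Fin k) F →ₐ[F] Matrix ι ι F} {ψ : Matrix (Fin l) (Fin l) F →ₐ[F] Matrix ι ι F}
    (h : TensorPair H φ ψ) : ∃ (e : ι ≃ Fin k × Fin l) (P : GL ι F),
      (∀ x, φ x = coord e P (kronL _ _ F x)) ∧ (∀ y, ψ y = coord e P (kronR _ _ F y)) ∧
      H ≤ tensorProductSubgroup k l e P := by
  haveI : NeZero k := ⟨by have := h.two_le_k; omega⟩
  haveI : NeZero l := ⟨by have := h.two_le_l; omega⟩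
  obtain ⟨e⟩ : Nonempty (ι ≃ Fin k × Fin l) := Fintype.card_eq.mp (by rw [h.card]; simp)
  obtain ⟨P, h1, h2⟩ := exists_pair_coord φ ψ h.comm e
  exact ⟨e, P, h1, h2, fun g hg => mem_tensorProductSubgroup e P φ h1 g (h.norm₁ g hg)⟩

/-- a family of commuting matrix algebras permuted by `H` -/
structure TensorFam (H : Subgroup (GL ι F)) {m t : ℕ}
    (φ : Fin t → (Matrix (Fin m) (Fin m) F →ₐ[F] Matrix ι ι F)) : Prop where
  two_le_t : 2 ≤ t
  two_le_m : 2 ≤ m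
  comm : ∀ i j, i ≠ j → ∀ x y, φ i x * φ j y = φ j y * φ i x
  card : Fintype.card ι = m ^ t
  perm : ∀ h ∈ H, ∃ σ : Equiv.Perm (Fin t), ∀ i x, ∃ y, conjAlgHom h (φ i x) = φ (σ i) y

theorem TensorInd.fam {H : Subgroup (GL ι F)} {m t : ℕ}
    {φ : Fin t → (Matrix (Fin m) (Fin m) F →ₐ[F] Matrix ι ι F)} (h : TensorInd H φ) : TensorFam H φ :=
  ⟨h.two_le_t, h.two_le_m, h.comm, h.card, h.perm⟩

theorem TensorPair.fam {H : Subgroup (GL ι F)} {k : ℕ}
    {φ ψ : Matrix (Fin k) (Fin k) F →ₐ[F] Matrix ι ι F} (h : TensorPair H φ ψ) :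
    TensorFam H ![φ, ψ] := by
  refine ⟨le_rfl, h.two_le_k, ?_, by rw [h.card, sq], fun g hg => ⟨1, ?_⟩⟩
  · intro i j hij x y
    fin_cases i <;> fin_cases j
    · exact absurd rfl hij
    · exact h.comm x y
    · exact (h.comm y x).symm
    · exact absurd rfl hij
  · intro i x
    fin_cases i
    · exact h.norm₁ g hg x
    · exact h.norm₂ g hg x

theorem TensorFam.exists_coord {H : Subgroup (GL ι F)} {m t : ℕ}
    {φ : Fin t → (Matrix (Fin m) (Fin m) F →ₐ[F] Matrix ι ι F)} (h : TensorFam H φ) :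
    ∃ (e : ι ≃ (Fin t → Fin m)) (P : GL ι F), (∀ i x, φ i x = coord e P (embT i x)) ∧
      H ≤ tensorWreathSubgroup m t e P := by
  haveI : NeZero m := ⟨by have := h.two_le_m; omega⟩
  obtain ⟨e⟩ : Nonempty (ι ≃ (Fin t → Fin m)) := Fintype.card_eq.mp (by rw [h.card]; simp)
  obtain ⟨P, h1⟩ := exists_pi_coord φ h.comm e
  refine ⟨e, P, h1, fun g hg => ?_⟩
  obtain ⟨s, hs⟩ := h.perm g hg
  exact mem_tensorWreathSubgroup (by have := h.two_le_t; omega) e P φ h1 g s hs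

theorem TensorFam.exists_form_two {H : Subgroup (GL ι F)} {t : ℕ}
    {φ : Fin t → (Matrix (Fin 2) (Fin 2) F →ₐ[F] Matrix ι ι F)} (h : TensorFam H φ) :
    ∃ G : Matrix ι ι F, Herm (RingHom.id F) ((-1) ^ t) G ∧
      (∀ i x, IsAdj (RingHom.id F) G (φ i x) (φ i (adjugate x))) ∧
      ∀ g ∈ H, ∃ c, IsSim (RingHom.id F) G c (g : Matrix ι ι F) := by
  obtain ⟨e, P, h1, -⟩ := h.exists_coord
  obtain ⟨G, hG, hGe, h2⟩ := exists_form_two_tensor e P
  refine ⟨G, hG, fun i x => ?_, fun g hg => ?_⟩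
  · rw [h1, h1, ← isAdj_cpull, hGe]
    exact isAdj_embT i (isAdj_J2 x)
  · obtain ⟨s, hs⟩ := h.perm g hg
    exact h2 g s (fun i x => by simpa only [h1] using hs i x)

theorem pow_add_one_dvd_of {z p d : ℕ} (hz : z.Prime ∨ (z = 4 ∧ Odd p)) (hp : 0 < p)
    (h1 : z ∣ p ^ (2 * d) - 1) (h2 : ¬ z ∣ p ^ d - 1) : z ∣ p ^ d + 1 := by
  have hpos : 1 ≤ p ^ d := Nat.one_le_pow _ _ hp
  rcases hz with hz | ⟨rfl, hodd⟩
  · have : p ^ (2 * d) - 1 = (p ^ d + 1) * (p ^ d - 1) := by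
      rw [mul_comm 2 d, pow_mul, ← Nat.sq_sub_sq, one_pow]
    rw [this] at h1
    exact ((Nat.Prime.dvd_mul hz).mp h1).resolve_right h2
  · have : Odd (p ^ d) := hodd.pow
    rw [Nat.odd_iff] at this
    omega

/-- The outcome of the symplectic-type case for the linear groups. -/
theorem Nil2.linear [Fintype F] (hn : 3 ≤ Fintype.card ι) {H N : Subgroup (GL ι F)} (h : Nil2 H N) :
    (∃ r k, IsLinearSymplecticTypeData r N ∧ Fintype.card ι = r ^ k ∧ 4 ≤ Fintype.card F) ∨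
    (∃ (τ : F →+* F) (G : Matrix ι ι F), Herm τ 1 G ∧ (¬ ∀ a, τ a = a) ∧
      ∀ x ∈ N, IsSim τ G 1 (x : Matrix ι ι F)) ∨
    (∃ (ε : F) (G : Matrix ι ι F), Herm (RingHom.id F) ε G ∧
      ∀ x ∈ N, IsSim (RingHom.id F) G 1 (x : Matrix ι ι F)) := by
  haveI := nonempty_of_two_le (by omega : 2 ≤ Fintype.card ι)
  obtain ⟨r, k, p, e, hs, hrp, hmin, hk, hcard, hN, -, hZ⟩ := h.data (by omega)
  by_cases h2 : Nat.card (Subgroup.center N) = 2
  · exact Or.inr (Or.inr (h.exists_bilinear h2))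
  have hz : (Nat.card (Subgroup.center N)).Prime ∨ (Nat.card (Subgroup.center N) = 4 ∧ Odd p) := by
    rcases hZ with ⟨-, h3⟩ | ⟨rfl, h3 | h3⟩
    · exact Or.inl (h3 ▸ hs.prime)
    · exact absurd h3 h2
    · exact Or.inr ⟨h3, hmin.1.odd_of_ne_two hrp.symm⟩
  have hz3 : 3 ≤ Nat.card (Subgroup.center N) := by
    rcases hz with h3 | ⟨h3, -⟩
    · have := h3.two_le; omega
    · omega
  obtain ⟨hp, hchar, hq, hdvd, hlt⟩ := id hmin
  have hq1 := Fintype.one_lt_card (α := F)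
  have he : 0 < e := by
    rcases e with _ | e
    · rw [pow_zero] at hq; omega
    · omega
  rcases Nat.even_or_odd e with ⟨d, hd⟩ | hodd
  · right; left
    refine h.exists_unitary (d := d) hp (pow_add_one_dvd_of hz hp.pos (by rwa [two_mul, ← hd])
      (hlt d (by omega) (by omega))) (fun h3 => ?_)
    have := Nat.le_of_dvd two_pos h3
    omega
  · left
    refine ⟨r, k, ⟨hs, absIrr_of_alg_top h.top, p, e, hrp, hmin, ?_⟩, hcard, ?_⟩
    · rcases hZ with ⟨h3, h4⟩ | ⟨rfl, h3 | h3⟩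
      · exact Or.inl ⟨h3, hodd, h4, k, hk, by rw [hN, h4, pow_add, pow_one]⟩
      · exact absurd h3 h2
      · refine Or.inr (Or.inl ⟨rfl, ?_, h3, ?_, k, by rw [hN, h3, pow_add]; rfl⟩)
        · by_contra he1
          refine hlt 2 two_pos (by obtain ⟨j, hj⟩ := hodd; omega) ?_
          rw [h3]
          obtain ⟨j, rfl⟩ := hp.odd_of_ne_two hrp.symm
          exact ⟨j * j + j, by rw [Nat.sub_eq_iff_eq_add (Nat.one_le_pow _ _ (by omega))]; ring⟩
        · rcases k with _ | _ | k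
          · omega
          · rw [hcard] at hn; simp at hn
          · rw [hcard, pow_add, pow_add]
            have := Nat.one_le_pow k 2 two_pos
            omega
    · rw [← hq] at hdvd
      have := Nat.le_of_dvd (by omega) hdvd
      omega

/-- Aschbacher's theorem for the linear groups. -/
theorem linear_cases [Fintype F] (hn : 3 ≤ Fintype.card ι) (H : Subgroup (GL ι F)) :
    (∃ W : Submodule F (ι → F), W ≠ ⊥ ∧ W ≠ ⊤ ∧ H ≤ subspaceStabilizer W) ∨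
    (∃ (t m : ℕ) (D : Fin t → Submodule F (ι → F)), IsMDecomposition m D ∧
      H ≤ decompositionStabilizer D) ∨
    (∃ (r : ℕ) (K : Subalgebra F (Matrix ι ι F)), r.Prime ∧ IsFieldSubalgebra r K ∧
      H ≤ subalgebraNormalizer K) ∨
    (∃ (n₁ n₂ : ℕ) (e : ι ≃ Fin n₁ × Fin n₂) (P : GL ι F), 2 ≤ n₁ ∧ n₁ < n₂ ∧
      H ≤ tensorProductSubgroup n₁ n₂ e P) ∨
    (∃ (F₀ : Subfield F) (r : ℕ) (P : GL ι F), r.Prime ∧ Fintype.card F = Nat.card F₀ ^ r ∧
      H ≤ subfieldSubgroup F₀ P) ∨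
    (∃ (r k : ℕ) (R : Subgroup (GL ι F)), IsLinearSymplecticTypeData r R ∧ Fintype.card ι = r ^ k ∧
      4 ≤ Fintype.card F ∧ alg R = ⊤ ∧ ⁅R, R⁆ ≤ scalars ι F ∧ H ≤ subgroupNormalizer R) ∨
    (∃ (m t : ℕ) (e : ι ≃ (Fin t → Fin m)) (P : GL ι F), 3 ≤ m ∧ 2 ≤ t ∧
      H ≤ tensorWreathSubgroup m t e P) ∨
    (∃ f : (ι → F) → (ι → F) → F, IsSymplecticForm f ∧ Even (Fintype.card ι) ∧ H ≤ similarityGroup f) ∨
    (∃ (σ : F ≃+* F) (f : (ι → F) → (ι → F) → F), IsUnitaryForm σ f ∧ H ≤ similarityGroup f) ∨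
    (∃ Q : (ι → F) → F, IsNondegenerateQuadraticForm Q ∧ Odd (Fintype.card F) ∧
      H ≤ quadSimilarityGroup Q) ∨
    InLinearResidualClass H := by
  have hn2 : 2 ≤ Fintype.card ι := by omega
  haveI := nonempty_of_two_le hn2
  by_cases hirr : Irr H
  swap
  · obtain ⟨W, h1, h2, h3⟩ := exists_of_not_irr hirr
    exact Or.inl ⟨W, h1, h2, le_subspaceStabilizer h3⟩
  right
  by_contra hcon
  simp only [not_or] at hcon
  obtain ⟨c2, c3, c4, c5, c6, c7, c8a, c8b, c8c, c9⟩ := hcon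
  have hbil : ∀ (ε : F) (G : Matrix ι ι F), Herm (RingHom.id F) ε G →
      ¬ ∀ h ∈ H, ∃ c, IsSim (RingHom.id F) G c (h : Matrix ι ι F) := fun ε G hG hH =>
    (sim_bilinear hn2 hG hirr hH).elim c8a c8c
  have huni : ∀ (τ : F →+* F) (G : Matrix ι ι F), Herm τ 1 G → (¬ ∀ a, τ a = a) →
      ¬ ∀ h ∈ H, ∃ c, IsSim τ G c (h : Matrix ι ι F) := fun τ G hG hτ hH =>
    c8b ⟨_, _, hG.isUnitaryForm hτ, fun h hh => (mem_similarityGroup hG.det_ne).mpr (hH h hh)⟩
  have hfam : ∀ (m t : ℕ) (φ : Fin t → (Matrix (Fin m) (Fin m) F →ₐ[F] Matrix ι ι F)),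
      ¬ TensorFam H φ := by
    intro m t φ hφ
    by_cases hm : 3 ≤ m
    · obtain ⟨e, P, -, h⟩ := hφ.exists_coord
      exact c7 ⟨m, t, e, P, hm, hφ.two_le_t, h⟩
    · obtain rfl : m = 2 := by have := hφ.two_le_m; omega
      obtain ⟨G, hG, -, h⟩ := hφ.exists_form_two
      exact hbil _ G hG h
  rcases core hn2 H hirr with ⟨N, -, hN, z, hz, hz1, hz2⟩ | ⟨N, -, hN, k, φ, hk, hkn, hφ⟩ |
    ⟨N, -, hN, htop, hc⟩ | ⟨N, hN⟩ | ⟨m, t, φ, hφ⟩ | ⟨N, hN, htop, -⟩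
  · rcases comm_cases hirr (zalg N) (zalg_comm N) (conj_mem_zalg hN) (mem_zalg.mpr ⟨hz, hz1⟩) hz2 with
      ⟨f, hf, hff, hf0, hf1⟩ | ⟨r, K, hr, hK, -, -, h⟩
    · obtain ⟨t, e, ht, he, -⟩ := exists_idemFam (zalg N).toSubring H (zalg_comm N) (conj_mem_zalg hN)
        hirr hf hff hf0 hf1
      obtain ⟨m, hm⟩ := he.isMDecomposition ht
      exact c2 ⟨t, m, _, hm, he.le_stabilizer⟩
    · exact c3 ⟨r, K, hr, hK, le_subalgebraNormalizer h⟩
  · obtain ⟨l, ψ, h⟩ := exists_tensorPair hN hk hkn hφ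
    rcases lt_trichotomy k l with hkl | rfl | hkl
    · obtain ⟨e, P, -, -, h2⟩ := h.exists_coord
      exact c4 ⟨k, l, e, P, hk, hkl, h2⟩
    · exact hfam _ _ _ h.fam
    · obtain ⟨e, P, -, -, h2⟩ := h.symm.exists_coord
      exact c4 ⟨l, k, e, P, h.two_le_l, hkl, h2⟩
  · obtain ⟨F₁, r, P, hr, hcard, -, h, -⟩ := exists_subfield_class (rclos N) (span_rclos htop) hc
      (fun h hh => conj_mem_rclos (hN h hh))
    exact c5 ⟨F₁, r, P, hr, hcard, h⟩
  · rcases hN.linear hn with ⟨r, k, h1, h2, h3⟩ | ⟨τ, G, hG, hτ, h⟩ | ⟨ε, G, hG, h⟩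
    · exact c6 ⟨r, k, N, h1, h2, h3, hN.top, hN.comm, hN.norm.le_normalizer⟩
    · exact huni τ G hG hτ fun g hg =>
        exists_isSim_of_normalizes hG.det_ne (scalar_of_alg_top hN.top) h (hN.norm g hg)
    · exact hbil ε G hG fun g hg =>
        exists_isSim_of_normalizes hG.det_ne (scalar_of_alg_top hN.top) h (hN.norm g hg)
  · exact hfam _ _ _ hφ.fam
  · refine c9 ⟨N, hN, ?_, ?_, ?_⟩
    · rintro ⟨Q, hQ, h⟩
      refine hbil _ _ (herm_of_quad hQ) fun g hg => exists_isSim_of_normalizes (herm_of_quad hQ).det_ne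
        (scalar_of_alg_top htop) (isSim_of_fixesForm ?_) (hN.normal g hg)
      rw [← IsBilinearForm.eq_gf hQ.polar_bilinear]
      exact fixesForm_polar h
    · rintro ⟨f, hf, h⟩
      refine hbil _ _ (herm_of_symplectic hf) fun g hg => exists_isSim_of_normalizes
        (herm_of_symplectic hf).det_ne (scalar_of_alg_top htop) (isSim_of_fixesForm ?_) (hN.normal g hg)
      rw [← IsBilinearForm.eq_gf hf.bilinear]
      exact h
    · rintro ⟨τ, f, hf, h⟩
      refine huni _ _ (herm_of_unitary hf) (not_id_of_unitary hf) fun g hg => exists_isSim_of_normalizes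
        (herm_of_unitary hf).det_ne (scalar_of_alg_top htop) (isSim_of_fixesForm ?_) (hN.normal g hg)
      rw [← eq_gf_of_unitary hf]
      exact h

end CL.Asch
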