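import Cfsg.Agent.CLAS.AschGrp

/-!
Absolutely irreducible groups of class two with scalar commutators (symplectic type).
-/

set_option autoImplicit false

namespace CL.Asch

open Matrix Cfsg.Geo
open scoped Kronecker MatrixGroups commutatorElement

variable {F : Type*} [Field F] {ι : Type} [Fintype ι] [DecidableEq ι]

theorem mul_pow_of_comm {G : Type*} [Group G] {x y c : G} (hc : ∀ g, c * g = g * c)
    (h : y * x = c * (x * y)) (m : ℕ) : (x * y) ^ m = c ^ m.choose 2 * (x ^ m * y ^ m) := by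
  have hcp : ∀ (k : ℕ) g, c ^ k * g = g * c ^ k := fun k g => (Commute.pow_left (hc g) k).eq
  have h1 : ∀ m : ℕ, y ^ m * x = c ^ m * (x * y ^ m) := by
    intro m
    induction m with
    | zero => simp
    | succ m ih =>
      rw [pow_succ', mul_assoc, ih, ← mul_assoc, ← hcp, mul_assoc, ← mul_assoc y, h, pow_succ]
      simp only [mul_assoc]
  induction m with
  | zero => simp
  | succ m ih =>
    rw [pow_succ, ih, Nat.choose_succ_succ' m 1, Nat.choose_one_right, add_comm, pow_add]
    have : x ^ m * y ^ m * (x * y) = c ^ m * (x ^ (m + 1) * y ^ (m + 1)) := by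
      rw [mul_assoc, ← mul_assoc (y ^ m), h1, ← mul_assoc, ← mul_assoc, ← hcp, pow_succ x, pow_succ y]
      simp only [mul_assoc]
    rw [mul_assoc, this, mul_assoc]

theorem smul_one_inj [Nonempty ι] {c d : F} (h : c • (1 : Matrix ι ι F) = d • (1 : Matrix ι ι F)) :
    c = d := by
  obtain ⟨i⟩ := ‹Nonempty ι›
  simpa using congrFun (congrFun h i) i

section cent
variable {N : Subgroup (GL ι F)}

theorem comm_scalar (hc : ⁅N, N⁆ ≤ scalars ι F) {x y : GL ι F} (hx : x ∈ N) (hy : y ∈ N) :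
    x * y * x⁻¹ * y⁻¹ ∈ scalars ι F :=
  hc (Subgroup.commutator_mem_commutator hx hy)

theorem mem_center_iff_scalar [Nonempty ι] (htop : alg N = ⊤) (x : N) :
    x ∈ Subgroup.center N ↔ (x : GL ι F) ∈ scalars ι F := by
  rw [Subgroup.mem_center_iff]
  constructor
  · intro h
    exact mem_scalars'.mpr (scalar_of_alg_top htop _ fun y hy =>
      congrArg (fun g : N => ((g : GL ι F) : Matrix ι ι F)) (h ⟨y, hy⟩).symm)
  · intro h y
    exact Subtype.ext (scalars_comm h y).symm

theorem trace_eq_zero [Nonempty ι] (htop : alg N = ⊤) (hc : ⁅N, N⁆ ≤ scalars ι F) {x : GL ι F}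
    (hx : x ∈ N) (hs : x ∉ scalars ι F) : trace (x : Matrix ι ι F) = 0 := by
  by_contra h0
  apply hs
  refine mem_scalars'.mpr (scalar_of_alg_top htop _ fun y hy => ?_)
  obtain ⟨c, hc⟩ := mem_scalars'.mp (comm_scalar hc hy hx)
  have h1 : ((y * x * y⁻¹ : GL ι F) : Matrix ι ι F) = c • (x : Matrix ι ι F) := by
    rw [← smul_one_mul c, ← hc, ← Units.val_mul, inv_mul_cancel_right]
  have h2 := congrArg trace h1
  rw [Units.val_mul, Units.val_mul, trace_units_conj, trace_smul, smul_eq_mul] at h2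
  have h3 : c = 1 := mul_right_cancel₀ h0 (h2.symm.trans (one_mul _).symm)
  rw [h3, one_smul, Units.val_inj, mul_inv_eq_iff_eq_mul] at h1
  exact congrArg Units.val h1.symm

theorem card_ne_zero [Nonempty ι] (htop : alg N = ⊤) (hc : ⁅N, N⁆ ≤ scalars ι F) :
    (Fintype.card ι : F) ≠ 0 := by
  intro h0
  obtain ⟨i⟩ := ‹Nonempty ι›
  have := alg_le_submodule (N := N) (W := LinearMap.ker (traceLinearMap ι F F)) (fun x hx => by
    rw [LinearMap.mem_ker, traceLinearMap_apply]
    by_cases hs : x ∈ scalars ι F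
    · obtain ⟨c, hc⟩ := mem_scalars'.mp hs
      rw [hc, trace_smul, trace_one, h0, smul_zero]
    · exact trace_eq_zero htop hc hx hs) (single i i 1) (by rw [htop]; trivial)
  simp at this

theorem linearIndependent_of_cosets [Nonempty ι] (htop : alg N = ⊤) (hc : ⁅N, N⁆ ≤ scalars ι F)
    {α : Type*} (x : α → GL ι F) (hx : ∀ a, x a ∈ N)
    (hd : ∀ a b, (x a)⁻¹ * x b ∈ scalars ι F → a = b) :
    LinearIndependent F (fun a => (x a : Matrix ι ι F)) := by
  classical
  rw [linearIndependent_iff']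
  intro s g hg a ha
  have := congrArg (fun y => trace ((((x a)⁻¹ : GL ι F) : Matrix ι ι F) * y)) hg
  simp only [Finset.mul_sum, Matrix.mul_smul, trace_sum, trace_smul, mul_zero, trace_zero,
    ← Units.val_mul] at this
  rw [Finset.sum_eq_single a] at this
  · rw [inv_mul_cancel, Units.val_one, trace_one, smul_eq_mul] at this
    exact (mul_eq_zero.mp this).resolve_right (card_ne_zero htop hc)
  · intro b _ hb
    rw [trace_eq_zero htop hc (N.mul_mem (N.inv_mem (hx a)) (hx b)) (fun h => hb (hd a b h).symm),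
      smul_zero]
  · intro h; exact absurd ha h

theorem card_eq_center_mul [Finite F] [Nonempty ι] (htop : alg N = ⊤) (hc : ⁅N, N⁆ ≤ scalars ι F) :
    Nat.card N = Nat.card (Subgroup.center N) * Fintype.card ι ^ 2 := by
  classical
  haveI := Fintype.ofFinite (N ⧸ Subgroup.center N)
  have hli := linearIndependent_of_cosets htop hc
    (fun q : N ⧸ Subgroup.center N => ((q.out : N) : GL ι F)) (fun q => (q.out).2) (fun a b hab => by
      rw [← a.out_eq, ← b.out_eq]
      exact QuotientGroup.eq.mpr ((mem_center_iff_scalar htop _).mpr hab))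
  have hspan : ⊤ ≤ Submodule.span F (Set.range
      fun q : N ⧸ Subgroup.center N => (((q.out : N) : GL ι F) : Matrix ι ι F)) := by
    intro y _
    refine alg_le_submodule (N := N) (fun x hx => ?_) y (by rw [htop]; trivial)
    obtain ⟨z, hz⟩ := QuotientGroup.mk_out_eq_mul (Subgroup.center N) ⟨x, hx⟩
    obtain ⟨c, hc⟩ := mem_scalars'.mp ((mem_center_iff_scalar htop _).mp (z⁻¹).2)
    have : (x : Matrix ι ι F) = c • ((((QuotientGroup.mk (⟨x, hx⟩ : N) : N ⧸ Subgroup.center N).out : N) :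
        GL ι F) : Matrix ι ι F) := by
      rw [← mul_smul_one, ← hc, hz, ← Units.val_mul]
      simp
    rw [this]
    exact Submodule.smul_mem _ _ (Submodule.subset_span ⟨_, rfl⟩)
  have := Module.finrank_eq_card_basis (Module.Basis.mk hli hspan)
  rw [Module.finrank_matrix, Module.finrank_self, mul_one] at this
  rw [Subgroup.card_eq_card_quotient_mul_card_subgroup (Subgroup.center N), mul_comm, sq, this,
    Nat.card_eq_fintype_card (α := N ⧸ Subgroup.center N)]

theorem subfield_eq_top [Nonempty ι] (htop : alg N = ⊤) (hc : ⁅N, N⁆ ≤ scalars ι F)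
    (hsc : ∀ c : F, c • (1 : Matrix ι ι F) ∈ rclos N) (S : Subfield F)
    (hS : ∀ x ∈ N, ∀ c : F, (x : Matrix ι ι F) = c • (1 : Matrix ι ι F) → c ∈ S) (c : F) : c ∈ S := by
  have := rclos_le_addSubgroup (N := N) (W := S.toAddSubgroup.comap (traceAddMonoidHom ι F))
    (fun x hx => by
      change trace (x : Matrix ι ι F) ∈ S
      by_cases hs : x ∈ scalars ι F
      · obtain ⟨c, hc⟩ := mem_scalars'.mp hs
        rw [hc, trace_smul, trace_one, smul_eq_mul]
        exact S.mul_mem (hS x hx c hc) (natCast_mem S _)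
      · rw [trace_eq_zero htop hc hx hs]; exact S.zero_mem) _ (hsc c)
  change trace (c • (1 : Matrix ι ι F)) ∈ S at this
  rw [trace_smul, trace_one, smul_eq_mul] at this
  have h2 := S.mul_mem this (S.inv_mem (natCast_mem S (Fintype.card ι)))
  rwa [mul_inv_cancel_right₀ (card_ne_zero htop hc)] at h2

theorem isCyclic_of_le_scalars [Finite F] {A : Subgroup (GL ι F)} (h : A ≤ scalars ι F) :
    IsCyclic A := by
  haveI := isCyclic_scalars (F := F) (ι := ι)
  exact isCyclic_of_injective (Subgroup.inclusion h) (Subgroup.inclusion_injective h)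

theorem isCyclic_center [Finite F] [Nonempty ι] (htop : alg N = ⊤) : IsCyclic (Subgroup.center N) := by
  haveI := isCyclic_of_le_scalars (A := (Subgroup.center N).map N.subtype) (by
    rintro _ ⟨x, hx, rfl⟩; exact (mem_center_iff_scalar htop x).mp hx)
  exact (Subgroup.equivMapOfInjective _ _ N.subtype_injective).isCyclic.mpr this

theorem scalar_pow_card_center [Nonempty ι] (htop : alg N = ⊤) {x : GL ι F} (hx : x ∈ N) {c : F}
    (hc : (x : Matrix ι ι F) = c • (1 : Matrix ι ι F)) : c ^ Nat.card (Subgroup.center N) = 1 := by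
  have h1 : (⟨x, hx⟩ : N) ∈ Subgroup.center N :=
    (mem_center_iff_scalar htop _).mpr (mem_scalars'.mpr ⟨c, hc⟩)
  have h2 : (⟨⟨x, hx⟩, h1⟩ : Subgroup.center N) ^ Nat.card (Subgroup.center N) = 1 := pow_card_eq_one'
  have h3 : x ^ Nat.card (Subgroup.center N) = 1 :=
    congrArg (fun g : Subgroup.center N => ((g : N) : GL ι F)) h2
  have h4 := congrArg Units.val h3
  rw [Units.val_pow_eq_pow_val, hc, smul_pow, one_pow, Units.val_one] at h4
  exact smul_one_inj (ι := ι) (h4.trans (one_smul _ _).symm)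

theorem exists_scalar_orderOf [Finite F] [Nonempty ι] (htop : alg N = ⊤) :
    ∃ x ∈ N, ∃ c : F, (x : Matrix ι ι F) = c • (1 : Matrix ι ι F) ∧
      orderOf c = Nat.card (Subgroup.center N) := by
  haveI := isCyclic_center htop
  obtain ⟨g, hg⟩ := IsCyclic.exists_ofOrder_eq_natCard (α := Subgroup.center N)
  obtain ⟨c, hc⟩ := mem_scalars'.mp ((mem_center_iff_scalar htop _).mp g.2)
  refine ⟨_, (g : N).2, c, hc, ?_⟩
  rw [← hg, ← Subgroup.orderOf_coe, ← Subgroup.orderOf_coe, ← orderOf_units, hc,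
    ← Algebra.algebraMap_eq_smul_one]
  exact (orderOf_injective (algebraMap F (Matrix ι ι F)).toMonoidHom (algebraMap F _).injective c).symm

theorem exists_herm_of_cent [Finite F] [Nonempty ι] (htop : alg N = ⊤) (hc : ⁅N, N⁆ ≤ scalars ι F)
    (hsc : ∀ c : F, c • (1 : Matrix ι ι F) ∈ rclos N) (τ : F →+* F)
    (hτ : ∀ x ∈ N, ∀ c : F, (x : Matrix ι ι F) = c • (1 : Matrix ι ι F) → τ c * c = 1) :
    ∃ (ε : F) (G : Matrix ι ι F), Herm τ ε G ∧ ∀ x ∈ N, IsSim τ G 1 (x : Matrix ι ι F) := by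
  classical
  haveI := Fintype.ofFinite N
  have hinv : ∀ a, τ (τ a) = a := subfield_eq_top htop hc hsc
    (RingHom.eqLocusField (τ.comp τ) (RingHom.id F)) (fun x hx c hxc => by
      have h1 := hτ x hx c hxc
      have h2 := congrArg τ h1
      rw [map_mul, map_one] at h2
      change τ (τ c) = c
      have h3 : τ c ≠ 0 := left_ne_zero_of_mul_eq_one h1
      exact mul_right_cancel₀ h3 (h2.trans (by rw [mul_comm, h1])))
  let G : ι → ι → Matrix ι ι F := fun a b => ∑ x : N,
    ((x : GL ι F) : Matrix ι ι F)ᵀ * single a b 1 * ((x : GL ι F) : Matrix ι ι F).map τ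
  have hG : ∀ a b, ∀ y ∈ N, IsSim τ (G a b) 1 (y : Matrix ι ι F) := by
    intro a b y hy
    rw [IsSim, one_smul, Finset.mul_sum, Finset.sum_mul]
    refine Fintype.sum_equiv (Equiv.mulRight (⟨y, hy⟩ : N)) _ _ fun x => ?_
    simp only [Equiv.coe_mulRight, Subgroup.coe_mul, Units.val_mul, transpose_mul, Matrix.map_mul,
      mul_assoc]
  have hne : ∃ a b, G a b ≠ 0 := by
    by_contra h0
    push Not at h0
    have h1 : ∑ a, ∑ b, G a b a b = 0 := by simp [h0]
    have h2 : ∀ a b, G a b a b = ∑ x : N, ((x : GL ι F) : Matrix ι ι F) a a *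
        τ (((x : GL ι F) : Matrix ι ι F) b b) := by
      intro a b
      simp only [G, Matrix.sum_apply]
      refine Finset.sum_congr rfl fun x _ => ?_
      rw [mul_apply, Finset.sum_eq_single b]
      · simp
      · intro c _ hc
        rw [mul_single_apply_of_ne _ _ _ _ _ hc, zero_mul]
      · simp
    simp only [h2] at h1
    rw [Finset.sum_congr rfl fun a _ => Finset.sum_comm, Finset.sum_comm] at h1
    have h3 : ∀ x : N, ∑ a, ∑ b, ((x : GL ι F) : Matrix ι ι F) a a *
        τ (((x : GL ι F) : Matrix ι ι F) b b) =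
        if x ∈ Subgroup.center N then (Fintype.card ι : F) ^ 2 else 0 := by
      intro x
      rw [← Finset.sum_mul_sum, ← map_sum]
      change trace _ * τ (trace _) = _
      split_ifs with hx
      · obtain ⟨c, hc⟩ := mem_scalars'.mp ((mem_center_iff_scalar htop x).mp hx)
        rw [hc, trace_smul, trace_one, smul_eq_mul, map_mul, map_natCast]
        linear_combination (Fintype.card ι : F) ^ 2 * hτ x x.2 c hc
      · rw [trace_eq_zero htop hc x.2 (fun h => hx ((mem_center_iff_scalar htop x).mpr h)), zero_mul]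
    simp only [h3] at h1
    rw [← Finset.sum_filter, Finset.sum_const, nsmul_eq_mul] at h1
    rcases mul_eq_zero.mp h1 with h4 | h4
    · obtain ⟨x, -, c, -, hc⟩ := exists_scalar_orderOf htop
      have h5 : Nat.card (Subgroup.center N) = (Finset.univ.filter (· ∈ Subgroup.center N)).card := by
        rw [← Fintype.card_subtype, Nat.card_eq_fintype_card]
      rw [← h5, ← hc] at h4
      have h6 : 0 < orderOf c := hc ▸ Nat.card_pos
      haveI : NeZero (orderOf c) := ⟨h6.ne'⟩
      exact (IsPrimitiveRoot.orderOf c).neZero'.out h4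
    · exact pow_ne_zero 2 (card_ne_zero htop hc) h4
  obtain ⟨a, b, hab⟩ := hne
  exact exists_herm_of_fixes hinv
    (det_ne_zero_of_irr (surj_of_invol hinv) hab (irr_of_alg_top htop) (hG a b))
    (scalar_of_alg_top htop) (hG a b)

theorem isMinimalFieldFor [Fintype F] [Nonempty ι] (htop : alg N = ⊤) (hc : ⁅N, N⁆ ≤ scalars ι F)
    (hsc : ∀ c : F, c • (1 : Matrix ι ι F) ∈ rclos N) :
    ∃ p e, IsMinimalFieldFor (Nat.card (Subgroup.center N)) p e F := by
  classical
  obtain ⟨p, hp, ⟨e, he0⟩, hpp, he⟩ := FiniteField.card' F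
  haveI := Fact.mk hpp
  refine ⟨p, e, hpp, hp, he, ?_, fun d hd hde hdvd => ?_⟩
  · obtain ⟨x, -, c, hxc, hc⟩ := exists_scalar_orderOf htop
    have hc0 : c ≠ 0 := by
      rintro rfl
      rw [zero_smul] at hxc
      exact x.ne_zero hxc
    rw [← hc, orderOf_dvd_iff_pow_eq_one]
    exact he ▸ FiniteField.pow_card_sub_one_eq_one c hc0
  · have := subfield_eq_top htop hc hsc
      (RingHom.eqLocusField (iterateFrobenius F p d) (RingHom.id F)) (fun x hx c hxc => by
        change c ^ p ^ d = c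
        obtain ⟨j, hj⟩ := hdvd
        rw [← Nat.sub_add_cancel (Nat.one_le_pow d p hpp.pos), pow_succ, hj, pow_mul,
          scalar_pow_card_center htop hx hxc, one_pow, one_mul])
    obtain ⟨g, hg⟩ := IsCyclic.exists_ofOrder_eq_natCard (α := Fˣ)
    have h1 : (g : F) ^ p ^ d = g := this g
    have h2 : g ^ (p ^ d - 1) = 1 := by
      apply Units.ext
      rw [← Nat.sub_add_cancel (Nat.one_le_pow d p hpp.pos), pow_succ] at h1
      exact mul_right_cancel₀ g.ne_zero (h1.trans (one_mul _).symm)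
    rw [← orderOf_dvd_iff_pow_eq_one, hg, Nat.card_units, Nat.card_eq_fintype_card, he] at h2
    have h3 : 1 < p ^ d := Nat.one_lt_pow hd.ne' hpp.one_lt
    have h4 := Nat.le_of_dvd (by omega) h2
    have h5 : p ^ d < p ^ e := Nat.pow_lt_pow_right hpp.one_lt hde
    simp only [PNat.mk_coe] at h4
    omega

end cent

theorem Nil2.exists_prime [Finite F] (hn : 2 ≤ Fintype.card ι) {H N : Subgroup (GL ι F)}
    (h : Nil2 H N) : ∃ r, r.Prime ∧ (∀ x ∈ N, x ^ r ∈ scalars ι F) ∧
      (∀ x ∈ N, x ^ (r * Nat.gcd 2 r) = 1) := by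
  haveI := nonempty_of_two_le hn
  have hnc := not_comm_of_alg_top hn h.top
  have hns : ¬ N ≤ scalars ι F := fun hle => hnc fun x hx y _ => scalars_comm (hle hx) y
  let π := QuotientGroup.mk' (scalars ι F)
  have hπ1 : ∀ x, π x = 1 ↔ x ∈ scalars ι F := fun x => QuotientGroup.eq_one_iff x
  have hπ : ∀ x ∈ N, ∀ y ∈ N, Commute (π x) (π y) := by
    intro x hx y hy
    rw [← commutatorElement_eq_one_iff_commute, ← map_commutatorElement, hπ1]
    exact comm_scalar h.comm hx hy
  obtain ⟨x₀, hx₀, hx₀s⟩ := SetLike.not_le_iff_exists.mp hns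
  have hord : orderOf (π x₀) ≠ 1 := by rw [Ne, orderOf_eq_one_iff, hπ1]; exact hx₀s
  obtain ⟨r, hr, j, hj⟩ := Nat.exists_prime_and_dvd hord
  have hpos : 0 < orderOf (π x₀) := orderOf_pos _
  have hr1 : ∀ x ∈ N, x ^ r ∈ scalars ι F := by
    let M : Subgroup (GL ι F) :=
      { carrier := {x | x ∈ N ∧ x ^ r ∈ scalars ι F}
        mul_mem' := fun {a b} ha hb => ⟨N.mul_mem ha.1 hb.1, by
          rw [← hπ1, map_pow, map_mul, (hπ a ha.1 b hb.1).mul_pow, ← map_pow, ← map_pow,
            (hπ1 _).mpr ha.2, (hπ1 _).mpr hb.2, mul_one]⟩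
        one_mem' := ⟨N.one_mem, by rw [one_pow]; exact one_mem _⟩
        inv_mem' := fun {a} ha => ⟨N.inv_mem ha.1, by rw [inv_pow]; exact inv_mem ha.2⟩ }
    rcases h.min M (fun x hx => hx.1) (fun g hg x hx => ⟨h.norm g hg x hx.1, by
      rw [conj_pow]; exact scalars_normal.conj_mem _ hx.2 g⟩) with h1 | h1
    · exfalso
      have := h1 (x := x₀ ^ j) ⟨N.pow_mem hx₀ j, by
        rw [← hπ1, ← pow_mul, map_pow, mul_comm, ← hj, pow_orderOf_eq_one]⟩
      rw [← hπ1, map_pow, ← orderOf_dvd_iff_pow_eq_one] at this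
      have h2 := Nat.le_of_dvd (by rcases j with _ | j <;> simp_all) this
      have := hr.two_le
      nlinarith
    · intro x hx
      rw [← h1] at hx
      exact hx.2
  refine ⟨r, hr, hr1, ?_⟩
  set s := r * Nat.gcd 2 r with hs
  have hdvd : r ∣ s.choose 2 := by
    rcases hr.eq_two_or_odd' with rfl | hodd
    · rw [hs]; decide
    · rw [hs, (Nat.coprime_two_left.mpr hodd : Nat.gcd 2 r = 1), mul_one]
      exact hr.dvd_choose_self two_ne_zero (lt_of_le_of_ne hr.two_le (by rintro rfl; exact absurd hodd (by decide)))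
  have hmul : ∀ x ∈ N, ∀ y ∈ N, (x * y) ^ s = x ^ s * y ^ s := by
    intro x hx y hy
    have hc := comm_scalar h.comm hy hx
    set c := y * x * y⁻¹ * x⁻¹ with hcdef
    have h1 : y * x = c * (x * y) := by rw [hcdef]; group
    have h2 : c ^ r = 1 := by
      have h3 : y * x * y⁻¹ = c * x := by rw [hcdef]; group
      have h4 : (y * x * y⁻¹) ^ r = c ^ r * x ^ r := by
        rw [h3, Commute.mul_pow (scalars_comm hc x)]
      rw [conj_pow, ← scalars_comm (hr1 x hx), mul_inv_cancel_right] at h4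
      exact (mul_eq_right.mp h4.symm)
    obtain ⟨k, hk⟩ := hdvd
    rw [mul_pow_of_comm (scalars_comm hc) h1, hk, pow_mul, h2, one_pow, one_mul]
  let f : N →* scalars ι F :=
    { toFun := fun x => ⟨x ^ s, by rw [hs, pow_mul]; exact pow_mem (hr1 x x.2) _⟩
      map_one' := Subtype.ext (one_pow s)
      map_mul' := fun x y => Subtype.ext (hmul x x.2 y y.2) }
  rcases h.min (f.ker.map N.subtype) (Subgroup.map_subtype_le _) (by
    intro g hg y hy
    obtain ⟨x, hx, rfl⟩ := Subgroup.mem_map.mp hy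
    refine Subgroup.mem_map.mpr ⟨⟨_, h.norm g hg x x.2⟩, ?_, rfl⟩
    have h1 : (x : GL ι F) ^ s = 1 := congrArg Subtype.val hx
    apply Subtype.ext
    change (g * x * g⁻¹) ^ s = 1
    rw [conj_pow, h1, mul_one, mul_inv_cancel]) with h1 | h1
  · exfalso
    haveI := isCyclic_scalars (F := F) (ι := ι)
    have := f.isMulCommutative_of_isCyclic_of_ker_le_center (fun x hx =>
      (mem_center_iff_scalar h.top x).mpr (h1 ⟨x, hx, rfl⟩))
    exact hnc fun x hx y hy => congrArg Subtype.val (this.is_comm.comm ⟨x, hx⟩ ⟨y, hy⟩)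
  · intro x hx
    rw [← h1] at hx
    obtain ⟨y, hy, rfl⟩ := hx
    exact congrArg Subtype.val hy

theorem Nil2.data [Fintype F] (hn : 2 ≤ Fintype.card ι) {H N : Subgroup (GL ι F)} (h : Nil2 H N) :
    ∃ r k p e, IsSymplecticTypeGroup r N ∧ r ≠ p ∧
      IsMinimalFieldFor (Nat.card (Subgroup.center N)) p e F ∧ 1 ≤ k ∧ Fintype.card ι = r ^ k ∧
      Nat.card N = Nat.card (Subgroup.center N) * r ^ (2 * k) ∧ (∀ x ∈ N, x ^ r ∈ scalars ι F) ∧
      ((Odd r ∧ Nat.card (Subgroup.center N) = r) ∨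
        (r = 2 ∧ (Nat.card (Subgroup.center N) = 2 ∨ Nat.card (Subgroup.center N) = 4))) := by
  haveI := nonempty_of_two_le hn
  obtain ⟨r, hr, hr1, hr2⟩ := h.exists_prime hn
  haveI := Fact.mk hr
  have hnc := not_comm_of_alg_top hn h.top
  have hs : r * Nat.gcd 2 r ∣ r ^ 2 := by
    rcases hr.eq_two_or_odd' with rfl | hodd
    · decide
    · rw [(Nat.coprime_two_left.mpr hodd : Nat.gcd 2 r = 1), mul_one]
      exact dvd_pow_self r two_ne_zero
  have hexp : Monoid.exponent N ∣ r * Nat.gcd 2 r :=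
    Monoid.exponent_dvd_of_forall_pow_eq_one fun x => Subtype.ext (hr2 x x.2)
  have hp : IsPGroup r N := fun x => ⟨2, by
    rw [← orderOf_dvd_iff_pow_eq_one]
    exact ((Monoid.order_dvd_exponent x).trans hexp).trans hs⟩
  have hcard := card_eq_center_mul h.top h.comm
  obtain ⟨j, hj⟩ := IsPGroup.iff_card.mp hp
  obtain ⟨k, -, hk⟩ := (Nat.dvd_prime_pow hr).mp
    (show Fintype.card ι ∣ r ^ j from by
      rw [← hj, hcard]; exact Dvd.dvd.mul_left (dvd_pow_self _ two_ne_zero) _)
  have hk1 : 1 ≤ k := by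
    rcases k with _ | k
    · rw [hk] at hn; simp at hn
    · omega
  obtain ⟨p, e, hmin⟩ := isMinimalFieldFor h.top h.comm h.scal
  have hZ : Nat.card (Subgroup.center N) ∣ r * Nat.gcd 2 r := by
    haveI := isCyclic_center h.top
    rw [← IsCyclic.exponent_eq_card]
    exact (Monoid.exponent_dvd_of_monoidHom _ (Subgroup.center N).subtype_injective).trans hexp
  have hZ1 : Nat.card (Subgroup.center N) ≠ 1 := by
    intro h1
    apply hnc
    intro x hx y hy
    have h2 : (⟨_, commutator_le_self' N (Subgroup.commutator_mem_commutator hx hy)⟩ : N) ∈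
        Subgroup.center N := (mem_center_iff_scalar h.top _).mpr (comm_scalar h.comm hx hy)
    rw [Subgroup.card_eq_one.mp h1, Subgroup.mem_bot] at h2
    exact commutatorElement_eq_one_iff_mul_comm.mp (congrArg Subtype.val h2)
  have hexp1 : ¬ ∀ x : N, x * x = 1 := fun h1 => hnc fun x hx y hy => by
    have h2 : ∀ x : N, x⁻¹ = x := fun x => inv_eq_of_mul_eq_one_left (h1 x)
    have := h2 (⟨x, hx⟩ * ⟨y, hy⟩)
    rw [_root_.mul_inv_rev, h2, h2] at this
    exact (congrArg Subtype.val this).symm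
  refine ⟨r, k, p, e, ⟨hr, hp, fun A hA hAc => ?_, ?_⟩, ?_, hmin, hk1, hk, ?_, hr1, ?_⟩
  · rcases h.min (A.map N.subtype) (Subgroup.map_subtype_le _) (by
      intro g hg y hy
      obtain ⟨x, hx, rfl⟩ := Subgroup.mem_map.mp hy
      have := (Subgroup.characteristic_iff_map_le.mp hA)
        (N.normalizerMonoidHom ⟨g, h.norm.le_normalizer hg⟩) ⟨x, hx, rfl⟩
      exact ⟨_, this, rfl⟩) with h1 | h1
    · haveI := isCyclic_of_le_scalars h1
      exact (Subgroup.equivMapOfInjective _ _ N.subtype_injective).isCyclic.mpr this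
    · exfalso
      apply hnc
      intro x hx y hy
      rw [← h1] at hx hy
      obtain ⟨a, ha, rfl⟩ := hx
      obtain ⟨b, hb, rfl⟩ := hy
      exact congrArg (fun g : A => ((g : N) : GL ι F)) (hAc.is_comm.comm ⟨a, ha⟩ ⟨b, hb⟩)
  · rcases hr.eq_two_or_odd' with rfl | hodd
    · have h4 : Monoid.exponent N ∣ 2 ^ 2 := hexp
      obtain ⟨i, hi, hi'⟩ := (Nat.dvd_prime_pow Nat.prime_two).mp h4
      have : ¬ Monoid.exponent N ∣ 2 := fun h2 => hexp1 fun x => by
        rw [← sq, ← orderOf_dvd_iff_pow_eq_one]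
        exact (Monoid.order_dvd_exponent x).trans h2
      interval_cases i
      · rw [hi'] at this; simp at this
      · rw [hi'] at this; simp at this
      · rw [hi']; rfl
    · rw [(Nat.coprime_two_left.mpr hodd : Nat.gcd 2 r = 1), mul_one] at hexp ⊢
      refine ((Nat.dvd_prime hr).mp hexp).resolve_left fun h1 => hexp1 fun x => ?_
      have := Monoid.pow_exponent_eq_one x
      rw [h1, pow_one] at this
      rw [this, one_mul]
  · rintro rfl
    apply card_ne_zero h.top h.comm
    haveI := hmin.2.1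
    rw [hk, Nat.cast_pow, CharP.cast_eq_zero, zero_pow (by omega)]
  · rw [hcard, hk, ← pow_mul, mul_comm k]
  · rcases hr.eq_two_or_odd' with rfl | hodd
    · right
      refine ⟨rfl, ?_⟩
      have h4 : Nat.card (Subgroup.center N) ∣ 2 ^ 2 := hZ
      obtain ⟨i, hi, hi'⟩ := (Nat.dvd_prime_pow Nat.prime_two).mp h4
      interval_cases i
      · exact absurd hi' hZ1
      · exact Or.inl hi'
      · exact Or.inr hi'
    · left
      rw [(Nat.coprime_two_left.mpr hodd : Nat.gcd 2 r = 1), mul_one] at hZ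
      exact ⟨hodd, ((Nat.dvd_prime hr).mp hZ).resolve_left hZ1⟩

theorem Nil2.exists_unitary [Fintype F] [Nonempty ι] {H N : Subgroup (GL ι F)} (h : Nil2 H N)
    {p d : ℕ} (hp : p.Prime) [CharP F p] (hdvd : Nat.card (Subgroup.center N) ∣ p ^ d + 1)
    (hndvd : ¬ Nat.card (Subgroup.center N) ∣ 2) :
    ∃ (τ : F →+* F) (G : Matrix ι ι F), Herm τ 1 G ∧ (¬ ∀ a, τ a = a) ∧
      ∀ x ∈ N, IsSim τ G 1 (x : Matrix ι ι F) := by
  haveI := Fact.mk hp
  have hτ : ∀ x ∈ N, ∀ c : F, (x : Matrix ι ι F) = c • (1 : Matrix ι ι F) →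
      iterateFrobenius F p d c * c = 1 := by
    intro x hx c hxc
    obtain ⟨j, hj⟩ := hdvd
    rw [iterateFrobenius_def, ← pow_succ, hj, pow_mul, scalar_pow_card_center h.top hx hxc, one_pow]
  obtain ⟨ε, G, hG, hN⟩ := exists_herm_of_cent h.top h.comm h.scal _ hτ
  have hne : ¬ ∀ a, iterateFrobenius F p d a = a := by
    intro hall
    obtain ⟨x, hx, c, hxc, hc⟩ := exists_scalar_orderOf h.top
    apply hndvd
    rw [← hc, orderOf_dvd_iff_pow_eq_one, sq]
    have := hτ x hx c hxc
    rwa [hall] at this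
  rcases hG.eps with rfl | ⟨-, h2⟩
  · exact ⟨_, G, hG, hne, hN⟩
  · exact absurd h2 hne

theorem Nil2.exists_bilinear [Finite F] [Nonempty ι] {H N : Subgroup (GL ι F)} (h : Nil2 H N)
    (hZ : Nat.card (Subgroup.center N) = 2) :
    ∃ (ε : F) (G : Matrix ι ι F), Herm (RingHom.id F) ε G ∧
      ∀ x ∈ N, IsSim (RingHom.id F) G 1 (x : Matrix ι ι F) :=
  exists_herm_of_cent h.top h.comm h.scal _ fun x hx c hxc => by
    have := scalar_pow_card_center h.top hx hxc
    rwa [hZ, sq] at this

end CL.Asch
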