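import Cfsg.Agent.CLAS.AschAmb

/-!
The orthogonal space of plus type in dimension four as a tensor product of two symplectic planes.
-/

set_option autoImplicit false

namespace CL.Asch

open Matrix Cfsg.Geo
open scoped Kronecker MatrixGroups commutatorElement

variable {F : Type*} [Field F] {ι κ μ : Type} [Fintype ι] [DecidableEq ι] [Fintype κ] [DecidableEq κ]
  [Fintype μ] [DecidableEq μ] {σ : F →+* F}

local notation "ρ" => RingHom.id F

theorem exists_ne_zero_of_det [Nonempty κ] {G : Matrix κ κ F} (h : G.det ≠ 0) : ∃ a b, G a b ≠ 0 := by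
  by_contra h0
  push Not at h0
  exact h (by rw [show G = 0 from Matrix.ext h0, det_zero])

theorem isSim_of_kron [Nonempty κ] [Nonempty μ] {G₁ a : Matrix κ κ F} {G₂ b : Matrix μ μ F}
    (h₁ : G₁.det ≠ 0) (h₂ : G₂.det ≠ 0) {c : F} (hc : c ≠ 0) (h : IsSim σ (G₁ ⊗ₖ G₂) c (a ⊗ₖ b)) :
    ∃ c₁ c₂, c₁ * c₂ = c ∧ IsSim σ G₁ c₁ a ∧ IsSim σ G₂ c₂ b := by
  rw [IsSim, transpose_kronecker, map_kronecker, ← mul_kronecker_mul, ← mul_kronecker_mul] at h
  unfold IsSim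
  generalize aᵀ * G₁ * a.map σ = A at h
  generalize bᵀ * G₂ * b.map σ = B at h
  have key : ∀ i j k l, A i j * B k l = c * (G₁ i j * G₂ k l) := fun i j k l =>
    congrFun (congrFun h (i, k)) (j, l)
  obtain ⟨i, j, hij⟩ := exists_ne_zero_of_det h₁
  obtain ⟨k, l, hkl⟩ := exists_ne_zero_of_det h₂
  have h3 : A i j * B k l ≠ 0 := by rw [key]; exact mul_ne_zero hc (mul_ne_zero hij hkl)
  have h4 := left_ne_zero_of_mul h3
  have h5 := right_ne_zero_of_mul h3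
  refine ⟨c * G₂ k l / B k l, c * G₁ i j / A i j, ?_, ?_, ?_⟩
  · field_simp
    linear_combination -key i j k l
  · ext x y
    rw [Matrix.smul_apply, smul_eq_mul]
    field_simp
    linear_combination key x y k l
  · ext x y
    rw [Matrix.smul_apply, smul_eq_mul]
    field_simp
    linear_combination key i j x y

theorem IsSim.det_eq {G g : Matrix κ κ F} {c : F} (hG : G.det ≠ 0) (h : IsSim σ G c g) :
    g.det * σ g.det = c ^ Fintype.card κ := by
  have := congrArg det h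
  rw [det_mul, det_mul, det_transpose, det_smul, ← RingHom.mapMatrix_apply, ← RingHom.map_det] at this
  exact mul_right_cancel₀ hG (by linear_combination this)

theorem IsSim.unique [Nonempty κ] {G g : Matrix κ κ F} {c d : F} (hG : G.det ≠ 0) (h : IsSim σ G c g)
    (h' : IsSim σ G d g) : c = d := by
  obtain ⟨a, b, hab⟩ := exists_ne_zero_of_det hG
  exact mul_right_cancel₀ hab (congrFun (congrFun (h.symm.trans h') a) b)

/-- the Gram matrix of the determinant form on a tensor product of two planes -/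
abbrev JJ (F : Type*) [Field F] : Matrix (Fin 2 × Fin 2) (Fin 2 × Fin 2) F := J2 F ⊗ₖ J2 F

theorem eq_of_skew_JJ (h2 : (2 : F) ≠ 0) {y : Matrix (Fin 2 × Fin 2) (Fin 2 × Fin 2) F}
    (hy : IsAdj ρ (JJ F) y (-y)) {d : F} (hd : y * y = d • (1 : Matrix _ _ F)) :
    (∃ p, y = kronL _ _ F p) ∨ ∃ p, y = kronR _ _ F p := by
  have e := fun a b c d => congrFun (congrFun hy (a, b)) (c, d)
  simp only [Fin.forall_fin_two, mul_apply, Fintype.sum_prod_type, Fin.sum_univ_two, J2,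
    kroneckerMap_apply, transpose_apply, map_apply, Matrix.neg_apply, RingHom.id_apply, of_apply,
    cons_val', cons_val_zero, cons_val_one, cons_val_fin_one] at e
  obtain ⟨⟨⟨⟨e1, e2⟩, e3, e4⟩, ⟨e5, e6⟩, e7, e8⟩, ⟨⟨e9, e10⟩, e11, e12⟩, ⟨e13, e14⟩, e15, e16⟩ := e
  obtain ⟨p, r, s, t, u, w, rfl⟩ : ∃ p r s t u w : F,
      y = kronL _ _ F !![p, r; s, -p] + kronR _ _ F !![t, u; w, -t] := by
    refine ⟨(y (0, 0) (0, 0) + y (0, 1) (0, 1)) / 2, y (0, 0) (1, 0), y (1, 0) (0, 0),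
      (y (0, 0) (0, 0) - y (0, 1) (0, 1)) / 2, y (0, 0) (0, 1), y (0, 1) (0, 0), ?_⟩
    ext ⟨a, b⟩ ⟨c, d⟩
    fin_cases a <;> fin_cases b <;> fin_cases c <;> fin_cases d <;>
      simp [kronL_apply, kronR_apply] <;> grind
  clear e1 e2 e3 e4 e5 e6 e7 e8 e9 e10 e11 e12 e13 e14 e15 e16 hy
  have e := fun a b c d => congrFun (congrFun hd (a, b)) (c, d)
  clear hd
  simp only [Fin.forall_fin_two, mul_apply, Fintype.sum_prod_type, Fin.sum_univ_two, kronL_apply,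
    kronR_apply, Matrix.add_apply, Matrix.smul_apply, one_apply, Prod.mk.injEq,
    kroneckerMap_apply, of_apply, cons_val', cons_val_zero, cons_val_one, cons_val_fin_one] at e
  simp only [zero_ne_one, one_ne_zero, and_true, and_false, if_true, if_false,
    smul_eq_mul] at e
  by_cases h : t = 0 ∧ u = 0 ∧ w = 0
  · obtain ⟨rfl, rfl, rfl⟩ := h
    exact Or.inl ⟨_, by rw [neg_zero, show (!![0, 0; 0, 0] : Matrix (Fin 2) (Fin 2) F) = 0 from
      by ext i j; fin_cases i <;> fin_cases j <;> rfl, map_zero, add_zero]⟩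
  · obtain ⟨rfl, rfl, rfl⟩ : p = 0 ∧ r = 0 ∧ s = 0 := by
      obtain ⟨⟨⟨⟨e1, e2⟩, e3, e4⟩, ⟨e5, e6⟩, e7, e8⟩, ⟨⟨e9, e10⟩, e11, e12⟩, ⟨e13, e14⟩, e15, e16⟩ := e
      have k : ∀ a b : F, 2 * (a * b) = 0 → a * b = 0 := fun a b h => (mul_eq_zero.mp h).resolve_left h2
      have f1 : p * t = 0 := k _ _ (k 2 (p * t) (by linear_combination e1 - e6))
      have f2 : p * u = 0 := k _ _ (by linear_combination e2)
      have f3 : p * w = 0 := k _ _ (by linear_combination e5)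
      have f4 : r * t = 0 := k _ _ (by linear_combination e3)
      have f5 : r * u = 0 := k _ _ (by linear_combination e4)
      have f6 : r * w = 0 := k _ _ (by linear_combination e7)
      have f7 : s * t = 0 := k _ _ (by linear_combination e9)
      have f8 : s * u = 0 := k _ _ (by linear_combination e10)
      have f9 : s * w = 0 := k _ _ (by linear_combination e13)
      have k2 : ∀ a : F, a * t = 0 → a * u = 0 → a * w = 0 → a = 0 := fun a h1 h3 h4 => by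
        by_contra h0
        exact h ⟨(mul_eq_zero.mp h1).resolve_left h0, (mul_eq_zero.mp h3).resolve_left h0,
          (mul_eq_zero.mp h4).resolve_left h0⟩
      exact ⟨k2 _ f1 f2 f3, k2 _ f4 f5 f6, k2 _ f7 f8 f9⟩
    exact Or.inr ⟨_, by rw [neg_zero, show (!![0, 0; 0, 0] : Matrix (Fin 2) (Fin 2) F) = 0 from
      by ext i j; fin_cases i <;> fin_cases j <;> rfl, map_zero, zero_add]⟩

theorem exists_traceless (h2 : (2 : F) ≠ 0) (x : Matrix (Fin 2) (Fin 2) F) :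
    ∃ (c : F) (y : Matrix (Fin 2) (Fin 2) F), adjugate y = -y ∧ x = c • (1 : Matrix _ _ F) + y := by
  refine ⟨(x 0 0 + x 1 1) / 2, x - ((x 0 0 + x 1 1) / 2) • 1, ?_, by abel⟩
  rw [adjugate_fin_two]
  ext i j; fin_cases i <;> fin_cases j <;> simp <;> grind

theorem cover_two {V W : Type*} [AddCommGroup V] [AddCommGroup W] (S : AddSubgroup V) (f : V →+ W)
    (A B : AddSubgroup W) (h : ∀ x ∈ S, f x ∈ A ∨ f x ∈ B) :
    (∀ x ∈ S, f x ∈ A) ∨ ∀ x ∈ S, f x ∈ B := by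
  by_contra h0
  push Not at h0
  obtain ⟨⟨x, hx, h1⟩, y, hy, h2⟩ := h0
  rcases h _ (S.add_mem hx hy) with h3 | h3 <;> rw [map_add] at h3
  · exact h1 (by simpa using A.sub_mem h3 ((h y hy).resolve_right h2))
  · exact h2 (by simpa using B.sub_mem h3 ((h x hx).resolve_left h1))

theorem conj_maps_other [Nonempty κ] [Nonempty ι] {φ ψ φ' ψ' : Matrix κ κ F →ₐ[F] Matrix ι ι F}
    (hc : ∀ x y, φ x * ψ y = ψ y * φ x) (hc' : ∀ x y, φ' x * ψ' y = ψ' y * φ' x)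
    (hcard : Fintype.card ι = Fintype.card κ * Fintype.card κ) {g : GL ι F}
    (h : ∀ x, ∃ y, conjAlgHom g (φ x) = φ' y) (x : Matrix κ κ F) : ∃ y, conjAlgHom g (ψ x) = ψ' y := by
  obtain ⟨a, ha⟩ := exists_conj_of_range_le ((conjAlgHom g).comp φ) φ' h
  refine exists_eq_of_commute_pair φ' ψ' hc' hcard _ fun z => ?_
  rw [← conjAlgHom_cancel_inv a z, ← ha, AlgHom.comp_apply, ← map_mul, ← map_mul, hc]

theorem kron_comm (x : Matrix κ κ F) (y : Matrix μ μ F) :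
    kronL κ μ F x * kronR κ μ F y = kronR κ μ F y * kronL κ μ F x := by
  rw [kronL_mul_kronR, kronR_mul_kronL]

/-- the swap of two tensor factors -/
def swapGL (κ : Type) [Fintype κ] [DecidableEq κ] (F : Type*) [Field F] : GL (κ × κ) F :=
  ⟨(1 : Matrix _ _ F).submatrix Prod.swap id, (1 : Matrix _ _ F).submatrix Prod.swap id,
    by ext a b; simp [mul_apply, one_apply, Prod.swap_eq_iff_eq_swap],
    by ext a b; simp [mul_apply, one_apply, Prod.swap_eq_iff_eq_swap]⟩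

theorem conj_swapGL (x y : Matrix κ κ F) : conjAlgHom (swapGL κ F) (x ⊗ₖ y) = y ⊗ₖ x := by
  ext ⟨a, b⟩ ⟨c, d⟩
  simp [conjAlgHom_apply, swapGL, mul_apply, one_apply, mul_comm, Prod.swap_eq_iff_eq_swap]

theorem det_swapGL : (swapGL (Fin 2) F : Matrix (Fin 2 × Fin 2) (Fin 2 × Fin 2) F).det = -1 := by
  have := det_permute (Equiv.prodComm (Fin 2) (Fin 2)) (1 : Matrix (Fin 2 × Fin 2) (Fin 2 × Fin 2) F)
  rw [show Equiv.Perm.sign (Equiv.prodComm (Fin 2) (Fin 2)) = -1 by decide] at this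
  simpa [swapGL] using this

theorem isSim_swapGL (G : Matrix κ κ F) : IsSim σ (G ⊗ₖ G) 1 (swapGL κ F : Matrix (κ × κ) (κ × κ) F) := by
  ext ⟨a, b⟩ ⟨c, d⟩
  simp [swapGL, mul_apply, one_apply, mul_comm, apply_ite σ, Prod.swap_eq_iff_eq_swap,
    ← Prod.swap_eq_iff_eq_swap (x := (a, b))]

theorem IsSim.kron {G₁ x : Matrix κ κ F} {G₂ y : Matrix μ μ F} {c d : F} (h : IsSim σ G₁ c x)
    (h' : IsSim σ G₂ d y) : IsSim σ (G₁ ⊗ₖ G₂) (c * d) (x ⊗ₖ y) := by
  rw [IsSim, transpose_kronecker, map_kronecker, ← mul_kronecker_mul, ← mul_kronecker_mul, h, h',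
    smul_kronecker, kronecker_smul, smul_smul]

theorem Herm.kron {ε₁ ε₂ : F} {G₁ : Matrix κ κ F} {G₂ : Matrix μ μ F} (h : Herm ρ ε₁ G₁)
    (h' : Herm ρ ε₂ G₂) : Herm ρ (ε₁ * ε₂) (G₁ ⊗ₖ G₂) := by
  refine ⟨fun _ => rfl, ?_, ?_, ?_⟩
  · rw [det_kronecker]
    exact mul_ne_zero (pow_ne_zero _ h.det_ne) (pow_ne_zero _ h'.det_ne)
  · rw [map_kronecker, transpose_kronecker, h.herm, h'.herm, smul_kronecker, kronecker_smul, smul_smul]
  · rcases h.eps with rfl | ⟨rfl, -⟩ <;> rcases h'.eps with rfl | ⟨rfl, -⟩ <;> simp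

theorem herm_JJ : Herm ρ 1 (JJ F) := by simpa using (herm_J2 (F := F)).kron herm_J2

theorem det_of_sim_JJ {b : GL (Fin 2 × Fin 2) F} {c : F} (hb : IsSim ρ (JJ F) c b)
    (h : ∀ x, ∃ y, conjAlgHom b (kronL _ _ F x) = kronL _ _ F y) :
    (b : Matrix (Fin 2 × Fin 2) (Fin 2 × Fin 2) F).det = c ^ 2 := by
  obtain ⟨x, y, hxy⟩ := exists_kronecker_of_normalizes b h
  rw [hxy] at hb ⊢
  rw [hb.unique herm_JJ.det_ne ((isSim_J2 _).kron (isSim_J2 _)), det_kronecker]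
  simp [mul_pow]

/-- the similarities of the determinant form preserve the tensor structure -/
theorem sim_JJ_cases (h2 : (2 : F) ≠ 0) {b : GL (Fin 2 × Fin 2) F} {c : F} (hb : IsSim ρ (JJ F) c b) :
    ((∀ x, ∃ y, conjAlgHom b (kronL _ _ F x) = kronL _ _ F y) ∧
      (∀ x, ∃ y, conjAlgHom b (kronR _ _ F x) = kronR _ _ F y) ∧
      (b : Matrix (Fin 2 × Fin 2) (Fin 2 × Fin 2) F).det = c ^ 2) ∨
    ((∀ x, ∃ y, conjAlgHom b (kronL _ _ F x) = kronR _ _ F y) ∧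
      (∀ x, ∃ y, conjAlgHom b (kronR _ _ F x) = kronL _ _ F y) ∧
      (b : Matrix (Fin 2 × Fin 2) (Fin 2 × Fin 2) F).det = -c ^ 2) := by
  let S : AddSubgroup (Matrix (Fin 2) (Fin 2) F) :=
    { carrier := {y | adjugate y = -y}
      add_mem' := fun {x y} hx hy => by
        rw [Set.mem_ofPred_eq] at hx hy ⊢
        rw [neg_add, ← hx, ← hy, adjugate_fin_two, adjugate_fin_two, adjugate_fin_two]
        ext i j; fin_cases i <;> fin_cases j <;> simp [add_comm]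
      zero_mem' := by simp
      neg_mem' := fun {x} hx => by
        rw [Set.mem_ofPred_eq] at hx ⊢
        rw [← hx, adjugate_adjugate _ (by simp), hx]; simp }
  have key := cover_two S ((conjAlgHom b).comp (kronL (Fin 2) (Fin 2) F)).toRingHom.toAddMonoidHom
    (kronL (Fin 2) (Fin 2) F).range.toSubring.toAddSubgroup
    (kronR (Fin 2) (Fin 2) F).range.toSubring.toAddSubgroup fun x hx => by
      have hx' : adjugate x = -x := hx
      have h1 : IsAdj ρ (JJ F) (kronL _ _ F x) (kronL _ _ F (-x)) :=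
        hx' ▸ (isAdj_J2 x).kron (isAdj_one _)
      have h3 : x * x = (-x.det) • (1 : Matrix _ _ F) := by
        rw [neg_smul, ← mul_adjugate, hx', mul_neg, neg_neg]
      have h4 := h1.conj hb
      rw [map_neg, map_neg] at h4
      rcases eq_of_skew_JJ h2 h4 (d := -x.det) (by rw [← map_mul, ← map_mul, h3]; simp) with
        ⟨p, hp⟩ | ⟨p, hp⟩
      · exact Or.inl ⟨p, hp.symm⟩
      · exact Or.inr ⟨p, hp.symm⟩
  have ext : ∀ φ : Matrix (Fin 2) (Fin 2) F →ₐ[F] Matrix (Fin 2 × Fin 2) (Fin 2 × Fin 2) F,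
      (∀ x ∈ S, ∃ y, φ y = conjAlgHom b (kronL _ _ F x)) →
      ∀ x, ∃ y, conjAlgHom b (kronL _ _ F x) = φ y := fun φ h x => by
    obtain ⟨d, y, hy, rfl⟩ := exists_traceless h2 x
    obtain ⟨z, hz⟩ := h y hy
    exact ⟨d • 1 + z, by simp [hz]⟩
  rcases key with h | h
  · have h1 := ext _ h
    exact Or.inl ⟨h1, conj_maps_other kron_comm kron_comm (by simp) h1, det_of_sim_JJ hb h1⟩
  · have h1 := ext _ h
    refine Or.inr ⟨h1, conj_maps_other kron_comm (fun x y => (kron_comm y x).symm) (by simp) h1, ?_⟩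
    have h3 := det_of_sim_JJ (b := swapGL _ F * b) (c := 1 * c)
      (by rw [Units.val_mul]; exact (isSim_swapGL (J2 F)).mul hb) fun x => by
      obtain ⟨y, hy⟩ := h1 x
      exact ⟨y, by rw [conjAlgHom_mul, hy, kronR_apply, conj_swapGL, kronL_apply]⟩
    rw [Units.val_mul, det_mul, det_swapGL] at h3
    linear_combination -h3

theorem adj_iff_of_imp [Nonempty κ] [Nonempty ι] (hσ : ∀ a, σ (σ a) = a) {G : Matrix ι ι F}
    {G₁ : Matrix κ κ F} (hG : G.det ≠ 0) (hG₁ : G₁.det ≠ 0) {φ : Matrix κ κ F →ₐ[F] Matrix ι ι F}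
    (h : ∀ x y, IsAdj σ G₁ x y → IsAdj σ G (φ x) (φ y)) (x y : Matrix κ κ F) :
    IsAdj σ G₁ x y ↔ IsAdj σ G (φ x) (φ y) := by
  refine ⟨h x y, fun h1 => ?_⟩
  obtain ⟨z, hz⟩ := exists_isAdj hσ hG₁ x
  rwa [algHom_injective φ (h1.unique hG (h x z hz))]

theorem conj_eq_of_mul {g : GL ι F} {x y : Matrix ι ι F} (h : y * g = g * x) : conjAlgHom g x = y := by
  rw [conjAlgHom_apply, ← h, Units.mul_inv_cancel_right]

section TP
variable {G : Matrix ι ι F} {H : Subgroup (GL ι F)} {k l : ℕ}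
  {φ : Matrix (Fin k) (Fin k) F →ₐ[F] Matrix ι ι F} {ψ : Matrix (Fin l) (Fin l) F →ₐ[F] Matrix ι ι F}
  {ε ε₁ ε₂ : F} {G₁ : Matrix (Fin k) (Fin k) F} {G₂ : Matrix (Fin l) (Fin l) F}

theorem TPForm.exists_factor (h : TPForm σ G H φ ψ ε₁ ε₂ G₁ G₂) (hG : Herm σ ε G) {g : GL ι F}
    (hg : g ∈ H) {c : F} (hc : IsSim σ G c g) : ∃ (a : GL (Fin k) F) (b : GL (Fin l) F) (c₁ c₂ : F),
      (g : Matrix ι ι F) = φ a * ψ b ∧ c₁ * c₂ = c ∧ IsSim σ G₁ c₁ a ∧ IsSim σ G₂ c₂ b ∧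
      (g : Matrix ι ι F).det = (a : Matrix (Fin k) (Fin k) F).det ^ l *
        (b : Matrix (Fin l) (Fin l) F).det ^ k ∧
      (∀ x, conjAlgHom g (φ x) = φ (conjAlgHom a x)) ∧ ∀ x, conjAlgHom g (ψ x) = ψ (conjAlgHom b x) := by
  haveI := h.pair.neZero₁
  haveI := h.pair.neZero₂
  haveI := h.pair.nonempty
  obtain ⟨e, P, d, h1, h2, h3, h4, h5⟩ := h.exists_coord hG
  obtain ⟨a, b, hab⟩ := (mem_tensorProductSubgroup_iff e P g).mp (h3 hg)
  have h6 := hc
  rw [hab, ← isSim_cpull, h5] at h6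
  have h7 := h6.smul_gram d⁻¹
  rw [smul_smul, inv_mul_cancel₀ h4, one_smul] at h7
  obtain ⟨c₁, c₂, h8, h9, h10⟩ := isSim_of_kron h.herm₁.det_ne h.herm₂.det_ne (hc.ne_zero hG.det_ne) h7
  have h11 : (g : Matrix ι ι F) = φ a * ψ b := by rw [hab, h1, h2, ← map_mul, kronL_mul_kronR]
  refine ⟨a, b, c₁, c₂, h11, h8, h9, h10, by rw [hab, det_coord, det_kronecker]; simp, fun x =>
    conj_eq_of_mul ?_, fun x => conj_eq_of_mul ?_⟩
  · rw [h11, ← mul_assoc, ← map_mul, conjAlgHom_apply, Units.inv_mul_cancel_right, mul_assoc,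
      ← h.pair.comm, map_mul, mul_assoc]
  · rw [h11, ← mul_assoc, ← h.pair.comm, mul_assoc, ← map_mul, conjAlgHom_apply,
      Units.inv_mul_cancel_right, map_mul, mul_assoc]

end TP

theorem exists_cpull_JJ [Finite F] (h2 : (2 : F) ≠ 0) {G : Matrix (Fin 4) (Fin 4) F} (hG : Herm ρ 1 G)
    (hp : IsPlusTypeOn (fun v => gf ρ G v v) ⊤) (e : Fin 4 ≃ Fin 2 × Fin 2) :
    ∃ a : GL (Fin 4) F, cpull ρ G e a = JJ F := by
  obtain ⟨G', h1, h3⟩ := exists_cpull_eq (herm_JJ (F := F)) e 1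
  let L : (Fin 2 → F) →ₗ[F] (Fin 2 × Fin 2 → F) :=
    { toFun := pv2 (Pi.single 0 1)
      map_add' := fun u v => by ext; simp [pv2, mul_add]
      map_smul' := fun c v => by ext; simp [pv2, mul_left_comm] }
  have hL : Function.Injective ((cvec e (1 : GL (Fin 4) F)).toLinearMap ∘ₗ L) :=
    (cvec e 1).injective.comp fun u v huv => funext fun i => by
      simpa [L, pv2] using congrFun huv (0, i)
  obtain ⟨a, ha⟩ := exists_congr_type h2 hG h1 (by simp; decide) (iff_of_true ⟨LinearMap.range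
    ((cvec e (1 : GL (Fin 4) F)).toLinearMap ∘ₗ L), le_top, by
      rintro _ ⟨u, rfl⟩
      show gf ρ G' (cvec e 1 (pv2 _ u)) (cvec e 1 (pv2 _ u)) = 0
      rw [← gf_cpull, h3, gf_kron_pv2, alt_J2, zero_mul],
    by rw [LinearMap.finrank_range_of_inj hL]; simp⟩ hp)
  refine ⟨a, ?_⟩
  rw [← h3, ha]
  simp [cpull, gpull]

theorem TPForm.split_four [Finite F] (h2 : (2 : F) ≠ 0) {G : Matrix ι ι F} {H : Subgroup (GL ι F)} {k : ℕ}
    {φ : Matrix (Fin k) (Fin k) F →ₐ[F] Matrix ι ι F} {ψ : Matrix (Fin 4) (Fin 4) F →ₐ[F] Matrix ι ι F}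
    {ε ε₁ : F} {G₁ : Matrix (Fin k) (Fin k) F} {G₂ : Matrix (Fin 4) (Fin 4) F}
    (h : TPForm ρ G H φ ψ ε₁ 1 G₁ G₂) (hG : Herm ρ ε G)
    (hp : IsPlusTypeOn (fun v => gf ρ G₂ v v) ⊤) (hH : ∀ g ∈ H, IsSim ρ G 1 (g : Matrix ι ι F)) :
    ∃ α β : Matrix (Fin 2) (Fin 2) F →ₐ[F] Matrix ι ι F, (∀ x y, φ x * α y = α y * φ x) ∧
      (∀ x y, φ x * β y = β y * φ x) ∧ (∀ x y, α x * β y = β y * α x) ∧
      (∀ x y, IsAdj ρ (J2 F) x y ↔ IsAdj ρ G (α x) (α y)) ∧
      (∀ x y, IsAdj ρ (J2 F) x y ↔ IsAdj ρ G (β x) (β y)) ∧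
      ∀ g ∈ H, ((∀ x, ∃ y, conjAlgHom g (α x) = α y) ∧ ∀ x, ∃ y, conjAlgHom g (β x) = β y) ∨
        ((∀ x, ∃ y, conjAlgHom g (α x) = β y) ∧ (∀ x, ∃ y, conjAlgHom g (β x) = α y) ∧
          (g : Matrix ι ι F).det = (-1) ^ k) := by
  haveI := h.pair.nonempty
  let e : Fin 4 ≃ Fin 2 × Fin 2 := (finProdFinEquiv (m := 2) (n := 2)).symm
  obtain ⟨P, hP⟩ := exists_cpull_JJ h2 h.herm₂ hp e
  have hadj : ∀ x y, IsAdj ρ (JJ F) x y → IsAdj ρ G (ψ (coord e P x)) (ψ (coord e P y)) :=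
    fun x y hxy => (h.adj₂ _ _).mp (isAdj_cpull.mp (hP ▸ hxy))
  refine ⟨(ψ.comp (coord e P)).comp (kronL _ _ F), (ψ.comp (coord e P)).comp (kronR _ _ F),
    fun x y => h.pair.comm _ _, fun x y => h.pair.comm _ _, fun x y => ?_,
    adj_iff_of_imp (fun _ => rfl) hG.det_ne herm_J2.det_ne fun x y hxy =>
      hadj _ _ (hxy.kron (isAdj_one _)),
    adj_iff_of_imp (fun _ => rfl) hG.det_ne herm_J2.det_ne fun x y hxy =>
      hadj _ _ ((isAdj_one _).kron hxy), fun g hg => ?_⟩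
  · simp only [AlgHom.comp_apply, ← map_mul, kron_comm]
  obtain ⟨a, b, c₁, c₂, -, h3, h4, h5, h6, -, h7⟩ := h.exists_factor hG hg (hH g hg)
  obtain ⟨b, rfl⟩ := (coordGL e P).surjective b
  rw [coe_coordGL, ← isSim_cpull, hP] at h5
  have key : ∀ x y, conjAlgHom b x = y → conjAlgHom g (ψ (coord e P x)) = ψ (coord e P y) :=
    fun x y hxy => by rw [h7, conj_coord, hxy]
  rcases sim_JJ_cases h2 h5 with ⟨h8, h9, -⟩ | ⟨h8, h9, h10⟩
  · exact Or.inl ⟨fun x => (h8 x).imp fun y => key _ _, fun x => (h9 x).imp fun y => key _ _⟩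
  refine Or.inr ⟨fun x => (h8 x).imp fun y => key _ _, fun x => (h9 x).imp fun y => key _ _, ?_⟩
  have h11 := h4.det_eq h.herm₁.det_ne
  rw [RingHom.id_apply, Fintype.card_fin] at h11
  rw [h6, coe_coordGL, det_coord, h10, neg_pow, show ∀ x : F, x ^ 4 = (x * x) ^ 2 from fun x => by ring,
    h11, ← pow_mul, ← pow_mul, mul_comm k 2, mul_left_comm, ← mul_pow, h3, one_pow, mul_one]

theorem eq_smul_J2 {G : Matrix (Fin 2) (Fin 2) F} (hG : G.det ≠ 0) (halt : ∀ v, gf ρ G v v = 0) :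
    ∃ c : F, c ≠ 0 ∧ G = c • J2 F := by
  have h0 := halt (Pi.single 0 1)
  have h1 := halt (Pi.single 1 1)
  have h3 := halt (Pi.single 0 1 + Pi.single 1 1)
  simp only [gf_add_left, gf_add_right, h0, h1] at h3
  simp only [gf_single] at h0 h1 h3
  have h4 : G = G 0 1 • J2 F := by
    ext i j; fin_cases i <;> fin_cases j <;> simp [J2, h0, h1]
    linear_combination h3
  exact ⟨G 0 1, fun h => hG (by rw [h, zero_smul] at h4; rw [h4, det_zero]), h4⟩

theorem exists_tensorPair' {H : Subgroup (GL ι F)} {k : ℕ}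
    {φ : Matrix (Fin k) (Fin k) F →ₐ[F] Matrix ι ι F} (hk : 2 ≤ k) (hkn : k < Fintype.card ι)
    (hφ : ∀ h ∈ H, ∀ x, ∃ y, conjAlgHom h (φ x) = φ y) :
    ∃ (l : ℕ) (ψ : Matrix (Fin l) (Fin l) F →ₐ[F] Matrix ι ι F), TensorPair H φ ψ := by
  haveI : NeZero k := ⟨by omega⟩
  obtain ⟨l, ψ, hl, hc⟩ := exists_complement φ
  rw [Fintype.card_fin] at hl
  have hl2 : 2 ≤ l := by
    by_contra h
    have : l = 0 ∨ l = 1 := by omega
    rcases this with rfl | rfl <;> omega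
  haveI : NeZero l := ⟨by omega⟩
  refine ⟨l, ψ, hk, hl2, hc, hl, hφ, fun h hh y => ?_⟩
  refine exists_eq_of_commute_pair φ ψ hc (by rw [hl]; simp) _ fun x => ?_
  obtain ⟨x', hx'⟩ := hφ h⁻¹ (inv_mem hh) x
  rw [← conjAlgHom_cancel_inv h (φ x), hx', ← map_mul, ← map_mul, hc]

end CL.Asch
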