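import Cfsg.Agent.CLAS.AschTr
import Cfsg.Agent.KSG.OrthMaxTS

/-!
Types of quadratic forms under orthogonal sums.
-/

set_option autoImplicit false

namespace CL.Asch

open Matrix Cfsg.Geo Module QuadraticMap CL.Orth
open scoped Kronecker MatrixGroups commutatorElement

section Abstract

variable {F V W : Type*} [Field F] [AddCommGroup V] [Module F V] [AddCommGroup W] [Module F W]
  [FiniteDimensional F V] [FiniteDimensional F W] {Q : QuadraticForm F V} {Q' : QuadraticForm F W}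

theorem finrank_subprod (U : Submodule F V) (U' : Submodule F W) :
    finrank F (U.prod U') = finrank F U + finrank F U' := by
  have : LinearMap.range (U.subtype.prodMap U'.subtype) = U.prod U' := by simp
  rw [← this, LinearMap.finrank_range_of_inj (fun a b h =>
    Prod.ext (Subtype.ext (congrArg Prod.fst h)) (Subtype.ext (congrArg Prod.snd h))), finrank_prod]

theorem isPlus_prod_of (h : IsPlus Q) (h' : IsPlus Q') : IsPlus (Q.prod Q') := by
  obtain ⟨U, h1, h2⟩ := h
  obtain ⟨U', h3, h4⟩ := h'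
  exact ⟨U.prod U', fun w hw => by simp [h1 _ hw.1, h3 _ hw.2], by
    rw [finrank_subprod, finrank_prod]; omega⟩

theorem isPlus_prod_neg (Q : QuadraticForm F V) : IsPlus (Q.prod (-Q)) :=
  ⟨LinearMap.range (LinearMap.id.prod LinearMap.id), by rintro _ ⟨v, rfl⟩; simp, by
    rw [LinearMap.finrank_range_of_inj (fun a b h => congrArg Prod.fst h), finrank_prod]; omega⟩

theorem exists_max_ts (Q : QuadraticForm F V) (P : Submodule F V → Prop) (h0 : P ⊥) :
    ∃ U, P U ∧ (∀ u ∈ U, Q u = 0) ∧ ∀ U', P U' → (∀ u ∈ U', Q u = 0) → U ≤ U' → U' = U := by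
  obtain ⟨U, hU, h⟩ := wellFounded_gt.has_min {U | P U ∧ ∀ u ∈ U, Q u = 0}
    ⟨⊥, h0, fun u hu => by rw [(Submodule.mem_bot F).mp hu, map_zero]⟩
  exact ⟨U, hU.1, hU.2, fun U' h1 h2 h3 => (h3.eq_of_not_lt (h U' ⟨h1, h2⟩)).symm⟩

omit [FiniteDimensional F V] in
theorem ts_sup {U U' : Submodule F V} (h : ∀ u ∈ U, Q u = 0) (h' : ∀ u ∈ U', Q u = 0)
    (hp : U' ≤ Orth.perp Q U) : ∀ u ∈ U ⊔ U', Q u = 0 := fun u hu => by
  obtain ⟨a, ha, b, hb, rfl⟩ := Submodule.mem_sup.mp hu
  rw [Q_add, h a ha, h' b hb, Orth.mem_perp.mp (hp hb) a ha]; simp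

theorem exists_max_ts' (Q : QuadraticForm F V) :
    ∃ U : Submodule F V, (∀ u ∈ U, Q u = 0) ∧ ∀ v ∈ Orth.perp Q U, Q v = 0 → v ∈ U := by
  obtain ⟨U, -, h1, h2⟩ := exists_max_ts Q (fun _ => True) trivial
  refine ⟨U, h1, fun v hv h0 => ?_⟩
  rw [← h2 (U ⊔ F ∙ v) trivial (ts_sup h1 (fun u hu => by
    obtain ⟨c, rfl⟩ := Submodule.mem_span_singleton.mp hu
    rw [Q_smul, h0, mul_zero]) ((Submodule.span_singleton_le_iff_mem _ _).mpr hv)) le_sup_left]
  exact Submodule.mem_sup_right (Submodule.mem_span_singleton_self v)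

theorem isPlus_cancel (hQ : (polarBilin Q).Nondegenerate) (hQ' : (polarBilin Q').Nondegenerate)
    (h : IsPlus Q) (h' : IsPlus (Q.prod Q')) : IsPlus Q' := by
  obtain ⟨U, h1, h2⟩ := h
  obtain ⟨X, h3, h4⟩ := h'
  obtain ⟨U', h5, h6⟩ := exists_max_ts' Q'
  have h7 := perp_eq_self_of_max hQ h2.symm rfl h1
  have h8 := finrank_le_of_maximal_singular (prod_nondeg hQ hQ') h3 (E := U.prod U') fun v hv h0 => by
    have ha : v.1 ∈ U := h7 ▸ Orth.mem_perp.mpr fun w hw => by
      simpa [polar_prod] using Orth.mem_perp.mp hv (w, 0) ⟨hw, U'.zero_mem⟩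
    refine ⟨ha, h6 _ (Orth.mem_perp.mpr fun w hw => ?_) (by simpa [h1 _ ha] using h0)⟩
    simpa [polar_prod] using Orth.mem_perp.mp hv (0, w) ⟨U.zero_mem, hw⟩
  have h9 := two_mul_finrank_le_of_singular hQ' h5
  rw [finrank_subprod] at h8
  rw [finrank_prod] at h4
  exact ⟨U', h5, by omega⟩

omit [FiniteDimensional F V] [FiniteDimensional F W] in
theorem isPlus_prod_comm (h : IsPlus (Q.prod Q')) : IsPlus (Q'.prod Q) :=
  h.of_isom (LinearEquiv.prodComm F V W) fun v => by simp [add_comm]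

omit [FiniteDimensional F V] in
theorem isPlus_neg_iff : IsPlus (-Q) ↔ IsPlus Q := by simp [IsPlus]

omit [FiniteDimensional F V] in
theorem neg_nondeg (hQ : (polarBilin Q).Nondegenerate) : (polarBilin (-Q)).Nondegenerate := by
  rw [← neg_one_smul F Q]; exact smul_nondeg hQ (by simp)

theorem isPlus_prod_minus [Finite F] (hQ : (polarBilin Q).Nondegenerate)
    (hQ' : (polarBilin Q').Nondegenerate) (he : Even (finrank F V)) (he' : Even (finrank F W))
    (hle : finrank F V ≤ finrank F W) (h : ¬ IsPlus Q) (h' : ¬ IsPlus Q') : IsPlus (Q.prod Q') := by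
  obtain ⟨a, ha⟩ := he
  obtain ⟨b, hb⟩ := he'
  have h1 : finrank F (V × (Fin (b - a) ⊕ Fin (b - a) → F)) = finrank F W := by
    rw [finrank_prod, finrank_sum_fin]; omega
  obtain ⟨φ, hφ⟩ := exists_isometry_of_isPlus_iff (prod_nondeg (neg_nondeg hQ) (QPlus_nondeg (b - a) F))
    hQ' (h1 ▸ ⟨b, hb⟩) h1 (iff_of_false (fun h2 => h (isPlus_neg_iff.mp (isPlus_cancel
      (QPlus_nondeg (b - a) F) (neg_nondeg hQ) (isPlus_QPlus _) (isPlus_prod_comm h2)))) h')
  exact (isPlus_prod_of (isPlus_prod_neg Q) (isPlus_QPlus (b - a))).of_isom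
    ((LinearEquiv.prodAssoc F _ _ _).trans ((LinearEquiv.refl F V).prodCongr φ)) fun v => by
      simp [hφ, add_assoc]

theorem isPlus_prod_iff [Finite F] (hQ : (polarBilin Q).Nondegenerate)
    (hQ' : (polarBilin Q').Nondegenerate) (he : Even (finrank F V)) (he' : Even (finrank F W)) :
    IsPlus (Q.prod Q') ↔ (IsPlus Q ↔ IsPlus Q') := by
  refine ⟨fun h => ⟨fun h1 => isPlus_cancel hQ hQ' h1 h,
    fun h1 => isPlus_cancel hQ' hQ h1 (isPlus_prod_comm h)⟩, fun h => ?_⟩
  by_cases h1 : IsPlus Q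
  · exact isPlus_prod_of h1 (h.mp h1)
  rcases le_total (finrank F V) (finrank F W) with h2 | h2
  · exact isPlus_prod_minus hQ hQ' he he' h2 h1 (mt h.mpr h1)
  · exact isPlus_prod_comm (isPlus_prod_minus hQ' hQ he' he h2 (mt h.mpr h1) h1)

theorem pi_type [Finite F] (hQ : (polarBilin Q).Nondegenerate) (t : ℕ) :
    (polarBilin (QuadraticMap.pi fun _ : Fin t => Q)).Nondegenerate ∧
      dsc (QuadraticMap.pi fun _ : Fin t => Q) = dsc Q ^ t ∧
      (Even (finrank F V) → (IsPlus (QuadraticMap.pi fun _ : Fin t => Q) ↔ IsPlus Q ∨ Even t)) := by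
  induction t with
  | zero =>
    have h1 : (polarBilin (QuadraticMap.pi fun _ : Fin 0 => Q)).Nondegenerate :=
      nondeg_iff.mpr fun x _ => Subsingleton.elim _ _
    refine ⟨h1, ?_, fun _ => iff_of_true ⟨⊥, fun w _ => by simp, by simp [finrank_pi_fintype]⟩ (by simp)⟩
    rw [dsc_eq h1 (Basis.empty (ι := Fin 0) _), det_isEmpty, sqSign_one, pow_zero]
  | succ t ih =>
    obtain ⟨h1, h2, h3⟩ := ih
    have he : ∀ v, (QuadraticMap.pi fun _ : Fin (t + 1) => Q) (Fin.consLinearEquiv F _ v) =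
        (Q.prod (QuadraticMap.pi fun _ : Fin t => Q)) v := fun v => by
      simp [Fin.sum_univ_succ]
    refine ⟨nondeg_of_isom _ he (prod_nondeg hQ h1), ?_, fun h => ?_⟩
    · rw [dsc_congr (prod_nondeg hQ h1) _ he, dsc_prod hQ h1, h2, pow_succ']
    · rw [← isPlus_congr _ he, isPlus_prod_iff hQ h1 h (by simp [finrank_pi_fintype, h.mul_left]),
        h3 h, Nat.even_add_one]
      tauto

omit [FiniteDimensional F V] in
theorem Q_sum_of_orth {α : Type*} (s : Finset α) (v : α → V)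
    (h : ∀ i j, i ≠ j → polar Q (v i) (v j) = 0) : Q (∑ i ∈ s, v i) = ∑ i ∈ s, Q (v i) := by
  classical
  induction s using Finset.induction_on with
  | empty => simp
  | insert a s ha ih =>
    have : polar Q (v a) (∑ i ∈ s, v i) = 0 := by
      rw [← polarBilin_apply_apply, map_sum]
      exact Finset.sum_eq_zero fun i hi => h _ _ (by rintro rfl; exact ha hi)
    rw [Finset.sum_insert ha, Finset.sum_insert ha, Q_add, ih, this, add_zero]

omit [FiniteDimensional F V] in
theorem isPlus_restrict_iff {U : Submodule F V} : IsPlus (Q.restrict U) ↔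
    ∃ X ≤ U, (∀ x ∈ X, Q x = 0) ∧ 2 * finrank F X = finrank F U := by
  constructor
  · rintro ⟨X, h1, h2⟩
    exact ⟨X.map U.subtype, U.map_subtype_le X, by rintro _ ⟨x, hx, rfl⟩; exact h1 x hx,
      by rwa [Submodule.finrank_map_subtype_eq]⟩
  · rintro ⟨X, h0, h1, h2⟩
    exact ⟨X.comap U.subtype, fun x hx => h1 _ hx,
      by rwa [(Submodule.comapSubtypeEquivOfLe h0).finrank_eq]⟩

end Abstract

variable {F : Type*} [Field F] {ι κ μ : Type} [Fintype ι] [DecidableEq ι] [Fintype κ] [DecidableEq κ]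
  [Fintype μ] [DecidableEq μ] {Q : QuadraticForm F (ι → F)}

local notation "ρ" => RingHom.id F

theorem plusOn_iff {U : Submodule F (ι → F)} : IsPlusTypeOn Q U ↔ IsPlus (Q.restrict U) :=
  isPlus_restrict_iff.symm

theorem plusOn_top_iff : IsPlusTypeOn Q ⊤ ↔ IsPlus Q := by
  simp [IsPlusTypeOn, IsPlus, IsTotallySingularQuad]

theorem nondeg_restrict {U : Submodule F (ι → F)} (h : IsNondegenerateOn (polar Q) U) :
    (polarBilin (Q.restrict U)).Nondegenerate :=
  nondeg_iff.mpr fun x hx => by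
    by_contra h0
    obtain ⟨y, hy, h1⟩ := (h x x.2 fun h => h0 (Subtype.ext h)).2
    exact h1 (hx ⟨y, hy⟩)

theorem dsc_eq_of_isometric [Finite F] {U U' : Submodule F (ι → F)} (h : IsNondegenerateOn (polar Q) U)
    (h' : AreIsometricFor Q U U') : dsc (Q.restrict U') = dsc (Q.restrict U) := by
  obtain ⟨e, he⟩ := h'
  exact dsc_congr (nondeg_restrict h) e he

theorem dec_type [Finite F] {t m : ℕ} {D : Fin t → Submodule F (ι → F)}
    (hD : IsOrthogonalMDecomposition Q m D) (i : Fin t) : dsc Q = dsc (Q.restrict (D i)) ^ t ∧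
      (Even m → (IsPlusTypeOn Q ⊤ ↔ IsPlusTypeOn Q (D i) ∨ Even t)) := by
  choose φ hφ using hD.isometric i
  obtain ⟨h1, h2, h3⟩ := pi_type (nondeg_restrict (hD.decomp.nondegenerate i)) t
  let L : (Fin t → D i) →ₗ[F] (ι → F) :=
    ∑ j, (D j).subtype ∘ₗ (φ j).toLinearMap ∘ₗ LinearMap.proj j
  have hL : ∀ x, Q (L x) = (QuadraticMap.pi fun _ : Fin t => Q.restrict (D i)) x := fun x => by
    rw [LinearMap.sum_apply, QuadraticMap.pi_apply]
    exact (Q_sum_of_orth _ (fun j => (φ j (x j) : ι → F)) fun j k hjk => hD.decomp.orthogonal j k hjk _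
      (φ j _).2 _ (φ k _).2).trans (Finset.sum_congr rfl fun j _ => hφ j _)
  have hd := hD.decomp.decomp.finrank_eq i
  let e := L.linearEquivOfInjective (injective_of_isom h1 L hL) (by
    simp [finrank_pi_fintype, hd, card_eq_of_isMDecomposition hD.decomp.decomp])
  refine ⟨(dsc_congr h1 e hL).trans h2, fun h => ?_⟩
  rw [plusOn_top_iff, plusOn_iff, ← isPlus_congr e hL, h3 (hd ▸ h)]

theorem split_type [Finite F] {U U' : Submodule F (ι → F)} (hc : IsCompl U U')
    (ho : ∀ u ∈ U, ∀ v ∈ U', polar Q u v = 0) (h : IsNondegenerateOn (polar Q) U)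
    (h' : IsNondegenerateOn (polar Q) U') : dsc Q = dsc (Q.restrict U) * dsc (Q.restrict U') ∧
      (Even (finrank F U) → Even (finrank F U') →
        (IsPlusTypeOn Q ⊤ ↔ (IsPlusTypeOn Q U ↔ IsPlusTypeOn Q U'))) := by
  have h1 := nondeg_restrict h
  have h2 := nondeg_restrict h'
  have he : ∀ x, Q (U.prodEquivOfIsCompl U' hc x) = ((Q.restrict U).prod (Q.restrict U')) x := fun x => by
    rw [Submodule.coe_prodEquivOfIsCompl', Q_add, ho _ x.1.2 _ x.2.2, add_zero]; rfl
  refine ⟨(dsc_congr (prod_nondeg h1 h2) _ he).trans (dsc_prod h1 h2), fun h3 h4 => ?_⟩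
  rw [plusOn_top_iff, plusOn_iff, plusOn_iff, ← isPlus_congr _ he, isPlus_prod_iff h1 h2 h3 h4]

theorem isometric_of_plus_iff [Finite F] {U U' : Submodule F (ι → F)} (h : IsNondegenerateOn (polar Q) U)
    (h' : IsNondegenerateOn (polar Q) U') (he : Even (finrank F U)) (hd : finrank F U = finrank F U')
    (hp : IsPlusTypeOn Q U ↔ IsPlusTypeOn Q U') : AreIsometricFor Q U U' :=
  exists_isometry_of_isPlus_iff (nondeg_restrict h) (nondeg_restrict h') he hd
    (by rwa [← plusOn_iff, ← plusOn_iff])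

theorem AreIsometricFor.plus_iff {U U' : Submodule F (ι → F)} (h : AreIsometricFor Q U U') :
    IsPlusTypeOn Q U ↔ IsPlusTypeOn Q U' := by
  obtain ⟨e, he⟩ := h
  rw [plusOn_iff, plusOn_iff]
  exact isPlus_congr e he

theorem AreIsometricFor.symm' {Q : (ι → F) → F} {U U' : Submodule F (ι → F)}
    (h : AreIsometricFor Q U U') : AreIsometricFor Q U' U := by
  obtain ⟨e, he⟩ := h
  exact ⟨e.symm, fun w => by rw [← he, e.apply_symm_apply]⟩

theorem isOrth_pair {Q : (ι → F) → F} {m : ℕ} {D : Fin 2 → Submodule F (ι → F)}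
    (hD : IsNondegenerateMDecomposition (polar Q) m D) (h : AreIsometricFor Q (D 0) (D 1)) :
    IsOrthogonalMDecomposition Q m D := by
  refine ⟨hD, fun i j => ?_⟩
  fin_cases i <;> fin_cases j
  exacts [⟨LinearEquiv.refl _ _, fun _ => rfl⟩, h, AreIsometricFor.symm' h, ⟨LinearEquiv.refl _ _, fun _ => rfl⟩]

/-- the Gram matrix of the polar form -/
def gq (Q : QuadraticForm F (ι → F)) : Matrix ι ι F := gramMatrix (polar Q)

theorem polar_eq_gf (Q : QuadraticForm F (ι → F)) : polar Q = gf ρ (gq Q) :=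
  IsBilinearForm.eq_gf ⟨polar_add_left Q, polar_smul_left' Q, polar_add_right Q,
    fun c v x => polar_smul_right' Q c v x⟩

theorem isNondegQuad (hQ : (polarBilin Q).Nondegenerate) : IsNondegenerateQuadraticForm Q :=
  FGL.isNondegenerateQuadraticForm_of Q ((Witt.Form.ofQuad_nondeg_iff Q).mpr hQ)

theorem herm_gq (hQ : (polarBilin Q).Nondegenerate) : Herm ρ 1 (gq Q) := herm_of_quad (isNondegQuad hQ)

theorem gf_gq_self (v : ι → F) : gf ρ (gq Q) v v = 2 * Q v := by rw [← polar_eq_gf, polar_self']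

theorem dsc_eq_gq [Finite F] (hQ : (polarBilin Q).Nondegenerate) : dsc Q = sqSign (gq Q).det :=
  dsc_eq_std hQ

theorem isSim_of_isometry {g : Matrix ι ι F} (h : ∀ v, Q (g *ᵥ v) = Q v) : IsSim ρ (gq Q) 1 g :=
  isSim_one_iff.mpr fun u v => by
    rw [← polar_eq_gf, polar, polar, ← Matrix.mulVec_add, h, h, h]

theorem isometry_of_isSim (h2 : (2 : F) ≠ 0) {g : Matrix ι ι F} (h : IsSim ρ (gq Q) 1 g) (v : ι → F) :
    Q (g *ᵥ v) = Q v :=
  mul_left_cancel₀ h2 (by rw [← gf_gq_self, ← gf_gq_self, isSim_one_iff.mp h])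

theorem omegaGL_le (Q : (ι → F) → F) : omegaGL Q ≤ Cfsg.isometryGroup F Q := Subgroup.map_subtype_le _

theorem det_of_mem_omega {Q : (ι → F) → F} {g : GL ι F} (h : g ∈ omegaGL Q) :
    (g : Matrix ι ι F).det = 1 := by
  rw [FGL.omegaGL_eq] at h
  refine mem_specialLinear.mp (Subgroup.commutator_le.mpr (fun a _ b _ => ?_) h)
  rw [specialLinear, MonoidHom.mem_ker, map_commutatorElement, commutatorElement_eq_one_iff_mul_comm,
    mul_comm]

theorem amb_omega [Finite F] (hQ : (polarBilin Q).Nondegenerate) (hn : 5 ≤ Fintype.card ι) :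
    Amb ρ 1 (gq Q) (fun x => Q x = 0) (Cfsg.isometryGroup F Q) (omegaGL Q) 3 := by
  have hf := (Witt.Form.ofQuad_nondeg_iff Q).mpr hQ
  have h5 : 5 ≤ finrank F (ι → F) := by simpa using hn
  exact amb_of_form hf (Witt.Form.prim_of_finrank (by omega) (by omega))
    (((Witt.Form.quad_iso3 _).idx2 hf h5).commutator_E hf h5) (herm_gq hQ)
    (fun u v => by rw [← polar_eq_gf]; exact FGL.quad_B_iff Q u v)
    (fun g => (FGL.mem_isometryGroup_iff_O Q).mp) (fun g => FGL.mem_omegaGL_iff_E Q hf hn)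
    (Witt.Form.quad_iso3 _) (by omega) (by omega)

end CL.Asch
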