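import Cfsg.Agent.CLAS.AschAmb

/-!
Transfer of matrix groups to explicit coordinates over an explicit field.
-/

set_option autoImplicit false

namespace CL.Asch

open Matrix Cfsg.Geo
open scoped Kronecker MatrixGroups commutatorElement

variable {F : Type*} [Field F] {ι κ μ : Type} [Fintype ι] [DecidableEq ι] [Fintype κ] [DecidableEq κ]
  [Fintype μ] [DecidableEq μ] {σ : F →+* F} {E : Type*} [Field E] {τ : E →+* E}

theorem not_max_of_equiv {G G' : Type*} [Group G] [Group G'] (Φ : G' ≃* G) {X H : Subgroup G}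
    {K : Subgroup G'} (hH : IsMaximalIn X H) (h1 : ∀ g, Φ g ∈ H → g ∈ K) {a b : G'} (ha : a ∈ K)
    (haX : Φ a ∈ X) (haH : Φ a ∉ H) (hb : b ∉ K) (hbX : Φ b ∈ X) : False := by
  rcases hH.2 (K.map Φ.toMonoidHom ⊓ X) (fun h hh => ⟨⟨Φ.symm h, h1 _ (by simpa using hh), by simp⟩,
    hH.1.le hh⟩) inf_le_right with h | h
  · exact haH (h ▸ ⟨⟨a, ha, rfl⟩, haX⟩)
  · obtain ⟨⟨c, hc, h2⟩, -⟩ : Φ b ∈ K.map Φ.toMonoidHom ⊓ X := h.symm ▸ hbX
    exact hb (Φ.injective h2 ▸ hc)

/-- the stabiliser of a set of matrices under conjugation -/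
def cstab (S : Set (Matrix ι ι F)) : Subgroup (GL ι F) where
  carrier := {g | ∀ y, y ∈ S ↔ conjAlgHom g y ∈ S}
  mul_mem' := fun {a b} ha hb y => by rw [conjAlgHom_mul, ← ha, ← hb]
  one_mem' := fun y => by rw [conjAlgHom_one]
  inv_mem' := fun {a} ha y => by rw [ha (conjAlgHom a⁻¹ y), conjAlgHom_cancel_inv]

theorem mem_cstab [Finite F] {S : Set (Matrix ι ι F)} {g : GL ι F}
    (h : ∀ y ∈ S, conjAlgHom g y ∈ S) : g ∈ cstab S := fun y => ⟨h y, fun hy => by
  have hb : Set.BijOn (conjAlgHom g) S S := ((Set.toFinite S).injOn_iff_bijOn_of_mapsTo h).mp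
    (conjAlgHom_injective g).injOn
  obtain ⟨z, hz, h1⟩ := hb.surjOn hy
  rwa [← conjAlgHom_injective g h1]⟩

/-- matrices over `E` in new coordinates -/
noncomputable def trM (φ : E ≃+* F) (e : ι ≃ κ) (P : GL ι F) : Matrix κ κ E ≃+* Matrix ι ι F :=
  φ.mapMatrix.trans (RingEquiv.ofBijective (coord e P) (coord_bijective e P))

theorem trM_apply (φ : E ≃+* F) (e : ι ≃ κ) (P : GL ι F) (x : Matrix κ κ E) :
    trM φ e P x = coord e P (x.map φ) := rfl

noncomputable def trGL (φ : E ≃+* F) (e : ι ≃ κ) (P : GL ι F) : GL κ E ≃* GL ι F :=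
  Units.mapEquiv (trM φ e P).toMulEquiv

theorem coe_trGL (φ : E ≃+* F) (e : ι ≃ κ) (P : GL ι F) (g : GL κ E) :
    (trGL φ e P g : Matrix ι ι F) = trM φ e P g := rfl

theorem conj_trGL (φ : E ≃+* F) (e : ι ≃ κ) (P : GL ι F) (g : GL κ E) (x : Matrix κ κ E) :
    conjAlgHom (trGL φ e P g) (trM φ e P x) = trM φ e P (conjAlgHom g x) := by
  rw [conjAlgHom_apply, conjAlgHom_apply, map_mul, map_mul, ← map_inv]; rfl

theorem trM_smul (φ : E ≃+* F) (e : ι ≃ κ) (P : GL ι F) (c : E) (x : Matrix κ κ E) :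
    trM φ e P (c • x) = φ c • trM φ e P x := by
  rw [trM_apply, trM_apply, ← map_smul]
  congr 1; ext a b; simp

theorem det_trM (φ : E ≃+* F) (e : ι ≃ κ) (P : GL ι F) (x : Matrix κ κ E) :
    (trM φ e P x).det = φ x.det := by
  rw [trM_apply, det_coord]; exact ((φ : E →+* F).map_det x).symm

theorem trM_mulVec (φ : E ≃+* F) (e : ι ≃ κ) (P : GL ι F) (x : Matrix κ κ E) (u : κ → E) :
    trM φ e P x *ᵥ cvec e P (φ ∘ u) = cvec e P (φ ∘ (x *ᵥ u)) := by
  rw [trM_apply, coord_mulVec]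
  congr 1; funext a
  exact ((φ : E →+* F).map_mulVec x u a).symm

section
variable {φ : E ≃+* F} (hφ : ∀ a, φ (τ a) = σ (φ a))
include hφ

theorem gf_map (G : Matrix κ κ E) (u v : κ → E) :
    gf σ (G.map φ) (φ ∘ u) (φ ∘ v) = φ (gf τ G u v) := by
  simp [gf_eq_sum, hφ]

theorem isAdj_map {G x y : Matrix κ κ E} : IsAdj σ (G.map φ) (x.map φ) (y.map φ) ↔ IsAdj τ G x y := by
  have h : (y.map φ).map σ = (y.map τ).map φ := by ext a b; simp [hφ]
  have h1 : (xᵀ * G).map φ = (x.map φ)ᵀ * G.map φ := by ext a b; simp [mul_apply]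
  have h2 : (G * y.map τ).map φ = G.map φ * (y.map τ).map φ := by ext a b; simp [mul_apply]
  rw [IsAdj, IsAdj, h, ← h1, ← h2]
  exact (map_injective φ.injective).eq_iff

theorem isSim_map {G x : Matrix κ κ E} {c : E} :
    IsSim σ (G.map φ) (φ c) (x.map φ) ↔ IsSim τ G c x := by
  have h : (x.map φ).map σ = (x.map τ).map φ := by ext a b; simp [hφ]
  have h1 : (xᵀ * G * x.map τ).map φ = (x.map φ)ᵀ * G.map φ * (x.map τ).map φ := by
    ext a b; simp [mul_apply]
  have h2 : (c • G).map φ = φ c • G.map φ := by ext a b; simp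
  rw [IsSim, IsSim, h, ← h1, ← h2]
  exact (map_injective φ.injective).eq_iff

theorem isAdj_trM {G : Matrix ι ι F} {G' : Matrix κ κ E} {e : ι ≃ κ} {P : GL ι F}
    (h : cpull σ G e P = G'.map φ) {x y : Matrix κ κ E} :
    IsAdj σ G (trM φ e P x) (trM φ e P y) ↔ IsAdj τ G' x y := by
  rw [trM_apply, trM_apply, ← isAdj_cpull, h, isAdj_map hφ]

theorem isSim_trM {G : Matrix ι ι F} {G' : Matrix κ κ E} {e : ι ≃ κ} {P : GL ι F}
    (h : cpull σ G e P = G'.map φ) {x : Matrix κ κ E} {c : E} :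
    IsSim σ G (φ c) (trM φ e P x) ↔ IsSim τ G' c x := by
  rw [trM_apply, ← isSim_cpull, h, isSim_map hφ]

theorem isSim_trM_one {G : Matrix ι ι F} {G' : Matrix κ κ E} {e : ι ≃ κ} {P : GL ι F}
    (h : cpull σ G e P = G'.map φ) {x : Matrix κ κ E} :
    IsSim σ G 1 (trM φ e P x) ↔ IsSim τ G' 1 x := by
  rw [← isSim_trM hφ h, map_one]

end

/-- coordinates from vectors with an invertible Gram matrix -/
theorem exists_coord_of_gram (hσ : Function.Surjective σ) (G : Matrix ι ι F)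
    (hc : Fintype.card ι = Fintype.card κ) (b : κ → ι → F) (h : (gres σ G b).det ≠ 0) :
    ∃ (e : ι ≃ κ) (P : GL ι F), (∀ u, cvec e P u = ∑ a, u a • b a) ∧ cpull σ G e P = gres σ G b := by
  let L := Fintype.linearCombination F b
  have hL : Function.Injective L := (injective_iff_map_eq_zero L).mpr fun u hu =>
    eq_zero_of_gf_left hσ h fun v => by
      rw [gf_gres, ← Fintype.linearCombination_apply F b u, show Fintype.linearCombination F b u = 0 from hu, gf_zero_left]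
  obtain ⟨e, P, hP⟩ := exists_cvec_of_equiv (L.linearEquivOfInjective hL (by simp [hc]))
  have h1 : ∀ u, cvec e P u = ∑ a, u a • b a := fun u => by rw [hP]; rfl
  exact ⟨e, P, h1, gf_inj fun u v => by rw [gf_cpull, gf_gres, h1, h1]⟩

theorem eq_coord_of {e : ι ≃ κ} {P : GL ι F} {x : Matrix ι ι F} {y : Matrix κ κ F}
    (h : ∀ a, x *ᵥ cvec e P (Pi.single a 1) = cvec e P (fun b => y b a)) : x = coord e P y := by
  obtain ⟨z, rfl⟩ := (coord_bijective e P).2 x
  congr 1
  ext b a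
  have := congrFun ((cvec e P).injective ((coord_mulVec e P z _).symm.trans (h a))) b
  simpa using this

end CL.Asch
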