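import Cfsg.Agent.CLAS.AschSp2
import Cfsg.Agent.CLAS.AschTr

/-!
Maximal subgroups of the symplectic groups of small dimension, the list.
-/

set_option autoImplicit false

namespace CL.Asch

open Matrix Cfsg.Geo
open scoped Kronecker MatrixGroups commutatorElement

variable {F : Type*} [Field F] {ι κ μ : Type} [Fintype ι] [DecidableEq ι] [Fintype κ] [DecidableEq κ]
  [Fintype μ] [DecidableEq μ] {σ : F →+* F}

local notation "ρ" => RingHom.id F

theorem IsFieldSubalgebra.two_span [Nonempty ι] {K : Subalgebra F (Matrix ι ι F)}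
    (hK : IsFieldSubalgebra 2 K) {s : Matrix ι ι F} (hs : s ∈ K)
    (hns : ¬ ∃ c : F, s = c • (1 : Matrix ι ι F)) :
    ∀ k ∈ K, ∃ a b : F, k = a • (1 : Matrix ι ι F) + b • s := by
  intro k hk
  have hli : LinearIndependent F ![(1 : K), ⟨s, hs⟩] := LinearIndependent.pair_iff.mpr fun a b h => by
    have h1 : a • (1 : Matrix ι ι F) + b • s = 0 := congrArg Subtype.val h
    have hb : b = 0 := by
      by_contra hb
      refine hns ⟨-a / b, ?_⟩
      rw [← inv_smul_smul₀ hb s, eq_neg_of_add_eq_zero_right h1, ← neg_smul, smul_smul]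
      congr 1; ring
    rw [hb, zero_smul, add_zero] at h1
    exact ⟨smul_one_inj (h1.trans (zero_smul _ _).symm), hb⟩
  have h := hli.span_eq_top_of_card_eq_finrank' (by simp [hK.finrank_eq])
  have h2 : (⟨k, hk⟩ : K) ∈ Submodule.span F {(1 : K), ⟨s, hs⟩} := by
    rw [← Matrix.range_cons_cons_empty _ _ ![], h]; trivial
  obtain ⟨a, b, h3⟩ := Submodule.mem_span_pair.mp h2
  exact ⟨a, b, (congrArg Subtype.val h3).symm⟩

theorem exists_skew_field [Nonempty ι] (h2 : (2 : F) ≠ 0) {ε : F} {G : Matrix ι ι F} (hG : Herm ρ ε G)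
    {K : Subalgebra F (Matrix ι ι F)} (hK : IsFieldSubalgebra 2 K)
    (ha : ∀ x ∈ K, ∃ y ∈ K, IsAdj ρ G x y) (hs : ¬ ∀ x ∈ K, IsAdj ρ G x x) :
    ∃ s ∈ K, ∃ d : F, IsAdj ρ G s (-s) ∧ s * s = d • (1 : Matrix ι ι F) ∧ ¬ IsSquare d ∧
      (∀ k ∈ K, ∃ a b : F, k = a • (1 : Matrix ι ι F) + b • s) ∧
      ∀ k ∈ K, IsAdj ρ G k (-k) → ∃ b : F, k = b • s := by
  push Not at hs
  obtain ⟨x, hx, hxx⟩ := hs
  obtain ⟨y, hy, hxy⟩ := ha x hx
  have h0 : x - y ≠ 0 := fun h => hxx (by rwa [← sub_eq_zero.mp h] at hxy)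
  have h1 : IsAdj ρ G (x - y) (-(x - y)) := by rw [neg_sub]; exact hxy.sub (hG.isAdj_symm hxy)
  have h3 := K.sub_mem hx hy
  generalize x - y = s at h0 h1 h3
  have h4 : ∀ a b : F, IsAdj ρ G (a • (1 : Matrix ι ι F) + b • s) (a • (1 : Matrix ι ι F) - b • s) :=
    fun a b => by simpa [sub_eq_add_neg] using ((isAdj_one G).smul hG.invol a).add (h1.smul hG.invol b)
  have h5 : ¬ ∃ c : F, s = c • (1 : Matrix ι ι F) := by
    rintro ⟨c, rfl⟩
    have := h1.unique hG.det_ne ((isAdj_one G).smul hG.invol c)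
    rw [← neg_smul] at this
    have h6 : c = 0 := by have : -c = c := smul_one_inj this; grind
    exact h0 (by rw [h6, zero_smul])
  have h6 := IsFieldSubalgebra.two_span hK h3 h5
  obtain ⟨d, b, hd⟩ := h6 _ (K.mul_mem h3 h3)
  have h7 : b = 0 := by
    have h8 := h1.mul h1
    rw [neg_mul_neg, hd] at h8
    have h9 : (2 * b) • s = 0 := by
      rw [mul_smul, two_smul]
      linear_combination (norm := abel) h8.unique hG.det_ne (h4 d b)
    exact (mul_eq_zero.mp ((smul_eq_zero.mp h9).resolve_right h0)).resolve_left h2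
  replace hd : s * s = d • 1 := by rw [hd, h7, zero_smul, add_zero]
  refine ⟨s, h3, d, h1, hd, ?_, h6, fun k hk hkk => ?_⟩
  · rintro ⟨c, rfl⟩
    have h8 : s - c • (1 : Matrix ι ι F) ∈ K := K.sub_mem h3 (K.smul_mem K.one_mem c)
    obtain ⟨z, -, hz⟩ := hK.inv (s + c • (1 : Matrix ι ι F)) (K.add_mem h3 (K.smul_mem K.one_mem c))
      fun h => h5 ⟨-c, by rw [neg_smul]; exact eq_neg_of_add_eq_zero_left h⟩
    refine h5 ⟨c, sub_eq_zero.mp ?_⟩
    have h9 : (s - c • (1 : Matrix ι ι F)) * (s + c • (1 : Matrix ι ι F)) = 0 := by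
      simp [sub_mul, mul_add, hd, smul_smul, smul_sub]
    rw [← mul_one (s - _), ← zero_mul z, ← h9, mul_assoc, hz]
  · obtain ⟨a, b, rfl⟩ := h6 k hk
    have h9 : (2 * a) • (1 : Matrix ι ι F) = (0 : F) • 1 := by
      rw [mul_smul, two_smul, zero_smul]
      linear_combination (norm := abel) (h4 a b).unique hG.det_ne hkk
    have : a = 0 := (mul_eq_zero.mp (smul_one_inj h9)).resolve_left h2
    exact ⟨b, by rw [this, zero_smul, zero_add]⟩

abbrev M43 := Matrix (Fin 4) (Fin 4) (ZMod 3)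
def s43 : M43 := !![0,2,0,0;1,0,0,0;0,0,0,2;0,0,1,0]
def G43 : M43 := !![0,1,0,0;2,0,0,0;0,0,0,1;0,0,2,0]
def g43 : GL (Fin 4) (ZMod 3) :=
  ⟨!![2,2,2,2;2,0,2,0;1,1,2,2;1,0,2,0], !![0,1,0,2;1,2,2,1;0,1,0,1;1,2,1,2], by decide, by decide⟩
def t43 : GL (Fin 4) (ZMod 3) :=
  ⟨!![1,2,0,0;0,1,0,0;0,0,1,0;0,0,0,1], !![1,1,0,0;0,1,0,0;0,0,1,0;0,0,0,1], by decide, by decide⟩
def y43 (a b c d e : ZMod 3) : M43 := !![a,0,e,-c;0,a,-d,b;b,c,-a,0;d,e,0,-a]
def S43 : Set M43 :=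
  {y | IsAdj (RingHom.id _) G43 y y ∧ trace y = 0 ∧ y * y = 1 ∧ (y * s43 = s43 * y ∨ y * s43 = -(s43 * y))}

theorem eq_y43 (y : M43) (h : yᵀ * G43 = G43 * y) (ht : trace y = 0) :
    y = y43 (y 0 0) (y 2 0) (y 2 1) (y 3 0) (y 3 1) := by
  have h1 := fun a b => congrFun (congrFun h a) b
  have := h1 0 1
  have := h1 0 2
  have := h1 0 3
  have := h1 1 2
  have := h1 1 3
  have := h1 2 3
  have := h1 0 0
  have := h1 1 1
  have := h1 2 2
  have := h1 3 3
  simp [G43, mul_apply, Fin.sum_univ_four, trace] at *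
  ext a b
  fin_cases a <;> fin_cases b <;> simp [y43] <;> grind

theorem trace_conj (g : GL ι F) (y : Matrix ι ι F) : trace (conjAlgHom g y) = trace y :=
  trace_units_conj g y

theorem mem_S43 {g : GL (Fin 4) (ZMod 3)} (hg : IsSim (RingHom.id _) G43 1 (g : M43))
    (h : ∀ y ∈ S43, conjAlgHom g y * s43 = s43 * conjAlgHom g y ∨
      conjAlgHom g y * s43 = -(s43 * conjAlgHom g y)) : g ∈ cstab S43 :=
  mem_cstab fun y hy => ⟨hy.1.conj hg, (trace_conj g y).trans hy.2.1,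
    by rw [← map_mul, hy.2.2.1, map_one], h y hy⟩

theorem g43_mem : g43 ∈ cstab S43 := mem_S43 (by unfold IsSim; decide) fun y hy => by
  obtain ⟨h1, h2, h3, h4⟩ := hy
  rw [eq_y43 y h1 h2] at h3 h4 ⊢
  rw [conjAlgHom_apply]
  revert h3 h4
  generalize y 0 0 = a, y 2 0 = b, y 2 1 = c, y 3 0 = d, y 3 1 = e
  revert a b c d e
  decide +kernel

theorem t43_not_mem : t43 ∉ cstab S43 := fun h => by
  have := ((h (y43 0 1 0 0 1)).mp ⟨by unfold IsAdj; decide, by decide, by decide, by decide⟩).2.2.2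
  rw [conjAlgHom_apply] at this
  revert this
  decide

theorem cases_three [Fintype F] (hq : Fintype.card F = 3) {a : F} (ha : a ≠ 0) : a = 1 ∨ a = -1 :=
  mul_self_eq_one_iff.mp (sq_eq_one_of_three hq ha)

/-- the unitary subgroup of `Sp₄(3)` is not maximal -/
theorem not_max_uni_four [Fintype F] (hq : Fintype.card F = 3) (hn : Fintype.card ι = 4)
    {G : Matrix ι ι F} (hG : Herm ρ (-1) G) {X H : Subgroup (GL ι F)}
    (hX : ∀ g, g ∈ X ↔ IsSim ρ G 1 (g : Matrix ι ι F)) (hH : IsMaximalIn X H)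
    {K : Subalgebra F (Matrix ι ι F)} (hK : IsFieldSubalgebra 2 K)
    (ha : ∀ x ∈ K, ∃ y ∈ K, IsAdj ρ G x y) (hs : ¬ ∀ x ∈ K, IsAdj ρ G x x)
    (hle : H ≤ subalgebraNormalizer K) : False := by
  haveI := nonempty_of_two_le (show 2 ≤ Fintype.card ι by omega)
  have h2 := two_ne_zero_of_three hq
  have h3 := three_eq_zero hq
  obtain ⟨s, hsK, d, hs1, hs2, hd, -, hs3⟩ := exists_skew_field h2 hG hK ha hs
  obtain rfl : d = -1 := (cases_three hq fun h : d = 0 => hd (h ▸ IsSquare.zero)).resolve_left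
    fun h => hd (h ▸ IsSquare.one)
  have hss : ∀ v, s *ᵥ (s *ᵥ v) = -v := fun v => by
    rw [mulVec_mulVec, hs2, smul_mulVec, one_mulVec, neg_one_smul]
  have hsw : ∀ u v, gf ρ G u v = - gf ρ G v u := fun u v => by rw [hG.swap']; simp
  have halt := hG.alt_of_two_ne h2
  have hadj : ∀ u v, gf ρ G (s *ᵥ u) v = - gf ρ G u (s *ᵥ v) := fun u v => by
    rw [isAdj_iff.mp hs1, neg_mulVec, gf_neg_right]
  have key : ∀ U : Submodule F (ι → F), (∀ v ∈ U, s *ᵥ v ∈ U) → (∃ u ∈ U, ∃ v ∈ U, gf ρ G u v ≠ 0) →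
      ∃ v ∈ U, gf ρ G v (s *ᵥ v) = 1 := by
    rintro U hU ⟨u, hu, v, hv, huv⟩
    obtain ⟨w, hw, h⟩ : ∃ w ∈ U, gf ρ G w (s *ᵥ w) ≠ 0 := by
      by_contra h0
      push Not at h0
      have h4 := h0 _ (U.add_mem hu (hU v hv))
      have h5 := h0 u hu
      have h6 := h0 _ (hU v hv)
      rw [Matrix.mulVec_add, gf_add_left, gf_add_right, gf_add_right, h5, h6, hadj, hss, hss,
        gf_neg_right, gf_neg_right, hsw v u] at h4
      grind
    rcases cases_three hq h with h | h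
    · exact ⟨w, hw, h⟩
    refine ⟨w + s *ᵥ w, U.add_mem hw (hU w hw), ?_⟩
    rw [Matrix.mulVec_add, gf_add_left, gf_add_right, gf_add_right, hss, gf_neg_right, gf_neg_right,
      halt, halt, hadj, h]
    grind
  obtain ⟨v, -, hv⟩ := key ⊤ (fun _ _ => trivial) (by
    obtain ⟨a, b, h⟩ := exists_ne_zero_of_det hG.det_ne
    exact ⟨_, trivial, _, trivial, by rwa [gf_single]⟩)
  have hU : ∀ w, w ∈ perp ρ G (Submodule.span F {v, s *ᵥ v}) ↔
      gf ρ G w v = 0 ∧ gf ρ G w (s *ᵥ v) = 0 := fun w => by simp [mem_perp_span]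
  obtain ⟨w, hw, hw1⟩ := key (perp ρ G (Submodule.span F {v, s *ᵥ v})) (fun w hw => by
    rw [hU] at hw ⊢
    rw [hadj, hadj, hss, gf_neg_right, hw.1, hw.2]; simp) (by
    by_contra h0
    push Not at h0
    have h4 := finrank_perp hG (Submodule.span F {v, s *ᵥ v})
    have h5 := finrank_span_pair_lt (F := F) (ι := ι) (by omega) v (s *ᵥ v)
    obtain ⟨u, hu, hu0⟩ := (perp ρ G (Submodule.span F {v, s *ᵥ v})).exists_mem_ne_zero_of_ne_bot
      (by intro h; rw [h, finrank_bot] at h4; omega)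
    refine hu0 (eq_zero_of_gf_left hG.surj hG.det_ne fun x => ?_)
    have h6 := h0 u hu (x - gf ρ G x (s *ᵥ v) • v + gf ρ G x v • s *ᵥ v) ((hU _).mpr (by
      simp only [gf_add_left, gf_sub_left, gf_smul_left, halt, hadj, hss, gf_neg_right, hv]
      constructor <;> ring))
    rw [hU] at hu
    simpa only [gf_add_right, gf_sub_right, gf_smul_right, hu.1, hu.2, mul_zero, sub_zero,
      add_zero] using h6)
  rw [hU] at hw
  let φ : ZMod 3 ≃+* F := ZMod.ringEquivOfPrime F Nat.prime_three hq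
  have hφ : ∀ a, φ (RingHom.id _ a) = ρ (φ a) := fun _ => rfl
  have hφ2 : φ 2 = -1 := by rw [map_ofNat]; linear_combination h3
  have hgr : gres ρ G ![v, s *ᵥ v, w, s *ᵥ w] = G43.map φ := by
    ext a b
    fin_cases a <;> fin_cases b <;>
      simp [gres, G43, hφ2, halt, hadj, hss, gf_neg_right, hv, hw1, hw.1, hw.2, hsw v w, hsw v (s *ᵥ w)]
  obtain ⟨e, P, h4, h5⟩ := exists_coord_of_gram hG.surj G (by simpa using hn) ![v, s *ᵥ v, w, s *ᵥ w] (by
    rw [hgr]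
    exact ((φ : ZMod 3 →+* F).map_det G43).symm.trans_ne ((map_ne_zero _).mpr (by decide)))
  rw [hgr] at h5
  have h6 : s = trM φ e P s43 := eq_coord_of fun a => by
    fin_cases a <;> simp [h4, Fin.sum_univ_four, s43, hφ2, hss]
  have h7 : ∀ g, trGL φ e P g ∈ H → conjAlgHom g s43 = s43 ∨ conjAlgHom g s43 = -s43 := fun g hg => by
    obtain ⟨b, hb⟩ := hs3 _ ((hle hg s).mp hsK) (by
      simpa [conjAlgHom_apply] using hs1.conj ((hX _).mp (hH.1.le hg)))
    rw [← conjAlgHom_apply] at hb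
    have hb0 : b ≠ 0 := by
      rintro rfl
      have : s = 0 := conjAlgHom_injective _ (by rw [hb, zero_smul, map_zero])
      simp [this, gf_zero_right] at hv
    rw [h6, conj_trGL] at hb
    rcases cases_three hq hb0 with rfl | rfl
    · exact Or.inl ((trM φ e P).injective (by rw [hb, one_smul]))
    · exact Or.inr ((trM φ e P).injective (by rw [hb, neg_one_smul, map_neg]))
  have hX' : ∀ g, trGL φ e P g ∈ X ↔ IsSim (RingHom.id _) G43 1 (g : M43) := fun g =>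
    (hX _).trans (isSim_trM_one hφ h5)
  refine not_max_of_equiv (trGL φ e P) hH (fun g hg => mem_S43 ((hX' g).mp (hH.1.le hg)) fun y hy => ?_)
    g43_mem ((hX' _).mpr (by unfold IsSim; decide)) (fun h => ?_) t43_not_mem
    ((hX' _).mpr (by unfold IsSim; decide))
  · have h8 := hy.2.2.2.imp (congrArg (conjAlgHom g)) (congrArg (conjAlgHom g))
    simp only [map_mul, map_neg] at h8
    rcases h7 g hg with h | h <;> rw [h] at h8
    · exact h8
    · simpa only [mul_neg, neg_mul, neg_inj] using h8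
  · have := h7 _ h
    rw [conjAlgHom_apply] at this
    revert this
    decide

theorem pow_bound {n m t : ℕ} (h : n = m ^ t) (hm : 2 ≤ m) (ht : 3 ≤ t) (hn : n ≤ 12) :
    n = 8 ∧ m = 2 ∧ t = 3 := by
  have h1 : m ^ 3 ≤ m ^ t := Nat.pow_le_pow_right (by omega) ht
  obtain rfl : m = 2 := by
    by_contra h2
    have : 3 ^ 3 ≤ m ^ 3 := Nat.pow_le_pow_left (by omega) 3
    omega
  obtain rfl : t = 3 := by
    by_contra h2
    have : 2 ^ 4 ≤ 2 ^ t := Nat.pow_le_pow_right (by omega) (by omega)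
    omega
  exact ⟨h, rfl, rfl⟩

theorem five_le_of_odd [Fintype F] (h : Odd (Fintype.card F)) (h3 : Fintype.card F ≠ 3) :
    5 ≤ Fintype.card F := by
  have := Fintype.one_lt_card (α := F)
  obtain ⟨k, hk⟩ := h
  omega

theorem sp_max_cases [Fintype F] {m : ℕ} (hm : 2 ≤ m) (hm6 : m ≤ 6) (hex : ¬ (m = 2 ∧ Fintype.card F = 2))
    {H : Subgroup (GL (Fin m ⊕ Fin m) F)} (hH : IsMaximalIn (Cfsg.spGL m F) H) :
    (∃ W : Submodule F (Fin m ⊕ Fin m → F), W ≠ ⊥ ∧ IsTotallySingularFor (Cfsg.sympForm m F) W ∧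
      H = subspaceStabilizer W ⊓ Cfsg.spGL m F) ∨
    (3 ≤ m ∧ ∃ W : Submodule F (Fin m ⊕ Fin m → F), W ≠ ⊥ ∧ IsNondegenerateOn (Cfsg.sympForm m F) W ∧
      Module.finrank F W < m ∧ H = subspaceStabilizer W ⊓ Cfsg.spGL m F) ∨
    (∃ (t k : ℕ) (D : Fin t → Submodule F (Fin m ⊕ Fin m → F)), m = t * k ∧ 2 ≤ t ∧ 0 < k ∧
      (k = 1 → 3 ≤ Fintype.card F) ∧ IsNondegenerateMDecomposition (Cfsg.sympForm m F) (2 * k) D ∧
      H = decompositionStabilizer D ⊓ Cfsg.spGL m F) ∨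
    ((Odd (Fintype.card F) ∧ (m = 2 → 5 ≤ Fintype.card F)) ∧
      ∃ D : Fin 2 → Submodule F (Fin m ⊕ Fin m → F), IsMDecomposition m D ∧
      (∀ i, IsTotallySingularFor (Cfsg.sympForm m F) (D i)) ∧
      H = decompositionStabilizer D ⊓ Cfsg.spGL m F) ∨
    (∃ r : ℕ, r.Prime ∧ r ∣ m ∧ ∃ K : Subalgebra F (Matrix (Fin m ⊕ Fin m) (Fin m ⊕ Fin m) F),
      IsFieldSubalgebra r K ∧ IsSelfAdjointFor (Cfsg.sympForm m F) K ∧
      (∀ k ∈ K, ∀ v, Cfsg.sympForm m F (k *ᵥ v) v = 0) ∧ H = subalgebraNormalizer K ⊓ Cfsg.spGL m F) ∨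
    ((Odd (Fintype.card F) ∧ (m = 2 → 5 ≤ Fintype.card F)) ∧
      ∃ K : Subalgebra F (Matrix (Fin m ⊕ Fin m) (Fin m ⊕ Fin m) F),
      IsFieldSubalgebra 2 K ∧ IsAdjointClosedFor (Cfsg.sympForm m F) K ∧
      ¬ IsSelfAdjointFor (Cfsg.sympForm m F) K ∧ H = subalgebraNormalizer K ⊓ Cfsg.spGL m F) ∨
    (Odd (Fintype.card F) ∧ ∃ k l : ℕ, m = k * l ∧ 0 < k ∧ 3 ≤ l ∧ (l = 3 → 5 ≤ Fintype.card F) ∧
      ∃ (e : (Fin m ⊕ Fin m) ≃ Fin (2 * k) × Fin l) (P : GL (Fin m ⊕ Fin m) F)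
      (f₁ : (Fin (2 * k) → F) → (Fin (2 * k) → F) → F) (f₂ : (Fin l → F) → (Fin l → F) → F),
      IsSymplecticForm f₁ ∧ IsSymmetricForm f₂ ∧ (m = 4 → ¬ IsPlusTypeOn (fun v => f₂ v v) ⊤) ∧
      IsTensorFormStructure id (Cfsg.sympForm m F) f₁ f₂ e P ∧
      H = tensorProductSubgroup (2 * k) l e P ⊓ Cfsg.spGL m F) ∨
    (∃ (F₀ : Subfield F) (r : ℕ) (P : GL (Fin m ⊕ Fin m) F) (ζ : F), r.Prime ∧
      Fintype.card F = Nat.card F₀ ^ r ∧ ζ ≠ 0 ∧ IsFormRationalStructure (Cfsg.sympForm m F) F₀ ζ P ∧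
      H = subfieldSubgroup F₀ P ⊓ Cfsg.spGL m F) ∨
    (∃ k : ℕ, 2 * m = 2 ^ k ∧ (Fintype.card F).Prime ∧ Odd (Fintype.card F) ∧
      ∃ R : Subgroup (GL (Fin m ⊕ Fin m) F), IsSymplecticTypeGroup 2 R ∧
      ActsAbsolutelyIrreducibly (matrixSet R) ∧ R ≤ similarityGroup (Cfsg.sympForm m F) ∧
      Nat.card R = 2 ^ (1 + 2 * k) ∧ Nat.card (Subgroup.center R) = 2 ∧ IsOfMinusType k R ∧
      H = subgroupNormalizer R ⊓ Cfsg.spGL m F) ∨
    (m = 4 ∧ Odd (Fintype.card F) ∧ 5 ≤ Fintype.card F ∧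
      ∃ (e : (Fin m ⊕ Fin m) ≃ (Fin 3 → Fin 2)) (P : GL (Fin m ⊕ Fin m) F)
      (f₁ : (Fin 2 → F) → (Fin 2 → F) → F), IsSymplecticForm f₁ ∧
      IsTensorPowerFormStructure id (Cfsg.sympForm m F) f₁ e P ∧
      H = tensorWreathSubgroup 2 3 e P ⊓ Cfsg.spGL m F) ∨
    (¬ Odd (Fintype.card F) ∧ ∃ Q : (Fin m ⊕ Fin m → F) → F, IsNondegenerateQuadraticForm Q ∧
      (∀ u v, QuadraticMap.polar Q u v = Cfsg.sympForm m F u v) ∧
      H = quadSimilarityGroup Q ⊓ Cfsg.spGL m F) ∨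
    InSymplecticResidualClass H := by
  have hc : Fintype.card (Fin m ⊕ Fin m) = 2 * m := by simp [two_mul]
  have hG := herm_J (F := F) m
  have hA := amb_sp (F := F) hm hex
  haveI : Nonempty (Fin m ⊕ Fin m) := nonempty_of_two_le (by omega)
  have hquad : ∀ Q, IsNondegenerateQuadraticForm Q → (∀ a b, QuadraticMap.polar Q a b =
      gf ρ (J (Fin m) F) a b) → H ≤ quadSimilarityGroup Q → H = quadSimilarityGroup Q ⊓ Cfsg.spGL m F :=
    fun Q h hp hle => IsMaximalIn.eq_inf hH hle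
      (hA.not_le_quad (fun x => Witt.Form.alt_q _ x) (by omega) h hp)
  rw [sympForm_eq]
  cases sp_cases (by omega) hG (alt_J m) (fun h hh => mem_spGL.mp (hH.1.le hh)) with
  | ts W h0 h hle => exact .inl ⟨W, h0, h, IsMaximalIn.eq_inf hH hle (hA.not_le_ts h0 h)⟩
  | nd W h0 h hd hle =>
    have h1 := even_finrank_of_alt hG (fun v _ => alt_J m v) h
    have h2 := Submodule.finrank_eq_zero.not.mpr h0
    exact .inr (.inl ⟨by obtain ⟨k, hk⟩ := h1; omega, W, h0, h, by omega, IsMaximalIn.eq_inf hH hle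
      (hA.not_le_subspace h0 (by rintro rfl; simp at hd; omega))⟩)
  | dec t k D h hle =>
    have h1 := card_eq_of_isMDecomposition h.decomp
    have h2 := h.decomp.two_le
    have h3 := h.decomp.pos
    have h4 := even_finrank_of_alt hG (fun v _ => alt_J m v) (h.nondegenerate ⟨0, by omega⟩)
    rw [h.decomp.finrank_eq] at h4
    obtain ⟨k, rfl⟩ := h4.two_dvd
    have h5 := IsMaximalIn.eq_inf hH hle (hA.not_le_decomp h (by nlinarith))
    by_cases h6 : k = 1 ∧ Fintype.card F = 2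
    · obtain ⟨rfl, h6⟩ := h6
      obtain ⟨Q, h7, h8, h9, -⟩ := Sp.exists_quad_of_decomp_two h6 h
      iterate 10 right
      exact .inl ⟨by simp [h6], Q, h7, h8, hquad Q h7 h8 (h5.le.trans (h9.trans inf_le_left))⟩
    · exact .inr (.inr (.inl ⟨t, k, D, by nlinarith, h2, by omega, fun h7 => by
        have := Fintype.one_lt_card (α := F); omega, h, h5⟩))
  | pair hq k D h hts hex' hle =>
    obtain rfl : k = m := by have := card_eq_of_isMDecomposition h; omega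
    iterate 3 right
    exact .inl ⟨⟨hq, fun h1 => five_le_of_odd hq fun h2 => hex' ⟨h2, h1⟩⟩, D, h, hts,
      IsMaximalIn.eq_inf hH hle (hA.not_le_pair h)⟩
  | fld r K hr hK hs h hle =>
    iterate 4 right
    exact .inl ⟨r, hr, Nat.dvd_of_mul_dvd_mul_left two_pos (hc ▸ two_mul_dvd_of_selfAdj hG hK hs h), K, hK,
      fun k hk => isAdj_iff.mp (hs k hk), h, IsMaximalIn.eq_inf hH hle (hA.not_le_field hK hr.two_le)⟩
  | uni hq K hK ha hs hle =>
    iterate 5 right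
    exact .inl ⟨⟨hq, fun h1 => five_le_of_odd hq fun h2 => not_max_uni_four h2 (by omega) hG
      (fun _ => mem_spGL) hH hK ha hs hle⟩, K, hK,
      fun k hk => (ha k hk).imp fun y hy => ⟨hy.1, isAdj_iff.mp hy.2⟩,
      fun h => hs fun k hk => isAdj_iff.mpr (h k hk),
      IsMaximalIn.eq_inf hH hle (hA.not_le_field hK le_rfl)⟩
  | tens hq k l φ ψ G₁ G₂ h hl hex =>
    have h2 := two_ne_zero_of_odd hq
    have h3 := even_card_of_gf h.herm₁.det_ne (h.herm₁.alt_of_two_ne h2)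
    rw [Fintype.card_fin] at h3
    obtain ⟨k, rfl⟩ := h3.two_dvd
    obtain ⟨e, P, c, -, -, hle, hc0, hP⟩ := h.exists_coord hG
    have h4 := h.pair.card
    have h5 := h.pair.two_le_k
    iterate 6 right
    refine .inl ⟨hq, k, l, by nlinarith, by omega, hl, fun h1 => five_le_of_odd hq fun h2 => hex ⟨h2, h1⟩,
      e, P, _, _, isSymplecticForm_gf h.herm₁.det_ne (h.herm₁.alt_of_two_ne h2), h.herm₂.isSymmetricForm,
      fun h6 => ?_, isTensorFormStructure_of hc0 hP,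
      IsMaximalIn.eq_inf hH hle (hA.not_le_tensor e P (by omega) (by omega) (by nlinarith))⟩
    obtain rfl : k = 1 := by nlinarith
    obtain rfl : l = 4 := by omega
    exact not_max_sp2_o4 h2 hA (fun _ => mem_spGL) hH h
  | sub F₀ r P ζ hr hc h0 h hle =>
    iterate 7 right
    exact .inl ⟨F₀, r, P, ζ, hr, hc, h0, h, IsMaximalIn.eq_inf hH hle
      (hA.not_le_subfield (exists_not_mem_subfield hr hc) P (by omega))⟩
  | c6 R k h htop hc' hR hp hq hn hcard hZ hsq hm hle =>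
    iterate 8 right
    exact .inl ⟨k, hc ▸ hn, hp, hq, R, h, absIrr_of_alg_top htop,
      fun x hx => (mem_similarityGroup hG.det_ne).mpr ⟨1, hR x hx⟩, hcard, hZ, hm,
      IsMaximalIn.eq_inf hH hle (hA.not_le_c6 (fun x hx => mem_spGL.mpr (hR x hx)) htop hc')⟩
  | pow hq k t φ G₁ h ht hex =>
    obtain ⟨e, P, c, -, hle, hc0, hP⟩ := h.exists_coord hG
    have h3 : 3 ≤ t := by have := h.fam.two_le_t; obtain ⟨j, rfl⟩ := ht; omega
    obtain ⟨h4, rfl, rfl⟩ := pow_bound h.fam.card h.fam.two_le_m h3 (by omega)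
    iterate 9 right
    exact .inl ⟨by omega, hq, five_le_of_odd hq fun h2 => hex ⟨h2, rfl⟩, e, P, _,
      isSymplecticForm_gf h.herm.det_ne (h.herm.alt_of_two_ne (two_ne_zero_of_odd hq)),
      isTensorPowerFormStructure_of hc0 hP,
      IsMaximalIn.eq_inf hH hle (hA.not_le_wreath e P two_pos (by omega))⟩
  | quad hq Q h hp hle =>
    iterate 10 right
    exact .inl ⟨hq, Q, h, hp, hquad Q h hp hle⟩
  | res h =>
    iterate 11 right
    exact h

end CL.Asch
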