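import Cfsg.Agent.CLAS.AschOr1
import Cfsg.Agent.CLAS.AschSp3

/-!
Auxiliary facts for Aschbacher's theorem in the orthogonal case.
-/

set_option autoImplicit false

namespace CL.Asch

open Matrix Cfsg.Geo Module QuadraticMap CL.Orth
open scoped Kronecker MatrixGroups commutatorElement

variable {F : Type*} [Field F] {ι κ μ : Type} [Fintype ι] [DecidableEq ι] [Fintype κ] [DecidableEq κ]
  [Fintype μ] [DecidableEq μ] {Q : QuadraticForm F (ι → F)}

local notation "ρ" => RingHom.id F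

/-- the orbit of a vector under a subalgebra -/
def korb (K : Subalgebra F (Matrix ι ι F)) (v : ι → F) : Submodule F (ι → F) where
  carrier := {w | ∃ k ∈ K, k *ᵥ v = w}
  add_mem' := by
    rintro _ _ ⟨a, ha, rfl⟩ ⟨b, hb, rfl⟩
    exact ⟨a + b, K.add_mem ha hb, Matrix.add_mulVec _ _ _⟩
  zero_mem' := ⟨0, K.zero_mem, zero_mulVec _⟩
  smul_mem' := by
    rintro c _ ⟨a, ha, rfl⟩
    exact ⟨c • a, K.smul_mem ha c, smul_mulVec _ _ _⟩

theorem mem_korb {K : Subalgebra F (Matrix ι ι F)} {v w : ι → F} :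
    w ∈ korb K v ↔ ∃ k ∈ K, k *ᵥ v = w := Iff.rfl

theorem self_mem_korb (K : Subalgebra F (Matrix ι ι F)) (v : ι → F) : v ∈ korb K v :=
  ⟨1, K.one_mem, one_mulVec v⟩

theorem korb_inv (K : Subalgebra F (Matrix ι ι F)) (v : ι → F) :
    ∀ k ∈ K, ∀ w ∈ korb K v, k *ᵥ w ∈ korb K v := by
  rintro k hk _ ⟨a, ha, rfl⟩
  exact ⟨k * a, K.mul_mem hk ha, (mulVec_mulVec _ _ _).symm⟩

theorem finrank_korb {r : ℕ} {K : Subalgebra F (Matrix ι ι F)} (hK : IsFieldSubalgebra r K)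
    {v : ι → F} (hv : v ≠ 0) : finrank F (korb K v) = r := by
  let L : K →ₗ[F] (ι → F) :=
    { toFun := fun k => (k : Matrix ι ι F) *ᵥ v
      map_add' := fun a b => Matrix.add_mulVec _ _ _
      map_smul' := fun c a => smul_mulVec _ _ _ }
  have h : LinearMap.range L = korb K v := by
    ext w
    exact ⟨fun ⟨k, h⟩ => ⟨k, k.2, h⟩, fun ⟨k, hk, h⟩ => ⟨⟨k, hk⟩, h⟩⟩
  rw [← h, LinearMap.finrank_range_of_inj ((injective_iff_map_eq_zero L).mpr fun k hk =>
    Subtype.ext (IsFieldSubalgebra.eq_zero_of_mulVec hK k.2 hv hk)), hK.finrank_eq]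

theorem korb_eq_of_mem {r : ℕ} {K : Subalgebra F (Matrix ι ι F)} (hK : IsFieldSubalgebra r K)
    {W : Submodule F (ι → F)} (hW : ∀ k ∈ K, ∀ v ∈ W, k *ᵥ v ∈ W) (hd : finrank F W = r)
    {v : ι → F} (hv : v ∈ W) (h0 : v ≠ 0) : korb K v = W :=
  Submodule.eq_of_le_of_finrank_eq (by rintro _ ⟨k, hk, rfl⟩; exact hW k hk v hv)
    (by rw [finrank_korb hK h0, hd])

theorem finrank_perp_le_of_max [Finite F] {V : Type*} [AddCommGroup V] [Module F V]
    [FiniteDimensional F V] {Q : QuadraticForm F V} {U : Submodule F V} (h1 : ∀ u ∈ U, Q u = 0)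
    (h2 : ∀ v ∈ Orth.perp Q U, Q v = 0 → v ∈ U) : finrank F (Orth.perp Q U) ≤ finrank F U + 2 := by
  obtain ⟨C, h3, h4⟩ := IsModularLattice.exists_disjoint_and_sup_eq (le_perp_of_singular h1)
  have h5 := Submodule.finrank_add_finrank_le_of_disjoint h3
  have h6 := Submodule.finrank_sup_add_finrank_inf_eq U C
  rw [h4] at h6
  by_contra h
  obtain ⟨v, hv, h0, h7⟩ := exists_singular_mem Q (W := C) (by omega)
  exact h0 ((Submodule.disjoint_def.mp h3) v (h2 v (h4 ▸ Submodule.mem_sup_right hv) h7) hv)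

theorem uni_type [Finite F] [Nonempty ι] (hQ : (polarBilin Q).Nondegenerate) {r : ℕ}
    {K : Subalgebra F (Matrix ι ι F)} (hK : IsFieldSubalgebra r K) (hr : Even r)
    (hadj : ∀ x ∈ K, ∃ y ∈ K, IsAdj ρ (gq Q) x y) (hs : ∀ k ∈ K, ∀ v, Q v = 0 → Q (k *ᵥ v) = 0) :
    IsPlusTypeOn Q ⊤ ↔ 4 ∣ Fintype.card ι := by
  obtain ⟨U, h1, h2, h3⟩ := exists_max_ts Q (fun U => ∀ k ∈ K, ∀ v ∈ U, k *ᵥ v ∈ U) fun k _ v hv => by
    rw [(Submodule.mem_bot F).mp hv, mulVec_zero]; exact Submodule.zero_mem _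
  have h4 : ∀ v ∈ Orth.perp Q U, Q v = 0 → v ∈ U := fun v hv h0 => by
    rw [← h3 (U ⊔ korb K v) (fun k hk w hw => by
      obtain ⟨a, ha, b, hb, rfl⟩ := Submodule.mem_sup.mp hw
      rw [Matrix.mulVec_add]
      exact Submodule.add_mem_sup (h1 k hk a ha) (korb_inv K v k hk b hb))
      (ts_sup h2 (by rintro _ ⟨k, hk, rfl⟩; exact hs k hk v h0) (by
        rintro _ ⟨k, hk, rfl⟩
        obtain ⟨y, hy, h⟩ := hadj k hk
        refine Orth.mem_perp'.mpr fun w hw => ?_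
        rw [polar_eq_gf, isAdj_iff.mp h, ← polar_eq_gf]
        exact Orth.mem_perp'.mp hv _ (h1 y hy w hw))) le_sup_left]
    exact Submodule.mem_sup_right (self_mem_korb K v)
  obtain ⟨a, ha⟩ := hr.two_dvd.trans (finrank_dvd_of_inv hK h1)
  have h5 := finrank_perp_le_of_max h2 h4
  have h6 := Orth.finrank_perp hQ U
  have h7 := two_mul_finrank_le_of_singular hQ h2
  rw [finrank_fintype_fun_eq_card] at h6 h7
  rw [plusOn_top_iff]
  constructor
  · rintro ⟨W, h8, h9⟩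
    have := finrank_le_of_maximal_singular hQ h8 h4
    rw [finrank_fintype_fun_eq_card] at h9
    omega
  · exact fun h => ⟨U, h2, by rw [finrank_fintype_fun_eq_card]; omega⟩

theorem quad_eq_of_u [Finite F] (hn : 2 ≤ Fintype.card ι) (h2 : (2 : F) = 0)
    (hQ : (polarBilin Q).Nondegenerate) {H : Subgroup (GL ι F)} (hirr : Irr H)
    (hH : ∀ h ∈ H, ∀ v, Q ((h : Matrix ι ι F) *ᵥ v) = Q v) {u : Matrix ι ι F}
    (hu : IsAdj ρ (gq Q) u (1 - u))
    (hinv : ∀ h ∈ H, ∀ v, gf ρ (gq Q) ((conjAlgHom h u - u) *ᵥ v) v = 0) (v : ι → F) :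
    Q v = gf ρ (gq Q) (u *ᵥ v) v := by
  refine sub_eq_zero.mp (eq_zero_of_irr_two hn hirr (fun v => Q v - gf ρ (gq Q) (u *ᵥ v) v)
    (fun a b => ?_) (fun c v hv => ?_) (fun h hh v hv => ?_) v)
  · have h1 := polar_gf_u h2 (herm_gq hQ) hu a b
    have h3 := congrFun (congrFun (polar_eq_gf Q) a) b
    simp only [polar] at h1 h3
    linear_combination h3 - h1
  · rw [Matrix.mulVec_smul, gf_smul_left, gf_smul_right, Q_smul, RingHom.id_apply]
    linear_combination c * c * hv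
  · have h1 := hinv h hh ((h : Matrix ι ι F) *ᵥ v)
    rw [Matrix.sub_mulVec, gf_sub_left, conj_mulVec, isSim_one_iff.mp (isSim_of_isometry (hH h hh))] at h1
    rw [hH h hh]
    linear_combination hv + h1

theorem alt_gq (h2 : (2 : F) = 0) (v : ι → F) : gf ρ (gq Q) v v = 0 := by
  rw [gf_gq_self, h2, zero_mul]

theorem IsFieldSubalgebra.scalar_of_selfAdj [Nonempty ι] {G : Matrix ι ι F}
    {K : Subalgebra F (Matrix ι ι F)} (hK : IsFieldSubalgebra 2 K) (hs : ¬ ∀ x ∈ K, IsAdj ρ G x x)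
    {x : Matrix ι ι F} (hx : x ∈ K) (h : IsAdj ρ G x x) : ∃ c : F, x = c • (1 : Matrix ι ι F) := by
  by_contra h1
  refine hs fun y hy => ?_
  obtain ⟨a, b, rfl⟩ := IsFieldSubalgebra.two_span hK hx h1 y hy
  exact ((isAdj_one G).smul (fun _ => rfl) a).add (h.smul (fun _ => rfl) b)

theorem uni_quad [Finite F] (hn : 2 ≤ Fintype.card ι) (hQ : (polarBilin Q).Nondegenerate)
    {H : Subgroup (GL ι F)} (hirr : Irr H) (hH : ∀ h ∈ H, ∀ v, Q ((h : Matrix ι ι F) *ᵥ v) = Q v)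
    {K : Subalgebra F (Matrix ι ι F)} (hK : IsFieldSubalgebra 2 K) (hZ : CommAlg ρ (gq Q) H K)
    (hs : ¬ ∀ x ∈ K, IsAdj ρ (gq Q) x x) : ∀ k ∈ K, ∃ c : F, ∀ v, Q (k *ᵥ v) = c * Q v := by
  intro k hk
  haveI := nonempty_of_two_le hn
  have hG := herm_gq hQ
  obtain ⟨y, hy, h⟩ := hZ.adj k hk
  obtain ⟨c, hc⟩ := IsFieldSubalgebra.scalar_of_selfAdj hK hs (K.mul_mem hy hk)
    ((hG.isAdj_symm h).mul h)
  have h1 : ∀ a b, gf ρ (gq Q) (k *ᵥ a) (k *ᵥ b) = c * gf ρ (gq Q) a b := fun a b => by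
    rw [isAdj_iff.mp h, mulVec_mulVec, hc, smul_mulVec, one_mulVec, gf_smul_right]; rfl
  refine ⟨c, fun v => ?_⟩
  by_cases h2 : (2 : F) = 0
  · obtain ⟨u, hu, hu'⟩ := exists_u_field h2 hG hK hZ.adj hs
    have h3 := quad_eq_of_u hn h2 hQ hirr hH hu' fun h hh =>
      alt_of_selfAdj_field hG (alt_gq h2) hK hZ.adj (K.sub_mem (hZ.norm h hh u hu) hu)
        (hu'.conj_sub (hu'.conj_u (isSim_of_isometry (hH h hh))) h2)
    rw [h3, h3, mulVec_mulVec, hK.comm u hu k hk, ← mulVec_mulVec, h1]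
  · exact mul_left_cancel₀ h2 (by rw [← gf_gq_self, h1, gf_gq_self]; ring)

theorem ts_or_pt [Fintype F] {H : Subgroup (GL ι F)}
    (hH : ∀ h ∈ H, ∀ v, Q ((h : Matrix ι ι F) *ᵥ v) = Q v) {W : Submodule F (ι → F)} (h0 : W ≠ ⊥)
    (hts : IsTotallySingularFor (gf ρ (gq Q)) W) (hW : ∀ h ∈ H, ∀ v ∈ W, (h : Matrix ι ι F) *ᵥ v ∈ W) :
    (∃ U : Submodule F (ι → F), U ≠ ⊥ ∧ IsTotallySingularQuad Q U ∧ H ≤ subspaceStabilizer U) ∨
    (¬ Odd (Fintype.card F) ∧ ∃ v, Q v ≠ 0 ∧ H ≤ subspaceStabilizer (Submodule.span F {v})) := by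
  by_cases hq : Odd (Fintype.card F)
  · exact Or.inl ⟨W, h0, fun w hw => (mul_eq_zero.mp ((gf_gq_self w).symm.trans (hts w hw w hw))).resolve_left
      (two_ne_zero_of_odd hq), le_subspaceStabilizer hW⟩
  have h2 := two_eq_zero_of_not_odd hq
  have hp : ∀ a ∈ W, ∀ b ∈ W, polar Q a b = 0 := fun a ha b hb => by rw [polar_eq_gf, hts a ha b hb]
  let U : Submodule F (ι → F) :=
    { carrier := {w | w ∈ W ∧ Q w = 0}
      add_mem' := fun {a b} ha hb => ⟨W.add_mem ha.1 hb.1, by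
        rw [Q_add, ha.2, hb.2, hp a ha.1 b hb.1]; simp⟩
      zero_mem' := ⟨W.zero_mem, map_zero Q⟩
      smul_mem' := fun c a ha => ⟨W.smul_mem c ha.1, by rw [Q_smul, ha.2, mul_zero]⟩ }
  by_cases hU : U = ⊥
  swap
  · exact Or.inl ⟨U, hU, fun w hw => hw.2, le_subspaceStabilizer fun h hh v hv =>
      ⟨hW h hh v hv.1, (hH h hh v).trans hv.2⟩⟩
  have h3 : ∀ w ∈ W, Q w = 0 → w = 0 := fun w hw h => by
    have : w ∈ U := ⟨hw, h⟩
    rwa [hU, Submodule.mem_bot] at this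
  obtain ⟨v, hv, hv0⟩ := W.exists_mem_ne_zero_of_ne_bot h0
  have h4 : Q v ≠ 0 := fun h => hv0 (h3 v hv h)
  have h5 : Submodule.span F {v} = W := le_antisymm ((Submodule.span_singleton_le_iff_mem _ _).mpr hv)
    fun w hw => by
      obtain ⟨c, hc⟩ := sqSign_eq_one_iff.mp (sqSign_of_two_eq_zero h2 (Q w / Q v))
      refine Submodule.mem_span_singleton.mpr ⟨c, sub_eq_zero.mp (h3 _ (W.sub_mem (W.smul_mem c hv) hw) ?_)⟩
      rw [Q_sub, Q_smul, hp _ (W.smul_mem c hv) _ hw, ← hc, div_mul_cancel₀ _ h4]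
      linear_combination Q w * h2
  exact Or.inr ⟨hq, v, h4, h5 ▸ le_subspaceStabilizer hW⟩

theorem ts_pair_quad [Finite F] (hn : 2 ≤ Fintype.card ι) (hQ : (polarBilin Q).Nondegenerate)
    {H : Subgroup (GL ι F)} (hirr : Irr H) (hH : ∀ h ∈ H, ∀ v, Q ((h : Matrix ι ι F) *ᵥ v) = Q v)
    {e : Matrix ι ι F} (he : IdemFam H ![e, 1 - e]) (hadj : IsAdj ρ (gq Q) e (1 - e)) (i : Fin 2) :
    IsTotallySingularQuad Q (rg (![e, 1 - e] i)) := by
  intro w hw
  by_cases h2 : (2 : F) = 0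
  swap
  · exact (mul_eq_zero.mp ((gf_gq_self w).symm.trans
      (ts_pair (herm_gq hQ) (he.idem 0) hadj i w hw w hw))).resolve_left h2
  rw [quad_eq_of_u hn h2 hQ hirr hH hadj fun h hh v => by
    obtain ⟨s, hs⟩ := he.perm h hh
    have h5 := hs 0
    generalize s 0 = i at h5
    fin_cases i
    · rw [show conjAlgHom h e = e from h5, sub_self, zero_mulVec, gf_zero_left]
    · rw [show conjAlgHom h e = 1 - e from h5, Matrix.sub_mulVec, Matrix.sub_mulVec, gf_sub_left,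
        gf_sub_left, one_mulVec, alt_gq h2]
      linear_combination -gf ρ (gq Q) (e *ᵥ v) v * h2]
  obtain ⟨v, rfl⟩ := mem_rg.mp hw
  have h3 : e * e = e := he.idem 0
  fin_cases i
  · change gf ρ _ (e *ᵥ (e *ᵥ v)) (e *ᵥ v) = 0
    rw [mulVec_mulVec, h3, alt_gq h2]
  · change gf ρ _ (e *ᵥ ((1 - e) *ᵥ v)) _ = 0
    rw [mulVec_mulVec, mul_sub, h3, mul_one, sub_self, zero_mulVec, gf_zero_left]

theorem plus_of_pair {m : ℕ} {D : Fin 2 → Submodule F (ι → F)} (hD : IsMDecomposition m D)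
    (h : IsTotallySingularQuad Q (D 0)) : IsPlusTypeOn Q ⊤ :=
  ⟨D 0, le_top, h, by rw [hD.finrank_eq, finrank_top, finrank_fintype_fun_eq_card,
    card_eq_of_isMDecomposition hD]⟩

theorem plus_of_coord (e : ι ≃ κ) (P : GL ι F) (p : κ → Prop) [DecidablePred p]
    (hc : 2 * Fintype.card {a // p a} = Fintype.card κ)
    (h1 : ∀ a, p a → Q (cvec e P (Pi.single a 1)) = 0)
    (h2 : ∀ a b, p a → p b → polar Q (cvec e P (Pi.single a 1)) (cvec e P (Pi.single b 1)) = 0) :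
    IsPlusTypeOn Q ⊤ := by
  let b : {a // p a} → ι → F := fun a => cvec e P (Pi.single a.1 1)
  have hb : LinearIndependent F b := by
    convert ((Pi.basisFun F κ).map (cvec e P)).linearIndependent.comp (Subtype.val : {a // p a} → κ)
      Subtype.val_injective using 1
    funext a; simp [b]
  refine ⟨Submodule.span F (Set.range b), le_top, fun w hw => ?_, by
    rw [finrank_span_eq_card hb, hc, finrank_top, (cvec e P).finrank_eq.symm,
      finrank_fintype_fun_eq_card]⟩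
  obtain ⟨c, rfl⟩ := (Submodule.mem_span_range_iff_exists_fun F).mp hw
  rw [Q_sum_of_orth _ _ fun i j _ => by
    rw [polar_smul_left', polar_smul_right', h2 _ _ i.2 j.2, mul_zero, mul_zero]]
  exact Finset.sum_eq_zero fun i _ => by rw [Q_smul, h1 _ i.2, mul_zero]

/-! ### Subfield structures -/

theorem mem_subfield_of_single {V : Type*} [AddCommGroup V] [Module F V] {Q : QuadraticForm F V}
    {F₀ : Subfield F} {ζ : F} {α : Type*} (s : Finset α) (b : α → V) (u : α → F) (hu : ∀ a, u a ∈ F₀)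
    (h1 : ∀ a, ζ * Q (b a) ∈ F₀) (h2 : ∀ a c, ζ * polar Q (b a) (b c) ∈ F₀) :
    ζ * Q (∑ a ∈ s, u a • b a) ∈ F₀ := by
  classical
  induction s using Finset.induction_on with
  | empty => simp
  | insert a s ha ih =>
    rw [Finset.sum_insert ha, Q_add, Q_smul, ← polarBilin_apply_apply, map_sum (polarBilin Q _), mul_add,
      mul_add, mul_left_comm, Finset.mul_sum]
    refine F₀.add_mem (F₀.add_mem (F₀.mul_mem (F₀.mul_mem (hu a) (hu a)) (h1 a)) ih)
      (F₀.sum_mem fun c _ => ?_)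
    rw [polarBilin_apply_apply, polar_smul_left', polar_smul_right', mul_left_comm, mul_left_comm ζ]
    exact F₀.mul_mem (hu a) (F₀.mul_mem (hu c) (h2 a c))

theorem mulVec_eq_sum_single (P : Matrix ι ι F) (u : ι → F) :
    P *ᵥ u = ∑ a, u a • (P *ᵥ Pi.single a 1) := by
  conv_lhs => rw [pi_eq_sum_univ' u]
  simp only [mulVec_sum, Matrix.mulVec_smul]

theorem gpull_gq (P : GL ι F) (a b : ι) : gpull ρ (gq Q) P a b =
    polar Q ((P : Matrix ι ι F) *ᵥ Pi.single a 1) ((P : Matrix ι ι F) *ᵥ Pi.single b 1) := by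
  rw [← gf_single (σ := ρ) (gpull ρ (gq Q) P), gf_gpull, polar_eq_gf]

theorem quadRat_of {F₀ : Subfield F} {P : GL ι F} {ζ : F} (h : ∀ a b, ζ * gpull ρ (gq Q) P a b ∈ F₀)
    (h' : ∀ a, ζ * Q ((P : Matrix ι ι F) *ᵥ Pi.single a 1) ∈ F₀) :
    IsQuadFormRationalStructure (fun v => ζ * Q v) F₀ P := fun u hu => by
  rw [mulVec_eq_sum_single]
  exact mem_subfield_of_single _ _ u hu h' fun a b => by rw [← gpull_gq]; exact h a b

theorem IsQuadFormRationalStructure.polar_mem {F₀ : Subfield F} {P : GL ι F} {ζ : F}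
    (h : IsQuadFormRationalStructure (fun v => ζ * Q v) F₀ P) {u v : ι → F} (hu : ∀ i, u i ∈ F₀)
    (hv : ∀ i, v i ∈ F₀) : ζ * polar Q ((P : Matrix ι ι F) *ᵥ u) ((P : Matrix ι ι F) *ᵥ v) ∈ F₀ := by
  rw [polar, ← Matrix.mulVec_add, mul_sub, mul_sub]
  exact F₀.sub_mem (F₀.sub_mem (h _ fun i => F₀.add_mem (hu i) (hv i)) (h u hu)) (h v hv)

theorem det_mem_subfield {F₀ : Subfield F} {x : Matrix ι ι F} (h : ∀ a b, x a b ∈ F₀) : x.det ∈ F₀ := by
  rw [det_apply']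
  exact F₀.sum_mem fun s _ => F₀.mul_mem (intCast_mem _ _) (F₀.prod_mem fun i _ => h _ _)

theorem IsQuadFormRationalStructure.det_mem {F₀ : Subfield F} {P : GL ι F} {ζ : F}
    (h : IsQuadFormRationalStructure (fun v => ζ * Q v) F₀ P) :
    ζ ^ Fintype.card ι * ((P : Matrix ι ι F).det ^ 2 * (gq Q).det) ∈ F₀ := by
  have := det_mem_subfield (x := ζ • gpull ρ (gq Q) P) fun a b => by
    rw [Matrix.smul_apply, smul_eq_mul, gpull_gq]
    exact IsQuadFormRationalStructure.polar_mem h (single_mem_subfield F₀ a) (single_mem_subfield F₀ b)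
  rwa [det_smul, det_gpull, RingHom.id_apply, ← pow_two] at this

theorem quadRat_odd (hQ : (polarBilin Q).Nondegenerate) (hn : Odd (Fintype.card ι)) {F₀ : Subfield F}
    {P : GL ι F} {ζ : F} (h0 : ζ ≠ 0) (h1 : IsQuadFormRationalStructure Q F₀ 1)
    (h : IsQuadFormRationalStructure (fun v => ζ * Q v) F₀ P) :
    ∃ P' : GL ι F, IsQuadFormRationalStructure Q F₀ P' ∧ subfieldSubgroup F₀ P' = subfieldSubgroup F₀ P := by
  obtain ⟨m, hm⟩ := hn
  have h2 := IsQuadFormRationalStructure.det_mem h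
  have h3 := IsQuadFormRationalStructure.det_mem (ζ := 1) (Q := Q) (P := 1) (by simpa using h1)
  have h4 := (herm_gq hQ).det_ne
  have h5 : (P : Matrix ι ι F).det ≠ 0 := P.det_ne_zero
  have h6 : ζ ^ m * (P : Matrix ι ι F).det ≠ 0 := mul_ne_zero (pow_ne_zero _ h0) h5
  refine ⟨P * scGL ι _ (inv_ne_zero h6), fun u hu => ?_, subfieldSubgroup_mul_scalar _ _ (scGL_mem _ _)⟩
  rw [Units.val_mul, coe_scGL, Matrix.mul_smul, mul_one, smul_mulVec, Q_smul]
  convert F₀.mul_mem (F₀.div_mem h3 h2) (h u hu) using 1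
  simp only [hm, Units.val_one, det_one]
  field_simp
  ring

theorem exists_quad_subfield [Fintype F] (hn : 2 ≤ Fintype.card ι) (hQ : (polarBilin Q).Nondegenerate)
    {H N : Subgroup (GL ι F)} (hN : NormBy H N) (htop : alg N = ⊤)
    (hc : ∃ c : F, c • (1 : Matrix ι ι F) ∉ rclos N)
    (hNQ : ∀ h ∈ N, ∀ v, Q ((h : Matrix ι ι F) *ᵥ v) = Q v) :
    ∃ (F₁ : Subfield F) (r : ℕ) (P : GL ι F) (ζ : F), r.Prime ∧ Fintype.card F = Nat.card F₁ ^ r ∧
      ζ ≠ 0 ∧ IsQuadFormRationalStructure (fun v => ζ * Q v) F₁ P ∧ H ≤ subfieldSubgroup F₁ P := by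
  haveI := nonempty_of_two_le hn
  have hG := herm_gq hQ
  obtain ⟨P, hP⟩ := exists_subfield_coord (rclos N) (span_rclos htop)
  obtain ⟨F₁, r, hr, hle, hcard, hmem⟩ := exists_prime_subfield (scalF (rclos N)) (fun h => by
    obtain ⟨c, hc⟩ := hc
    apply hc
    rw [← mem_scalF, h]; trivial)
  obtain ⟨ζ, hζ, h⟩ := exists_zeta hP hG (isAdj_rclos fun x hx => isSim_of_isometry (hNQ x hx))
    fun c hc => hc
  refine ⟨F₁, r, P, ζ, hr, hcard, hζ, quadRat_of (fun a b => hle (h a b)) fun a => hle ?_, fun h hh =>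
    subfieldSubgroup_mono hle P (mem_subfieldSubgroup_of_normalizes hP (conj_mem_rclos (hN h hh)))⟩
  generalize scalF (rclos N) = F₀ at hP h
  by_cases h2 : (2 : F) = 0
  swap
  · have h3 := F₀.div_mem (h a a) (ofNat_mem F₀ 2)
    rwa [gpull_gq, polar_self', mul_left_comm, mul_div_cancel_left₀ _ h2] at h3
  have hp : ∀ u v : ι → F, (∀ i, u i ∈ F₀) → (∀ i, v i ∈ F₀) →
      ζ * polar Q ((P : Matrix ι ι F) *ᵥ u) ((P : Matrix ι ι F) *ᵥ v) ∈ F₀ := fun u v hu hv => by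
    rw [polar_eq_gf]
    exact isFormRationalStructure_of h (fun c hc => hc) u v hu hv
  have hx : ∀ x : Matrix ι ι F, ∀ u, x *ᵥ ((P : Matrix ι ι F) *ᵥ u) =
      (P : Matrix ι ι F) *ᵥ (conjAlgHom P⁻¹ x *ᵥ u) := fun x u => by
    rw [← conj_mulVec, conjAlgHom_cancel_inv]
  have hm : ∀ x ∈ rclos N, ∀ u : ι → F, (∀ i, u i ∈ F₀) → ∀ i, (conjAlgHom P⁻¹ x *ᵥ u) i ∈ F₀ :=
    fun x hx u hu i => F₀.sum_mem fun j _ => F₀.mul_mem ((hP x).mp hx i j) (hu j)
  have key : ∀ u : ι → F, (∀ i, u i ∈ F₀) → ζ * Q ((P : Matrix ι ι F) *ᵥ u) ∈ F₀ → ∀ x ∈ rclos N,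
      ζ * Q (x *ᵥ ((P : Matrix ι ι F) *ᵥ u)) ∈ F₀ := fun u hu h3 x hx' => by
    let W : AddSubgroup (Matrix ι ι F) :=
      { carrier := {x | x ∈ rclos N ∧ ζ * Q (x *ᵥ ((P : Matrix ι ι F) *ᵥ u)) ∈ F₀}
        add_mem' := fun {x y} h4 h5 => ⟨add_mem h4.1 h5.1, by
          rw [Matrix.add_mulVec, Q_add, mul_add, mul_add]
          refine F₀.add_mem (F₀.add_mem h4.2 h5.2) ?_
          rw [hx, hx]
          exact hp _ _ (hm x h4.1 u hu) (hm y h5.1 u hu)⟩
        zero_mem' := ⟨zero_mem _, by simp⟩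
        neg_mem' := fun {x} h4 => ⟨neg_mem h4.1, by rw [neg_mulVec, Q.map_neg]; exact h4.2⟩ }
    exact (rclos_le_addSubgroup (W := W) (fun y hy => ⟨mem_rclos hy, by rwa [hNQ y hy]⟩) x hx').2
  obtain ⟨x, hxN, h3⟩ := exists_nonscalar_of_alg_top hn htop
  obtain ⟨b, hb⟩ : ∃ b, conjAlgHom P⁻¹ x *ᵥ Pi.single b 1 ≠ Pi.single b 1 := by
    by_contra h4
    push Not at h4
    refine h3 ⟨1, conjAlgHom_injective P⁻¹ ?_⟩
    rw [one_smul, map_one]
    ext i j
    simpa [one_apply, Pi.single_apply] using congrFun (h4 j) i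
  have h4 := hm _ (mem_rclos hxN) _ (single_mem_subfield F₀ b)
  obtain ⟨j, hj⟩ := Function.ne_iff.mp (sub_ne_zero.mpr hb)
  generalize hw : conjAlgHom P⁻¹ x *ᵥ Pi.single b 1 - Pi.single b 1 = w at hj
  have h5 : ∀ i, w i ∈ F₀ := fun i => hw ▸ F₀.sub_mem (h4 i) (single_mem_subfield F₀ b i)
  have h6 : ζ * Q ((P : Matrix ι ι F) *ᵥ w) ∈ F₀ := by
    have h7 := hp _ _ h4 (single_mem_subfield F₀ b)
    rw [← hw, Matrix.mulVec_sub, Q_sub, ← hx, hNQ x hxN, ← two_mul, h2, zero_mul, zero_sub, mul_neg, hx]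
    exact F₀.neg_mem h7
  have h7 := key w h5 h6 (conjAlgHom P (single a j (w j)⁻¹)) ((hP _).mpr fun i k => by
    rw [conjAlgHom_inv_cancel, single_apply]
    split_ifs
    exacts [F₀.inv_mem (h5 j), F₀.zero_mem])
  rwa [conj_mulVec, single_mulVec, inv_mul_cancel₀ hj] at h7

theorem finrank_subfield [Fintype F] {F₀ : Subfield F} {r : ℕ} (h : Fintype.card F = Nat.card F₀ ^ r) :
    finrank F₀ F = r := by
  have h1 := Module.natCard_eq_pow_finrank (K := F₀) (V := F)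
  rw [Nat.card_eq_fintype_card, h] at h1
  exact (Nat.pow_right_injective Finite.one_lt_card h1).symm

theorem exists_root_of_sq [Fintype F] {F₀ : Subfield F} (h : Fintype.card F = Nat.card F₀ ^ 2)
    {a b : F₀} (hab : ∀ r : F₀, r ^ 2 ≠ a + b * r) : ∃ t : F, t * t = a + b * t := by
  haveI := Fact.mk hab
  obtain ⟨φ⟩ := FiniteField.nonempty_algHom_of_finrank_dvd (F := F₀) (K := QuadraticAlgebra F₀ a b)
    (L := F) (by rw [QuadraticAlgebra.finrank_eq_two, finrank_subfield h])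
  refine ⟨φ QuadraticAlgebra.omega, ?_⟩
  rw [← map_mul, QuadraticAlgebra.omega_mul_omega_eq_add, map_add, map_smul, map_smul, map_one]
  simp [Subfield.smul_def]

theorem plus_of_sq [Fintype F] (hQ : (polarBilin Q).Nondegenerate) {m : ℕ}
    (hn : Fintype.card ι = 2 * (m + 1)) {F₀ : Subfield F} (hc : Fintype.card F = Nat.card F₀ ^ 2)
    {P : GL ι F} {ζ : F} (h0 : ζ ≠ 0) (h : IsQuadFormRationalStructure (fun v => ζ * Q v) F₀ P) :
    IsPlusTypeOn Q ⊤ := by
  let j : (ι → F₀) → ι → F := fun u => (P : Matrix ι ι F) *ᵥ fun i => (u i : F)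
  have hj : ∀ u v, j (u + v) = j u + j v := fun u v => by rw [← Matrix.mulVec_add]; rfl
  have hj' : ∀ (c : F₀) u, j (c • u) = (c : F) • j u := fun c u => by rw [← Matrix.mulVec_smul]; rfl
  let q : (ι → F₀) → F₀ := fun u => ⟨ζ * Q (j u), h _ fun i => (u i).2⟩
  have hp : ∀ u v, ((polar q u v : F₀) : F) = ζ * polar Q (j u) (j v) := fun u v => by
    simp only [polar, q, AddSubgroupClass.coe_sub, hj]; ring
  have hnd : ∀ v, v ≠ 0 → ∃ x, polar q x v ≠ 0 := fun v hv => by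
    by_contra h1
    push Not at h1
    have h2 : j v = 0 := eq_zero_of_polar hQ fun y => by
      rw [← mulVec_inv_mulVec P y, mulVec_eq_sum_single, ← polarBilin_apply_apply, map_sum]
      refine Finset.sum_eq_zero fun a _ => ?_
      have h3 := hp (Pi.single a 1) v
      have h4 : j (Pi.single a 1) = (P : Matrix ι ι F) *ᵥ Pi.single a 1 := by
        simp only [j]; congr 1; funext i; simp [Pi.single_apply, apply_ite]
      rw [h1, h4] at h3
      rw [map_smul, polarBilin_apply_apply, polar_comm,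
        (mul_eq_zero.mp h3.symm).resolve_left h0, smul_zero]
    exact hv (funext fun i => Subtype.ext (congrFun (gl_mulVec_inj P (h2.trans (mulVec_zero _).symm)) i))
  have hq : IsNondegenerateQuadraticForm q := ⟨fun c v => Subtype.ext (by
      simp only [q, hj', Q_smul, Subfield.coe_mul, SubmonoidClass.coe_pow]; ring),
    ⟨fun x y v => Subtype.ext (by simp only [hp, hj, polar_add_left, Subfield.coe_add]; ring),
      fun c x v => Subtype.ext (by simp only [hp, hj', polar_smul_left', Subfield.coe_mul]; ring),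
      fun v x y => Subtype.ext (by simp only [hp, hj, polar_add_right, Subfield.coe_add]; ring),
      fun c v x => Subtype.ext (by simp only [hp, hj', polar_smul_right', Subfield.coe_mul]; ring)⟩,
    fun v hv => ⟨hnd v hv, (hnd v hv).imp fun x hx => by rwa [polar_comm]⟩⟩
  have hQ' := smul_nondeg hQ h0
  have h1 : ∀ u, (ζ • Q) (j u) = FGL.quadOf hq u := fun u => rfl
  have h2 : ∀ u v, polar (ζ • Q) (j u) (j v) = (polar (FGL.quadOf hq) u v : F₀) := fun u v => by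
    rw [FGL.coe_quadOf, hp, coeFn_smul, polar_smul, smul_eq_mul]
  have h3 : ∀ {k : ℕ} {e f : Fin k → ι → F₀}, IsHypFam (FGL.quadOf hq) e f →
      IsHypFam (ζ • Q) (j ∘ e) (j ∘ f) := fun {k e f} H =>
    ⟨fun i => (h1 _).trans (by rw [H.Qe]; rfl), fun i => (h1 _).trans (by rw [H.Qf]; rfl),
      fun i k => (h2 _ _).trans (by rw [H.ee]; rfl), fun i k => (h2 _ _).trans (by rw [H.ff]; rfl),
      fun i k => (h2 _ _).trans (by rw [H.ef]; split_ifs <;> rfl)⟩
  have h4 : IsPlus (ζ • Q) := by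
    rcases even_structure (nondeg_quadOf hq) (m := m) (by simpa using hn) with ⟨e, f, H⟩ |
      ⟨e, f, x, y, H, hx, hy, h5, h6, h7⟩
    · exact (h3 H).isPlus (by simpa using hn)
    obtain ⟨t, ht⟩ := exists_root_of_sq hc (a := -FGL.quadOf hq y) (b := -1) fun r hr =>
      h7 r (by linear_combination hr)
    have h8 : ∀ z ∈ Orth.perp (FGL.quadOf hq) (Submodule.span F₀ (Set.range (Sum.elim e f))),
        j z ∈ Orth.perp (ζ • Q) (Submodule.span F (Set.range (Sum.elim (j ∘ e) (j ∘ f)))) := fun z hz => by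
      rw [Orth.mem_perp_span] at hz ⊢
      rintro _ ⟨a, rfl⟩
      rw [← Sum.comp_elim, Function.comp_apply, h2, hz _ ⟨a, rfl⟩]; rfl
    have h9 := Submodule.add_mem _ (Submodule.smul_mem _ t (h8 x hx)) (h8 y hy)
    have h10 : (ζ • Q) (t • j x + j y) = 0 := by
      rw [Q_add, Q_smul, polar_smul_left', h1, h1, h2, h5, h6, ht]; simp
    obtain ⟨w, hw, h11, h12⟩ := (h3 H).exists_partner hQ' h9 (fun h0 => by
      have h11 := congrArg (polar (ζ • Q) (j y)) h0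
      rw [polar_add_right, polar_smul_right', polar_zero_right, polar_self', h1, h2, polar_comm, h6] at h11
      refine h7 (-(FGL.quadOf hq y + FGL.quadOf hq y)) (Subtype.ext ?_)
      push_cast at h11 ht ⊢
      grind) h10
    exact ((h3 H).cons h9 hw h10 h11 h12).isPlus (by simpa using hn)
  obtain ⟨W, h5, h6⟩ := h4
  exact plusOn_top_iff.mpr ⟨W, fun w hw => (mul_eq_zero.mp (h5 w hw)).resolve_left h0, h6⟩

theorem IdemFam.orth_decomp (hQ : (polarBilin Q).Nondegenerate) {H : Subgroup (GL ι F)}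
    (hH : ∀ h ∈ H, ∀ v, Q ((h : Matrix ι ι F) *ᵥ v) = Q v) {t : ℕ} {e : Fin t → Matrix ι ι F}
    (he : IdemFam H e) (ht : 2 ≤ t) (hadj : ∀ i, IsAdj ρ (gq Q) (e i) (e i)) :
    ∃ m, IsOrthogonalMDecomposition Q m (fun i => rg (e i)) := by
  obtain ⟨m, hm⟩ := he.nondeg_decomp (herm_gq hQ) ht hadj
  refine ⟨m, by rwa [polar_eq_gf], fun i j => ?_⟩
  obtain ⟨h, hh, h1⟩ := he.trans i j
  exact ⟨(glEquiv ι F h).ofSubmodules _ _ (h1 ▸ map_rg h (e i)), fun w => hH h hh _⟩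

theorem exists_frame_vec {t : ℕ} {D : Fin t → Submodule F (ι → F)}
    (hD : IsOrthogonalMDecomposition Q 1 D) : ∃ (v : Fin t → ι → F) (c : F), 2 * c ≠ 0 ∧
      (∀ i, Q (v i) = c) ∧ ∀ i w, w ∈ D i ↔ ∃ a : F, a • v i = w := by
  let i₀ : Fin t := ⟨0, by have := hD.decomp.decomp.two_le; omega⟩
  choose φ hφ using hD.isometric i₀
  obtain ⟨v, hv, h0⟩ := IsMDecomposition.exists_ne_zero hD.decomp.decomp i₀
  have h1 : ∀ i w, w ∈ D i → w ≠ 0 → ∀ x, x ∈ D i ↔ ∃ a : F, a • w = x := fun i w hw h x => by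
    rw [← Submodule.mem_span_singleton, Submodule.eq_of_le_of_finrank_eq
      ((Submodule.span_singleton_le_iff_mem _ _).mpr hw)
      (by rw [finrank_span_singleton h, hD.decomp.decomp.finrank_eq])]
  refine ⟨fun i => φ i ⟨v, hv⟩, Q v, fun h => ?_, fun i => hφ i _, fun i => h1 i _ (φ i _).2 fun h =>
    h0 (congrArg Subtype.val ((φ i).map_eq_zero_iff.mp (Subtype.ext h)))⟩
  obtain ⟨x, hx, h2⟩ := (hD.decomp.nondegenerate i₀ v hv h0).1
  obtain ⟨a, rfl⟩ := (h1 _ _ hv h0 x).mp hx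
  exact h2 (by rw [polar_smul_left', polar_self', h, mul_zero])

theorem frame_subfield [Fintype F] (hp : ¬ (Fintype.card F).Prime) {t : ℕ}
    {D : Fin t → Submodule F (ι → F)} (hD : IsOrthogonalMDecomposition Q 1 D) {H : Subgroup (GL ι F)}
    (hH : ∀ h ∈ H, ∀ v, Q ((h : Matrix ι ι F) *ᵥ v) = Q v) (hle : H ≤ decompositionStabilizer D) :
    ∃ (F₁ : Subfield F) (r : ℕ) (P : GL ι F) (ζ : F), r.Prime ∧ Fintype.card F = Nat.card F₁ ^ r ∧
      ζ ≠ 0 ∧ IsQuadFormRationalStructure (fun v => ζ * Q v) F₁ P ∧ H ≤ subfieldSubgroup F₁ P := by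
  obtain ⟨F₁, r, hr, -, hc, -⟩ := exists_prime_subfield (⊥ : Subfield F) fun h => hp (by
    obtain ⟨p, hp, -, hpp, -⟩ := FiniteField.card' F
    haveI := Fact.mk hpp
    rwa [← Nat.card_eq_fintype_card, ← Nat.card_congr Subfield.topEquiv.toEquiv, ← h, Subfield.card_bot F p])
  obtain ⟨v, c, h1, h2, h3⟩ := exists_frame_vec hD
  have hc0 : c ≠ 0 := right_ne_zero_of_mul h1
  have h4 : ∀ i j, polar Q (v i) (v j) = if i = j then 2 * c else 0 := fun i j => by
    split_ifs with h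
    · rw [h, polar_self', h2]
    · exact hD.decomp.orthogonal i j h _ ((h3 _ _).mpr ⟨1, one_smul _ _⟩) _ ((h3 _ _).mpr ⟨1, one_smul _ _⟩)
  obtain ⟨e, P, h5, -⟩ := exists_coord_of_gram (σ := ρ) Function.surjective_id (gq Q)
    (by simpa using card_eq_of_isMDecomposition hD.decomp.decomp) v (by
      rw [show gres ρ (gq Q) v = diagonal fun _ => 2 * c from by
        ext i j; rw [gres, of_apply, ← polar_eq_gf, h4, diagonal_apply], det_diagonal]
      exact Finset.prod_ne_zero_iff.mpr fun _ _ => h1)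
  refine ⟨F₁, r, P, c⁻¹, hr, hc, inv_ne_zero hc0, fun u hu => ?_, fun h hh => ?_⟩
  · rw [show (P : Matrix ι ι F) *ᵥ u = cvec e P (u ∘ e.symm) by simp [cvec_apply, Function.comp_assoc], h5]
    refine mem_subfield_of_single _ _ _ (fun a => hu _) (fun a => by simp [h2, hc0]) fun a b => ?_
    rw [h4]
    split_ifs
    · rw [mul_left_comm, inv_mul_cancel₀ hc0, mul_one]; exact ofNat_mem F₁ 2
    · simp
  obtain ⟨s, hs⟩ := decomposition_maps (hle hh)
  choose a ha using fun i => (h3 _ _).mp (hs i _ ((h3 i _).mpr ⟨1, one_smul _ _⟩))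
  have h6 : ∀ i, a i ∈ F₁ := fun i => by
    have h7 := hH h hh (v i)
    rw [← ha, Q_smul, h2, h2] at h7
    rcases mul_self_eq_one_iff.mp (mul_right_cancel₀ hc0 (h7.trans (one_mul c).symm)) with h | h <;> simp [h]
  have h7 : (h : Matrix ι ι F) = coord e P (of fun j i => if j = s i then a i else 0) :=
    eq_coord_of fun i => by simp [h5, Pi.single_apply, ite_smul, ha]
  refine (mem_subfieldSubgroup_iff _ _ _).mpr ⟨1, one_ne_zero, fun i j => ?_⟩
  rw [h7, coord, AlgHom.comp_apply, conjAlgHom_inv_cancel, one_mul]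
  change (if _ then _ else _) ∈ F₁
  split_ifs
  exacts [h6 _, F₁.zero_mem]

end CL.Asch
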