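import Cfsg.Agent.CLAS.AschOr2

/-!
Extension fields of large degree in orthogonal groups.
-/

set_option autoImplicit false

namespace CL.Asch

open Matrix Cfsg.Geo Module QuadraticMap CL.Orth
open scoped Kronecker MatrixGroups commutatorElement

variable {F : Type*} [Field F] {ι κ μ : Type} [Fintype ι] [DecidableEq ι] [Fintype κ] [DecidableEq κ]
  [Fintype μ] [DecidableEq μ] {Q : QuadraticForm F (ι → F)} {σ : F →+* F}

local notation "ρ" => RingHom.id F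

theorem IsFieldSubalgebra.mul_eq_zero' {r : ℕ} {K : Subalgebra F (Matrix ι ι F)}
    (hK : IsFieldSubalgebra r K) {x y : Matrix ι ι F} (hy : y ∈ K) (h : x * y = 0) : x = 0 ∨ y = 0 := by
  by_cases h0 : y = 0
  · exact Or.inr h0
  obtain ⟨z, -, hz⟩ := hK.inv y hy h0
  exact Or.inl (by rw [← mul_one x, ← hz, ← mul_assoc, h, zero_mul])

theorem eq_pm_one_of_field {G : Matrix ι ι F} (hG : G.det ≠ 0) {r : ℕ} {K : Subalgebra F (Matrix ι ι F)}
    (hK : IsFieldSubalgebra r K) {g : GL ι F} (hg : (g : Matrix ι ι F) ∈ K) (h1 : IsSim σ G 1 g)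
    (h2 : IsAdj σ G g g) : (g : Matrix ι ι F) = 1 ∨ (g : Matrix ι ι F) = -1 := by
  have h3 : (g : Matrix ι ι F) * g = 1 := by
    conv_lhs => enter [2]; rw [h2.unique hG h1.isAdj_inv]
    exact g.mul_inv
  exact (IsFieldSubalgebra.mul_eq_zero' hK (x := g - 1) (K.add_mem hg K.one_mem)
    (by simp [sub_mul, mul_add, h3])).imp sub_eq_zero.mp eq_neg_of_add_eq_zero_left

theorem IsFieldSubalgebra.mem_of_commute [Nonempty ι] {K : Subalgebra F (Matrix ι ι F)}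
    (hK : IsFieldSubalgebra (Fintype.card ι) K) {z : Matrix ι ι F} (hz : ∀ k ∈ K, z * k = k * z) :
    z ∈ K := by
  obtain ⟨v, hv⟩ := exists_ne (0 : ι → F)
  have h : korb K v = ⊤ := Submodule.eq_top_of_finrank_eq (by simp [finrank_korb hK hv])
  obtain ⟨k, hk, h1⟩ : z *ᵥ v ∈ korb K v := h ▸ trivial
  suffices z = k by rwa [this]
  refine eq_of_mulVec fun w => ?_
  obtain ⟨x, hx, rfl⟩ : w ∈ korb K v := h ▸ trivial
  rw [mulVec_mulVec, hz x hx, ← mulVec_mulVec, ← h1, mulVec_mulVec, mulVec_mulVec, hK.comm x hx k hk]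

theorem singer_commAlg [Finite F] (hn : 2 ≤ Fintype.card ι) (hodd : Odd (Fintype.card ι)) {ε : F}
    {G : Matrix ι ι F} (hG : Herm ρ ε G) {H : Subgroup (GL ι F)} (hirr : Irr H)
    (hH : ∀ h ∈ H, IsSim ρ G 1 (h : Matrix ι ι F)) {K : Subalgebra F (Matrix ι ι F)}
    (hK : IsFieldSubalgebra (Fintype.card ι) K) (hZ : CommAlg ρ G H K) :
    ∃ Z, CommAlg ρ G H Z ∧ ∀ d, ¬ IsFieldSubalgebra d Z := by
  haveI := nonempty_of_two_le hn
  have hs := (selfAdj_or_even hG hK hZ.adj).resolve_right (Nat.not_even_iff_odd.mpr hodd)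
  have hle := le_subalgebraNormalizer hZ.norm
  have hc : ∀ g ∈ H, ∀ h ∈ H, g * h = h * g := fun g hg h hh => by
    have h1 : (((h * g)⁻¹ * (g * h) : GL ι F) : Matrix ι ι F) ∈ K :=
      IsFieldSubalgebra.mem_of_commute hK fun k hk => (conjAlgHom_eq_self_iff _ _).mp (by
        rw [conjAlgHom_mul, conjAlgHom_mul g, conj_conj_comm hK (hle hg) (hle hh) hk, ← conjAlgHom_mul h,
          conjAlgHom_inv_cancel])
    have h2 : (h * g)⁻¹ * (g * h) ∈ H := H.mul_mem (H.inv_mem (H.mul_mem hh hg)) (H.mul_mem hg hh)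
    have h3 : (((h * g)⁻¹ * (g * h) : GL ι F) : Matrix ι ι F).det = 1 := by
      rw [← mem_specialLinear, specialLinear, MonoidHom.mem_ker]
      rw [map_mul, map_inv, map_mul, map_mul, mul_comm (GeneralLinearGroup.det h), inv_mul_cancel]
    refine (inv_mul_eq_one.mp (Units.ext ?_)).symm
    rcases eq_pm_one_of_field hG.det_ne hK h1 (hH _ h2) (hs _ h1) with h | h
    · exact h
    · rw [h, det_neg, hodd.neg_one_pow, det_one, mul_one] at h3
      rw [h, ← neg_one_smul F, h3, one_smul, Units.val_one]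
  have h1 : ∀ x ∈ alg H, ∀ y ∈ alg H, x * y = y * x := adjoin_comm (by
    rintro _ ⟨x, hx, rfl⟩ _ ⟨y, hy, rfl⟩
    exact congrArg Units.val (hc x hx y hy))
  have h2 := isAdj_alg hG.invol hH
  refine ⟨alg H, ⟨h1, fun h hh => conj_mem_alg (normBy_self H h hh), h2, ?_⟩, fun d hd => ?_⟩
  · obtain ⟨g, hg, h3⟩ := SetLike.not_le_iff_exists.mp (not_le_scalars_of_irr hn hirr)
    exact ⟨g, mem_alg hg, fun h => h3 (mem_scalars'.mpr h)⟩
  have h3 := (selfAdj_or_even hG hd h2).resolve_right (Nat.not_even_iff_odd.mpr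
    (hodd.of_dvd_nat (finrank_dvd_of_isFieldSubalgebra hd)))
  refine not_le_scalars_of_irr hn hirr fun g hg => mem_scalars'.mpr ?_
  rcases eq_pm_one_of_field hG.det_ne hd (mem_alg hg) (hH g hg) (h3 _ (mem_alg hg)) with h | h
  · exact ⟨1, by rw [h, one_smul]⟩
  · exact ⟨-1, by rw [h, neg_one_smul]⟩

section Half

variable {G : Matrix ι ι F} {r : ℕ} {K : Subalgebra F (Matrix ι ι F)}

theorem isCompl_korb (hK : IsFieldSubalgebra r K) (hn : Fintype.card ι = 2 * r) {a b : ι → F}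
    (ha : a ≠ 0) (hb : b ∉ korb K a) : IsCompl (korb K a) (korb K b) := by
  have hb0 : b ≠ 0 := by rintro rfl; exact hb (Submodule.zero_mem _)
  have h1 : Disjoint (korb K a) (korb K b) := Submodule.disjoint_def.mpr fun w h1 h2 => by
    by_contra h0
    apply hb
    rw [← korb_eq_of_mem hK (korb_inv K a) (finrank_korb hK ha) h1 h0,
      korb_eq_of_mem hK (korb_inv K b) (finrank_korb hK hb0) h2 h0]
    exact self_mem_korb K b
  refine ⟨h1, codisjoint_iff.mpr (Submodule.eq_top_of_finrank_eq ?_)⟩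
  have := Submodule.finrank_sup_add_finrank_inf_eq (korb K a) (korb K b)
  rw [h1.eq_bot, finrank_bot, finrank_korb hK ha, finrank_korb hK hb0] at this
  rw [finrank_fintype_fun_eq_card]; omega

theorem gf_polarise {z : Matrix ι ι F} (hz : ∀ v, gf ρ G (z *ᵥ v) v = 0) (a b : ι → F) :
    gf ρ G (z *ᵥ a) b = - gf ρ G (z *ᵥ b) a := by
  have := hz (a + b)
  rw [Matrix.mulVec_add, gf_add_left, gf_add_right, gf_add_right, hz, hz] at this
  linear_combination this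

theorem gf_korb_zero [Finite F] [Nonempty ι] (hK : IsFieldSubalgebra r K) (hs : ∀ x ∈ K, IsAdj ρ G x x)
    {z : Matrix ι ι F} (hc : ∀ k ∈ K, z * k = k * z) (hz : ∀ v, gf ρ G (z *ᵥ v) v = 0) (v : ι → F) :
    z *ᵥ v ∈ perp ρ G (korb K v) := by
  rintro _ ⟨k, hk, rfl⟩
  by_cases h2 : (2 : F) = 0
  · obtain ⟨c, hc', rfl, -⟩ := exists_sqrt_field h2 hK hk
    rw [← mulVec_mulVec, ← isAdj_iff.mp (hs c hc'), mulVec_mulVec, ← hc c hc', ← mulVec_mulVec, hz]
  · have h1 := gf_polarise hz v (k *ᵥ v)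
    rw [mulVec_mulVec, hc k hk, ← mulVec_mulVec, isAdj_iff.mp (hs k hk)] at h1
    exact (mul_eq_zero.mp (show 2 * gf ρ G (z *ᵥ v) (k *ᵥ v) = 0 by linear_combination h1)).resolve_left h2

theorem exists_eq_mul_of_alt [Finite F] [Nonempty ι] (hG : Herm ρ 1 G) (hK : IsFieldSubalgebra r K)
    (hn : Fintype.card ι = 2 * r) (hs : ∀ x ∈ K, IsAdj ρ G x x) {z z' : Matrix ι ι F} (h0 : z ≠ 0)
    (hc : ∀ k ∈ K, z * k = k * z) (hz : ∀ v, gf ρ G (z *ᵥ v) v = 0)
    (hc' : ∀ k ∈ K, z' * k = k * z') (hz' : ∀ v, gf ρ G (z' *ᵥ v) v = 0) : ∃ k ∈ K, z' = k * z := by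
  obtain ⟨a, ha⟩ := exists_ne (0 : ι → F)
  have key : ∀ y : Matrix ι ι F, (∀ k ∈ K, y * k = k * y) → (∀ v, gf ρ G (y *ᵥ v) v = 0) →
      y *ᵥ a = 0 → y = 0 := fun y h1 h2 h3 => eq_of_mulVec fun v => by
    have h4 : ∀ w ∈ korb K a, y *ᵥ w = 0 := by
      rintro _ ⟨k, hk, rfl⟩
      rw [mulVec_mulVec, h1 k hk, ← mulVec_mulVec, h3, mulVec_zero]
    rw [zero_mulVec]
    by_cases hv : v ∈ korb K a
    · exact h4 v hv
    refine eq_zero_of_gf_left hG.surj hG.det_ne fun x => ?_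
    obtain ⟨b, hb, c, hc, rfl⟩ := Submodule.mem_sup.mp
      (show x ∈ korb K a ⊔ korb K v from (isCompl_korb hK hn ha hv).sup_eq_top ▸ trivial)
    rw [gf_add_right, gf_korb_zero hK hs h1 h2 v c hc, gf_polarise h2, h4 b hb, gf_zero_left]; simp
  have h1 : korb K (z *ᵥ a) = perp ρ G (korb K a) := korb_eq_of_mem hK (fun k hk v hv => mem_perp.mpr fun w hw => by
      rw [isAdj_iff.mp (hs k hk)]; exact hv _ (korb_inv K a k hk w hw))
    (by have := finrank_perp hG (korb K a); rw [finrank_korb hK ha] at this; omega)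
    (gf_korb_zero hK hs hc hz a) fun h => h0 (key z hc hz h)
  obtain ⟨k, hk, h2⟩ : z' *ᵥ a ∈ korb K (z *ᵥ a) := h1 ▸ gf_korb_zero hK hs hc' hz' a
  refine ⟨k, hk, sub_eq_zero.mp (key _ (fun x hx => ?_) (fun v => ?_) ?_)⟩
  · rw [sub_mul, mul_sub, hc' x hx, mul_assoc, hc x hx, ← mul_assoc, hK.comm k hk x hx, mul_assoc]
  · rw [Matrix.sub_mulVec, gf_sub_left, hz', ← mulVec_mulVec, isAdj_iff.mp (hs k hk),
      gf_korb_zero hK hs hc hz v _ ⟨k, hk, rfl⟩, sub_zero]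
  · rw [Matrix.sub_mulVec, ← mulVec_mulVec, h2, sub_self]

theorem exists_skew_comm [Nonempty ι] (hG : Herm ρ 1 G) (hK : IsFieldSubalgebra r K)
    (hn : Fintype.card ι = 2 * r) (hs : ∀ x ∈ K, IsAdj ρ G x x) :
    ∃ s, s ≠ 0 ∧ IsAdj ρ G s (-s) ∧ ∀ k ∈ K, s * k = k * s := by
  obtain ⟨a, ha⟩ := exists_ne (0 : ι → F)
  obtain ⟨b, hb, hab⟩ : ∃ b, b ∉ korb K a ∧ gf ρ G a b ≠ 0 := by
    obtain ⟨b, hb⟩ := exists_not_mem_of_finrank_lt (korb K a) (by
      have := Fintype.card_pos (α := ι); rw [finrank_korb hK ha]; omega)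
    obtain ⟨c, hc⟩ := (hG.nondeg a ha).2
    by_cases h1 : gf ρ G a b = 0
    · by_cases h2 : c ∈ korb K a
      · exact ⟨b + c, fun h => hb (by simpa using Submodule.sub_mem _ h h2), by
          rwa [gf_add_right, h1, zero_add]⟩
      · exact ⟨c, h2, hc⟩
    · exact ⟨b, hb, h1⟩
  have hc := isCompl_korb hK hn ha hb
  let p := LinearMap.toMatrix' ((korb K a).projection (korb K b) hc)
  have h1 : ∀ v ∈ korb K a, p *ᵥ v = v := fun v hv => by
    rw [LinearMap.toMatrix'_mulVec, Submodule.projection_apply_of_mem_left hc hv]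
  have h2 : ∀ v ∈ korb K b, p *ᵥ v = 0 := fun v hv => by
    rw [LinearMap.toMatrix'_mulVec, Submodule.projection_apply_of_mem_right hc hv]
  have h3 : ∀ k ∈ K, p * k = k * p := fun k hk => eq_of_mulVec fun x => by
    obtain ⟨v, hv, w, hw, rfl⟩ := Submodule.mem_sup.mp
      (show x ∈ korb K a ⊔ korb K b from hc.sup_eq_top ▸ trivial)
    simp only [← mulVec_mulVec, Matrix.mulVec_add, h1 v hv, h2 w hw, h1 _ (korb_inv K a k hk v hv),
      h2 _ (korb_inv K b k hk w hw), mulVec_zero]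
  obtain ⟨p', hp⟩ := exists_isAdj hG.invol hG.det_ne p
  refine ⟨p - p', fun h => hab ?_, by rw [neg_sub]; exact hp.sub (hG.isAdj_symm hp), fun k hk => ?_⟩
  · rw [← h1 a (self_mem_korb K a), isAdj_iff.mp hp, ← sub_eq_zero.mp h, h2 b (self_mem_korb K b),
      gf_zero_right]
  · have h4 := (hs k hk).mul hp
    rw [← h3 k hk] at h4
    rw [sub_mul, mul_sub, h3 k hk, h4.unique hG.det_ne (hp.mul (hs k hk))]

theorem exists_gram_quad (hQ : (polarBilin Q).Nondegenerate) :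
    ∃ u : Matrix ι ι F, ∀ v, gf ρ (gq Q) (u *ᵥ v) v = Q v := by
  obtain ⟨B, hB⟩ := LinearMap.BilinMap.toQuadraticMap_surjective Q
  refine ⟨(LinearMap.BilinForm.toMatrix' B * (gq Q)⁻¹)ᵀ, fun v => ?_⟩
  rw [gf_mulVec_left, transpose_transpose, nonsing_inv_mul_cancel_right _ _ (herm_gq hQ).det_ne.isUnit,
    ← hB, LinearMap.BilinMap.toQuadraticMap_apply, ← toBilin'_toMatrix' B, toBilin'_apply',
    LinearMap.BilinForm.toMatrix'_toBilin']
  rfl

theorem isAdj_of_quad {u : Matrix ι ι F} (hQ : (polarBilin Q).Nondegenerate)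
    (hu : ∀ v, gf ρ (gq Q) (u *ᵥ v) v = Q v) : IsAdj ρ (gq Q) u (1 - u) := isAdj_iff.mpr fun a b => by
  have h1 := hu (a + b)
  rw [Q_add, Matrix.mulVec_add, gf_add_left, gf_add_right, gf_add_right, hu, hu, polar_eq_gf] at h1
  rw [Matrix.sub_mulVec, one_mulVec, gf_sub_right, (herm_gq hQ).symm a (u *ᵥ b)]
  linear_combination h1

theorem exists_u_comm [Finite F] [Nonempty ι] (h2 : (2 : F) = 0) (hQ : (polarBilin Q).Nondegenerate)
    (hK : IsFieldSubalgebra r K) (hs : ∀ x ∈ K, IsAdj ρ (gq Q) x x) :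
    ∃ u : Matrix ι ι F, (∀ v, gf ρ (gq Q) (u *ᵥ v) v = Q v) ∧ ∀ k ∈ K, u * k = k * u := by
  classical
  obtain ⟨u, hu⟩ := exists_gram_quad hQ
  haveI := Fintype.ofFinite Kˣ
  have hm : ∀ a b : Kˣ, (((a * b : Kˣ) : K) : Matrix ι ι F) = ((a : K) : Matrix ι ι F) * (b : K) :=
    fun _ _ => rfl
  have h1 : (((1 : Kˣ) : K) : Matrix ι ι F) = 1 := rfl
  refine ⟨∑ a : Kˣ, ((a : K) : Matrix ι ι F) * u * ((a⁻¹ : Kˣ) : K), fun v => ?_, fun k hk => ?_⟩
  · rw [sum_mulVec, gf_sum_left, ← Finset.add_sum_erase _ _ (Finset.mem_univ 1), inv_one, h1, one_mul,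
      mul_one, hu, add_eq_left]
    refine Finset.sum_involution (fun a _ => a⁻¹) (fun a _ => ?_) (fun a ha _ h => ?_)
      (fun a ha => by simpa using ha) fun a _ => inv_inv a
    · simp only [← mulVec_mulVec, inv_inv]
      rw [isAdj_iff.mp (hs _ (a : K).2), isAdj_iff.mp (hs _ ((a⁻¹ : Kˣ) : K).2),
        isAdj_iff.mp (isAdj_of_quad hQ hu), Matrix.sub_mulVec, one_mulVec, gf_sub_right,
        (herm_gq hQ).symm (u *ᵥ _), sub_add_cancel, isAdj_iff.mp (hs _ ((a⁻¹ : Kˣ) : K).2),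
        mulVec_mulVec, ← hm, inv_mul_cancel, h1, one_mulVec, alt_gq h2]
    · have h3 : ((a : K) : Matrix ι ι F) * (a : K) = 1 := by
        rw [← hm, ← h1]; congr 2; exact mul_eq_one_iff_eq_inv.mpr h.symm
      have h4 : ((a : K) : Matrix ι ι F) - 1 ∈ K := K.sub_mem (a : K).2 K.one_mem
      have h5 : ∀ x : Matrix ι ι F, x + x = 0 := fun x => by rw [← two_smul F, h2, zero_smul]
      refine (Finset.mem_erase.mp ha).1 (Units.ext (Subtype.ext (sub_eq_zero.mp (or_self_iff.mp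
        (IsFieldSubalgebra.mul_eq_zero' hK h4 ?_)))))
      rw [h1, sub_mul, mul_sub, h3, mul_one, one_mul]
      linear_combination (norm := abel) h5 1 - h5 ((a : K) : Matrix ι ι F)
  · by_cases h0 : k = 0
    · simp [h0]
    obtain ⟨y, hy, h3⟩ := hK.inv k hk h0
    let b : Kˣ := ⟨⟨k, hk⟩, ⟨y, hy⟩, Subtype.ext h3, Subtype.ext ((hK.comm y hy k hk).trans h3)⟩
    rw [Finset.sum_mul, Finset.mul_sum, ← Equiv.sum_comp (Equiv.mulLeft b)]
    refine Finset.sum_congr rfl fun a _ => ?_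
    rw [Equiv.coe_mulLeft, _root_.mul_inv_rev, hm, hm, show k = ((b : K) : Matrix ι ι F) from rfl]
    simp only [mul_assoc]
    rw [← hm b⁻¹, inv_mul_cancel, h1, mul_one]

theorem half_commAlg [Finite F] [Nonempty ι] (hQ : (polarBilin Q).Nondegenerate) {H : Subgroup (GL ι F)}
    (hH : ∀ h ∈ H, ∀ v, Q ((h : Matrix ι ι F) *ᵥ v) = Q v) (hK : IsFieldSubalgebra r K)
    (hn : Fintype.card ι = 2 * r) (hZ : CommAlg ρ (gq Q) H K) (hs : ∀ x ∈ K, IsAdj ρ (gq Q) x x) :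
    ∃ Z, CommAlg ρ (gq Q) H Z ∧ ¬ ∀ x ∈ Z, IsAdj ρ (gq Q) x x := by
  have hG := herm_gq hQ
  have hc : ∀ h ∈ H, ∀ z, (∀ k ∈ K, z * k = k * z) → ∀ k ∈ K, conjAlgHom h z * k = k * conjAlgHom h z :=
    fun h hh z hz k hk => by
      rw [← conjAlgHom_cancel_inv h k, ← map_mul, ← map_mul, hz _ (hZ.norm _ (H.inv_mem hh) k hk)]
  have key : ∀ s, (∀ k ∈ K, s * k = k * s) → (∃ a ∈ K, IsAdj ρ (gq Q) s (a - s) ∧ a - s ≠ s) →
      (∀ h ∈ H, ∃ a ∈ K, ∃ b ∈ K, conjAlgHom h s = a + b * s) →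
      ∃ Z, CommAlg ρ (gq Q) H Z ∧ ¬ ∀ x ∈ Z, IsAdj ρ (gq Q) x x := by
    rintro s h1 ⟨a, ha, h2, h3⟩ h4
    have h5 : s ∈ Algebra.adjoin F (insert s (K : Set (Matrix ι ι F))) :=
      Algebra.subset_adjoin (Set.mem_insert _ _)
    have h6 : ∀ k ∈ K, k ∈ Algebra.adjoin F (insert s (K : Set (Matrix ι ι F))) := fun k hk =>
      Algebra.subset_adjoin (Set.mem_insert_of_mem _ hk)
    refine ⟨_, commAlg_adjoin (S := insert s (K : Set (Matrix ι ι F))) hG.invol ?_ ?_ ?_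
      (hZ.nonsc.imp fun z hz => ⟨Set.mem_insert_of_mem _ hz.1, hz.2⟩),
      fun h => h3 (h2.unique hG.det_ne (h s h5))⟩
    · rintro x (rfl | hx) y (rfl | hy)
      exacts [rfl, h1 y hy, (h1 x hx).symm, hK.comm x hx y hy]
    · rintro h hh x (rfl | hx)
      · obtain ⟨a, ha, b, hb, h7⟩ := h4 h hh
        exact h7 ▸ add_mem (h6 a ha) (mul_mem (h6 b hb) h5)
      · exact h6 _ (hZ.norm h hh x hx)
    · rintro x (rfl | hx)
      · exact ⟨_, sub_mem (h6 a ha) h5, h2⟩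
      · exact ⟨x, h6 x hx, hs x hx⟩
  by_cases h2 : (2 : F) = 0
  · obtain ⟨u, hu, h1⟩ := exists_u_comm h2 hQ hK hs
    refine key u h1 ⟨1, K.one_mem, isAdj_of_quad hQ hu, fun h => ?_⟩ fun h hh => ?_
    · rw [sub_eq_iff_eq_add, ← two_smul F, h2, zero_smul] at h
      exact one_ne_zero h
    obtain ⟨k, hk, h3⟩ := exists_eq_mul_of_alt hG hK hn hs (z' := conjAlgHom h u - u) one_ne_zero
      (fun k _ => by simp) (fun v => by rw [one_mulVec, alt_gq h2])
      (fun k hk => by rw [sub_mul, mul_sub, hc h hh u h1 k hk, h1 k hk]) fun v => by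
        rw [Matrix.sub_mulVec, gf_sub_left, hu, ← mulVec_inv_mulVec h v, conj_mulVec,
          isSim_one_iff.mp (isSim_of_isometry (hH h hh)), hu, hH h hh, sub_self]
    exact ⟨k, hk, 1, K.one_mem, by rw [one_mul, ← mul_one k, ← h3, sub_add_cancel]⟩
  · obtain ⟨s, h0, h1, h3⟩ := exists_skew_comm hG hK hn hs
    have h4 : ∀ z, IsAdj ρ (gq Q) z (-z) → ∀ v, gf ρ (gq Q) (z *ᵥ v) v = 0 := fun z hz v => by
      have := isAdj_iff.mp hz v v
      rw [neg_mulVec, gf_neg_right, hG.symm v] at this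
      exact (mul_eq_zero.mp (show 2 * gf ρ (gq Q) (z *ᵥ v) v = 0 by linear_combination this)).resolve_left h2
    refine key s h3 ⟨0, K.zero_mem, by rwa [zero_sub], fun h => h0 ?_⟩ fun h hh => ?_
    · rw [sub_eq_iff_eq_add, ← two_smul F] at h
      exact (smul_eq_zero.mp h.symm).resolve_left h2
    obtain ⟨k, hk, h5⟩ := exists_eq_mul_of_alt hG hK hn hs h0 h3 (h4 s h1) (hc h hh s h3)
      (h4 _ (by simpa using h1.conj (isSim_of_isometry (hH h hh))))
    exact ⟨0, K.zero_mem, k, hk, by rw [zero_add, h5]⟩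

end Half

end CL.Asch
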