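import Cfsg.Agent.CLAS.AschSets

/-!
The special linear group lies in no member of a geometric class.
-/

set_option autoImplicit false

namespace CL.Asch

open Matrix Cfsg.Geo
open scoped Kronecker MatrixGroups

variable {F : Type*} [Field F] {ι κ μ : Type} [Fintype ι] [DecidableEq ι] [Fintype κ] [DecidableEq κ]
  [Fintype μ] [DecidableEq μ] {σ : F →+* F}

theorem sl_move (W : Submodule F (ι → F)) {u w : ι → F} (hu : u ∉ W) (hw : w ∈ W) :
    ∃ g ∈ specialLinear ι F, (g : Matrix ι ι F) *ᵥ u = u + w ∧ ∀ x ∈ W, (g : Matrix ι ι F) *ᵥ x = x := by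
  obtain ⟨φ, h1, h2⟩ := exists_fun W hu
  exact ⟨tvGL w φ (h1 w hw), tvGL_mem _ _ _, by rw [tvGL_mulVec, h2, one_smul],
    fun x hx => by rw [tvGL_mulVec, h1 x hx, zero_smul, add_zero]⟩

theorem sl_trans (hn : 2 ≤ Fintype.card ι) {u v : ι → F} (hu : u ≠ 0) (hv : v ≠ 0) :
    ∃ g ∈ specialLinear ι F, (g : Matrix ι ι F) *ᵥ u = v := by
  have key : ∀ u v : ι → F, u ≠ 0 → v ∉ Submodule.span F {u} →
      ∃ g ∈ specialLinear ι F, (g : Matrix ι ι F) *ᵥ u = v := by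
    intro u v hu hv
    obtain ⟨g, hg, h, -⟩ := sl_move (Submodule.span F {v - u}) (u := u) (w := v - u) (by
      intro h
      obtain ⟨c, hc⟩ := Submodule.mem_span_singleton.mp h
      have hc0 : c ≠ 0 := by rintro rfl; rw [zero_smul] at hc; exact hu hc.symm
      apply hv
      refine Submodule.mem_span_singleton.mpr ⟨1 + c⁻¹, ?_⟩
      rw [add_smul, one_smul]
      conv_lhs => rw [← hc, smul_smul, inv_mul_cancel₀ hc0, one_smul, hc]
      abel) (Submodule.mem_span_singleton_self _)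
    exact ⟨g, hg, by rw [h]; abel⟩
  by_cases h : v ∈ Submodule.span F {u}
  · obtain ⟨x, hx⟩ := exists_not_mem_of_finrank_lt (Submodule.span F {u})
      (lt_of_le_of_lt (finrank_span_singleton_le u) hn)
    obtain ⟨g, hg, h1⟩ := key u x hu hx
    obtain ⟨g', hg', h2⟩ := key v x hv (fun h' => hx
      ((Submodule.span_singleton_le_iff_mem _ _).mpr h h'))
    refine ⟨g'⁻¹ * g, mul_mem (inv_mem hg') hg, ?_⟩
    rw [Units.val_mul, ← mulVec_mulVec, h1, ← h2, inv_mulVec_mulVec]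
  · exact key u v hu h

theorem not_sl_le_of_set (hn : 2 ≤ Fintype.card ι) {M : Subgroup (GL ι F)} (S : Set (ι → F))
    (hM : ∀ g ∈ M, ∀ v ∈ S, (g : Matrix ι ι F) *ᵥ v ∈ S) {u v : ι → F} (hu : u ∈ S) (hu0 : u ≠ 0)
    (hv : v ∉ S) (hv0 : v ≠ 0) : ¬ specialLinear ι F ≤ M := by
  intro hle
  obtain ⟨g, hg, h⟩ := sl_trans hn hu0 hv0
  exact hv (h ▸ hM g (hle hg) u hu)

theorem not_sl_le_subspace (hn : 2 ≤ Fintype.card ι) {W : Submodule F (ι → F)} (h1 : W ≠ ⊥)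
    (h2 : W ≠ ⊤) : ¬ specialLinear ι F ≤ subspaceStabilizer W := by
  obtain ⟨u, hu, hu0⟩ := Submodule.exists_mem_ne_zero_of_ne_bot h1
  obtain ⟨v, -, hv⟩ := SetLike.exists_of_lt (lt_top_iff_ne_top.mpr h2)
  exact not_sl_le_of_set hn W (fun g hg v hv => (hg v).mp hv) hu hu0 hv
    (by rintro rfl; exact hv W.zero_mem)

theorem not_sl_le_decomp (hn : 2 ≤ Fintype.card ι) {t m : ℕ} {D : Fin t → Submodule F (ι → F)}
    (hD : IsMDecomposition m D) : ¬ specialLinear ι F ≤ decompositionStabilizer D := by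
  have ht := hD.two_le
  obtain ⟨u, hu, hu0⟩ := IsMDecomposition.exists_ne_zero hD ⟨0, by omega⟩
  obtain ⟨v, hv, hv0⟩ := IsMDecomposition.exists_ne_zero hD ⟨1, by omega⟩
  have h := IsMDecomposition.add_not_mem hD (by simp) hu hv hu0 hv0
  refine not_sl_le_of_set hn {x | ∃ i, x ∈ D i} (fun g hg => ?_) ⟨_, hu⟩ hu0 (v := u + v)
    (fun ⟨k, hk⟩ => h k hk) (fun h0 => h ⟨0, by omega⟩ (h0 ▸ Submodule.zero_mem _))
  obtain ⟨s, hs⟩ := decomposition_maps hg
  rintro x ⟨i, hi⟩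
  exact ⟨s i, hs i x hi⟩

theorem conj_tv_sub_mem (w φ : ι → F) (h : φ ⬝ᵥ w = 0) (k : Matrix ι ι F) (u : ι → F) :
    (conjAlgHom (tvGL w φ h) k - k) *ᵥ u ∈ Submodule.span F ({w, k *ᵥ w} : Set (ι → F)) := by
  classical
  have hinv : (((tvGL w φ h)⁻¹ : GL ι F) : Matrix ι ι F) *ᵥ u = u - (φ ⬝ᵥ u) • w := by
    rw [tvGL, coe_unipGL_inv, sub_mulVec, one_mulVec, vecMulVec_mulVec']
  rw [sub_mulVec, conjAlgHom_apply, ← mulVec_mulVec, ← mulVec_mulVec, hinv, tvGL_mulVec, mulVec_sub,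
    mulVec_smul]
  have h1 : w ∈ Submodule.span F ({w, k *ᵥ w} : Set (ι → F)) :=
    Submodule.subset_span (by simp)
  have h2 : k *ᵥ w ∈ Submodule.span F ({w, k *ᵥ w} : Set (ι → F)) :=
    Submodule.subset_span (by simp)
  have h3 := Submodule.sub_mem _ (Submodule.smul_mem _ (φ ⬝ᵥ (k *ᵥ u - (φ ⬝ᵥ u) • k *ᵥ w)) h1)
    (Submodule.smul_mem _ (φ ⬝ᵥ u) h2)
  rwa [show ∀ a b c : ι → F, a - b + c - a = c - b from fun a b c => by abel]

theorem finrank_span_pair_lt (hn : 3 ≤ Fintype.card ι) (a b : ι → F) :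
    Module.finrank F (Submodule.span F ({a, b} : Set (ι → F))) < Fintype.card ι := by
  classical
  have := (finrank_span_finset_le ({a, b} : Finset (ι → F))).trans Finset.card_le_two
  rw [Finset.coe_pair] at this
  omega

theorem not_commute_tv {w φ : ι → F} (h : φ ⬝ᵥ w = 0) {k : Matrix ι ι F} (hw : w ≠ 0)
    (hk : φ ⬝ᵥ (k *ᵥ w) ≠ 0) : conjAlgHom (tvGL w φ h) k ≠ k := by
  intro he
  have := conj_mulVec (tvGL w φ h) k w
  rw [he, tvGL_mulVec, tvGL_mulVec, h, zero_smul, add_zero, left_eq_add, smul_eq_zero] at this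
  exact this.elim hk hw

theorem exists_not_mem_span_of_nonscalar {k : Matrix ι ι F}
    (hk : ¬ ∃ c : F, k = c • (1 : Matrix ι ι F)) : ∃ v, v ≠ 0 ∧ k *ᵥ v ∉ Submodule.span F {v} := by
  by_contra h
  push Not at h
  apply hk
  apply exists_smul_of_forall_mem_span
  intro v
  by_cases hv : v = 0
  · rw [hv, mulVec_zero]; exact Submodule.zero_mem _
  · exact h v hv

theorem not_sl_le_field (hn : 3 ≤ Fintype.card ι) {r : ℕ} {K : Subalgebra F (Matrix ι ι F)}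
    (hK : IsFieldSubalgebra r K) (hr : 2 ≤ r) : ¬ specialLinear ι F ≤ subalgebraNormalizer K := by
  classical
  intro hle
  obtain ⟨k, hk, hks⟩ := IsFieldSubalgebra.exists_nonscalar hK hr
  obtain ⟨v, hv0, hv⟩ := exists_not_mem_span_of_nonscalar hks
  obtain ⟨φ, h1, h2⟩ := exists_fun _ hv
  have h3 := h1 v (Submodule.mem_span_singleton_self v)
  have h4 : conjAlgHom (tvGL v φ h3) k ∈ K := (hle (tvGL_mem v φ h3) k).mp hk
  have h5 := IsFieldSubalgebra.eq_zero_of_range hK (K.sub_mem h4 hk) (finrank_span_pair_lt hn _ _)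
    (conj_tv_sub_mem v φ h3 k)
  exact not_commute_tv h3 hv0 (by rw [h2]; exact one_ne_zero) (sub_eq_zero.mp h5)

theorem cvec_ne_zero (e : ι ≃ κ) (P : GL ι F) {u : κ → F} (hu : u ≠ 0) : cvec e P u ≠ 0 :=
  fun h => hu ((cvec e P).map_eq_zero_iff.mp h)

theorem single_one_ne_zero (a : κ) : (Pi.single a 1 : κ → F) ≠ 0 := fun h => by
  simpa using congrFun h a

theorem not_sl_le_tensor {n₁ n₂ : ℕ} (h1 : 2 ≤ n₁) (h2 : 2 ≤ n₂) (e : ι ≃ Fin n₁ × Fin n₂) (P : GL ι F) :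
    ¬ specialLinear ι F ≤ tensorProductSubgroup n₁ n₂ e P := by
  obtain ⟨n₁, rfl⟩ : ∃ k, n₁ = k + 2 := ⟨n₁ - 2, by omega⟩
  obtain ⟨n₂, rfl⟩ : ∃ k, n₂ = k + 2 := ⟨n₂ - 2, by omega⟩
  refine not_sl_le_of_set (by rw [Fintype.card_congr e]; simp; nlinarith)
    {x | ∃ u v, cvec e P (pv2 u v) = x} ?_ ⟨_, _, congrArg _ (single_eq_pv2 0 0).symm⟩
    (cvec_ne_zero e P (single_one_ne_zero _))
    (v := cvec e P (Pi.single (0, 0) 1 + Pi.single (1, 1) 1)) ?_ (cvec_ne_zero e P fun h => ?_)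
  · rintro g hg _ ⟨u, v, rfl⟩
    obtain ⟨u', v', h⟩ := tensorProduct_maps hg u v
    exact ⟨u', v', h.symm⟩
  · rintro ⟨u, v, h⟩
    have h3 := (cvec e P).injective h
    have h4 : pv2 u v (0, 0) * pv2 u v (1, 1) = pv2 u v (0, 1) * pv2 u v (1, 0) := by
      simp only [pv2]; ring
    rw [h3] at h4
    simp at h4
  · simpa using congrFun h (0, 0)

theorem not_pvT {m t : ℕ} (u : Fin (t + 2) → Fin (m + 2) → F) :
    pvT u ≠ Pi.single (fun _ => 0) 1 + Pi.single (fun _ => 1) 1 := by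
  intro h3
  have h4 := pvT_swap u (fun _ => 0) (fun _ => 1) 0
  have e1 : (fun _ : Fin (t + 2) => (0 : Fin (m + 2))) ≠ fun _ => 1 := fun h => by
    simpa using congrFun h 0
  have e2 : Function.update (fun _ : Fin (t + 2) => (0 : Fin (m + 2))) 0 1 ≠ fun _ => 0 := fun h => by
    simpa using congrFun h 0
  have e3 : Function.update (fun _ : Fin (t + 2) => (0 : Fin (m + 2))) 0 1 ≠ fun _ => 1 := fun h => by
    simpa using congrFun h 1
  rw [h3] at h4
  simp only [Pi.add_apply, Pi.single_eq_same, Pi.single_eq_of_ne e1, Pi.single_eq_of_ne e1.symm,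
    Pi.single_eq_of_ne e2, Pi.single_eq_of_ne e3] at h4
  simp at h4

theorem not_sl_le_wreath [Finite F] {m t : ℕ} (h1 : 2 ≤ m) (h2 : 2 ≤ t) (e : ι ≃ (Fin t → Fin m))
    (P : GL ι F) : ¬ specialLinear ι F ≤ tensorWreathSubgroup m t e P := by
  obtain ⟨m, rfl⟩ : ∃ k, m = k + 2 := ⟨m - 2, by omega⟩
  obtain ⟨t, rfl⟩ : ∃ k, t = k + 2 := ⟨t - 2, by omega⟩
  refine not_sl_le_of_set (by
      rw [Fintype.card_congr e]
      exact Fintype.one_lt_card)
    {x | ∃ u, cvec e P (pvT u) = x} ?_ ⟨_, congrArg _ (single_eq_pvT fun _ => 0).symm⟩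
    (cvec_ne_zero e P (single_one_ne_zero _))
    (v := cvec e P (Pi.single (fun _ => 0) 1 + Pi.single (fun _ => 1) 1)) ?_
    (cvec_ne_zero e P fun h => ?_)
  · rintro g hg _ ⟨u, rfl⟩
    obtain ⟨u', h⟩ := tensorWreath_maps hg u
    exact ⟨u', h.symm⟩
  · rintro ⟨u, h⟩
    exact not_pvT u ((cvec e P).injective h)
  · exact not_pvT (F := F) (fun _ _ => 0) (by rw [h]; funext a; simp [pvT])

theorem exists_not_mem_subfield [Fintype F] {F₀ : Subfield F} {r : ℕ} (hr : r.Prime)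
    (h : Fintype.card F = Nat.card F₀ ^ r) : ∃ a, a ∉ F₀ := by
  by_contra hc
  push Not at hc
  have : F₀ = ⊤ := eq_top_iff.mpr fun a _ => hc a
  subst this
  rw [Nat.card_congr Subfield.topEquiv.toEquiv, Nat.card_eq_fintype_card] at h
  have h2 : Fintype.card F ^ 1 < Fintype.card F ^ r := Nat.pow_lt_pow_right Fintype.one_lt_card hr.one_lt
  rw [pow_one] at h2
  omega

theorem gl_mulVec_ne_zero (P : GL ι F) {u : ι → F} (hu : u ≠ 0) : (P : Matrix ι ι F) *ᵥ u ≠ 0 :=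
  fun h => hu (by rw [← inv_mulVec_mulVec P u, h, mulVec_zero])

theorem gl_mulVec_inj (P : GL ι F) {u v : ι → F} (h : (P : Matrix ι ι F) *ᵥ u = (P : Matrix ι ι F) *ᵥ v) :
    u = v := by rw [← inv_mulVec_mulVec P u, h, inv_mulVec_mulVec]

theorem single_mem_subfield (F₀ : Subfield F) (a i : ι) : (Pi.single a 1 : ι → F) i ∈ F₀ := by
  rw [Pi.single_apply]
  split_ifs
  exacts [F₀.one_mem, F₀.zero_mem]

/-- the set of points of a subfield structure -/
def subPts (F₀ : Subfield F) (P : GL ι F) : Set (ι → F) :=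
  {x | ∃ (c : F) (u : ι → F), (∀ i, u i ∈ F₀) ∧ c • ((P : Matrix ι ι F) *ᵥ u) = x}

theorem subPts_maps {F₀ : Subfield F} {P g : GL ι F} (hg : g ∈ subfieldSubgroup F₀ P) :
    ∀ v ∈ subPts F₀ P, (g : Matrix ι ι F) *ᵥ v ∈ subPts F₀ P := by
  rintro _ ⟨c, u, hu, rfl⟩
  obtain ⟨d, u', hu', h⟩ := subfield_maps hg hu
  exact ⟨c * d, u', hu', by rw [mulVec_smul, h, smul_smul]⟩

theorem mem_of_mem_subPts {F₀ : Subfield F} {P : GL ι F} {w : ι → F}
    (h : (P : Matrix ι ι F) *ᵥ w ∈ subPts F₀ P) {a b : ι} (ha : w a ≠ 0) : w b / w a ∈ F₀ := by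
  obtain ⟨c, u, hu, h⟩ := h
  rw [← mulVec_smul] at h
  have h2 := gl_mulVec_inj P h
  subst h2
  simp only [Pi.smul_apply, smul_eq_mul] at ha ⊢
  rw [mul_div_mul_left _ _ (left_ne_zero_of_mul ha)]
  exact F₀.div_mem (hu b) (hu a)

theorem not_sl_le_subfield (hn : 2 ≤ Fintype.card ι) {F₀ : Subfield F} (h : ∃ a, a ∉ F₀) (P : GL ι F) :
    ¬ specialLinear ι F ≤ subfieldSubgroup F₀ P := by
  obtain ⟨x, hx⟩ := h
  obtain ⟨a, b, hab⟩ := Fintype.exists_pair_of_one_lt_card hn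
  refine not_sl_le_of_set hn (subPts F₀ P) (fun g hg => subPts_maps hg)
    ⟨1, _, single_mem_subfield F₀ a, one_smul _ _⟩ (gl_mulVec_ne_zero P (single_one_ne_zero a))
    (v := (P : Matrix ι ι F) *ᵥ (Pi.single a 1 + Pi.single b x)) (fun h => hx ?_)
    (gl_mulVec_ne_zero P fun h => ?_)
  · simpa [Pi.single_eq_of_ne hab, Pi.single_eq_of_ne hab.symm] using
      mem_of_mem_subPts h (a := a) (b := b) (by simp [Pi.single_eq_of_ne hab])
  · simpa [Pi.single_eq_of_ne hab] using congrFun h a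

theorem trace_comm_tv (w φ : ι → F) (h : φ ⬝ᵥ w = 0) (x : GL ι F) :
    trace ((tvGL w φ h * x * (tvGL w φ h)⁻¹ * x⁻¹ : GL ι F) : Matrix ι ι F) = Fintype.card ι -
      (φ ⬝ᵥ ((x : Matrix ι ι F) *ᵥ w)) * (φ ⬝ᵥ (((x⁻¹ : GL ι F) : Matrix ι ι F) *ᵥ w)) := by
  simp only [Units.val_mul, tvGL, coe_unipGL, coe_unipGL_inv]
  have h1 : (1 + vecMulVec w φ) * (x : Matrix ι ι F) * (1 - vecMulVec w φ) * ((x⁻¹ : GL ι F) : Matrix ι ι F) =
      1 + vecMulVec w φ - (x : Matrix ι ι F) * vecMulVec w φ * ((x⁻¹ : GL ι F) : Matrix ι ι F) -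
        vecMulVec w φ * ((x : Matrix ι ι F) * vecMulVec w φ) * ((x⁻¹ : GL ι F) : Matrix ι ι F) := by
    simp only [add_mul, mul_sub, sub_mul, one_mul, mul_one, mul_assoc, Units.mul_inv]
    abel
  rw [h1, trace_sub, trace_sub, trace_add, trace_one, trace_units_conj, mul_vecMulVec,
    vecMulVec_mul_vecMulVec, vecMulVec_mul, trace_vecMulVec, trace_vecMulVec, dotProduct_comm w φ, h,
    smul_vecMul, dotProduct_smul, dotProduct_comm w, ← dotProduct_mulVec, smul_eq_mul]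
  ring

theorem trace_eq_of_tv_normalizes (hn : 3 ≤ Fintype.card ι) {R : Subgroup (GL ι F)} (htop : alg R = ⊤)
    (hc : ⁅R, R⁆ ≤ scalars ι F) {x : GL ι F} (hx : x ∈ R) {w φ : ι → F} (h : φ ⬝ᵥ w = 0)
    (ht : tvGL w φ h ∈ subgroupNormalizer R) (hne : conjAlgHom (tvGL w φ h) x ≠ x) :
    (φ ⬝ᵥ ((x : Matrix ι ι F) *ᵥ w)) * (φ ⬝ᵥ (((x⁻¹ : GL ι F) : Matrix ι ι F) *ᵥ w)) = Fintype.card ι := by
  classical
  haveI := nonempty_of_two_le (by omega : 2 ≤ Fintype.card ι)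
  have h1 : tvGL w φ h * x * (tvGL w φ h)⁻¹ ∈ R := (Subgroup.mem_set_normalizer_iff.mp ht x).mp hx
  have h2 := trace_eq_zero htop hc (R.mul_mem h1 (R.inv_mem hx)) (by
    intro hs
    obtain ⟨c, hc⟩ := mem_scalars'.mp hs
    have h3 : conjAlgHom (tvGL w φ h) x = c • (x : Matrix ι ι F) := by
      rw [← smul_one_mul c, ← hc, ← Units.val_mul, inv_mul_cancel_right, conjAlgHom_coe]
    have hc1 : c - 1 ≠ 0 := fun h0 => hne (by rw [h3, sub_eq_zero.mp h0, one_smul])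
    obtain ⟨v, hv⟩ := exists_not_mem_of_finrank_lt _ (finrank_span_pair_lt hn w ((x : Matrix ι ι F) *ᵥ w))
    apply hv
    have h4 := Submodule.smul_mem _ (c - 1)⁻¹
      (conj_tv_sub_mem w φ h x (((x⁻¹ : GL ι F) : Matrix ι ι F) *ᵥ v))
    rwa [h3, sub_mulVec, smul_mulVec, mulVec_inv_mulVec,
      show c • v - v = (c - 1) • v by rw [sub_smul, one_smul], smul_smul,
      inv_mul_cancel₀ hc1, one_smul] at h4)
  rw [trace_comm_tv, sub_eq_zero] at h2
  exact h2.symm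

theorem exists_sq_ne_one [Fintype F] (hq : 4 ≤ Fintype.card F) : ∃ c : F, c ≠ 0 ∧ c ^ 2 ≠ 1 := by
  classical
  by_contra h
  push Not at h
  have : (Finset.univ : Finset F) ⊆ {0, 1, -1} := fun c _ => by
    by_cases hc : c = 0
    · simp [hc]
    · rcases sq_eq_one_iff.mp (h c hc) with h1 | h1 <;> simp [h1]
  have h2 := Finset.card_le_card this
  have h3 : ({0, 1, -1} : Finset F).card ≤ 3 := Finset.card_le_three
  rw [Finset.card_univ] at h2
  omega

theorem exists_nonscalar_of_alg_top (hn : 2 ≤ Fintype.card ι) {R : Subgroup (GL ι F)}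
    (htop : alg R = ⊤) : ∃ x ∈ R, ¬ ∃ c : F, (x : Matrix ι ι F) = c • (1 : Matrix ι ι F) := by
  haveI := nonempty_of_two_le hn
  obtain ⟨x, hx, hxs⟩ := SetLike.not_le_iff_exists.mp (not_le_scalars_of_irr hn (irr_of_alg_top htop))
  exact ⟨x, hx, fun h => hxs (mem_scalars'.mpr h)⟩

theorem not_sl_le_normalizer [Fintype F] (hn : 3 ≤ Fintype.card ι) (hq : 4 ≤ Fintype.card F)
    {R : Subgroup (GL ι F)} (htop : alg R = ⊤) (hc : ⁅R, R⁆ ≤ scalars ι F) :
    ¬ specialLinear ι F ≤ subgroupNormalizer R := by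
  intro hle
  haveI := nonempty_of_two_le (by omega : 2 ≤ Fintype.card ι)
  obtain ⟨x, hx, hxs⟩ := exists_nonscalar_of_alg_top (by omega) htop
  obtain ⟨v, hv0, hv⟩ := exists_not_mem_span_of_nonscalar hxs
  obtain ⟨φ, h1, h2⟩ := exists_fun _ hv
  have key : ∀ c : F, c ≠ 0 → c ^ 2 * (φ ⬝ᵥ (((x⁻¹ : GL ι F) : Matrix ι ι F) *ᵥ v)) = Fintype.card ι := by
    intro c hc0
    have h3 := h1 (c • v) (Submodule.smul_mem _ _ (Submodule.mem_span_singleton_self v))
    have := trace_eq_of_tv_normalizes hn htop hc hx h3 (hle (tvGL_mem _ _ _))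
      (not_commute_tv h3 (smul_ne_zero hc0 hv0) (by
        rw [mulVec_smul, dotProduct_smul, h2]; simpa using hc0))
    rw [mulVec_smul, mulVec_smul, dotProduct_smul, dotProduct_smul, h2] at this
    rw [← this]; simp; ring
  obtain ⟨c, hc0, hc1⟩ := exists_sq_ne_one hq
  have h3 := key 1 one_ne_zero
  have h4 := key c hc0
  rw [one_pow, one_mul] at h3
  rw [h3] at h4
  exact hc1 (mul_right_cancel₀ (card_ne_zero htop hc) (h4.trans (one_mul _).symm))

theorem not_sl_le_sim (hn : 3 ≤ Fintype.card ι) {ε : F} {G : Matrix ι ι F} (hG : Herm σ ε G) :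
    ¬ specialLinear ι F ≤ similarityGroup (gf σ G) := by
  classical
  intro hle
  obtain ⟨i⟩ := nonempty_of_two_le (by omega : 2 ≤ Fintype.card ι)
  obtain ⟨w, hw⟩ := (hG.nondeg _ (single_one_ne_zero i)).2
  set u : ι → F := Pi.single i 1
  obtain ⟨x, hx⟩ := exists_not_mem_of_finrank_lt _ (finrank_span_pair_lt hn u w)
  have h1 : u ∈ Submodule.span F ({u, w} : Set (ι → F)) :=
    Submodule.subset_span (by simp)
  have h2 : w ∈ Submodule.span F ({u, w} : Set (ι → F)) :=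
    Submodule.subset_span (by simp)
  obtain ⟨g, hg, h3, h4⟩ := sl_move _ (u := x - σ (gf σ G u x / gf σ G u w) • w) (fun h => hx (by
    simpa using Submodule.add_mem _ h (Submodule.smul_mem _ (σ (gf σ G u x / gf σ G u w)) h2))) h2
  obtain ⟨c, hc⟩ := hle hg
  have h5 := hc u (x - σ (gf σ G u x / gf σ G u w) • w)
  rw [h3, h4 u h1, gf_add_right, gf_sub_right, gf_smul_right, hG.invol, div_mul_cancel₀ _ hw,
    sub_self, mul_zero, zero_add] at h5
  exact hw h5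

theorem quadSimilarityGroup_le (Q : (ι → F) → F) :
    quadSimilarityGroup Q ≤ similarityGroup (QuadraticMap.polar Q) := by
  rintro g ⟨c, hc⟩
  exact ⟨c, fun u v => by
    rw [QuadraticMap.polar, QuadraticMap.polar, ← mulVec_add, hc, hc, hc]; ring⟩

theorem not_sl_le_symplectic (hn : 3 ≤ Fintype.card ι) {f : (ι → F) → (ι → F) → F}
    (hf : IsSymplecticForm f) : ¬ specialLinear ι F ≤ similarityGroup f := by
  rw [IsBilinearForm.eq_gf hf.bilinear]
  exact not_sl_le_sim hn (herm_of_symplectic hf)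

theorem not_sl_le_unitary (hn : 3 ≤ Fintype.card ι) {τ : F ≃+* F} {f : (ι → F) → (ι → F) → F}
    (hf : IsUnitaryForm τ f) : ¬ specialLinear ι F ≤ similarityGroup f := by
  rw [eq_gf_of_unitary hf]
  exact not_sl_le_sim hn (herm_of_unitary hf)

theorem not_sl_le_quad (hn : 3 ≤ Fintype.card ι) {Q : (ι → F) → F}
    (hQ : IsNondegenerateQuadraticForm Q) : ¬ specialLinear ι F ≤ quadSimilarityGroup Q := by
  intro h
  have := h.trans (quadSimilarityGroup_le Q)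
  rw [IsBilinearForm.eq_gf hQ.polar_bilinear] at this
  exact not_sl_le_sim hn (herm_of_quad hQ) this

end CL.Asch
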