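import Cfsg.Agent.CLAS.AschSL

/-!
Small field containments between geometric classes of linear groups.
-/

set_option autoImplicit false

namespace CL.Asch

open Matrix Cfsg.Geo
open scoped Kronecker MatrixGroups

variable {F : Type*} [Field F] {ι κ μ : Type} [Fintype ι] [DecidableEq ι] [Fintype κ] [DecidableEq κ]
  [Fintype μ] [DecidableEq μ] {σ : F →+* F}

theorem pow_card_sub_one' [Fintype F] {k : ℕ} (hq : Fintype.card F = k + 1) {a : F} (ha : a ≠ 0) :
    a ^ k = 1 := by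
  have := FiniteField.pow_card_sub_one_eq_one a ha
  rwa [hq, Nat.add_sub_cancel] at this

theorem eq_one_of_card_two [Fintype F] (hq : Fintype.card F = 2) {a : F} (ha : a ≠ 0) : a = 1 := by
  simpa using pow_card_sub_one' (k := 1) hq ha

theorem gl_one_ne_zero (A : GL (Fin 1) F) : (A : Matrix (Fin 1) (Fin 1) F) 0 0 ≠ 0 := by
  have := A.det_ne_zero
  rwa [det_fin_one] at this

theorem isSim_fin_one (A : Matrix (Fin 1) (Fin 1) F) : IsSim σ 1 (A 0 0 * σ (A 0 0)) A := by
  ext a b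
  simp [mul_apply, Subsingleton.elim a 0, Subsingleton.elim b 0]

theorem herm_one (hσ : ∀ a, σ (σ a) = a) : Herm σ 1 (1 : Matrix κ κ F) :=
  ⟨hσ, by simp, by rw [Matrix.map_one _ (map_zero σ) (map_one σ), transpose_one, one_smul], Or.inl rfl⟩

/-- a form preserved by the blocks gives a form preserved by the decomposition stabiliser -/
theorem exists_form_of_blocks {t m : ℕ} {D : Fin t → Submodule F (ι → F)} (hD : IsMDecomposition m D)
    {ε : F} {G₁ : Matrix (Fin m) (Fin m) F} (hG₁ : Herm σ ε G₁) :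
    ∃ G : Matrix ι ι F, Herm σ ε G ∧ ((∀ v, gf σ G₁ v v = 0) → ∀ v, gf σ G v v = 0) ∧
      ∀ g ∈ decompositionStabilizer D, ∃ (s : Equiv.Perm (Fin t)) (A : Fin t → GL (Fin m) F),
        (g : Matrix ι ι F).det = ((Equiv.Perm.sign s : ℤ) : F) ^ m *
          ∏ i, (A i : Matrix (Fin m) (Fin m) F).det ∧
        ∀ c, (∀ i, IsSim σ G₁ c (A i : Matrix (Fin m) (Fin m) F)) → IsSim σ G c (g : Matrix ι ι F) := by
  obtain ⟨e, P, hP⟩ := exists_block_coord hD
  obtain ⟨G, hG, hGe⟩ := exists_cpull_eq (hG₁.blockDiagonal t) e P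
  refine ⟨G, hG, fun h v => ?_, fun g hg => ?_⟩
  · rw [← (cvec e P).apply_symm_apply v, ← gf_cpull, hGe, gf_blockDiagonal]
    simp [h]
  · obtain ⟨s, A, h⟩ := exists_blockMon hP hg
    refine ⟨s, A, by rw [h, det_coord, det_blockMon, Fintype.card_fin], fun c hc => ?_⟩
    rw [h, ← isSim_cpull, hGe]
    exact isSim_blockMon s hc

theorem lines_two [Fintype F] (hq : Fintype.card F = 2) {t : ℕ} {D : Fin t → Submodule F (ι → F)}
    (hD : IsMDecomposition 1 D) : ∃ W : Submodule F (ι → F), W ≠ ⊥ ∧ W ≠ ⊤ ∧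
      decompositionStabilizer D ≤ subspaceStabilizer W := by
  obtain ⟨e, P, hP⟩ := exists_block_coord hD
  have ht := hD.two_le
  refine ⟨Submodule.span F {cvec e P 1}, ?_, ?_, le_subspaceStabilizer fun g hg v hv => ?_⟩
  · rw [Ne, Submodule.span_singleton_eq_bot]
    exact cvec_ne_zero e P fun h => by simpa using congrFun h (0, ⟨0, by omega⟩)
  · intro h
    have := finrank_span_singleton_le (cvec e P 1)
    rw [h, finrank_top, Module.finrank_fintype_fun_eq_card, card_eq_of_isMDecomposition hD] at this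
    omega
  · obtain ⟨c, rfl⟩ := Submodule.mem_span_singleton.mp hv
    obtain ⟨s, A, h⟩ := exists_blockMon hP hg
    have : (blockMon s fun i => (A i : Matrix (Fin 1) (Fin 1) F)) *ᵥ 1 = 1 := by
      funext ⟨a, j⟩
      obtain ⟨i, rfl⟩ := s.surjective j
      rw [blockMon_mulVec]
      simp [mulVec, dotProduct, Subsingleton.elim a 0, eq_one_of_card_two hq (gl_one_ne_zero (A i))]
    rw [mulVec_smul, h, coord_mulVec, this]
    exact hv

theorem lines_three [Fintype F] (hq : Fintype.card F = 3) {t : ℕ} {D : Fin t → Submodule F (ι → F)}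
    (hD : IsMDecomposition 1 D) : ∃ Q : (ι → F) → F, IsNondegenerateQuadraticForm Q ∧
      decompositionStabilizer D ≤ quadSimilarityGroup Q := by
  obtain ⟨G, hG, -, h⟩ := exists_form_of_blocks hD (herm_one (σ := RingHom.id F) fun _ => rfl)
  refine ⟨_, hG.isQuad (two_ne_zero_of_odd (by rw [hq]; decide)), fun g hg => ?_⟩
  obtain ⟨s, A, -, h2⟩ := h g hg
  refine ⟨1, fun v => isSim_iff.mp (h2 1 fun i => ?_) v v⟩
  have := isSim_fin_one (σ := RingHom.id F) (A i : Matrix (Fin 1) (Fin 1) F)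
  rwa [RingHom.id_apply, ← sq, pow_card_sub_one' (k := 2) hq (gl_one_ne_zero _)] at this

theorem exists_invol_of_card [Fintype F] {q : ℕ} (hq : Fintype.card F = q ^ 2) :
    ∃ τ : F →+* F, (∀ a, τ a = a ^ q) ∧ (∀ a, τ (τ a) = a) ∧ ¬ ∀ a, τ a = a := by
  obtain ⟨p, hp, ⟨e, he0⟩, hpp, he⟩ := FiniteField.card' F
  haveI := Fact.mk hpp
  obtain ⟨k, -, rfl⟩ := (Nat.dvd_prime_pow hpp).mp
    (show q ∣ p ^ e from by rw [hq] at he; exact he ▸ dvd_pow_self q two_ne_zero)
  refine ⟨iterateFrobenius F p k, fun a => rfl, fun a => ?_, fun h => ?_⟩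
  · rw [iterateFrobenius_def, iterateFrobenius_def, ← pow_mul, ← sq, ← hq, FiniteField.pow_card]
  · obtain ⟨S, hS, hcard⟩ := exists_subfield_of_card (L := F) (Q := p ^ k) (j := 2)
      (by rw [Nat.card_eq_fintype_card, hq])
    obtain ⟨a, ha⟩ := exists_not_mem_subfield (F₀ := S) Nat.prime_two (by rw [hcard, hq])
    exact ha ((hS a).mpr (h a))

theorem lines_four [Fintype F] (hq : Fintype.card F = 4) {t : ℕ} {D : Fin t → Submodule F (ι → F)}
    (hD : IsMDecomposition 1 D) : ∃ (τ : F ≃+* F) (f : (ι → F) → (ι → F) → F), IsUnitaryForm τ f ∧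
      decompositionStabilizer D ≤ similarityGroup f := by
  obtain ⟨τ, h1, h2, h3⟩ := exists_invol_of_card (F := F) (q := 2) hq
  obtain ⟨G, hG, -, h⟩ := exists_form_of_blocks hD (herm_one h2)
  refine ⟨_, _, hG.isUnitaryForm h3, fun g hg => ?_⟩
  obtain ⟨s, A, -, h2⟩ := h g hg
  refine ⟨1, isSim_iff.mp (h2 1 fun i => ?_)⟩
  have := isSim_fin_one (σ := τ) (A i : Matrix (Fin 1) (Fin 1) F)
  rwa [h1, ← pow_succ', pow_card_sub_one' (k := 3) hq (gl_one_ne_zero _)] at this

theorem alt_J2 (v : Fin 2 → F) : gf (RingHom.id F) (J2 F) v v = 0 := by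
  simp [gf_eq_sum, J2, Fin.sum_univ_two]; ring

theorem planes_two [Fintype F] (hq : Fintype.card F = 2) {t : ℕ} {D : Fin t → Submodule F (ι → F)}
    (hD : IsMDecomposition 2 D) : ∃ f : (ι → F) → (ι → F) → F, IsSymplecticForm f ∧
      decompositionStabilizer D ≤ similarityGroup f := by
  obtain ⟨G, hG, halt, h⟩ := exists_form_of_blocks hD (herm_J2 (F := F))
  refine ⟨_, isSymplecticForm_gf hG.det_ne (halt alt_J2), fun g hg => ?_⟩
  obtain ⟨s, A, -, h2⟩ := h g hg
  refine ⟨1, isSim_iff.mp (h2 1 fun i => ?_)⟩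
  have := isSim_J2 (A i : Matrix (Fin 2) (Fin 2) F)
  rwa [eq_one_of_card_two hq (A i).det_ne_zero] at this

theorem planes_three [Fintype F] (hq : Fintype.card F = 3) {D : Fin 2 → Submodule F (ι → F)}
    (hD : IsMDecomposition 2 D) : ∃ f : (ι → F) → (ι → F) → F, IsSymplecticForm f ∧
      decompositionStabilizer D ⊓ specialLinear ι F ≤ similarityGroup f := by
  obtain ⟨G, hG, halt, h⟩ := exists_form_of_blocks hD (herm_J2 (F := F))
  refine ⟨_, isSymplecticForm_gf hG.det_ne (halt alt_J2), fun g hg => ?_⟩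
  obtain ⟨s, A, h1, h2⟩ := h g hg.1
  rw [mem_specialLinear.mp hg.2, Fin.prod_univ_two, ← Int.cast_pow, ← Units.val_pow_eq_pow_val,
    Int.units_sq, Units.val_one, Int.cast_one, one_mul] at h1
  have h3 := pow_card_sub_one' (k := 2) hq (A 0).det_ne_zero
  have h4 : (A 1 : Matrix (Fin 2) (Fin 2) F).det = (A 0 : Matrix (Fin 2) (Fin 2) F).det :=
    mul_left_cancel₀ (A 0).det_ne_zero (by rw [← h1, ← sq, h3])
  refine ⟨Units.mk0 _ (A 0).det_ne_zero, isSim_iff.mp (h2 _ fun i => ?_)⟩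
  fin_cases i
  · exact isSim_J2 _
  · have := isSim_J2 (A 1 : Matrix (Fin 2) (Fin 2) F)
    rw [h4] at this
    exact this

theorem IsFieldSubalgebra.map [Nonempty κ] [Nonempty ι] {r : ℕ} {K : Subalgebra F (Matrix κ κ F)}
    (hK : IsFieldSubalgebra r K) (φ : Matrix κ κ F →ₐ[F] Matrix ι ι F) :
    IsFieldSubalgebra r (K.map φ) := by
  refine ⟨?_, ?_, ?_⟩
  · rintro _ ⟨x, hx, rfl⟩ _ ⟨y, hy, rfl⟩
    rw [← map_mul, hK.comm x hx y hy, map_mul]
  · rintro _ ⟨x, hx, rfl⟩ h0
    obtain ⟨y, hy, hxy⟩ := hK.inv x hx (by rintro rfl; exact h0 (map_zero φ))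
    exact ⟨φ y, ⟨y, hy, rfl⟩, (map_mul φ x y).symm.trans (by rw [hxy, map_one])⟩
  · rw [← hK.finrank_eq]
    exact (K.equivMapOfInjective φ (algHom_injective φ)).toLinearEquiv.finrank_eq.symm

/-- the subalgebra generated by `!![0,1;1,1]` -/
def K2 (F : Type*) [Field F] : Subalgebra F (Matrix (Fin 2) (Fin 2) F) where
  carrier := {x | x 1 0 = x 0 1 ∧ x 1 1 = x 0 0 + x 0 1}
  mul_mem' := by
    rintro x y ⟨h1, h2⟩ ⟨h3, h4⟩
    simp only [Set.mem_ofPred_eq, mul_apply, Fin.sum_univ_two, h1, h2, h3, h4]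
    constructor <;> ring
  add_mem' := by
    rintro x y ⟨h1, h2⟩ ⟨h3, h4⟩
    simp only [Set.mem_ofPred_eq, Matrix.add_apply, h1, h2, h3, h4]
    exact ⟨trivial, by ring⟩
  algebraMap_mem' c := by simp [algebraMap_matrix_apply]

theorem eq_zero_or_one [Fintype F] (hq : Fintype.card F = 2) (a : F) : a = 0 ∨ a = 1 := by
  by_cases h : a = 0
  · exact Or.inl h
  · exact Or.inr (eq_one_of_card_two hq h)

theorem isFieldSubalgebra_K2 [Fintype F] (hq : Fintype.card F = 2) : IsFieldSubalgebra 2 (K2 F) := by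
  have h2 : (1 : F) + 1 = 0 := by
    have := two_eq_zero_of_not_odd (F := F) (by rw [hq]; decide)
    rwa [← one_add_one_eq_two] at this
  refine ⟨?_, ?_, ?_⟩
  · rintro x ⟨h1, h2⟩ y ⟨h3, h4⟩
    ext i j
    fin_cases i <;> fin_cases j <;> simp [mul_apply, Fin.sum_univ_two, h1, h2, h3, h4] <;> ring
  · rintro x ⟨h1, h3⟩ h0
    refine ⟨x * x, (K2 F).mul_mem ⟨h1, h3⟩ ⟨h1, h3⟩, ?_⟩
    rcases eq_zero_or_one hq (x 0 0) with ha | ha <;> rcases eq_zero_or_one hq (x 0 1) with hb | hb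
    · exfalso; apply h0
      ext i j
      fin_cases i <;> fin_cases j <;> simp [h1, h3, ha, hb]
    all_goals
      ext i j
      fin_cases i <;> fin_cases j <;> simp [mul_apply, Fin.sum_univ_two, h1, h3, ha, hb, h2]
  · let L : K2 F ≃ₗ[F] (Fin 2 → F) :=
      { toFun := fun x => (x : Matrix (Fin 2) (Fin 2) F) 0
        map_add' := fun _ _ => rfl
        map_smul' := fun _ _ => rfl
        invFun := fun v => ⟨!![v 0, v 1; v 1, v 0 + v 1], by constructor <;> rfl⟩
        left_inv := fun x => Subtype.ext (by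
          ext i j
          fin_cases i <;> fin_cases j <;> simp [x.2.1, x.2.2])
        right_inv := fun v => by funext i; fin_cases i <;> rfl }
    rw [L.finrank_eq]; simp

theorem conj_mem_K2 [Fintype F] (hq : Fintype.card F = 2) (a : GL (Fin 2) F) :
    ∀ x ∈ K2 F, conjAlgHom a x ∈ K2 F := by
  have h2 : (1 : F) + 1 = 0 := by
    have := two_eq_zero_of_not_odd (F := F) (by rw [hq]; decide)
    rwa [← one_add_one_eq_two] at this
  have hn : (-1 : F) = 1 := by linear_combination -h2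
  have key : ∀ y : Matrix (Fin 2) (Fin 2) F, y.det = 1 → trace y = 1 → y ∈ K2 F := by
    intro y h3 h4
    rw [det_fin_two] at h3
    rw [trace_fin_two] at h4
    change y 1 0 = y 0 1 ∧ y 1 1 = y 0 0 + y 0 1
    rcases eq_zero_or_one hq (y 0 0) with ha | ha <;> rcases eq_zero_or_one hq (y 0 1) with hb | hb <;>
      rcases eq_zero_or_one hq (y 1 0) with hc | hc <;> rcases eq_zero_or_one hq (y 1 1) with hd | hd <;>
      simp_all
  rintro x ⟨h3, h4⟩
  have : x = x 0 0 • (1 : Matrix (Fin 2) (Fin 2) F) + x 0 1 • !![0, 1; 1, 1] := by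
    ext i j
    fin_cases i <;> fin_cases j <;> simp [h3, h4]
  rw [this, map_add, map_smul, map_smul, map_one]
  refine (K2 F).add_mem ((K2 F).smul_mem (K2 F).one_mem _) ((K2 F).smul_mem (key _ ?_ ?_) _)
  · rw [conjAlgHom_apply, det_units_conj]; simp [hn]
  · rw [conjAlgHom_apply, trace_units_conj]; simp

theorem conj_coord_kron (e : ι ≃ κ × μ) (P g : GL ι F) (a : GL κ F) (b : GL μ F)
    (h : (g : Matrix ι ι F) = coord e P ((a : Matrix κ κ F) ⊗ₖ (b : Matrix μ μ F))) (x : Matrix κ κ F) :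
    conjAlgHom g (coord e P (kronL κ μ F x)) = coord e P (kronL κ μ F (conjAlgHom a x)) := by
  rw [conjAlgHom_apply, Units.mul_inv_eq_iff_eq_mul, h, ← map_mul, ← map_mul, kronL_apply, kronL_apply,
    ← mul_kronecker_mul, ← mul_kronecker_mul, conjAlgHom_apply, Units.inv_mul_cancel_right, mul_one,
    one_mul]

theorem tensor_two [Fintype F] [Nonempty ι] (hq : Fintype.card F = 2) {n₂ : ℕ} (e : ι ≃ Fin 2 × Fin n₂)
    (P : GL ι F) : ∃ K : Subalgebra F (Matrix ι ι F), IsFieldSubalgebra 2 K ∧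
      tensorProductSubgroup 2 n₂ e P ≤ subalgebraNormalizer K := by
  refine ⟨_, IsFieldSubalgebra.map (isFieldSubalgebra_K2 hq) ((coord e P).comp (kronL _ _ F)),
    le_subalgebraNormalizer ?_⟩
  rintro g hg _ ⟨x, hx, rfl⟩
  obtain ⟨a, b, h⟩ := (mem_tensorProductSubgroup_iff e P g).mp hg
  exact ⟨_, conj_mem_K2 hq a x hx, (conj_coord_kron e P g a b h x).symm⟩

/-- Maschke's octic -/
def octic (x : Fin 4 → F) : F :=
  ∑ i, x i ^ 8 + 7 * ((∑ i, x i ^ 4) ^ 2 - ∑ i, x i ^ 8) + 168 * (∏ i, x i) ^ 2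

theorem octic_perm (s : Equiv.Perm (Fin 4)) (x : Fin 4 → F) : octic (x ∘ s) = octic x := by
  simp only [octic, Function.comp_apply]
  rw [Equiv.sum_comp s (fun i => x i ^ 8), Equiv.sum_comp s (fun i => x i ^ 4), Equiv.prod_comp s x]

theorem octic_diag {c : Fin 4 → F} (h1 : ∀ i, c i ^ 4 = 1) (h2 : (∏ i, c i) ^ 2 = 1) (x : Fin 4 → F) :
    octic (fun i => c i * x i) = octic x := by
  have h3 : ∀ i, c i ^ 8 = 1 := fun i => by rw [show 8 = 4 * 2 from rfl, pow_mul, h1, one_pow]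
  simp only [octic, mul_pow, h1, h3, one_mul, Finset.prod_mul_distrib, h2]

/-- Hadamard matrix -/
def had (F : Type*) [Field F] : Matrix (Fin 4) (Fin 4) F :=
  !![1, 1, 1, 1; 1, -1, 1, -1; 1, 1, -1, -1; 1, -1, -1, 1]

theorem octic_had (x : Fin 4 → F) : octic (had F *ᵥ x) = 2 ^ 8 * octic x := by
  simp [octic, had, Fin.sum_univ_four, Fin.prod_univ_four, mulVec, dotProduct]
  ring

theorem octic_smul (c : F) (x : Fin 4 → F) : octic (c • x) = c ^ 8 * octic x := by
  simp [octic, Fin.sum_univ_four, Fin.prod_univ_four]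
  ring

theorem det_had : (had F).det = 2 ^ 4 := by
  simp [had, det_succ_row_zero, Fin.sum_univ_succ, Fin.succAbove]
  norm_num

/-- the isometry group of a function -/
theorem mem_isometryGroup {Q : (ι → F) → F} {g : GL ι F} :
    g ∈ Cfsg.isometryGroup F Q ↔ ∀ v, Q ((g : Matrix ι ι F) *ᵥ v) = Q v :=
  ⟨fun h v => h v v, fun h u _ => h u⟩

theorem exists_octic {D : Fin 4 → Submodule F (ι → F)} (hD : IsMDecomposition 1 D) (h2 : (2 : F) ≠ 0) :
    ∃ (e : ι ≃ Fin 4) (P : GL ι F),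
      (∀ g ∈ decompositionStabilizer D, ∃ (s : Equiv.Perm (Fin 4)) (c : Fin 4 → F), (∀ i, c i ≠ 0) ∧
        (g : Matrix ι ι F) = coord e P ((diagonal c).submatrix s id)) := by
  obtain ⟨e, P, hP⟩ := exists_block_coord hD
  refine ⟨e.trans (Equiv.uniqueProd _ _), P, fun g hg => ?_⟩
  obtain ⟨s, A, h⟩ := exists_blockMon hP hg
  refine ⟨s.symm, fun i => (A i : Matrix (Fin 1) (Fin 1) F) 0 0, fun i => gl_one_ne_zero _, ?_⟩
  rw [h, coord_apply, coord_apply]
  congr 2
  ext i j
  simp only [submatrix_apply, Equiv.trans_apply, id]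
  rcases e i with ⟨a, k⟩
  rcases e j with ⟨b, l⟩
  rw [blockMon_apply, diagonal_apply, Subsingleton.elim a 0, Subsingleton.elim b 0]
  simp only [Equiv.uniqueProd_apply, Equiv.symm_apply_eq]
  split_ifs with h1
  · rw [h1, Equiv.symm_apply_apply]
  · rfl

theorem submatrix_diagonal_mulVec (s : Equiv.Perm κ) (c x : κ → F) :
    (diagonal c).submatrix s id *ᵥ x = (fun i => c i * x i) ∘ s := by
  funext i
  simp [mulVec, dotProduct, diagonal_apply]

/-- the normalised Hadamard matrix in coordinates -/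
noncomputable def hadGL (h2 : (2 : F) ≠ 0) : GL (Fin 4) F :=
  Matrix.GeneralLinearGroup.mkOfDetNeZero ((2 : F)⁻¹ • had F) (by
    rw [det_smul, det_had]; simp [h2])

theorem det_hadGL (h2 : (2 : F) ≠ 0) : (hadGL h2 : Matrix (Fin 4) (Fin 4) F).det = 1 := by
  change ((2 : F)⁻¹ • had F).det = 1
  rw [det_smul, det_had, Fintype.card_fin, ← mul_pow, inv_mul_cancel₀ h2, one_pow]

theorem octic_hadGL (h2 : (2 : F) ≠ 0) (x : Fin 4 → F) :
    octic ((hadGL h2 : Matrix (Fin 4) (Fin 4) F) *ᵥ x) = octic x := by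
  change octic (((2 : F)⁻¹ • had F) *ᵥ x) = _
  rw [smul_mulVec, octic_smul, octic_had, ← mul_assoc, ← mul_pow, inv_mul_cancel₀ h2, one_pow, one_mul]

theorem hadGL_ne (h2 : (2 : F) ≠ 0) (s : Equiv.Perm (Fin 4)) (c : Fin 4 → F) :
    (hadGL h2 : Matrix (Fin 4) (Fin 4) F) ≠ (diagonal c).submatrix s id := by
  intro h
  obtain ⟨j, hj⟩ := exists_ne (s 0)
  have := congrFun (congrFun h 0) j
  change ((2 : F)⁻¹ • had F) 0 j = _ at this
  rw [submatrix_apply, id, diagonal_apply_ne _ hj.symm] at this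
  fin_cases j <;> simp [had, h2] at this

theorem lines_five [Fintype F] (hq : Fintype.card F = 5) {D : Fin 4 → Submodule F (ι → F)}
    (hD : IsMDecomposition 1 D) :
    ¬ IsMaximalIn (specialLinear ι F) (decompositionStabilizer D ⊓ specialLinear ι F) := by
  intro hmax
  have h2 : (2 : F) ≠ 0 := two_ne_zero_of_odd (by rw [hq]; decide)
  have h5 : (5 : F) = 0 := by have := FiniteField.cast_card_eq_zero F; rw [hq] at this; exact_mod_cast this
  obtain ⟨e, P, hP⟩ := exists_octic hD h2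
  let Q : (ι → F) → F := fun v => octic ((cvec e P).symm v)
  have hQ : ∀ (g : GL ι F) (x : Matrix (Fin 4) (Fin 4) F), (g : Matrix ι ι F) = coord e P x →
      (∀ u, octic (x *ᵥ u) = octic u) → g ∈ Cfsg.isometryGroup F Q := by
    intro g x hg hx
    rw [mem_isometryGroup]
    intro v
    obtain ⟨u, rfl⟩ := (cvec e P).surjective v
    simp only [Q, hg, coord_mulVec, LinearEquiv.symm_apply_apply, hx]
  have h1 := IsMaximalIn.eq_inf hmax (M := Cfsg.isometryGroup F Q) (fun g hg => by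
    obtain ⟨s, c, hc, h⟩ := hP g hg.1
    refine hQ g _ h fun u => ?_
    have h3 := mem_specialLinear.mp hg.2
    rw [h, det_coord, det_permute, det_diagonal] at h3
    rw [submatrix_diagonal_mulVec, octic_perm, octic_diag (fun i => pow_card_sub_one' (k := 4) hq (hc i))]
    have h4 := congrArg (· ^ 2) h3
    simp only [mul_pow, one_pow] at h4
    rwa [← Int.cast_pow, ← Units.val_pow_eq_pow_val, Int.units_sq, Units.val_one, Int.cast_one,
      one_mul] at h4) (by
    refine not_sl_le_of_set (by rw [Fintype.card_congr e]; simp) {v | Q v = 1}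
      (fun g hg v hv => (mem_isometryGroup.mp hg v).trans hv) (u := cvec e P ![1, 0, 0, 0]) ?_
      (cvec_ne_zero e P fun h => by simpa using congrFun h 0) (v := cvec e P ![1, 1, 1, 0]) ?_
      (cvec_ne_zero e P fun h => by simpa using congrFun h 0)
    · simp [Q, octic, Fin.sum_univ_four, Fin.prod_univ_four]
    · simp only [Q, Set.mem_ofPred_eq, LinearEquiv.symm_apply_apply]
      simp [octic, Fin.sum_univ_four, Fin.prod_univ_four]
      intro h
      exact one_ne_zero (α := F) (by linear_combination -h + 9 * h5))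
  have h3 : coordGL e P (hadGL h2) ∈ Cfsg.isometryGroup F Q ⊓ specialLinear ι F :=
    ⟨hQ _ _ rfl (octic_hadGL h2), mem_specialLinear.mpr (by rw [coe_coordGL, det_coord, det_hadGL])⟩
  rw [← h1] at h3
  obtain ⟨s, c, -, h⟩ := hP _ h3.1
  exact hadGL_ne h2 s c ((coord_bijective e P).1 h)

end CL.Asch
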