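import Cfsg.Agent.CLAS.AschSL2

/-!
Maximal subgroups of the special linear groups: the refined list.
-/

set_option autoImplicit false

namespace CL.Asch

open Matrix Cfsg.Geo
open scoped Kronecker MatrixGroups

variable {F : Type*} [Field F] {ι : Type} [Fintype ι] [DecidableEq ι]

theorem IsFieldSubalgebra.isField [Nonempty ι] {r : ℕ} {K : Subalgebra F (Matrix ι ι F)}
    (hK : IsFieldSubalgebra r K) : IsField K :=
  ⟨⟨0, 1, zero_ne_one⟩, fun x y => Subtype.ext (hK.comm x x.2 y y.2),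
    fun {x} hx => by
      obtain ⟨y, hy, hxy⟩ := hK.inv x x.2 (fun h => hx (Subtype.ext h))
      exact ⟨⟨y, hy⟩, Subtype.ext hxy⟩⟩

theorem singer_aux [Fintype F] (hq : Fintype.card F = 4) {K : Type*} [Field K] [Algebra F K]
    (hK : Module.finrank F K = 3) : ∃ (F₀ : Subfield F) (b : Module.Basis (Fin 3) F K),
      Nat.card F₀ = 2 ∧ ∀ (a : K) (α : K ≃ₐ[F] K),
        LinearMap.det (Algebra.lmul F K a ∘ₗ α.toLinearMap) = 1 →
        ∃ c : F, c ≠ 0 ∧ ∀ i j, c * b.repr (a * α (b j)) i ∈ F₀ := by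
  classical
  haveI : FiniteDimensional F K := Module.finite_of_finrank_pos (by omega)
  haveI : Finite K := Module.finite_of_finite F
  have hF : Nat.card F = 4 := by rw [Nat.card_eq_fintype_card, hq]
  have hcK : Nat.card K = 64 := by rw [Module.natCard_eq_pow_finrank (K := F), hF, hK]; rfl
  obtain ⟨F₀, hF₀, hc₀⟩ := exists_subfield_of_card (L := F) (Q := 2) (j := 2) hF
  obtain ⟨g, hg⟩ := IsCyclic.exists_ofOrder_eq_natCard (α := Kˣ)
  rw [Nat.card_units, hcK] at hg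
  have hβ : IsPrimitiveRoot ((g : K) ^ 9) 7 := by
    have : IsPrimitiveRoot (g : K) 63 := by
      rw [IsPrimitiveRoot.coe_units_iff]; exact (show orderOf g = 63 from hg) ▸ IsPrimitiveRoot.orderOf g
    exact this.pow (by norm_num) (by norm_num)
  set β : K := (g : K) ^ 9
  obtain ⟨z, hz⟩ := IsCyclic.exists_ofOrder_eq_natCard (α := Fˣ)
  rw [Nat.card_units, hF] at hz
  have hζ : IsPrimitiveRoot (algebraMap F K z) 3 := by
    have : IsPrimitiveRoot (z : F) 3 := by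
      rw [IsPrimitiveRoot.coe_units_iff]; exact (show orderOf z = 3 from hz) ▸ IsPrimitiveRoot.orderOf z
    exact this.map_of_injective (algebraMap F K).injective
  have h2 : (2 : K) = 0 := by
    have := two_eq_zero_of_not_odd (F := F) (by rw [hq]; decide)
    rw [← map_ofNat (algebraMap F K) 2, this, map_zero]
  have hdeg : (minpoly F β).natDegree = 3 := by
    have h1 := minpoly.degree_dvd (K := F) (IsIntegral.of_finite F β)
    rw [hK] at h1
    refine ((Nat.dvd_prime Nat.prime_three).mp h1).resolve_left fun h3 => ?_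
    obtain ⟨c, hc⟩ := minpoly.natDegree_eq_one_iff.mp h3
    have hc0 : c ≠ 0 := by rintro rfl; exact hβ.ne_zero (by norm_num) (by rw [← hc, map_zero])
    have h4 : β ^ 3 = 1 := by rw [← hc, ← map_pow, pow_card_sub_one' (k := 3) hq hc0, map_one]
    exact absurd (hβ.dvd_of_pow_eq_one 3 h4) (by norm_num)
  have hli : LinearIndependent F fun i : Fin 3 => β ^ (i : ℕ) := by
    have := linearIndependent_pow (K := F) β
    rwa [hdeg] at this
  let b := basisOfLinearIndependentOfCardEqFinrank hli (by rw [hK]; rfl)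
  have hb : ∀ i, b i = β ^ (i : ℕ) := fun i => by simp [b]
  let T : AddSubgroup K := AddSubgroup.closure {1, β, β ^ 2}
  have hT1 : (1 : K) ∈ T := AddSubgroup.subset_closure (by simp)
  have hTβ : β ∈ T := AddSubgroup.subset_closure (by simp)
  have hT2 : β ^ 2 ∈ T := AddSubgroup.subset_closure (by simp)
  have hT3 : β ^ 3 ∈ T := by
    have h3 := hβ.geom_sum_eq_zero (by norm_num)
    simp only [Finset.sum_range_succ, Finset.sum_range_zero] at h3
    have h4 : (β ^ 3 - (β + 1)) * (β ^ 3 - (β ^ 2 + 1)) = 0 := by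
      linear_combination h3 - (β ^ 5 + β ^ 4 + β ^ 3) * h2
    rcases mul_eq_zero.mp h4 with h | h <;> rw [sub_eq_zero.mp h]
    exacts [T.add_mem hTβ hT1, T.add_mem hT2 hT1]
  have hTmul : ∀ x ∈ T, β * x ∈ T := by
    intro x hx
    refine (AddSubgroup.closure_le (T.comap (AddMonoidHom.mulLeft β))).mpr ?_ hx
    rintro y (rfl | rfl | rfl)
    · simpa using hTβ
    · simpa [sq] using hT2
    · simpa [← pow_succ'] using hT3
  have hTpow : ∀ k : ℕ, β ^ k ∈ T := fun k => by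
    induction k with
    | zero => simpa using hT1
    | succ k ih => rw [pow_succ']; exact hTmul _ ih
  have hT7 : ∀ x : K, x ^ 7 = 1 → x ∈ T := fun x hx => by
    obtain ⟨i, -, rfl⟩ := hβ.eq_pow_of_pow_eq_one hx
    exact hTpow i
  have hTrepr : ∀ x ∈ T, ∀ i, b.repr x i ∈ F₀ := by
    intro x hx i
    refine (AddSubgroup.closure_le (F₀.toAddSubgroup.comap (b.coord i).toAddMonoidHom)).mpr ?_ hx
    have key : ∀ j, b.repr (b j) i ∈ F₀ := fun j => by
      rw [b.repr_self, Finsupp.single_apply]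
      split_ifs
      exacts [F₀.one_mem, F₀.zero_mem]
    rintro y (rfl | rfl | rfl)
    · simpa [hb] using key 0
    · simpa [hb] using key 1
    · simpa [hb] using key 2
  have hb7 : ∀ (α : K ≃ₐ[F] K) j, α (b j) ^ 7 = 1 := fun α j => by
    rw [← map_pow, hb, ← pow_mul, mul_comm, pow_mul, hβ.pow_eq_one, one_pow, map_one]
  refine ⟨F₀, b, hc₀, fun a α hdet => ?_⟩
  have hα : LinearMap.det α.toLinearMap = 1 := by
    let M : Matrix (Fin 3) (Fin 3) F₀ := Matrix.of fun i j => ⟨_, hTrepr _ (hT7 _ (hb7 α j)) i⟩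
    have h1 : LinearMap.toMatrix b b α.toLinearMap = F₀.subtype.mapMatrix M := by
      ext i j; rw [LinearMap.toMatrix_apply]; rfl
    have h3 : LinearMap.det α.toLinearMap ∈ F₀ := by
      rw [← LinearMap.det_toMatrix b, h1, ← RingHom.map_det]; exact Subtype.prop _
    rw [hF₀, sq] at h3
    exact mul_right_cancel₀ (LinearEquiv.isUnit_det' α.toLinearEquiv).ne_zero
      (h3.trans (one_mul _).symm)
  rw [LinearMap.det_comp, hα, mul_one] at hdet
  have h21 : a ^ 21 = 1 := by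
    have := FiniteField.algebraMap_norm_eq_pow (K := F) (x := a)
    rw [hcK, hF, Algebra.norm_apply, hdet, map_one] at this
    exact this.symm
  obtain ⟨i, -, hi⟩ := hζ.eq_pow_of_pow_eq_one (ξ := a ^ 7) (by rw [← pow_mul]; exact h21)
  refine ⟨((z : F) ^ i)⁻¹, inv_ne_zero (pow_ne_zero _ z.ne_zero), fun k j => ?_⟩
  have h3 : a * α (b j) = (z : F) ^ i • (a ^ 15 * α (b j)) := by
    rw [Algebra.smul_def, map_pow, hi, ← mul_assoc, ← pow_add, show 7 + 15 = 21 + 1 from rfl, pow_succ,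
      h21, one_mul]
  rw [h3, map_smul, Finsupp.smul_apply, smul_eq_mul, inv_mul_cancel_left₀ (pow_ne_zero _ z.ne_zero)]
  refine hTrepr _ (hT7 _ ?_) k
  rw [mul_pow, hb7, ← pow_mul, show 15 * 7 = 21 * 5 from rfl, pow_mul, h21, one_pow, one_mul]

/-- conjugation as an automorphism of a normalised subalgebra -/
def conjEquiv {K : Subalgebra F (Matrix ι ι F)} {g : GL ι F} (hg : g ∈ subalgebraNormalizer K) :
    K ≃ₐ[F] K where
  toFun x := ⟨conjAlgHom g x, (hg x).mp x.2⟩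
  invFun x := ⟨conjAlgHom g⁻¹ x, ((inv_mem hg : g⁻¹ ∈ subalgebraNormalizer K) x).mp x.2⟩
  left_inv x := Subtype.ext (conjAlgHom_inv_cancel g x)
  right_inv x := Subtype.ext (conjAlgHom_cancel_inv g x)
  map_mul' x y := Subtype.ext (map_mul (conjAlgHom g) _ _)
  map_add' x y := Subtype.ext (map_add (conjAlgHom g) _ _)
  commutes' c := Subtype.ext ((conjAlgHom g).commutes c)

/-- a field subalgebra of full degree is isomorphic to the space -/
theorem exists_orbitEquiv [Nonempty ι] {K : Subalgebra F (Matrix ι ι F)}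
    (hK : IsFieldSubalgebra (Fintype.card ι) K) {v : ι → F} (hv : v ≠ 0) :
    ∃ Ψ : K ≃ₗ[F] (ι → F), ∀ k, Ψ k = (k : Matrix ι ι F) *ᵥ v := by
  let L : K →ₗ[F] (ι → F) :=
    { toFun := fun k => (k : Matrix ι ι F) *ᵥ v, map_add' := fun x y => add_mulVec _ _ v,
      map_smul' := fun c x => smul_mulVec c _ v }
  have hinj : Function.Injective L := (injective_iff_map_eq_zero L).mpr fun k hk =>
    Subtype.ext (IsFieldSubalgebra.eq_zero_of_mulVec hK k.2 hv hk)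
  exact ⟨LinearEquiv.ofInjectiveOfFinrankEq L hinj (by rw [hK.finrank_eq]; simp), fun k => rfl⟩

theorem singer_four [Fintype F] (hq : Fintype.card F = 4) {K : Subalgebra F (Matrix (Fin 3) (Fin 3) F)}
    (hK : IsFieldSubalgebra 3 K) : ∃ (F₀ : Subfield F) (P : GL (Fin 3) F),
      Fintype.card F = Nat.card F₀ ^ 2 ∧
      subalgebraNormalizer K ⊓ specialLinear (Fin 3) F ≤ subfieldSubgroup F₀ P := by
  letI := (IsFieldSubalgebra.isField hK).toField
  obtain ⟨F₀, b, hc, h⟩ := singer_aux hq (K := K) hK.finrank_eq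
  obtain ⟨Ψ, hΨ⟩ := exists_orbitEquiv (K := K) (by simpa using hK) (single_one_ne_zero (0 : Fin 3))
  let T : (Fin 3 → F) ≃ₗ[F] (Fin 3 → F) := b.equivFun.symm.trans Ψ
  let P : GL (Fin 3) F := ⟨LinearMap.toMatrix' T.toLinearMap, LinearMap.toMatrix' T.symm.toLinearMap,
    by rw [← LinearMap.toMatrix'_comp]; simp, by rw [← LinearMap.toMatrix'_comp]; simp⟩
  refine ⟨F₀, P, by rw [hc, hq]; rfl, fun g hg => ?_⟩
  let a : K := Ψ.symm ((g : Matrix (Fin 3) (Fin 3) F) *ᵥ Pi.single 0 1)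
  have h1 : ∀ k : K, (g : Matrix (Fin 3) (Fin 3) F) *ᵥ Ψ k = Ψ (a * conjEquiv hg.1 k) := by
    intro k
    rw [mul_comm, hΨ, hΨ, Subalgebra.coe_mul, ← mulVec_mulVec, ← hΨ a, LinearEquiv.apply_symm_apply]
    exact (conj_mulVec g k _).symm
  obtain ⟨c, hc0, hc⟩ := h a (conjEquiv hg.1) (by
    rw [← LinearMap.det_conj _ Ψ, ← mem_specialLinear.mp hg.2, ← LinearMap.det_toLin']
    congr 1
    refine LinearMap.ext fun v => ?_
    obtain ⟨k, rfl⟩ := Ψ.surjective v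
    simp only [LinearMap.comp_apply, LinearEquiv.coe_coe, LinearEquiv.symm_apply_apply, toLin'_apply, h1]
    rfl)
  refine (mem_subfieldSubgroup_iff F₀ P g).mpr ⟨c, hc0, fun i j => ?_⟩
  have h2 : conjAlgHom P⁻¹ (g : Matrix (Fin 3) (Fin 3) F) i j = b.repr (a * conjEquiv hg.1 (b j)) i := by
    have h3 : conjAlgHom P⁻¹ (g : Matrix (Fin 3) (Fin 3) F) *ᵥ Pi.single j 1 =
        b.equivFun (a * conjEquiv hg.1 (b j)) := by
      rw [conjAlgHom_apply, inv_inv, ← mulVec_mulVec, ← mulVec_mulVec]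
      change LinearMap.toMatrix' T.symm.toLinearMap *ᵥ (_ *ᵥ (LinearMap.toMatrix' T.toLinearMap *ᵥ _)) = _
      rw [LinearMap.toMatrix'_mulVec, LinearMap.toMatrix'_mulVec]
      change b.equivFun (Ψ.symm (_ *ᵥ Ψ (b.equivFun.symm _))) = _
      rw [h1, LinearEquiv.symm_apply_apply, Module.Basis.equivFun_symm_apply]
      simp [Pi.single_apply]
    have h4 := congrFun h3 i
    rw [mulVec_single_one] at h4
    exact h4
  rw [h2]
  exact hc i j

/-- The refined list of maximal subgroups of `SL`. -/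
theorem sl_max_cases [Fintype F] {n : ℕ} (hn : 3 ≤ n) (H : Subgroup (GL (Fin n) F))
    (hH : IsMaximalIn (specialLinear (Fin n) F) H) :
    (∃ W : Submodule F (Fin n → F), W ≠ ⊥ ∧ W ≠ ⊤ ∧
      H = subspaceStabilizer W ⊓ specialLinear (Fin n) F) ∨
    (∃ (t m : ℕ) (D : Fin t → Submodule F (Fin n → F)), n = t * m ∧ 2 ≤ t ∧ 0 < m ∧
      (m = 1 → 5 ≤ Fintype.card F ∧ (n = 4 → 7 ≤ Fintype.card F)) ∧
      (m = 2 → 3 ≤ Fintype.card F ∧ (n = 4 → 4 ≤ Fintype.card F)) ∧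
      IsMDecomposition m D ∧ H = decompositionStabilizer D ⊓ specialLinear (Fin n) F) ∨
    (∃ (r : ℕ) (K : Subalgebra F (Matrix (Fin n) (Fin n) F)), r.Prime ∧ r ∣ n ∧
      (n = 3 → Fintype.card F ≠ 4) ∧ IsFieldSubalgebra r K ∧
      H = subalgebraNormalizer K ⊓ specialLinear (Fin n) F) ∨
    (∃ (n₁ n₂ : ℕ) (e : Fin n ≃ Fin n₁ × Fin n₂) (P : GL (Fin n) F), n = n₁ * n₂ ∧ 2 ≤ n₁ ∧ n₁ < n₂ ∧
      (n₁ = 2 → 3 ≤ Fintype.card F) ∧ H = tensorProductSubgroup n₁ n₂ e P ⊓ specialLinear (Fin n) F) ∨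
    (∃ (F₀ : Subfield F) (r : ℕ) (P : GL (Fin n) F), r.Prime ∧ Fintype.card F = Nat.card F₀ ^ r ∧
      H = subfieldSubgroup F₀ P ⊓ specialLinear (Fin n) F) ∨
    (∃ (r k : ℕ) (R : Subgroup (GL (Fin n) F)), r.Prime ∧ n = r ^ k ∧ IsLinearSymplecticTypeData r R ∧
      H = subgroupNormalizer R ⊓ specialLinear (Fin n) F) ∨
    (∃ (m t : ℕ) (e : Fin n ≃ (Fin t → Fin m)) (P : GL (Fin n) F), n = m ^ t ∧ 3 ≤ m ∧ 2 ≤ t ∧
      H = tensorWreathSubgroup m t e P ⊓ specialLinear (Fin n) F) ∨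
    (Odd (Fintype.card F) ∧ ∃ Q : (Fin n → F) → F, IsNondegenerateQuadraticForm Q ∧
      H = quadSimilarityGroup Q ⊓ specialLinear (Fin n) F) ∨
    (Even n ∧ ∃ f : (Fin n → F) → (Fin n → F) → F, IsSymplecticForm f ∧
      H = similarityGroup f ⊓ specialLinear (Fin n) F) ∨
    (∃ (σ : F ≃+* F) (f : (Fin n → F) → (Fin n → F) → F), IsUnitaryForm σ f ∧
      H = similarityGroup f ⊓ specialLinear (Fin n) F) ∨
    InLinearResidualClass H := by
  have hc : Fintype.card (Fin n) = n := Fintype.card_fin n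
  have hn' : 3 ≤ Fintype.card (Fin n) := by omega
  have hn2 : 2 ≤ Fintype.card (Fin n) := by omega
  haveI := nonempty_of_two_le hn2
  have hq := Fintype.one_lt_card (α := F)
  have h6 := card_ne_six (F := F)
  by_contra hcon
  simp only [not_or] at hcon
  obtain ⟨c1, c2, c3, c4, c5, c6, c7, c8c, c8a, c8b, c9⟩ := hcon
  have d1 : ∀ W : Submodule F (Fin n → F), W ≠ ⊥ → W ≠ ⊤ → ¬ H ≤ subspaceStabilizer W :=
    fun W h1 h2 h => c1 ⟨W, h1, h2, IsMaximalIn.eq_inf hH h (not_sl_le_subspace hn2 h1 h2)⟩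
  have d5 : ∀ (F₀ : Subfield F) (r : ℕ) (P : GL (Fin n) F), r.Prime → Fintype.card F = Nat.card F₀ ^ r →
      ¬ H ≤ subfieldSubgroup F₀ P := fun F₀ r P h1 h2 h => c5 ⟨F₀, r, P, h1, h2,
    IsMaximalIn.eq_inf hH h (not_sl_le_subfield hn2 (exists_not_mem_subfield h1 h2) P)⟩
  have d8a : ∀ f : (Fin n → F) → (Fin n → F) → F, IsSymplecticForm f → Even n → ¬ H ≤ similarityGroup f :=
    fun f h1 h2 h => c8a ⟨h2, f, h1, IsMaximalIn.eq_inf hH h (not_sl_le_symplectic hn' h1)⟩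
  have d8b : ∀ (σ : F ≃+* F) (f : (Fin n → F) → (Fin n → F) → F), IsUnitaryForm σ f →
      ¬ H ≤ similarityGroup f :=
    fun σ f h1 h => c8b ⟨σ, f, h1, IsMaximalIn.eq_inf hH h (not_sl_le_unitary hn' h1)⟩
  have d8c : ∀ Q : (Fin n → F) → F, IsNondegenerateQuadraticForm Q → Odd (Fintype.card F) →
      ¬ H ≤ quadSimilarityGroup Q :=
    fun Q h1 h2 h => c8c ⟨h2, Q, h1, IsMaximalIn.eq_inf hH h (not_sl_le_quad hn' h1)⟩
  have d3 : ∀ (r : ℕ) (K : Subalgebra F (Matrix (Fin n) (Fin n) F)), r.Prime → IsFieldSubalgebra r K →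
      ¬ H ≤ subalgebraNormalizer K := by
    intro r K h1 h2 h
    have hd := finrank_dvd_of_isFieldSubalgebra h2
    rw [hc] at hd
    refine c3 ⟨r, K, h1, hd, ?_, h2, IsMaximalIn.eq_inf hH h (not_sl_le_field hn' h2 h1.two_le)⟩
    rintro rfl h4
    obtain rfl : r = 3 := (Nat.prime_dvd_prime_iff_eq h1 Nat.prime_three).mp hd
    obtain ⟨F₀, P, h5, h7⟩ := singer_four h4 h2
    exact d5 F₀ 2 P Nat.prime_two h5 ((le_inf h hH.1.le).trans h7)
  rcases linear_cases hn' H with ⟨W, h1, h2, h⟩ | ⟨t, m, D, h1, h⟩ |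
    ⟨r, K, h1, h2, h⟩ | ⟨n₁, n₂, e, P, h1, h2, h⟩ | ⟨F₀, r, P, h1, h2, h⟩ |
    ⟨r, k, R, h1, h2, h3, h4, h5, h⟩ |
    ⟨m, t, e, P, h1, h2, h⟩ | ⟨f, h1, h2, h⟩ | ⟨σ, f, h1, h⟩ | ⟨Q, h1, h2, h⟩ | h
  · exact d1 W h1 h2 h
  · have hnt := card_eq_of_isMDecomposition h1
    rw [hc] at hnt
    have he := IsMaximalIn.eq_inf hH h (not_sl_le_decomp hn2 h1)
    refine c2 ⟨t, m, D, hnt, h1.two_le, h1.pos, ?_, ?_, h1, he⟩
    · rintro rfl
      have e2 : Fintype.card F ≠ 2 := fun h2 => by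
        obtain ⟨W, h3, h4, h5⟩ := lines_two h2 h1
        exact d1 W h3 h4 (h.trans h5)
      have e3 : Fintype.card F ≠ 3 := fun h2 => by
        obtain ⟨Q, h3, h5⟩ := lines_three h2 h1
        exact d8c Q h3 (by rw [h2]; decide) (h.trans h5)
      have e4 : Fintype.card F ≠ 4 := fun h2 => by
        obtain ⟨τ, f, h3, h5⟩ := lines_four h2 h1
        exact d8b τ f h3 (h.trans h5)
      refine ⟨by omega, fun h4 => ?_⟩
      obtain rfl : t = 4 := by omega
      have e5 : Fintype.card F ≠ 5 := fun h2 => lines_five h2 h1 (he ▸ hH)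
      omega
    · rintro rfl
      have hev : Even n := ⟨t, by omega⟩
      have e2 : Fintype.card F ≠ 2 := fun h2 => by
        obtain ⟨f, h3, h5⟩ := planes_two h2 h1
        exact d8a f h3 hev (h.trans h5)
      refine ⟨by omega, fun h4 => ?_⟩
      obtain rfl : t = 2 := by omega
      have e3 : Fintype.card F ≠ 3 := fun h2 => by
        obtain ⟨f, h3, h5⟩ := planes_three h2 h1
        exact d8a f h3 hev ((le_inf h hH.1.le).trans h5)
      omega
  · exact d3 r K h1 h2 h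
  · refine c4 ⟨n₁, n₂, e, P, by simpa using Fintype.card_congr e, h1, h2, ?_,
      IsMaximalIn.eq_inf hH h (not_sl_le_tensor h1 (by omega) e P)⟩
    rintro rfl
    by_contra h3
    obtain ⟨K, h4, h5⟩ := tensor_two (F := F) (by omega) e P
    exact d3 2 K Nat.prime_two h4 (h.trans h5)
  · exact d5 F₀ r P h1 h2 h
  · exact c6 ⟨r, k, R, h1.symplecticType.prime, by rwa [hc] at h2, h1,
      IsMaximalIn.eq_inf hH h (not_sl_le_normalizer hn' h3 h4 h5)⟩
  · exact c7 ⟨m, t, e, P, by simpa using Fintype.card_congr e, h1, h2,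
      IsMaximalIn.eq_inf hH h (not_sl_le_wreath (by omega) h2 e P)⟩
  · exact d8a f h1 (by rwa [hc] at h2) h
  · exact d8b σ f h1 h
  · exact d8c Q h1 h2 h
  · exact c9 h

theorem minimalField_mod [Fintype F] {z p e : ℕ} (h : IsMinimalFieldFor z p e F) (hz : 2 ≤ z) :
    0 < e ∧ (p % z) ^ e % z = 1 ∧ ∀ d, 0 < d → d < e → (p % z) ^ d % z ≠ 1 := by
  obtain ⟨hp, -, hq, h1, h2⟩ := h
  have key : ∀ d, z ∣ p ^ d - 1 ↔ (p % z) ^ d % z = 1 := fun d => by
    rw [← Nat.pow_mod, ← (Nat.modEq_iff_dvd' (Nat.one_le_pow _ _ hp.pos)), Nat.ModEq,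
      Nat.mod_eq_of_lt (show 1 < z from hz), eq_comm]
  refine ⟨?_, (key e).mp h1, fun d hd hde h => h2 d hd hde ((key d).mpr h)⟩
  rcases e with _ | e
  · have := Fintype.one_lt_card (α := F)
    rw [pow_zero] at hq; omega
  · omega

theorem minimalField_cases [Fintype F] {z p e : ℕ} (h : IsMinimalFieldFor z p e F) (hz : 2 ≤ z)
    (d₀ : ℕ) (hd₀ : 0 < d₀) (P : ℕ → ℕ → Prop)
    (h0 : ∀ x < z, x = 0 ∨ x ^ d₀ % z = 1)
    (hP : ∀ x < z, ∀ e ≤ d₀, 0 < e → x ^ e % z = 1 → (∀ d < e, 0 < d → x ^ d % z ≠ 1) → P x e) :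
    P (p % z) e := by
  obtain ⟨h1, h2, h3⟩ := minimalField_mod h hz
  have hx : p % z < z := Nat.mod_lt _ (by omega)
  refine hP _ hx e ?_ h1 h2 fun d hd hd0 => h3 d hd0 hd
  by_contra hlt
  rcases h0 _ hx with h4 | h4
  · rw [h4, zero_pow h1.ne', Nat.zero_mod] at h2; omega
  · exact h3 d₀ hd₀ (by omega) h4

theorem c6_two [Fintype F] {R : Subgroup (GL ι F)} (h : IsLinearSymplecticTypeData 2 R)
    (hn : 3 ≤ Fintype.card ι) : ∃ p : ℕ, p.Prime ∧ Fintype.card F = p ∧ p % 4 = 1 := by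
  obtain ⟨p, e, -, hmin, ⟨h1, -⟩ | ⟨-, rfl, h2, -⟩ | ⟨-, -, h2, -⟩⟩ := h.field
  · exact absurd h1 (by decide)
  · rw [h2] at hmin
    refine ⟨p, hmin.1, by simpa using hmin.2.2.1, ?_⟩
    have := (minimalField_mod hmin (by norm_num)).2.1
    simpa using this
  · omega

theorem c6_odd [Fintype F] {r : ℕ} {R : Subgroup (GL ι F)} (h : IsLinearSymplecticTypeData r R)
    (hr : r ≠ 2) : ∃ p e : ℕ, Odd e ∧ IsMinimalFieldFor r p e F := by
  obtain ⟨p, e, -, hmin, ⟨-, h1, h2, -⟩ | ⟨h2, -⟩ | ⟨h2, -⟩⟩ := h.field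
  · exact ⟨p, e, h1, h2 ▸ hmin⟩
  · exact absurd h2 hr
  · exact absurd h2 hr

theorem c6_three [Fintype F] {R : Subgroup (GL ι F)} (h : IsLinearSymplecticTypeData 3 R) :
    ∃ p : ℕ, p.Prime ∧ Fintype.card F = p ∧ p % 3 = 1 := by
  obtain ⟨p, e, h1, hmin⟩ := c6_odd h (by norm_num)
  obtain ⟨rfl, h2⟩ := minimalField_cases hmin (by norm_num) 2 (by norm_num)
    (fun x e => e % 2 = 1 → e = 1 ∧ x = 1) (by decide)
    (by intro x hx e he; interval_cases x <;> interval_cases e <;> decide) (Nat.odd_iff.mp h1)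
  exact ⟨p, hmin.1, by simpa using hmin.2.2.1, h2⟩

theorem c6_five [Fintype F] {R : Subgroup (GL ι F)} (h : IsLinearSymplecticTypeData 5 R) :
    ∃ p : ℕ, p.Prime ∧ Fintype.card F = p ∧ p % 5 = 1 := by
  obtain ⟨p, e, h1, hmin⟩ := c6_odd h (by norm_num)
  obtain ⟨rfl, h2⟩ := minimalField_cases hmin (by norm_num) 4 (by norm_num)
    (fun x e => e % 2 = 1 → e = 1 ∧ x = 1) (by decide)
    (by intro x hx e he; interval_cases x <;> interval_cases e <;> decide) (Nat.odd_iff.mp h1)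
  exact ⟨p, hmin.1, by simpa using hmin.2.2.1, h2⟩

theorem c6_seven [Fintype F] {R : Subgroup (GL ι F)} (h : IsLinearSymplecticTypeData 7 R) :
    ∃ p : ℕ, p.Prime ∧ CharP F p ∧ ((Fintype.card F = p ∧ p % 7 = 1) ∨
      (Fintype.card F = p ^ 3 ∧ (p % 7 = 2 ∨ p % 7 = 4))) := by
  obtain ⟨p, e, h1, hmin⟩ := c6_odd h (by norm_num)
  refine ⟨p, hmin.1, hmin.2.1, ?_⟩
  rcases minimalField_cases hmin (by norm_num) 6 (by norm_num)
    (fun x e => e % 2 = 1 → (e = 1 ∧ x = 1) ∨ (e = 3 ∧ (x = 2 ∨ x = 4))) (by decide)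
    (by intro x hx e he; interval_cases x <;> interval_cases e <;> decide)
    (Nat.odd_iff.mp h1) with ⟨rfl, h2⟩ | ⟨rfl, h2⟩
  · exact Or.inl ⟨by simpa using hmin.2.2.1, h2⟩
  · exact Or.inr ⟨hmin.2.2.1, h2⟩

theorem c6_eleven [Fintype F] {R : Subgroup (GL ι F)} (h : IsLinearSymplecticTypeData 11 R) :
    ∃ p : ℕ, p.Prime ∧ CharP F p ∧ ((Fintype.card F = p ∧ p % 11 = 1) ∨
      (Fintype.card F = p ^ 5 ∧ (p % 11 = 3 ∨ p % 11 = 4 ∨ p % 11 = 5 ∨ p % 11 = 9))) := by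
  obtain ⟨p, e, h1, hmin⟩ := c6_odd h (by norm_num)
  refine ⟨p, hmin.1, hmin.2.1, ?_⟩
  rcases minimalField_cases hmin (by norm_num) 10 (by norm_num)
    (fun x e => e % 2 = 1 → (e = 1 ∧ x = 1) ∨ (e = 5 ∧ (x = 3 ∨ x = 4 ∨ x = 5 ∨ x = 9)))
    (by decide)
    (by intro x hx e he; interval_cases x <;> interval_cases e <;> decide) (Nat.odd_iff.mp h1) with ⟨rfl, h2⟩ | ⟨rfl, h2⟩
  · exact Or.inl ⟨by simpa using hmin.2.2.1, h2⟩
  · exact Or.inr ⟨hmin.2.2.1, h2⟩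

theorem prime_eq_of_pow_eq {r s k j : ℕ} (hr : r.Prime) (hs : s.Prime) (h : s ^ (j + 1) = r ^ k) :
    r = s :=
  ((Nat.prime_dvd_prime_iff_eq hs hr).mp (hs.dvd_of_dvd_pow (h ▸ dvd_pow_self s (Nat.succ_ne_zero j)))).symm

theorem not_prime_pow_of_two_primes {r k n a b : ℕ} (hr : r.Prime) (h : n = r ^ k) (ha : a.Prime)
    (hb : b.Prime) (hab : a ≠ b) (h1 : a ∣ n) (h2 : b ∣ n) : False := by
  subst h
  exact hab (((Nat.prime_dvd_prime_iff_eq ha hr).mp (ha.dvd_of_dvd_pow h1)).trans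
    ((Nat.prime_dvd_prime_iff_eq hb hr).mp (hb.dvd_of_dvd_pow h2)).symm)

theorem wreath_bound {n m t : ℕ} (h : n = m ^ t) (hm : 3 ≤ m) (ht : 2 ≤ t) (hn : n ≤ 12) :
    n = 9 ∧ m = 3 ∧ t = 2 := by
  have h1 : m ^ 2 ≤ m ^ t := Nat.pow_le_pow_right (by omega) ht
  have h2 : m = 3 := by nlinarith
  subst h2
  have h3 : t = 2 := by
    by_contra h3
    have : 3 ^ 3 ≤ 3 ^ t := Nat.pow_le_pow_right (by omega) (by omega)
    omega
  subst h3
  exact ⟨h, rfl, rfl⟩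

end CL.Asch
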