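import Cfsg.Agent.CLAS.AschLin

/-!
Invariant sets of vectors for the geometric classes, coordinates adapted to decompositions,
and rank one transvections.
-/

set_option autoImplicit false

namespace CL.Asch

open Matrix Cfsg.Geo
open scoped Kronecker MatrixGroups

variable {F : Type*} [Field F] {ι κ μ : Type} [Fintype ι] [DecidableEq ι] [Fintype κ] [DecidableEq κ]
  [Fintype μ] [DecidableEq μ] {σ : F →+* F}

theorem IsMaximalIn.eq_inf {G : Type*} [Group G] {X H M : Subgroup G} (h : IsMaximalIn X H)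
    (hM : H ≤ M) (hX : ¬ X ≤ M) : H = M ⊓ X := by
  rcases h.2 (M ⊓ X) (le_inf hM h.1.le) inf_le_right with h1 | h1
  · exact h1.symm
  · exact absurd (inf_eq_right.mp h1) hX

theorem exists_fun (W : Submodule F (ι → F)) {u : ι → F} (hu : u ∉ W) :
    ∃ φ : ι → F, (∀ w ∈ W, φ ⬝ᵥ w = 0) ∧ φ ⬝ᵥ u = 1 := by
  obtain ⟨f, hf, hf'⟩ := W.exists_dual_map_eq_bot_of_notMem hu inferInstance
  have key : ∀ v, (fun i => f (Pi.single i 1)) ⬝ᵥ v = f v := by
    intro v
    conv_rhs => rw [pi_eq_sum_univ' v]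
    simp [dotProduct, mul_comm]
  refine ⟨(f u)⁻¹ • fun i => f (Pi.single i 1), fun w hw => ?_, ?_⟩
  · have : f w ∈ W.map f := ⟨w, hw, rfl⟩
    rw [hf', Submodule.mem_bot] at this
    rw [smul_dotProduct, key, this, smul_zero]
  · rw [smul_dotProduct, key, smul_eq_mul, inv_mul_cancel₀ hf]

theorem vecMulVec_mulVec' (w φ v : ι → F) : vecMulVec w φ *ᵥ v = (φ ⬝ᵥ v) • w := by
  rw [vecMulVec_mulVec, op_smul_eq_smul]

theorem vecMulVec_mul_self {w φ : ι → F} (h : φ ⬝ᵥ w = 0) : vecMulVec w φ * vecMulVec w φ = 0 := by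
  rw [vecMulVec_mul_vecMulVec, h, zero_smul, vecMulVec_zero]

/-- `1 + y` for `y² = 0` -/
def unipGL (y : Matrix ι ι F) (h : y * y = 0) : GL ι F :=
  ⟨1 + y, 1 - y, by rw [add_mul, mul_sub, mul_sub, h]; simp, by rw [sub_mul, mul_add, mul_add, h]; simp⟩

theorem coe_unipGL (y : Matrix ι ι F) (h : y * y = 0) : (unipGL y h : Matrix ι ι F) = 1 + y := rfl

theorem coe_unipGL_inv (y : Matrix ι ι F) (h : y * y = 0) :
    (((unipGL y h)⁻¹ : GL ι F) : Matrix ι ι F) = 1 - y := rfl

/-- the transvection `v ↦ v + φ(v) w` -/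
def tvGL (w φ : ι → F) (h : φ ⬝ᵥ w = 0) : GL ι F := unipGL (vecMulVec w φ) (vecMulVec_mul_self h)

theorem tvGL_mulVec (w φ : ι → F) (h : φ ⬝ᵥ w = 0) (v : ι → F) :
    (tvGL w φ h : Matrix ι ι F) *ᵥ v = v + (φ ⬝ᵥ v) • w := by
  rw [tvGL, coe_unipGL, add_mulVec, one_mulVec, vecMulVec_mulVec']

theorem mem_specialLinear {g : GL ι F} : g ∈ specialLinear ι F ↔ (g : Matrix ι ι F).det = 1 := by
  rw [specialLinear, MonoidHom.mem_ker, Units.ext_iff]; rfl

theorem tvGL_mem (w φ : ι → F) (h : φ ⬝ᵥ w = 0) : tvGL w φ h ∈ specialLinear ι F := by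
  rw [mem_specialLinear, tvGL, coe_unipGL, vecMulVec_eq Unit, det_one_add_replicateCol_mul_replicateRow,
    h, add_zero]

theorem exists_not_mem_of_finrank_lt (W : Submodule F (ι → F))
    (h : Module.finrank F W < Fintype.card ι) : ∃ v, v ∉ W := by
  by_contra hc
  push Not at hc
  have : W = ⊤ := eq_top_iff.mpr fun v _ => hc v
  rw [this, finrank_top, Module.finrank_fintype_fun_eq_card] at h
  exact lt_irrefl _ h

theorem finrank_span_singleton_le (u : ι → F) : Module.finrank F (Submodule.span F {u}) ≤ 1 := by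
  simpa using finrank_span_le_card ({u} : Set (ι → F))

theorem finrank_span_finset_le (s : Finset (ι → F)) :
    Module.finrank F (Submodule.span F (s : Set (ι → F))) ≤ s.card := finrank_span_finset_le_card s

theorem exists_smul_of_forall_mem_span {x : Matrix ι ι F}
    (h : ∀ v, x *ᵥ v ∈ Submodule.span F {v}) : ∃ c : F, x = c • (1 : Matrix ι ι F) := by
  obtain ⟨c, hc⟩ := LinearMap.exists_eq_smul_id_of_forall_notLinearIndependent (f := toLin' x)
    (fun v hv => by
      rw [LinearIndependent.pair_iff' (by simpa using hv.ne_zero 0)] at hv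
      obtain ⟨a, ha⟩ := Submodule.mem_span_singleton.mp (h v)
      exact hv a ha)
  refine ⟨c, eq_of_mulVec fun v => ?_⟩
  have := congrArg (fun f => f v) hc
  simpa [smul_mulVec] using this

theorem mem_stabilizing_of_mapsTo [Finite F] {S : Set (ι → F)} {g : GL ι F}
    (h : ∀ v ∈ S, (g : Matrix ι ι F) *ᵥ v ∈ S) : g ∈ Cfsg.stabilizing (Cfsg.glToMat ι F) S := by
  intro v
  refine ⟨h v, fun hv => ?_⟩
  have hinj : Function.Injective fun v => (g : Matrix ι ι F) *ᵥ v := fun a b hab => by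
    have := congrArg (fun u => ((g⁻¹ : GL ι F) : Matrix ι ι F) *ᵥ u) hab
    simpa only [inv_mulVec_mulVec] using this
  have := ((Set.toFinite S).injOn_iff_bijOn_of_mapsTo (f := fun v => (g : Matrix ι ι F) *ᵥ v) h).mp
    hinj.injOn
  obtain ⟨w, hw, hwv⟩ := this.surjOn hv
  rwa [← hinj hwv]

/-! ### pure tensors -/

/-- pure tensor of two vectors -/
def pv2 (u : κ → F) (v : μ → F) : κ × μ → F := fun p => u p.1 * v p.2

theorem kron_mulVec_pv2 (a : Matrix κ κ F) (b : Matrix μ μ F) (u : κ → F) (v : μ → F) :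
    (a ⊗ₖ b) *ᵥ pv2 u v = pv2 (a *ᵥ u) (b *ᵥ v) := by
  funext ⟨i, j⟩
  simp only [pv2, mulVec, dotProduct, kroneckerMap_apply, Fintype.sum_prod_type, Finset.sum_mul_sum]
  exact Finset.sum_congr rfl fun _ _ => Finset.sum_congr rfl fun _ _ => by ring

theorem tensorProduct_maps {n₁ n₂ : ℕ} {e : ι ≃ Fin n₁ × Fin n₂} {P g : GL ι F}
    (hg : g ∈ tensorProductSubgroup n₁ n₂ e P) (u : Fin n₁ → F) (v : Fin n₂ → F) :
    ∃ u' v', (g : Matrix ι ι F) *ᵥ cvec e P (pv2 u v) = cvec e P (pv2 u' v') := by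
  obtain ⟨a, b, h⟩ := (mem_tensorProductSubgroup_iff e P g).mp hg
  exact ⟨_, _, by rw [h, coord_mulVec, kron_mulVec_pv2]⟩

variable {t : ℕ}

/-- pure tensor of `t` vectors -/
def pvT (u : Fin t → κ → F) : (Fin t → κ) → F := fun a => ∏ i, u i (a i)

theorem pureM_mulVec_pvT (x : Fin t → Matrix κ κ F) (u : Fin t → κ → F) :
    pureM x *ᵥ pvT u = pvT (fun i => x i *ᵥ u i) := by
  funext a
  simp only [pvT, mulVec, dotProduct, pureM_apply, ← Finset.prod_mul_distrib]
  rw [Finset.prod_univ_sum, Fintype.piFinset_univ]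

theorem permT_mulVec_pvT (s : Equiv.Perm (Fin t)) (u : Fin t → κ → F) :
    permT κ F s *ᵥ pvT u = pvT (u ∘ s.symm) := by
  funext a
  simp only [pvT, mulVec, dotProduct, permT, of_apply, ite_mul, one_mul, zero_mul,
    Finset.sum_ite_eq', Finset.mem_univ, if_true]
  exact Fintype.prod_equiv s _ _ fun i => by simp

theorem tensorWreath_maps [Finite F] {m : ℕ} {e : ι ≃ (Fin t → Fin m)} {P g : GL ι F}
    (hg : g ∈ tensorWreathSubgroup m t e P) (u : Fin t → Fin m → F) :
    ∃ u', (g : Matrix ι ι F) *ᵥ cvec e P (pvT u) = cvec e P (pvT u') := by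
  rw [tensorWreathSubgroup, mem_map_coord] at hg
  have : tensorWreathStandard m t F ≤ Cfsg.stabilizing (Cfsg.glToMat _ F) (Set.range pvT) := by
    rw [tensorWreathStandard, Subgroup.closure_le]
    rintro k (⟨gs, hk⟩ | ⟨s, hk⟩)
    · apply mem_stabilizing_of_mapsTo
      rintro _ ⟨u, rfl⟩
      have : (k : Matrix (Fin t → Fin m) (Fin t → Fin m) F) = pureM fun i => gs i := Matrix.ext hk
      exact ⟨_, by rw [this, pureM_mulVec_pvT]⟩
    · apply mem_stabilizing_of_mapsTo
      rintro _ ⟨u, rfl⟩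
      have : (k : Matrix (Fin t → Fin m) (Fin t → Fin m) F) = permT _ F s := Matrix.ext hk
      exact ⟨_, by rw [this, permT_mulVec_pvT]⟩
  obtain ⟨u', hu'⟩ := (this hg (pvT u)).mp ⟨u, rfl⟩
  exact ⟨u', by rw [← coord_symm e P g, coord_mulVec, hu']; rfl⟩

theorem pvT_swap (u : Fin t → κ → F) (a b : Fin t → κ) (i : Fin t) :
    pvT u a * pvT u b = pvT u (Function.update a i (b i)) * pvT u (Function.update b i (a i)) := by
  simp only [pvT, ← Finset.prod_mul_distrib]
  refine Finset.prod_congr rfl fun j _ => ?_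
  by_cases h : j = i
  · subst h; simp [mul_comm]
  · simp [Function.update_of_ne h]

theorem single_eq_pvT (a : Fin t → κ) : (Pi.single a 1 : (Fin t → κ) → F) = pvT fun i => Pi.single (a i) 1 := by
  funext b
  simp only [pvT, Pi.single_apply]
  rw [Finset.prod_ite_zero]
  simp [funext_iff]

theorem single_eq_pv2 (a : κ) (b : μ) :
    (Pi.single (a, b) 1 : κ × μ → F) = pv2 (Pi.single a 1) (Pi.single b 1) := by
  funext ⟨c, d⟩
  simp only [pv2, Pi.single_apply, Prod.mk.injEq]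
  by_cases h1 : c = a <;> by_cases h2 : d = b <;> simp [h1, h2]

/-! ### subfield points -/

theorem subfield_maps {F₀ : Subfield F} {P g : GL ι F} (hg : g ∈ subfieldSubgroup F₀ P)
    {u : ι → F} (hu : ∀ i, u i ∈ F₀) : ∃ (c : F) (u' : ι → F), (∀ i, u' i ∈ F₀) ∧
      (g : Matrix ι ι F) *ᵥ ((P : Matrix ι ι F) *ᵥ u) = c • ((P : Matrix ι ι F) *ᵥ u') := by
  obtain ⟨c, hc, h⟩ := (mem_subfieldSubgroup_iff F₀ P g).mp hg
  refine ⟨c⁻¹, (c • conjAlgHom P⁻¹ g) *ᵥ u, fun i => ?_, ?_⟩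
  · exact Subfield.sum_mem _ fun j _ => F₀.mul_mem (h i j) (hu j)
  · rw [smul_mulVec, mulVec_smul, smul_smul, inv_mul_cancel₀ hc, one_smul, ← conj_mulVec P,
      conjAlgHom_cancel_inv]

/-! ### coordinates adapted to a decomposition -/

theorem exists_cvec_of_equiv (L : (κ → F) ≃ₗ[F] (ι → F)) : ∃ (e : ι ≃ κ) (P : GL ι F), cvec e P = L := by
  obtain ⟨e⟩ : Nonempty (ι ≃ κ) := Fintype.card_eq.mp (by
    have := L.finrank_eq
    simpa using this.symm)
  let T : (ι → F) ≃ₗ[F] (ι → F) := (LinearEquiv.funCongrLeft F F e.symm).trans L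
  refine ⟨e, ⟨LinearMap.toMatrix' T.toLinearMap, LinearMap.toMatrix' T.symm.toLinearMap,
    by rw [← LinearMap.toMatrix'_comp]; simp, by rw [← LinearMap.toMatrix'_comp]; simp⟩, ?_⟩
  refine LinearEquiv.ext fun u => ?_
  rw [cvec_apply]
  change LinearMap.toMatrix' T.toLinearMap *ᵥ _ = _
  rw [LinearMap.toMatrix'_mulVec]
  change L ((u ∘ e) ∘ e.symm) = L u
  congr 1
  funext a; simp

theorem exists_block_coord {m : ℕ} {D : Fin t → Submodule F (ι → F)} (hD : IsMDecomposition m D) :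
    ∃ (e : ι ≃ Fin m × Fin t) (P : GL ι F),
      ∀ i u, cvec e P u ∈ D i ↔ ∀ a j, j ≠ i → u (a, j) = 0 := by
  have h := (DirectSum.isInternal_submodule_of_iSupIndep_of_iSup_eq_top hD.indep hD.iSup_eq_top)
  let v : ∀ i, Module.Basis (Fin m) F (D i) := fun i => Module.finBasisOfFinrankEq F _ (hD.finrank_eq i)
  let b : Module.Basis (Fin m × Fin t) F (ι → F) :=
    (h.collectedBasis v).reindex ((Equiv.sigmaEquivProd _ _).trans (Equiv.prodComm _ _))
  obtain ⟨e, P, hP⟩ := exists_cvec_of_equiv b.equivFun.symm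
  refine ⟨e, P, fun i u => ⟨fun hu a j hj => ?_, fun hu => ?_⟩⟩
  · have := h.collectedBasis_repr_of_mem_ne v (Ne.symm hj) (a := a) hu
    have h2 : b.equivFun (cvec e P u) (a, j) = 0 := by
      rw [Module.Basis.equivFun_apply, Module.Basis.repr_reindex_apply]
      exact this
    rwa [hP, LinearEquiv.apply_symm_apply] at h2
  · rw [hP, Module.Basis.equivFun_symm_apply]
    refine Submodule.sum_mem _ fun ⟨a, j⟩ _ => ?_
    by_cases hj : j = i
    · subst hj
      refine Submodule.smul_mem _ _ ?_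
      rw [Module.Basis.reindex_apply]
      exact h.collectedBasis_mem v ⟨j, a⟩
    · rw [hu a j hj, zero_smul]; exact Submodule.zero_mem _

/-- block monomial matrix -/
def blockMon (s : Equiv.Perm (Fin t)) (A : Fin t → Matrix κ κ F) : Matrix (κ × Fin t) (κ × Fin t) F :=
  (blockDiagonal A).submatrix (Equiv.prodCongr (Equiv.refl κ) s.symm) id

theorem blockMon_apply (s : Equiv.Perm (Fin t)) (A : Fin t → Matrix κ κ F) (a b : κ) (i j : Fin t) :
    blockMon s A (b, j) (a, i) = if j = s i then A i b a else 0 := by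
  simp only [blockMon, submatrix_apply, Equiv.prodCongr_apply, Prod.map, Equiv.refl_apply, id,
    blockDiagonal_apply, Equiv.symm_apply_eq]
  split_ifs with h
  · rw [h, Equiv.symm_apply_apply]
  · rfl

theorem det_blockMon (s : Equiv.Perm (Fin t)) (A : Fin t → Matrix κ κ F) :
    (blockMon s A).det = ((Equiv.Perm.sign s : ℤ) : F) ^ Fintype.card κ * ∏ i, (A i).det := by
  rw [blockMon, det_permute, det_blockDiagonal]
  congr 1
  have : Equiv.prodCongr (Equiv.refl κ) s.symm = Equiv.prodCongrRight fun _ => s.symm := rfl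
  rw [this, Equiv.Perm.sign_prodCongrRight]
  simp

theorem blockMon_mulVec (s : Equiv.Perm (Fin t)) (A : Fin t → Matrix κ κ F) (u : κ × Fin t → F)
    (b : κ) (i : Fin t) : (blockMon s A *ᵥ u) (b, s i) = (A i *ᵥ fun a => u (a, i)) b := by
  simp only [mulVec, dotProduct, Fintype.sum_prod_type, blockMon_apply, s.injective.eq_iff, ite_mul,
    zero_mul, Finset.sum_ite_eq, Finset.mem_univ, if_true]

theorem gf_blockDiagonal (G : Fin t → Matrix κ κ F) (u v : κ × Fin t → F) :
    gf σ (blockDiagonal G) u v = ∑ i, gf σ (G i) (fun a => u (a, i)) (fun a => v (a, i)) := by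
  simp only [gf_eq_sum, Fintype.sum_prod_type, blockDiagonal_apply, mul_ite, ite_mul, mul_zero,
    zero_mul, Finset.sum_ite_eq, Finset.mem_univ, if_true]
  rw [Finset.sum_comm]

theorem isSim_blockMon (s : Equiv.Perm (Fin t)) {A : Fin t → Matrix κ κ F} {G₁ : Matrix κ κ F} {c : F}
    (h : ∀ i, IsSim σ G₁ c (A i)) : IsSim σ (blockDiagonal fun _ : Fin t => G₁) c (blockMon s A) := by
  rw [isSim_iff]
  intro u v
  rw [gf_blockDiagonal, gf_blockDiagonal, ← Equiv.sum_comp s, Finset.mul_sum]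
  refine Finset.sum_congr rfl fun i _ => ?_
  simp only [blockMon_mulVec]
  exact isSim_iff.mp (h i) _ _

theorem Herm.blockDiagonal {ε : F} {G₁ : Matrix κ κ F} (h : Herm σ ε G₁) (t : ℕ) :
    Herm σ ε (blockDiagonal fun _ : Fin t => G₁) := by
  refine ⟨h.invol, ?_, ?_, h.eps⟩
  · rw [det_blockDiagonal]; exact Finset.prod_ne_zero_iff.mpr fun _ _ => h.det_ne
  · rw [blockDiagonal_map _ _ (map_zero σ), blockDiagonal_transpose, ← blockDiagonal_smul]
    congr 1
    funext i
    exact h.herm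

theorem exists_blockMon {m : ℕ} {D : Fin t → Submodule F (ι → F)} {e : ι ≃ Fin m × Fin t} {P : GL ι F}
    (hP : ∀ i u, cvec e P u ∈ D i ↔ ∀ a j, j ≠ i → u (a, j) = 0) {g : GL ι F}
    (hg : g ∈ decompositionStabilizer D) : ∃ (s : Equiv.Perm (Fin t)) (A : Fin t → GL (Fin m) F),
      (g : Matrix ι ι F) = coord e P (blockMon s fun i => (A i : Matrix (Fin m) (Fin m) F)) := by
  obtain ⟨s, hs⟩ := hg
  let g' : Matrix (Fin m × Fin t) (Fin m × Fin t) F := ((coordGL e P).symm g : GL _ F)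
  have hg' : coord e P g' = g := coord_symm e P g
  have h1 : g' = blockMon s fun i => Matrix.of fun b a => g' (b, s i) (a, i) := by
    ext ⟨b, j⟩ ⟨a, i⟩
    rw [blockMon_apply]
    split_ifs with h
    · rw [h]; rfl
    · have h2 : cvec e P (Pi.single (a, i) 1) ∈ D i := (hP i _).mpr fun a' j' hj' =>
        Pi.single_eq_of_ne (fun h => hj' (congrArg Prod.snd h)) _
      have h3 : (g : Matrix ι ι F) *ᵥ cvec e P (Pi.single (a, i) 1) ∈ D (s i) := by
        rw [← hs]; exact ⟨_, h2, rfl⟩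
      rw [← hg', coord_mulVec, hP] at h3
      simpa using h3 b j h
  have hdet : g'.det ≠ 0 := Matrix.GeneralLinearGroup.det_ne_zero _
  rw [h1, det_blockMon] at hdet
  refine ⟨s, fun i => Matrix.GeneralLinearGroup.mkOfDetNeZero _
    (Finset.prod_ne_zero_iff.mp (right_ne_zero_of_mul hdet) i (Finset.mem_univ i)), ?_⟩
  rw [← hg']
  exact congrArg _ h1

theorem det_coord (e : ι ≃ κ) (P : GL ι F) (x : Matrix κ κ F) : (coord e P x).det = x.det := by
  rw [coord_apply, det_units_conj, det_submatrix_equiv_self]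

theorem decomposition_maps {D : Fin t → Submodule F (ι → F)} {g : GL ι F}
    (hg : g ∈ decompositionStabilizer D) : ∃ s : Equiv.Perm (Fin t), ∀ i, ∀ v ∈ D i,
      (g : Matrix ι ι F) *ᵥ v ∈ D (s i) := by
  obtain ⟨s, hs⟩ := hg
  exact ⟨s, fun i v hv => by rw [← hs]; exact ⟨v, hv, rfl⟩⟩

theorem IsMDecomposition.exists_ne_zero {m : ℕ} {D : Fin t → Submodule F (ι → F)}
    (hD : IsMDecomposition m D) (i : Fin t) : ∃ v ∈ D i, v ≠ 0 := by
  apply Submodule.exists_mem_ne_zero_of_ne_bot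
  intro h
  have := hD.finrank_eq i
  rw [h, finrank_bot] at this
  exact absurd hD.pos (by omega)

theorem IsMDecomposition.add_not_mem {m : ℕ} {D : Fin t → Submodule F (ι → F)}
    (hD : IsMDecomposition m D) {i j : Fin t} (hij : i ≠ j) {u v : ι → F} (hu : u ∈ D i) (hv : v ∈ D j)
    (hu0 : u ≠ 0) (hv0 : v ≠ 0) (k : Fin t) : u + v ∉ D k := by
  intro h
  by_cases hk : k = i
  · subst hk
    have : v ∈ D k := by simpa using (D k).sub_mem h hu
    exact hv0 ((Submodule.disjoint_def.mp (hD.indep.pairwiseDisjoint hij)) v this hv)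
  · have h1 : u ∈ ⨆ l, ⨆ (_ : l ≠ i), D l := by
      have h2 : u + v ∈ ⨆ l, ⨆ (_ : l ≠ i), D l :=
        Submodule.mem_iSup_of_mem k (Submodule.mem_iSup_of_mem hk h)
      have h3 : v ∈ ⨆ l, ⨆ (_ : l ≠ i), D l :=
        Submodule.mem_iSup_of_mem j (Submodule.mem_iSup_of_mem hij.symm hv)
      simpa using Submodule.sub_mem _ h2 h3
    exact hu0 (Submodule.disjoint_def.mp (hD.indep i) u hu h1)

theorem IsFieldSubalgebra.exists_nonscalar {r : ℕ} {K : Subalgebra F (Matrix ι ι F)}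
    (hK : IsFieldSubalgebra r K) (hr : 2 ≤ r) : ∃ k ∈ K, ¬ ∃ c : F, k = c • (1 : Matrix ι ι F) := by
  by_contra h
  push Not at h
  have : K ≤ ⊥ := fun k hk => by
    obtain ⟨c, hc⟩ := h k hk
    rw [hc, ← Algebra.algebraMap_eq_smul_one]
    exact Subalgebra.algebraMap_mem _ c
  rcases isEmpty_or_nonempty ι with hι | hι
  · have h3 : Module.finrank F K ≤ Module.finrank F (Matrix ι ι F) := Submodule.finrank_le
      (Subalgebra.toSubmodule K)
    rw [hK.finrank_eq, Module.finrank_matrix] at h3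
    simp at h3; omega
  · have h3 := hK.finrank_eq
    rw [le_bot_iff.mp this, Subalgebra.finrank_bot] at h3
    omega

theorem IsFieldSubalgebra.eq_zero_of_mulVec {r : ℕ} {K : Subalgebra F (Matrix ι ι F)}
    (hK : IsFieldSubalgebra r K) {k : Matrix ι ι F} (hk : k ∈ K) {v : ι → F} (hv : v ≠ 0)
    (h : k *ᵥ v = 0) : k = 0 := by
  by_contra h0
  obtain ⟨y, hy, hky⟩ := hK.inv k hk h0
  apply hv
  rw [← one_mulVec v, ← hky, hK.comm k hk y hy, ← mulVec_mulVec, h, mulVec_zero]

theorem IsFieldSubalgebra.eq_zero_of_range {r : ℕ} {K : Subalgebra F (Matrix ι ι F)}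
    (hK : IsFieldSubalgebra r K) {k : Matrix ι ι F} (hk : k ∈ K) {W : Submodule F (ι → F)}
    (hW : Module.finrank F W < Fintype.card ι) (h : ∀ v, k *ᵥ v ∈ W) : k = 0 := by
  by_contra h0
  obtain ⟨y, hy, hky⟩ := hK.inv k hk h0
  obtain ⟨v, hv⟩ := exists_not_mem_of_finrank_lt W hW
  apply hv
  rw [← one_mulVec v, ← hky, ← mulVec_mulVec]
  exact h _

theorem card_ne_six [Fintype F] : Fintype.card F ≠ 6 := by
  intro h
  have := FiniteField.isPrimePow_card F
  rw [h] at this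
  exact absurd this (by decide)

end CL.Asch
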