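import Cfsg.Agent.CLAS.AschFC4

/-!
Aschbacher's theorem for the symplectic groups.
-/

set_option autoImplicit false

namespace CL.Asch

open Matrix Cfsg.Geo
open scoped Kronecker MatrixGroups commutatorElement

variable {F : Type*} [Field F] {ι κ μ : Type} [Fintype ι] [DecidableEq ι] [Fintype κ] [DecidableEq κ]
  [Fintype μ] [DecidableEq μ] {σ : F →+* F}

local notation "ρ" => RingHom.id F

/-- the map `v ↦ f(v, a) b - f(v, b) a` -/
def bv (G : Matrix ι ι F) (a b : ι → F) : Matrix ι ι F := vecMulVec b (G *ᵥ a) - vecMulVec a (G *ᵥ b)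

theorem bv_mulVec (G : Matrix ι ι F) (a b v : ι → F) :
    bv G a b *ᵥ v = gf ρ G v a • b - gf ρ G v b • a := by
  rw [bv, Matrix.sub_mulVec, vecMulVec_mulVec', vecMulVec_mulVec', dotProduct_comm, dotProduct_comm _ v]
  rfl

theorem conj_bv {G : Matrix ι ι F} {h : GL ι F} (hh : IsSim ρ G 1 h) (a b : ι → F) :
    conjAlgHom h (bv G a b) = bv G ((h : Matrix ι ι F) *ᵥ a) ((h : Matrix ι ι F) *ᵥ b) :=
  eq_of_mulVec fun v => by
    rw [← mulVec_inv_mulVec h v, conj_mulVec, bv_mulVec, bv_mulVec, isSim_one_iff.mp hh,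
      isSim_one_iff.mp hh, Matrix.mulVec_sub, Matrix.mulVec_smul, Matrix.mulVec_smul]

theorem bv_comb (G : Matrix ι ι F) (a b : ι → F) (x y z w : F) :
    bv G (x • a + y • b) (z • a + w • b) = (x * w - y * z) • bv G a b :=
  eq_of_mulVec fun v => by
    simp only [smul_mulVec, bv_mulVec, gf_add_right, gf_smul_right, RingHom.id_apply]
    module

theorem isAdj_bv {ε : F} {G : Matrix ι ι F} (hG : Herm ρ ε G) (a b : ι → F) :
    IsAdj ρ G (bv G a b) (-ε • bv G a b) := by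
  rw [isAdj_iff]
  intro u v
  have h1 := hG.eps_sq
  simp only [smul_mulVec, bv_mulVec, gf_sub_left, gf_smul_left, gf_sub_right, gf_smul_right,
    RingHom.id_apply, hG.swap' b v, hG.swap' a v]
  ring

theorem exists_pair_span {W : Submodule F (ι → F)} (h : Module.finrank F W = 2) :
    ∃ a ∈ W, ∃ b ∈ W, (∀ w ∈ W, ∃ x y : F, w = x • a + y • b) ∧
      ∀ x y : F, x • a + y • b = 0 → x = 0 ∧ y = 0 := by
  let b := Module.finBasisOfFinrankEq F W h
  refine ⟨b 0, (b 0).2, b 1, (b 1).2, fun w hw => ⟨b.repr ⟨w, hw⟩ 0, b.repr ⟨w, hw⟩ 1, ?_⟩,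
    fun x y hxy => LinearIndependent.pair_iff.mp (show LinearIndependent F ![b 0, b 1] from ?_) x y
      (Subtype.ext hxy)⟩
  · have := congrArg Subtype.val (b.sum_repr ⟨w, hw⟩)
    rw [Fin.sum_univ_two] at this
    exact this.symm
  · convert b.linearIndependent using 1
    ext1 i; fin_cases i <;> rfl

theorem IsMDecomposition.exists_add {m : ℕ} {D : Fin 2 → Submodule F (ι → F)}
    (hD : IsMDecomposition m D) (v : ι → F) : ∃ a ∈ D 0, ∃ b ∈ D 1, v = a + b := by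
  have : v ∈ D 0 ⊔ D 1 := by
    have h : iSup D ≤ D 0 ⊔ D 1 := iSup_le fun i => by
      fin_cases i
      · exact le_sup_left
      · exact le_sup_right
    rw [hD.iSup_eq_top] at h
    exact h trivial
  obtain ⟨a, ha, b, hb, rfl⟩ := Submodule.mem_sup.mp this
  exact ⟨a, ha, b, hb, rfl⟩

theorem sp_pair_three [Fintype F] (hq : Fintype.card F = 3) {G : Matrix ι ι F} (hG : Herm ρ (-1) G)
    {D : Fin 2 → Submodule F (ι → F)} (hD : IsMDecomposition 2 D)
    (hts : ∀ i, IsTotallySingularFor (gf ρ G) (D i)) {H : Subgroup (GL ι F)}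
    (hH : ∀ h ∈ H, IsSim ρ G 1 (h : Matrix ι ι F)) (hle : H ≤ decompositionStabilizer D) :
    ∃ Z, CommAlg ρ G H Z ∧ ∀ x ∈ Z, IsAdj ρ G x x := by
  obtain ⟨a₁, ha₁, a₂, ha₂, ha, ha'⟩ := exists_pair_span (hD.finrank_eq 0)
  obtain ⟨b₁, hb₁, b₂, hb₂, hb, hb'⟩ := exists_pair_span (hD.finrank_eq 1)
  have hsw : ∀ u v, gf ρ G u v = - gf ρ G v u := fun u v => by rw [hG.swap']; simp
  have hspan : ∀ v, ∃ x y z w : F, v = x • a₁ + y • a₂ + (z • b₁ + w • b₂) := fun v => by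
    obtain ⟨a, h1, b, h2, rfl⟩ := IsMDecomposition.exists_add hD v
    obtain ⟨x, y, rfl⟩ := ha a h1
    obtain ⟨z, w, rfl⟩ := hb b h2
    exact ⟨x, y, z, w, rfl⟩
  set Δ := gf ρ G a₁ b₁ * gf ρ G a₂ b₂ - gf ρ G a₁ b₂ * gf ρ G a₂ b₁ with hΔ
  have h0 := hts 0
  have h1 := hts 1
  have hsq : ∀ α β : F, (α • bv G a₁ a₂ + β • bv G b₁ b₂) * (α • bv G a₁ a₂ + β • bv G b₁ b₂) =
      (α * β * Δ) • (1 : Matrix ι ι F) := fun α β => eq_of_mulVec fun v => by
    obtain ⟨x, y, z, w, rfl⟩ := hspan v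
    simp only [← mulVec_mulVec, Matrix.add_mulVec, smul_mulVec, bv_mulVec, one_mulVec, gf_add_left,
      gf_sub_left, gf_smul_left, h0 _ ha₁ _ ha₁, h0 _ ha₁ _ ha₂, h0 _ ha₂ _ ha₁, h0 _ ha₂ _ ha₂,
      h1 _ hb₁ _ hb₁, h1 _ hb₁ _ hb₂, h1 _ hb₂ _ hb₁, h1 _ hb₂ _ hb₂, hsw b₁ a₁, hsw b₁ a₂,
      hsw b₂ a₁, hsw b₂ a₂, hΔ]
    module
  have hperp : ∀ a ∈ D 0, gf ρ G a b₁ = 0 → gf ρ G a b₂ = 0 → a = 0 := fun a h3 h4 h5 =>
    eq_zero_of_gf_left hG.surj hG.det_ne fun v => by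
      obtain ⟨x, y, z, w, rfl⟩ := hspan v
      simp only [gf_add_right, gf_smul_right, h0 _ h3 _ ha₁, h0 _ h3 _ ha₂, h4, h5]
      simp
  have ha0 : a₁ ≠ 0 := fun h => one_ne_zero (ha' 1 0 (by simp [h])).1
  have hΔ0 : Δ ≠ 0 := fun h => by
    have h3 := ha' _ _ (hperp (gf ρ G a₂ b₂ • a₁ + -gf ρ G a₁ b₂ • a₂)
      (add_mem (Submodule.smul_mem _ _ ha₁) (Submodule.smul_mem _ _ ha₂))
      (by rw [gf_add_left, gf_smul_left, gf_smul_left]; linear_combination h)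
      (by rw [gf_add_left, gf_smul_left, gf_smul_left]; ring))
    have h4 := ha' _ _ (hperp (gf ρ G a₂ b₁ • a₁ + -gf ρ G a₁ b₁ • a₂)
      (add_mem (Submodule.smul_mem _ _ ha₁) (Submodule.smul_mem _ _ ha₂))
      (by rw [gf_add_left, gf_smul_left, gf_smul_left]; ring)
      (by rw [gf_add_left, gf_smul_left, gf_smul_left]; linear_combination -h))
    exact ha0 (hperp a₁ ha₁ (neg_eq_zero.mp h4.2) (neg_eq_zero.mp h3.2))
  haveI : Nonempty ι := by
    by_contra h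
    rw [not_nonempty_iff] at h
    exact ha0 (Subsingleton.elim _ _)
  have hadj : IsAdj ρ G (bv G a₁ a₂ + bv G b₁ b₂) (bv G a₁ a₂ + bv G b₁ b₂) := by
    simpa using (isAdj_bv hG a₁ a₂).add (isAdj_bv hG b₁ b₂)
  refine ⟨_, commAlg_single (s := bv G a₁ a₂ + bv G b₁ b₂) (d := 1) (fun _ => rfl) (fun h hh => ?_)
    (by rwa [one_smul]) ?_, selfAdj_adjoin (by rintro _ rfl _ rfl; rfl) (by rintro _ rfl; exact hadj)⟩
  · obtain ⟨α, β, h3⟩ : ∃ α β : F, conjAlgHom h (bv G a₁ a₂ + bv G b₁ b₂) =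
        α • bv G a₁ a₂ + β • bv G b₁ b₂ := by
      obtain ⟨s, hs⟩ := decomposition_maps (hle hh)
      rw [map_add, conj_bv (hH h hh), conj_bv (hH h hh)]
      have h4 : s 0 ≠ s 1 := s.injective.ne (by decide)
      have h5 := hs 0
      have h6 := hs 1
      generalize s 0 = i at h4 h5
      generalize s 1 = j at h4 h6
      fin_cases i <;> fin_cases j
      · exact absurd rfl h4
      · obtain ⟨x, y, h7⟩ := ha _ (h5 _ ha₁)
        obtain ⟨z, w, h8⟩ := ha _ (h5 _ ha₂)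
        obtain ⟨x', y', h9⟩ := hb _ (h6 _ hb₁)
        obtain ⟨z', w', h10⟩ := hb _ (h6 _ hb₂)
        exact ⟨_, _, by rw [h7, h8, h9, h10, bv_comb, bv_comb]⟩
      · obtain ⟨x, y, h7⟩ := hb _ (h5 _ ha₁)
        obtain ⟨z, w, h8⟩ := hb _ (h5 _ ha₂)
        obtain ⟨x', y', h9⟩ := ha _ (h6 _ hb₁)
        obtain ⟨z', w', h10⟩ := ha _ (h6 _ hb₂)
        exact ⟨_, _, by rw [h7, h8, h9, h10, bv_comb, bv_comb, add_comm]⟩
      · exact absurd rfl h4
    have h4 := hsq 1 1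
    rw [one_smul, one_smul] at h4
    have h5 := congrArg (conjAlgHom h) h4
    rw [map_mul, h3, hsq, map_smul, map_one] at h5
    have h6 : α * β = 1 := mul_right_cancel₀ hΔ0 (by simpa using smul_one_inj h5)
    have h7 : β = α := by
      have := sq_eq_one_of_three hq (left_ne_zero_of_mul_eq_one h6)
      linear_combination α * h6 - β * this
    exact ⟨α, by rw [h3, h7, smul_add]⟩
  · rintro ⟨c, hc⟩
    have h3 := congrArg (· *ᵥ a₁) hc
    simp only [Matrix.add_mulVec, bv_mulVec, h0 _ ha₁ _ ha₁, h0 _ ha₁ _ ha₂, zero_smul, sub_self,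
      zero_add, smul_mulVec, one_mulVec] at h3
    have h4 := hsq 1 1
    rw [one_smul, one_smul, hc, smul_mul_smul_comm, mul_one] at h4
    have h5 := smul_one_inj h4
    have h6 : c • a₁ = 0 := hperp _ (Submodule.smul_mem _ _ ha₁)
      (by rw [← h3]; exact h1 _ (sub_mem (Submodule.smul_mem _ _ hb₂) (Submodule.smul_mem _ _ hb₁)) _ hb₁)
      (by rw [← h3]; exact h1 _ (sub_mem (Submodule.smul_mem _ _ hb₂) (Submodule.smul_mem _ _ hb₁)) _ hb₂)
    rw [(smul_eq_zero.mp h6).resolve_right ha0] at h5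
    exact hΔ0 (by simpa using h5.symm)

theorem gf_embT_zero {t : ℕ} (ht : 2 ≤ t) {G₁ : Matrix κ κ F} (halt : ∀ v, gf σ G₁ v v = 0) (j : Fin t)
    (x : Matrix κ κ F) (u : Fin t → κ → F) :
    gf σ (pureM fun _ => G₁) (embT j x *ᵥ pvT u) (pvT u) = 0 := by
  haveI : Nontrivial (Fin t) := Fin.nontrivial_iff_two_le.mpr ht
  obtain ⟨i, hi⟩ := exists_ne j
  rw [embT_apply, pureM_mulVec_pvT, gf_pure_pvT]
  refine Finset.prod_eq_zero (Finset.mem_univ i) ?_
  rw [Function.update_of_ne hi, Pi.one_apply, one_mulVec, halt]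

theorem gf_coord {G : Matrix ι ι F} {e : ι ≃ κ} {P : GL ι F} {c : F} {G' : Matrix κ κ F}
    (h : cpull σ G e P = c • G') (x : Matrix κ κ F) (u v : κ → F) :
    gf σ G (coord e P x *ᵥ cvec e P u) (cvec e P v) = c * gf σ G' (x *ᵥ u) v := by
  rw [coord_mulVec, ← gf_cpull, h, gf_smul_gram]

theorem TPForm.exists_u [Finite F] (h2 : (2 : F) = 0) {G : Matrix ι ι F} (hG : Herm ρ 1 G)
    {H : Subgroup (GL ι F)} (hirr : Irr H) (hH : ∀ h ∈ H, ∃ c, IsSim ρ G c (h : Matrix ι ι F)) {k l : ℕ}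
    {φ : Matrix (Fin k) (Fin k) F →ₐ[F] Matrix ι ι F} {ψ : Matrix (Fin l) (Fin l) F →ₐ[F] Matrix ι ι F}
    {ε₁ ε₂ : F} {G₁ : Matrix (Fin k) (Fin k) F} {G₂ : Matrix (Fin l) (Fin l) F}
    (h : TPForm ρ G H φ ψ ε₁ ε₂ G₁ G₂) : (∀ v, gf ρ G₁ v v = 0) ∧ (∀ v, gf ρ G₂ v v = 0) ∧
      ∃ u, IsAdj ρ G (φ u) (1 - φ u) ∧
      ∀ g ∈ H, ∀ v, gf ρ G ((conjAlgHom g (φ u) - φ u) *ᵥ v) v = 0 := by
  haveI := h.pair.neZero₁
  haveI := h.pair.neZero₂
  haveI := h.pair.nonempty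
  have h3 := alt_of_irr_char_two (by simpa using h.pair.two_le_k) h2 h.herm₁
    (irr_facGrp hirr h.pair.norm₁) (isSim_facGrp h.herm₁ h.adj₁ hH)
  have h4 := alt_of_irr_char_two (by simpa using h.pair.two_le_l) h2 h.herm₂
    (irr_facGrp hirr h.pair.norm₂) (isSim_facGrp h.herm₂ h.adj₂ hH)
  obtain ⟨u, hu⟩ := exists_u_of_alt h2 (h.herm₁.one_of_two h2) h3
  have hu' : IsAdj ρ G (φ u) (1 - φ u) := by simpa using (h.adj₁ _ _).mp hu
  refine ⟨h3, h4, u, hu', fun g hg => ?_⟩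
  obtain ⟨e, P, c, h5, -, -, -, h6⟩ := h.exists_coord hG
  obtain ⟨d, hd⟩ := hH g hg
  refine alt_of_selfAdj h2 hG (hu'.conj_sub (hu'.conj_u hd) h2) (cvec e P) ?_
  rintro ⟨a, b⟩
  obtain ⟨y, hy⟩ := h.pair.norm₁ g hg u
  rw [hy, ← map_sub, h5, gf_coord h6, single_eq_pv2, kronL_apply, kron_mulVec_pv2, gf_kron_pv2,
    one_mulVec, h4, mul_zero, mul_zero]

theorem TFForm.exists_u (h2 : (2 : F) = 0) {G : Matrix ι ι F} (hG : Herm ρ 1 G)
    (halt : ∀ v, gf ρ G v v = 0) {H : Subgroup (GL ι F)}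
    (hH : ∀ h ∈ H, ∃ c, IsSim ρ G c (h : Matrix ι ι F)) {m t : ℕ}
    {φ : Fin t → (Matrix (Fin m) (Fin m) F →ₐ[F] Matrix ι ι F)} {ε₁ : F}
    {G₁ : Matrix (Fin m) (Fin m) F} (h : TFForm ρ G H φ ε₁ G₁) (i : Fin t) : (∀ v, gf ρ G₁ v v = 0) ∧
      ∃ u, IsAdj ρ G (φ i u) (1 - φ i u) ∧
      ∀ g ∈ H, ∀ v, gf ρ G ((conjAlgHom g (φ i u) - φ i u) *ᵥ v) v = 0 := by
  obtain ⟨e, P, c, h5, -, hc, h6⟩ := h.exists_coord hG
  have h3 : ∀ v, gf ρ G₁ v v = 0 := fun v => by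
    have := halt (cvec e P (pvT fun _ => v))
    rw [← gf_cpull, h6, gf_smul_gram, gf_pure_pvT, Finset.prod_const] at this
    exact pow_eq_zero_iff (by have := h.fam.two_le_t; simp; omega) |>.mp
      ((mul_eq_zero.mp this).resolve_left hc)
  obtain ⟨u, hu⟩ := exists_u_of_alt h2 (h.herm.one_of_two h2) h3
  have hu' : IsAdj ρ G (φ i u) (1 - φ i u) := by simpa using (h.adj i _ _).mp hu
  refine ⟨h3, u, hu', fun g hg => ?_⟩
  obtain ⟨d, hd⟩ := hH g hg
  refine alt_of_selfAdj h2 hG (hu'.conj_sub (hu'.conj_u hd) h2) (cvec e P) fun a => ?_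
  obtain ⟨s, hs⟩ := h.fam.perm g hg
  obtain ⟨y, hy⟩ := hs i u
  rw [hy, Matrix.sub_mulVec, gf_sub_left, h5, h5, gf_coord h6, gf_coord h6, single_eq_pvT,
    gf_embT_zero h.fam.two_le_t h3, gf_embT_zero h.fam.two_le_t h3, sub_self]

/-- a normal subgroup fixing a quadratic form in characteristic two -/
theorem quad_of_normal [Finite F] (hn : 2 ≤ Fintype.card ι) {G : Matrix ι ι F}
    {H N : Subgroup (GL ι F)} (hH : ∀ h ∈ H, IsSim ρ G 1 (h : Matrix ι ι F)) (hN : NormBy H N)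
    (hirr : Irr N) {Q : (ι → F) → F} (hQ : ∀ (c : F) v, Q (c • v) = c ^ 2 * Q v)
    (hp : ∀ a b, QuadraticMap.polar Q a b = gf ρ G a b) (hfix : FixesQuadForm (matrixSet N) Q) :
    ∀ h ∈ H, ∀ v, Q ((h : Matrix ι ι F) *ᵥ v) = Q v := by
  intro h hh v
  refine sub_eq_zero.mp (eq_zero_of_irr_two hn hirr (fun v => Q ((h : Matrix ι ι F) *ᵥ v) - Q v)
    (fun a b => ?_) (fun c v hv => ?_) (fun x hx v hv => ?_) v)
  · have h1 := hp a b
    have h2 := hp ((h : Matrix ι ι F) *ᵥ a) ((h : Matrix ι ι F) *ᵥ b)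
    rw [isSim_one_iff.mp (hH h hh), ← h1] at h2
    simp only [QuadraticMap.polar] at h2
    rw [Matrix.mulVec_add]
    linear_combination h2
  · rw [Matrix.mulVec_smul, hQ, hQ, ← mul_sub, hv, mul_zero]
  · rw [← conj_mulVec, conjAlgHom_coe, hfix _ ⟨_, hN h hh x hx, rfl⟩, hfix _ ⟨_, hx, rfl⟩, hv]

theorem IsNondegenerateQuadraticForm.smul' {Q : (ι → F) → F} (hQ : IsNondegenerateQuadraticForm Q)
    {c : F} (hc : c ≠ 0) : IsNondegenerateQuadraticForm (fun v => c * Q v) := by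
  have h1 : QuadraticMap.polar (fun v => c * Q v) = gf ρ (c • gramMatrix (QuadraticMap.polar Q)) := by
    funext a b
    rw [gf_smul_gram, ← IsBilinearForm.eq_gf hQ.polar_bilinear]
    simp only [QuadraticMap.polar]; ring
  refine ⟨fun d v => by rw [hQ.smul]; ring, by rw [h1]; exact isBilinearForm_gf _, ?_⟩
  rw [h1]
  refine isNondegenerateForm_gf Function.surjective_id ?_
  rw [det_smul]
  exact mul_ne_zero (pow_ne_zero _ hc) (herm_of_quad hQ).det_ne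

/-- the classes of subgroups of a symplectic group -/
inductive SpCase [Fintype F] (G : Matrix ι ι F) (H : Subgroup (GL ι F)) : Prop
  | ts (W : Submodule F (ι → F)) (h0 : W ≠ ⊥) (h : IsTotallySingularFor (gf (RingHom.id F) G) W)
      (hle : H ≤ subspaceStabilizer W)
  | nd (W : Submodule F (ι → F)) (h0 : W ≠ ⊥) (h : IsNondegenerateOn (gf (RingHom.id F) G) W)
      (hd : 2 * Module.finrank F W < Fintype.card ι) (hle : H ≤ subspaceStabilizer W)
  | dec (t m : ℕ) (D : Fin t → Submodule F (ι → F))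
      (h : IsNondegenerateMDecomposition (gf (RingHom.id F) G) m D) (hle : H ≤ decompositionStabilizer D)
  | pair (hq : Odd (Fintype.card F)) (m : ℕ) (D : Fin 2 → Submodule F (ι → F)) (h : IsMDecomposition m D)
      (hts : ∀ i, IsTotallySingularFor (gf (RingHom.id F) G) (D i))
      (hex : ¬ (Fintype.card F = 3 ∧ m = 2)) (hle : H ≤ decompositionStabilizer D)
  | sub (F₀ : Subfield F) (r : ℕ) (P : GL ι F) (ζ : F) (hr : r.Prime)
      (hc : Fintype.card F = Nat.card F₀ ^ r) (h0 : ζ ≠ 0)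
      (h : IsFormRationalStructure (gf (RingHom.id F) G) F₀ ζ P) (hle : H ≤ subfieldSubgroup F₀ P)
  | c6 (R : Subgroup (GL ι F)) (k : ℕ) (h : IsSymplecticTypeGroup 2 R) (htop : alg R = ⊤)
      (hc : ⁅R, R⁆ ≤ scalars ι F) (hR : ∀ x ∈ R, IsSim (RingHom.id F) G 1 (x : Matrix ι ι F))
      (hp : (Fintype.card F).Prime) (hq : Odd (Fintype.card F)) (hn : Fintype.card ι = 2 ^ k)
      (hcard : Nat.card R = 2 ^ (1 + 2 * k)) (hZ : Nat.card (Subgroup.center R) = 2)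
      (hsq : ∀ x ∈ R, x ^ 2 ∈ scalars ι F) (hm : IsOfMinusType k R) (hle : H ≤ subgroupNormalizer R)
  | quad (hq : ¬ Odd (Fintype.card F)) (Q : (ι → F) → F) (h : IsNondegenerateQuadraticForm Q)
      (hp : ∀ a b, QuadraticMap.polar Q a b = gf (RingHom.id F) G a b) (hle : H ≤ quadSimilarityGroup Q)
  | fld (r : ℕ) (K : Subalgebra F (Matrix ι ι F)) (hr : r.Prime) (hK : IsFieldSubalgebra r K)
      (hs : ∀ x ∈ K, IsAdj (RingHom.id F) G x x)
      (h : ∀ k ∈ K, ∀ v, gf (RingHom.id F) G (k *ᵥ v) v = 0) (hle : H ≤ subalgebraNormalizer K)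
  | uni (hq : Odd (Fintype.card F)) (K : Subalgebra F (Matrix ι ι F)) (hK : IsFieldSubalgebra 2 K)
      (ha : ∀ x ∈ K, ∃ y ∈ K, IsAdj (RingHom.id F) G x y) (hs : ¬ ∀ x ∈ K, IsAdj (RingHom.id F) G x x)
      (hle : H ≤ subalgebraNormalizer K)
  | tens (hq : Odd (Fintype.card F)) (k l : ℕ) (φ : Matrix (Fin k) (Fin k) F →ₐ[F] Matrix ι ι F)
      (ψ : Matrix (Fin l) (Fin l) F →ₐ[F] Matrix ι ι F) (G₁ : Matrix (Fin k) (Fin k) F)
      (G₂ : Matrix (Fin l) (Fin l) F) (h : TPForm (RingHom.id F) G H φ ψ (-1) 1 G₁ G₂) (hl : 3 ≤ l)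
      (hex : ¬ (Fintype.card F = 3 ∧ l = 3))
  | pow (hq : Odd (Fintype.card F)) (m t : ℕ)
      (φ : Fin t → (Matrix (Fin m) (Fin m) F →ₐ[F] Matrix ι ι F)) (G₁ : Matrix (Fin m) (Fin m) F)
      (h : TFForm (RingHom.id F) G H φ (-1) G₁) (ht : Odd t) (hex : ¬ (Fintype.card F = 3 ∧ m = 2))
  | res (h : InSymplecticResidualClass H)

theorem sp_comm [Fintype F] [Nonempty ι] {G : Matrix ι ι F} (hG : Herm ρ (-1) G)
    (halt : ∀ v, gf ρ G v v = 0) {H : Subgroup (GL ι F)} (hirr : Irr H)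
    (hH : ∀ h ∈ H, IsSim ρ G 1 (h : Matrix ι ι F)) {Z : Subalgebra F (Matrix ι ι F)}
    (hZ : CommAlg ρ G H Z) : SpCase G H := by
  have hH' : ∀ h ∈ H, ∃ c, IsSim ρ G c (h : Matrix ι ι F) := fun h hh => ⟨1, hH h hh⟩
  have key : ∀ Z, CommAlg ρ G H Z → SpCase G H ∨ (Odd (Fintype.card F) ∧
      ∃ e ∈ Z, IdemFam H ![e, 1 - e] ∧ IsAdj ρ G e (1 - e)) := by
    intro Z hZ
    rcases hZ.cases hG hirr hH' with ⟨t, e, ht, he, -, hadj⟩ | ⟨e, heZ, he, hadj⟩ | ⟨d, hd, hZd⟩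
    · obtain ⟨m, hm⟩ := he.nondeg_decomp hG ht hadj
      exact Or.inl (.dec t m _ hm he.le_stabilizer)
    · by_cases hq : Odd (Fintype.card F)
      · exact Or.inr ⟨hq, e, heZ, he, hadj⟩
      have h2 := two_eq_zero_of_not_odd hq
      obtain ⟨Q, h1, h3, h4⟩ := quad_of_u h2 (hG.one_of_two h2) hadj hH fun h hh v => by
        obtain ⟨s, hs⟩ := he.perm h hh
        have h5 := hs 0
        generalize s 0 = i at h5
        fin_cases i
        · rw [show conjAlgHom h e = e from h5, sub_self, zero_mulVec, gf_zero_left]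
        · rw [show conjAlgHom h e = 1 - e from h5, Matrix.sub_mulVec, Matrix.sub_mulVec, gf_sub_left,
            gf_sub_left, one_mulVec, halt]
          linear_combination -gf ρ G (e *ᵥ v) v * h2
      exact Or.inl (.quad hq Q h1 h3 h4)
    · left
      obtain ⟨r, hr, hrd⟩ := Nat.exists_prime_and_dvd (show d ≠ 1 by omega)
      obtain ⟨K, hK, -, hKZ⟩ := hZ.subfield hG hZd hrd hr.two_le
      by_cases hs : ∀ x ∈ K, IsAdj ρ G x x
      · exact .fld r K hr hK hs (fun k hk => alt_of_selfAdj_field hG halt hK hKZ.adj hk (hs k hk))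
          (le_subalgebraNormalizer hKZ.norm)
      obtain rfl := hr.even_iff.mp ((selfAdj_or_even hG hK hKZ.adj).resolve_left hs)
      by_cases hq : Odd (Fintype.card F)
      · exact .uni hq K hK hKZ.adj hs (le_subalgebraNormalizer hKZ.norm)
      have h2 := two_eq_zero_of_not_odd hq
      obtain ⟨u, hu, hu'⟩ := exists_u_field h2 hG hK hKZ.adj hs
      obtain ⟨Q, h1, h3, h4⟩ := quad_of_u h2 (hG.one_of_two h2) hu' hH fun h hh =>
        alt_of_selfAdj_field hG halt hK hKZ.adj (K.sub_mem (hKZ.norm h hh u hu) hu)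
          (hu'.conj_sub (hu'.conj_u (hH h hh)) h2)
      exact .quad hq Q h1 h3 h4
  rcases key Z hZ with h | ⟨hq, e, -, he, hadj⟩
  · exact h
  obtain ⟨m, hm⟩ := he.isMDecomposition le_rfl
  by_cases hex : Fintype.card F = 3 ∧ m = 2
  swap
  · exact .pair hq m _ hm (ts_pair hG (he.idem 0) hadj) hex he.le_stabilizer
  obtain ⟨h3, rfl⟩ := hex
  obtain ⟨Z', hZ', hs⟩ := sp_pair_three h3 hG hm (ts_pair hG (he.idem 0) hadj) hH he.le_stabilizer
  rcases key Z' hZ' with h | ⟨-, e', he', he2, hadj'⟩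
  · exact h
  exfalso
  apply he2.ne_zero 0
  have h4 : e' * (1 - e') = 0 := he2.orth 0 1 (by decide)
  rw [← (hs e' he').unique hG.det_ne hadj'] at h4
  exact (he2.idem 0).symm.trans h4

/-- Aschbacher's theorem for symplectic groups. -/
theorem sp_cases [Fintype F] (hn : 2 ≤ Fintype.card ι) {G : Matrix ι ι F} (hG : Herm ρ (-1) G)
    (halt : ∀ v, gf ρ G v v = 0) {H : Subgroup (GL ι F)}
    (hH : ∀ h ∈ H, IsSim ρ G 1 (h : Matrix ι ι F)) : SpCase G H := by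
  haveI := nonempty_of_two_le hn
  have hH' : ∀ h ∈ H, ∃ c, IsSim ρ G c (h : Matrix ι ι F) := fun h hh => ⟨1, hH h hh⟩
  by_cases hirr : Irr H
  swap
  · rcases reducible_cases hG hH' hirr with ⟨W, h0, h, hW⟩ | ⟨W, U, h, hle, hW, hU⟩
    · exact .ts W h0 h (le_subspaceStabilizer hW)
    · rcases hle.lt_or_eq with hlt | heq
      · exact .nd W h.ne₁ (h.nondeg hG) (by have := h.finrank; omega) (le_subspaceStabilizer hW)
      · exact .dec 2 _ _ (h.decomp hG heq) (le_decomp_pair hW hU)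
  have hneg : Odd (Fintype.card F) → (1 : F) ≠ -1 := fun hq h =>
    two_ne_zero_of_odd hq (by linear_combination h)
  rcases core hn H hirr with ⟨N, hNH, hN, z, hz, hz1, hz2⟩ | ⟨N, hNH, hN, k, φ, hk, hkn, hφ⟩ |
    ⟨N, hNH, hN, htop, hc⟩ | ⟨N, hN⟩ | ⟨m, t, φ, hφ⟩ | ⟨N, hN, htop, hsc⟩
  · exact sp_comm hG halt hirr hH (commAlg_zalg hG hN (fun x hx => hH x (hNH hx)) hz hz1 hz2)
  · obtain ⟨l, ψ, h⟩ := exists_tensorPair hN hk hkn hφ
    obtain ⟨ε₁, ε₂, G₁, G₂, h⟩ := h.exists_form hG fun x => by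
      obtain ⟨y, hy, hy'⟩ := isAdj_alg hG.invol (fun x hx => hH x (hNH hx)) (φ x) (hφ ▸ ⟨x, rfl⟩)
      rw [← hφ] at hy
      obtain ⟨y, rfl⟩ := hy
      exact ⟨y, hy'⟩
    by_cases hq : Odd (Fintype.card F)
    swap
    · have h2 := two_eq_zero_of_not_odd hq
      obtain ⟨-, -, u, hu, hu'⟩ := h.exists_u h2 (hG.one_of_two h2) hirr hH'
      obtain ⟨Q, h1, h3, h4⟩ := quad_of_u h2 (hG.one_of_two h2) hu hH hu'
      exact .quad hq Q h1 h3 h4
    have key : ∀ {k l : ℕ} {φ : Matrix (Fin k) (Fin k) F →ₐ[F] Matrix ι ι F}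
        {ψ : Matrix (Fin l) (Fin l) F →ₐ[F] Matrix ι ι F} {G₁ G₂},
        TPForm ρ G H φ ψ (-1) 1 G₁ G₂ → SpCase G H := by
      intro k l φ ψ G₁ G₂ h
      by_cases hl : 3 ≤ l
      · by_cases hex : Fintype.card F = 3 ∧ l = 3
        · obtain ⟨h3, rfl⟩ := hex
          obtain ⟨D, hD, -⟩ := exists_frame_three h3 h.herm₂
          exact sp_comm hG halt hirr hH (h.symm.commAlg hH' hD)
        · exact .tens hq k l φ ψ G₁ G₂ h hl hex
      · obtain rfl : l = 2 := by have := h.pair.two_le_l; omega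
        obtain ⟨s, -, hs⟩ := exists_skew_two (two_ne_zero_of_odd hq) h.herm₂
        exact sp_comm hG halt hirr hH (h.symm.commAlg hH' hs)
    have h1 := h.eps hG
    rcases h.herm₁.eps with rfl | ⟨rfl, -⟩ <;> rcases h.herm₂.eps with rfl | ⟨rfl, -⟩
    · exact absurd (by linear_combination -h1) (hneg hq)
    · exact key h.symm
    · exact key h
    · exact absurd (by linear_combination -h1) (hneg hq)
  · obtain ⟨F₁, r, P, hr, hcard, hm, h, h2⟩ := exists_subfield_class (rclos N) (span_rclos htop) hc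
      (fun h hh => conj_mem_rclos (hN h hh))
    obtain ⟨ζ, h3, h4⟩ := h2 _ _ G hG (isAdj_rclos fun x hx => hH x (hNH hx))
    exact .sub F₁ r P ζ hr hcard h3 (isFormRationalStructure_of h4 fun c hc => hc) h
  · have hNG := fun x hx => hH x (hN.le hx)
    obtain ⟨h1, h2, h3, h4, h5, k, hk, h6, h7⟩ := hN.bilinear hn hG.det_ne hNG
    exact .c6 N k h1 hN.top hN.comm hNG h2 h3 h6 h7 h4 h5
      (isOfMinusType_of_alt hN.top hN.comm (two_ne_zero_of_odd h3) hG hNG hk h6) hN.norm.le_normalizer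
  · obtain ⟨ε₁, G₁, h⟩ := hφ.exists_form hG hH
    by_cases hq : Odd (Fintype.card F)
    swap
    · have h2 := two_eq_zero_of_not_odd hq
      obtain ⟨-, u, hu, hu'⟩ := h.exists_u h2 (hG.one_of_two h2) halt hH'
        ⟨0, by have := hφ.two_le_t; omega⟩
      obtain ⟨Q, h1, h3, h4⟩ := quad_of_u h2 (hG.one_of_two h2) hu hH hu'
      exact .quad hq Q h1 h3 h4
    have h1 := h.eps hG
    rcases h.herm.eps with rfl | ⟨rfl, -⟩
    · exact absurd (by rw [h1, one_pow]) (hneg hq)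
    refine .pow hq m t φ G₁ h ?_ ?_
    · by_contra ht
      rw [(Nat.not_odd_iff_even.mp ht).neg_one_pow] at h1
      exact hneg hq h1.symm
    · rintro ⟨h3, rfl⟩
      have := hφ.four_le
      omega
  · have hNG := fun x hx => hH x (hN.le hx)
    by_cases hQ : ∃ Q : (ι → F) → F, IsNondegenerateQuadraticForm Q ∧ FixesQuadForm (matrixSet N) Q
    · obtain ⟨Q, hQ, h⟩ := hQ
      obtain ⟨c, hc⟩ := exists_smul_of_fixes (herm_of_quad hQ).det_ne (scalar_of_alg_top htop)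
        (isSim_of_fixesForm (by rw [← IsBilinearForm.eq_gf hQ.polar_bilinear]; exact fixesForm_polar h))
        hNG
      have hc0 : c ≠ 0 := by rintro rfl; exact hG.det_ne (by rw [hc, zero_smul, det_zero])
      by_cases hq : Odd (Fintype.card F)
      · exact absurd (eps_eq_of_smul hG hc (herm_of_quad hQ).transpose_eq).symm (hneg hq)
      have hp : ∀ a b, QuadraticMap.polar (fun v => c * Q v) a b = gf ρ G a b := fun a b => by
        rw [hc, gf_smul_gram, ← IsBilinearForm.eq_gf hQ.polar_bilinear]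
        simp only [QuadraticMap.polar]; ring
      have hQ' := IsNondegenerateQuadraticForm.smul' hQ hc0
      exact .quad hq _ hQ' hp fun g hg => ⟨1, fun v => by
        rw [Units.val_one, one_mul]
        exact quad_of_normal hn hH hN.normal (irr_of_alg_top htop) hQ'.smul hp
          (fun s hs v => congrArg (c * ·) (h s hs v)) g hg v⟩
    · refine .res ⟨N, hN, hQ, ?_⟩
      rintro ⟨τ, f, hf, h⟩
      exact not_id_of_unitary hf fun a => fixed_of_two_forms hsc (herm_of_unitary hf).invol hG.invol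
        (herm_of_unitary hf).det_ne hG.det_ne (isSim_of_fixesForm (by rwa [← eq_gf_of_unitary hf]))
        hNG a

theorem sympForm_eq (m : ℕ) : Cfsg.sympForm m F = gf ρ (J (Fin m) F) := rfl

theorem mem_spGL {m : ℕ} {g : GL (Fin m ⊕ Fin m) F} :
    g ∈ Cfsg.spGL m F ↔ IsSim ρ (J (Fin m) F) 1 (g : Matrix (Fin m ⊕ Fin m) (Fin m ⊕ Fin m) F) := by
  rw [isSim_one_iff]; rfl

theorem herm_J (m : ℕ) : Herm ρ (-1) (J (Fin m) F) :=
  ⟨fun _ => rfl, (isUnit_det_J _ _).ne_zero, by rw [neg_one_smul, ← J_transpose]; rfl, Or.inr ⟨rfl, fun _ => rfl⟩⟩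

theorem alt_J (m : ℕ) (v : Fin m ⊕ Fin m → F) : gf ρ (J (Fin m) F) v v = 0 :=
  alt_of_diag (J_transpose _ _) (fun a => by rcases a with a | a <;> rfl) v

end CL.Asch
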