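import Cfsg.Agent.CLAS.AschO4
import Cfsg.Agent.CLAS.SpNonMax

/-!
Maximal subgroups of the symplectic groups of small dimension.
-/

set_option autoImplicit false

namespace CL.Asch

open Matrix Cfsg.Geo
open scoped Kronecker MatrixGroups commutatorElement

variable {F : Type*} [Field F] {ι κ μ : Type} [Fintype ι] [DecidableEq ι] [Fintype κ] [DecidableEq κ]
  [Fintype μ] [DecidableEq μ] {σ : F →+* F}

local notation "ρ" => RingHom.id F

theorem commutator_self_of_top {G : Type*} [Group G] {K : Subgroup G} (h : commutator K = ⊤) :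
    ⁅K, K⁆ = K := by
  rw [← K.map_subtype_commutator, h, ← MonoidHom.range_eq_map, K.range_subtype]

theorem exists_ne_zero_one [Fintype F] (h : Fintype.card F ≠ 2) : ∃ a : F, a ≠ 0 ∧ a ≠ 1 := by
  classical
  by_contra h0
  push Not at h0
  apply h
  have : (Finset.univ : Finset F) = {0, 1} := by
    ext a; by_cases ha : a = 0 <;> simp [ha, h0]
  rw [Fintype.card, this, Finset.card_pair zero_ne_one]

theorem amb_sp [Fintype F] {m : ℕ} (hm : 2 ≤ m) (hex : ¬ (m = 2 ∧ Fintype.card F = 2)) :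
    Amb ρ (-1) (J (Fin m) F) (fun x => (Sp.spForm m F).q x = 0) (Cfsg.spGL m F) (Cfsg.spGL m F) 1 := by
  have hf := Sp.spForm_nondeg m F
  refine amb_of_form hf (Witt.Form.prim_of_pi one_ne_zero rfl) ?_ (herm_J m) FGL.sp_B_iff
    (fun g => FGL.mem_spGL_iff_O.mp) (fun g => FGL.mem_spGL_iff_E) (fun W hW => ?_) (by simp; omega)
    (by simp; omega)
  · rw [hf.E_eq_O_alt]
    apply commutator_self_of_top
    by_cases h : m = 2
    · exact hf.commutator_eq_top_of_four_le (by rw [Sp.finrank_sp]; omega)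
        (exists_ne_zero_one fun h' => hex ⟨h, h'⟩)
    · exact hf.commutator_eq_top_of_six_le (by rw [Sp.finrank_sp]; omega)
  · obtain ⟨x, hx, h0⟩ := W.exists_mem_ne_zero_of_ne_bot (by rintro rfl; simp at hW)
    exact ⟨x, hx, h0, Witt.Form.alt_q _ x⟩

theorem Amb.not_le_quad [Finite F] {ε : F} {G : Matrix ι ι F} {s : (ι → F) → Prop}
    {I X : Subgroup (GL ι F)} {τ : ℕ} (h : Amb ρ ε G s I X τ) (hs : ∀ x, s x) (hn : 3 ≤ Fintype.card ι)
    {Q : (ι → F) → F} (hQ : IsNondegenerateQuadraticForm Q)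
    (hp : ∀ a b, QuadraticMap.polar Q a b = gf ρ G a b) : ¬ X ≤ quadSimilarityGroup Q := fun hle => by
  obtain ⟨u, -, hu0, hu⟩ := Witt.Form.quad_iso3 (Witt.Form.ofQuad (FGL.quadOf hQ)) ⊤ (by simpa using hn)
  replace hu : Q u = 0 := hu
  obtain ⟨x, hx, hQx⟩ : ∃ x, gf ρ G x u = 0 ∧ Q x ≠ 0 := by
    by_contra h0
    push Not at h0
    have h1 := two_mul_finrank_le h.herm (W := perp ρ G (Submodule.span F {u})) fun a ha b hb => by
      have := fun v (hv : v ∈ perp ρ G (Submodule.span F {u})) => h0 v (mem_perp_span.mp hv u rfl)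
      rw [← hp, QuadraticMap.polar, this _ (add_mem ha hb), this _ ha, this _ hb]; simp
    have h2 := finrank_perp h.herm (Submodule.span F {u})
    have h3 := finrank_span_singleton_le u
    omega
  obtain ⟨g, hg, hgu⟩ := h.move u x (hs x) hx fun hm => by
    obtain ⟨c, rfl⟩ := Submodule.mem_span_singleton.mp hm
    rw [hQ.smul] at hu
    rcases mul_eq_zero.mp hu with h1 | h1
    · exact hu0 (by rw [pow_eq_zero_iff two_ne_zero |>.mp h1, zero_smul])
    · exact hQx h1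
  obtain ⟨c, hc⟩ := hle hg
  have h1 := hc u
  have h2 := hp u x
  rw [h.herm.eq_zero_symm hx, QuadraticMap.polar, ← hgu, h1, hu] at h2
  exact hQx (by simpa using h2)

theorem TensorFam.of_three {H : Subgroup (GL ι F)} {φ α β : Matrix (Fin 2) (Fin 2) F →ₐ[F] Matrix ι ι F}
    (hcard : Fintype.card ι = 8) (h1 : ∀ x y, φ x * α y = α y * φ x) (h2 : ∀ x y, φ x * β y = β y * φ x)
    (h3 : ∀ x y, α x * β y = β y * α x) (h4 : ∀ g ∈ H, ∀ x, ∃ y, conjAlgHom g (φ x) = φ y)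
    (h5 : ∀ g ∈ H, ((∀ x, ∃ y, conjAlgHom g (α x) = α y) ∧ ∀ x, ∃ y, conjAlgHom g (β x) = β y) ∨
      ((∀ x, ∃ y, conjAlgHom g (α x) = β y) ∧ (∀ x, ∃ y, conjAlgHom g (β x) = α y))) :
    TensorFam H ![φ, α, β] := by
  refine ⟨by omega, le_rfl, fun i j hij x y => ?_, hcard, fun g hg => ?_⟩
  · fin_cases i <;> fin_cases j <;>
      first | exact absurd rfl hij | exact h1 _ _ | exact h2 _ _ | exact h3 _ _ | exact (h1 _ _).symm |
        exact (h2 _ _).symm | exact (h3 _ _).symm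
  · rcases h5 g hg with ⟨h6, h7⟩ | ⟨h6, h7⟩
    · exact ⟨1, fun i => by fin_cases i; exacts [h4 g hg, h6, h7]⟩
    · exact ⟨Equiv.swap 1 2, fun i => by fin_cases i; exacts [h4 g hg, h6, h7]⟩

/-- `Sp₂ ⊗ O₄⁺` is not maximal in `Sp₈` -/
theorem not_max_sp2_o4 [Finite F] (h2 : (2 : F) ≠ 0) {G : Matrix ι ι F} {s : (ι → F) → Prop}
    {X H : Subgroup (GL ι F)} (hA : Amb ρ (-1) G s X X 1) (hX : ∀ g, g ∈ X ↔ IsSim ρ G 1 (g : Matrix ι ι F))
    (hH : IsMaximalIn X H) {φ : Matrix (Fin 2) (Fin 2) F →ₐ[F] Matrix ι ι F}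
    {ψ : Matrix (Fin 4) (Fin 4) F →ₐ[F] Matrix ι ι F} {G₁ G₂} (h : TPForm ρ G H φ ψ (-1) 1 G₁ G₂) :
    ¬ IsPlusTypeOn (fun v => gf ρ G₂ v v) ⊤ := fun hp => by
  haveI := h.pair.nonempty
  obtain ⟨α, β, h3, h4, h5, h6, h7, h8⟩ := h.split_four h2 hA.herm hp fun g hg => (hX g).mp (hH.1.le hg)
  obtain ⟨c, hc, rfl⟩ := eq_smul_J2 h.herm₁.det_ne (h.herm₁.alt_of_two_ne h2)
  have hT : TFForm ρ G H ![φ, α, β] (-1) (J2 F) :=
    ⟨TensorFam.of_three h.pair.card h3 h4 h5 h.pair.norm₁ fun g hg => (h8 g hg).imp id fun h => ⟨h.1, h.2.1⟩,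
      herm_J2, fun i x y => by
        fin_cases i
        exacts [(isAdj_smul_iff hc).symm.trans (h.adj₁ x y), h6 x y, h7 x y]⟩
  obtain ⟨e, P, d, h9, hle, -, hP⟩ := hT.exists_coord hA.herm
  have hw : ∀ i x, conjAlgHom (coordGL e P (permTGL (Fin 2) F (Equiv.swap 0 1))) (![φ, α, β] i x) =
      ![φ, α, β] (Equiv.swap 0 1 i) x := fun i x => by rw [h9, h9, conj_coord, conj_permTGL_embT]
  have hm : coordGL e P (permTGL (Fin 2) F (Equiv.swap 0 1)) ∈ H := by
    rw [IsMaximalIn.eq_inf hH hle (hA.not_le_wreath e P two_pos (by rw [h.pair.card]; omega))]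
    refine ⟨mem_tensorWreathSubgroup (by omega) e P _ h9 _ _ fun i x => ⟨x, hw i x⟩, (hX _).mpr ?_⟩
    rw [coe_coordGL, ← isSim_cpull, hP]
    exact (isSim_permT _ _).smul_gram d
  refine not_forall_comm (F := F) (ι := Fin 2) (by simp) fun x y => algHom_injective α ?_
  obtain ⟨z, hz⟩ := h.pair.norm₁ _ hm y
  have : α y = φ z := (hw 0 y).symm.trans hz
  rw [map_mul, map_mul, this, h3]

end CL.Asch
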