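import Cfsg.Agent.CLAS.AschOr3

/-!
Aschbacher's theorem for the unitary groups: subfields and small tensor factors.
-/

set_option autoImplicit false

namespace CL.Asch

open Matrix Cfsg.Geo
open scoped Kronecker MatrixGroups commutatorElement

variable {F : Type*} [Field F] {ι κ μ : Type} [Fintype ι] [DecidableEq ι] [Fintype κ] [DecidableEq κ]
  [Fintype μ] [DecidableEq μ] {σ : F →+* F} {q : ℕ}

local notation "ρ" => RingHom.id F

/-- the isometry group of a Gram matrix -/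
def isoGrp (σ : F →+* F) (G : Matrix ι ι F) : Subgroup (GL ι F) where
  carrier := {g | IsSim σ G 1 (g : Matrix ι ι F)}
  mul_mem' := fun ha hb => by simpa using IsSim.mul ha hb
  one_mem' := by simp [IsSim]
  inv_mem' := fun {a} ha => isSim_one_iff.mpr fun u v => by
    rw [← isSim_one_iff.mp ha, mulVec_inv_mulVec, mulVec_inv_mulVec]

theorem mem_isoGrp {G : Matrix ι ι F} {g : GL ι F} :
    g ∈ isoGrp σ G ↔ IsSim σ G 1 (g : Matrix ι ι F) := Iff.rfl

theorem mem_hermOf_O {G : Matrix ι ι F} (hG : Herm σ 1 G) (hσ : σ ≠ RingHom.id F) {g : GL ι F} :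
    g ∈ isoGrp σ G ↔ Orth.glEquiv ι F g ∈ (hermOf hG hσ).O := by
  rw [Witt.Form.mem_O, Witt.Form.herm_isIsom_iff, mem_isoGrp, isSim_one_iff]
  exact ⟨fun h x y => h y x, fun h x y => h y x⟩

theorem mem_hermOf_E [Finite F] {G : Matrix ι ι F} (hG : Herm σ 1 G) (hσ : σ ≠ RingHom.id F)
    {g : GL ι F} : g ∈ isoGrp σ G ⊓ specialLinear ι F ↔ Orth.glEquiv ι F g ∈ (hermOf hG hσ).E := by
  rw [Uni.E_eq_SO hσ (hermOf_nondeg hG hσ), Witt.Form.mem_SO, Uni.det_glEquiv, Subgroup.mem_inf,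
    mem_hermOf_O hG hσ, mem_specialLinear]

theorem isSim_gpull {G x : Matrix ι ι F} {a : GL ι F} {c : F} :
    IsSim σ (gpull σ G a) c x ↔ IsSim σ G c (conjAlgHom a x) := by
  simp only [isSim_iff, gf_gpull, ← conj_mulVec a x]
  exact ⟨fun h u v => by rw [← mulVec_inv_mulVec a u, ← mulVec_inv_mulVec a v, h], fun h u v => h _ _⟩

theorem irr_isoGrp [Finite F] (hn : 2 ≤ Fintype.card ι) {G : Matrix ι ι F} (hG : Herm σ 1 G)
    (hσ : ¬ ∀ a, σ a = a) : Irr (isoGrp σ G) := fun W hW => by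
  have hf := hermOf_nondeg hG (ne_id_of hσ)
  obtain ⟨x, -, hx0, hx⟩ := Witt.Form.herm_iso2 (ne_id_of hσ) (hermOf hG (ne_id_of hσ)) ⊤
    (by simpa using hn)
  by_cases h0 : W = ⊥
  · exact Or.inl h0
  refine Or.inr (hf.submodule_eq_top (Uni.herm_prim (ne_id_of hσ)).1 hx hx0 (fun u v a _ d hd => ?_) h0)
  have := hW ((Orth.glEquiv ι F).symm _) ((mem_hermOf_E hG (ne_id_of hσ)).mpr
    (by simpa using Witt.Form.ei_mem_E u v a)).1 d hd
  rwa [← Orth.glEquiv_apply, MulEquiv.apply_symm_apply] at this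

section
variable [Fintype F] (hF : Fintype.card F = q ^ 2) (hσ : ∀ a, σ a = a ^ q)
include hF hσ

theorem sig_ne : ¬ ∀ a, σ a = a := by
  obtain ⟨τ, h1, -, h2⟩ := exists_invol_of_card hF
  simpa only [h1, hσ] using h2

theorem sig_invol (a : F) : σ (σ a) = a := by
  obtain ⟨τ, h1, h2, -⟩ := exists_invol_of_card hF
  simpa only [h1, hσ] using h2 a

theorem exists_mul_sig {a : F} (ha : σ a = a) : ∃ c, c * σ c = a := by
  obtain ⟨c, hc⟩ := SqField.exists_norm_eq hF (μ := a) (by rw [← hσ, ha])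
  exact ⟨c, by rw [hσ, ← pow_succ', hc]⟩

theorem amb_su (hn : 3 ≤ Fintype.card ι) (hex : ¬ (Fintype.card ι = 3 ∧ q = 2)) {G : Matrix ι ι F}
    (hG : Herm σ 1 G) : Amb σ 1 G (fun x => gf σ G x x = 0) (isoGrp σ G)
      (isoGrp σ G ⊓ specialLinear ι F) 2 := by
  have h0 := ne_id_of (sig_ne hF hσ)
  obtain rfl : σ = Uni.sig hF := RingHom.ext hσ
  have hf := hermOf_nondeg hG h0
  exact amb_of_form hf (Uni.herm_prim h0)
    (Uni.commutator_E h0 hf (by simpa using hn) (by simpa using Uni.good_of_ne hF hn hex)) hG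
    (fun u v => ⟨hG.eq_zero_symm, hG.eq_zero_symm⟩) (fun g => (mem_hermOf_O hG h0).mp)
    (fun g => mem_hermOf_E hG h0) (Witt.Form.herm_iso2 h0 _) (by omega) (by omega)

theorem card_isoGrp {G : Matrix ι ι F} (hG : Herm σ 1 G) :
    Nat.card (isoGrp σ G) = Uni.guOrder q (Fintype.card ι) := by
  have h0 := ne_id_of (sig_ne hF hσ)
  obtain rfl : σ = Uni.sig hF := RingHom.ext hσ
  have := Uni.card_O (hF := hF) (hermOf_nondeg hG h0)
  rw [Module.finrank_fintype_fun_eq_card] at this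
  rw [← this]
  exact Nat.card_congr ((Orth.glEquiv ι F).toEquiv.subtypeEquiv fun g => mem_hermOf_O hG h0)

theorem card_suGrp [Nonempty ι] {G : Matrix ι ι F} (hG : Herm σ 1 G) :
    (q + 1) * Nat.card (isoGrp σ G ⊓ specialLinear ι F : Subgroup _) =
      Uni.guOrder q (Fintype.card ι) := by
  have h0 := ne_id_of (sig_ne hF hσ)
  obtain rfl : σ = Uni.sig hF := RingHom.ext hσ
  have := Uni.card_SO (hF := hF) (hermOf_nondeg hG h0) (by simp [Fintype.card_pos])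
  rw [Module.finrank_fintype_fun_eq_card, ← Uni.E_eq_SO h0 (hermOf_nondeg hG h0)] at this
  rw [← this]
  exact congrArg _ (Nat.card_congr ((Orth.glEquiv ι F).toEquiv.subtypeEquiv fun g => mem_hermOf_E hG h0))

theorem two_le_q : 2 ≤ q := by
  have := Fintype.one_lt_card (α := F)
  rw [hF] at this
  by_contra h
  interval_cases q <;> simp at this

theorem exists_not_fixed {F₀ : Subfield F} {r : ℕ} (hr : Odd r)
    (hc : Fintype.card F = Nat.card F₀ ^ r) : ∃ a ∈ F₀, σ a ≠ a := by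
  by_contra h
  push Not at h
  obtain ⟨S, hS, hS'⟩ := exists_subfield_of_card (L := F) (Q := q) (j := 2) (by simpa using hF)
  have := Subfield.relfinrank_mul_finrank_top (show F₀ ≤ S from fun a ha => (hS a).mpr (hσ a ▸ h a ha))
  rw [finrank_subfield hc, finrank_subfield (r := 2) (by rw [hS', hF])] at this
  exact Nat.not_even_iff_odd.mpr hr ⟨_, by rw [← this, mul_two]⟩

theorem odd_card_iff : Odd (Fintype.card F) ↔ Odd q := by
  rw [hF, Nat.odd_pow_iff two_ne_zero]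

theorem rat_one {G : Matrix ι ι F} (hG : Herm σ 1 G) {F₀ : Subfield F} (h0 : ∀ c ∈ F₀, σ c ∈ F₀)
    {P : GL ι F} {ζ : F} (h : ∀ a b, ζ * gpull σ G P a b ∈ F₀) (hζ : ζ + σ ζ ≠ 0) :
    ∃ P', (∀ a b, 1 * gpull σ G P' a b ∈ F₀) ∧ subfieldSubgroup F₀ P' = subfieldSubgroup F₀ P := by
  obtain ⟨c, hc⟩ := exists_mul_sig hF hσ (a := ζ + σ ζ) (by rw [map_add, hG.invol, add_comm])
  have hc0 : c ≠ 0 := by rintro rfl; exact hζ (by rw [← hc, zero_mul])
  refine ⟨P * scGL ι c hc0, fun a b => ?_, subfieldSubgroup_mul_scalar _ _ (scGL_mem c hc0)⟩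
  have h1 := h0 _ (h b a)
  have h2 := congrFun (congrFun (hG.gpull P).herm a) b
  rw [map_mul, show σ (gpull σ G P b a) = _ from h2] at h1
  rw [gpull_mul_scGL, hc, one_mul, Matrix.smul_apply, smul_eq_mul, add_mul]
  exact F₀.add_mem (h a b) (by simpa using h1)

omit hF hσ in
theorem rat_alt (hn : 2 ≤ Fintype.card ι) {G : Matrix ι ι F} (hG : Herm σ 1 G)
    {H : Subgroup (GL ι F)} (hirr : Irr H) (hH : ∀ h ∈ H, IsSim σ G 1 (h : Matrix ι ι F))
    {F₀ : Subfield F} (h0 : ∀ c ∈ F₀, σ c = c) {P : GL ι F} (hle : H ≤ subfieldSubgroup F₀ P)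
    {ζ : F} (h : ∀ a b, ζ * gpull σ G P a b ∈ F₀) (hζ0 : ζ ≠ 0) (hζ : ζ + σ ζ = 0) :
    Even (Fintype.card ι) ∧ ∀ u : ι → F, (∀ i, u i ∈ F₀) →
      gf σ G ((P : Matrix ι ι F) *ᵥ u) ((P : Matrix ι ι F) *ᵥ u) = 0 := by
  have hB : Herm ρ (-1) (ζ • gpull σ G P) := by
    refine ⟨fun _ => rfl, ?_, ?_, Or.inr ⟨rfl, fun _ => rfl⟩⟩
    · rw [det_smul]; exact mul_ne_zero (pow_ne_zero _ hζ0) (hG.gpull P).det_ne
    · ext a b
      have h1 := h0 _ (h b a)
      have h2 := congrFun (congrFun (hG.gpull P).herm a) b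
      rw [map_mul, show σ (gpull σ G P b a) = _ from h2] at h1
      simp only [Matrix.smul_apply, smul_eq_mul, one_mul, transpose_apply, map_apply, RingHom.id_apply] at h1 ⊢
      linear_combination -h1 + gpull σ G P a b * hζ
  have halt : ∀ v, gf ρ (ζ • gpull σ G P) v v = 0 := by
    by_cases h2 : (2 : F) = 0
    swap
    · exact hB.alt_of_two_ne h2
    intro v
    have := alt_of_irr_char_two hn h2 (hB.gpull P⁻¹) hirr (fun g hg => ?_) ((P : Matrix ι ι F) *ᵥ v)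
    · rwa [gf_gpull, inv_mulVec_mulVec] at this
    obtain ⟨c, hc, h3⟩ := (mem_subfieldSubgroup_iff _ _ _).mp (hle hg)
    have h4 : IsSim σ (gpull σ G P) _ (c • conjAlgHom P⁻¹ g) :=
      (isSim_gpull.mpr (by rw [conjAlgHom_cancel_inv]; exact hH g hg)).smul c
    rw [IsSim, show (c • conjAlgHom P⁻¹ g).map σ = (c • conjAlgHom P⁻¹ g).map ρ from
      Matrix.ext fun i j => h0 _ (h3 i j)] at h4
    have h5 := (IsSim.smul (σ := ρ) h4 c⁻¹).smul_gram ζ
    rw [smul_smul, inv_mul_cancel₀ hc, one_smul] at h5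
    exact ⟨_, isSim_gpull.mpr h5⟩
  refine ⟨even_card_of_gf hB.det_ne halt, fun u hu => ?_⟩
  have := halt u
  rw [gf_smul_gram, mul_eq_zero, or_iff_right hζ0] at this
  rw [← gf_gpull, gf, show σ ∘ u = u from funext fun i => h0 _ (hu i)]
  exact this

/-- the three kinds of subfield subgroups -/
theorem su_subring (hn : 2 ≤ Fintype.card ι) {G : Matrix ι ι F} (hG : Herm σ 1 G)
    {H : Subgroup (GL ι F)} (hirr : Irr H) (hH : ∀ h ∈ H, IsSim σ G 1 (h : Matrix ι ι F))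
    (A : Subring (Matrix ι ι F)) (hspan : ∀ W : Submodule F (Matrix ι ι F), (∀ x ∈ A, x ∈ W) → W = ⊤)
    (hc : ∃ c : F, c • (1 : Matrix ι ι F) ∉ A) (hN : ∀ h ∈ H, ∀ x ∈ A, conjAlgHom h x ∈ A)
    (hA : ∀ x ∈ A, ∃ y ∈ A, IsAdj σ G x y) :
    ∃ (F₀ : Subfield F) (r : ℕ) (P : GL ι F) (ζ : F), r.Prime ∧ Fintype.card F = Nat.card F₀ ^ r ∧
      IsFormRationalStructure (gf σ G) F₀ ζ P ∧ H ≤ subfieldSubgroup F₀ P ∧
      ((Odd r ∧ ζ = 1) ∨ (r = 2 ∧ Odd q ∧ ζ = 1) ∨ (r = 2 ∧ Even (Fintype.card ι) ∧ ζ ≠ 0 ∧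
        ζ + ζ ^ q = 0 ∧ ∀ u : ι → F, (∀ i, u i ∈ F₀) →
          gf σ G ((P : Matrix ι ι F) *ᵥ u) ((P : Matrix ι ι F) *ᵥ u) = 0)) := by
  haveI := nonempty_of_two_le hn
  obtain ⟨F₀, r, P, hr, hcard, hm, hle, h2⟩ := exists_subfield_class A hspan hc hN
  obtain ⟨ζ, hζ0, hζ⟩ := h2 σ 1 G hG hA
  have h0 : ∀ c ∈ F₀, σ c ∈ F₀ := map_mem_of_pow hm
  rcases hr.eq_two_or_odd' with rfl | ho
  · have h1 : ∀ c ∈ F₀, σ c = c := fun c hc => by
      rw [hσ, ← (pow_left_inj₀ (Nat.zero_le _) (Nat.zero_le _) two_ne_zero).mp (hcard.symm.trans hF)]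
      exact (hm c).mp hc
    by_cases h3 : ζ + σ ζ = 0
    · obtain ⟨h4, h5⟩ := rat_alt hn hG hirr hH h1 hle hζ hζ0 h3
      exact ⟨F₀, 2, P, ζ, hr, hcard, isFormRationalStructure_of hζ h0, hle,
        .inr (.inr ⟨rfl, h4, hζ0, hσ ζ ▸ h3, h5⟩)⟩
    obtain ⟨P', h4, h5⟩ := rat_one hF hσ hG h0 hζ h3
    rw [← h5] at hle
    refine ⟨F₀, 2, P', 1, hr, hcard, isFormRationalStructure_of h4 h0, hle, .inr ?_⟩
    by_cases hq : Odd q
    · exact .inl ⟨rfl, hq, rfl⟩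
    have h6 : (1 : F) + 1 = 0 := by
      rw [one_add_one_eq_two]; exact two_eq_zero_of_not_odd (mt (odd_card_iff hF hσ).mp hq)
    obtain ⟨h7, h8⟩ := rat_alt hn hG hirr hH h1 hle h4 one_ne_zero (by rwa [map_one])
    exact .inr ⟨rfl, h7, one_ne_zero, by rwa [one_pow], h8⟩
  · obtain ⟨P', h4, h5⟩ : ∃ P', (∀ a b, 1 * gpull σ G P' a b ∈ F₀) ∧
        subfieldSubgroup F₀ P' = subfieldSubgroup F₀ P := by
      by_cases h3 : ζ + σ ζ = 0
      swap
      · exact rat_one hF hσ hG h0 hζ h3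
      obtain ⟨a, ha, ha'⟩ := exists_not_fixed hF hσ ho hcard
      refine rat_one hF hσ hG h0 (ζ := a * ζ) (fun i j => ?_) fun h => ha' ?_
      · rw [mul_assoc]; exact F₀.mul_mem ha (hζ i j)
      · rw [map_mul] at h
        exact mul_right_cancel₀ hζ0 (by linear_combination σ a * h3 - h)
    exact ⟨F₀, r, P', 1, hr, hcard, isFormRationalStructure_of h4 h0, h5 ▸ hle, .inl ⟨ho, rfl⟩⟩

end

/-- the matrices with the same adjoint for a hermitian and a bilinear form -/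
def twoAdj (σ : F →+* F) (G B : Matrix ι ι F) : Subring (Matrix ι ι F) where
  carrier := {x | ∃ y, IsAdj σ G x y ∧ IsAdj (RingHom.id F) B x y}
  mul_mem' := fun ⟨_, h1, h2⟩ ⟨_, h3, h4⟩ => ⟨_, h1.mul h3, h2.mul h4⟩
  one_mem' := ⟨1, isAdj_one G, isAdj_one B⟩
  add_mem' := fun ⟨_, h1, h2⟩ ⟨_, h3, h4⟩ => ⟨_, h1.add h3, h2.add h4⟩
  zero_mem' := ⟨0, isAdj_zero G, isAdj_zero B⟩
  neg_mem' := fun ⟨_, h1, h2⟩ => ⟨_, h1.neg, h2.neg⟩

theorem twoAdj_scalar [Nonempty ι] {ε ε' : F} {G B : Matrix ι ι F} (hG : Herm σ ε G) (hB : Herm ρ ε' B)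
    (hσ : ¬ ∀ a, σ a = a) : ∃ c : F, c • (1 : Matrix ι ι F) ∉ twoAdj σ G B := by
  push Not at hσ
  obtain ⟨c, hc⟩ := hσ
  refine ⟨c, fun ⟨y, h1, h2⟩ => hc (smul_one_inj (ι := ι) ?_)⟩
  rw [← h1.unique hG.det_ne ((isAdj_one G).smul hG.invol c),
    h2.unique hB.det_ne ((isAdj_one B).smul hB.invol c)]
  rfl

theorem twoAdj_adj {ε ε' : F} {G B : Matrix ι ι F} (hG : Herm σ ε G) (hB : Herm ρ ε' B) :
    ∀ x ∈ twoAdj σ G B, ∃ y ∈ twoAdj σ G B, IsAdj σ G x y := fun x ⟨y, h1, h2⟩ =>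
  ⟨y, ⟨x, hG.isAdj_symm h1, hB.isAdj_symm h2⟩, h1⟩

theorem twoAdj_conj {G B : Matrix ι ι F} {g : GL ι F} {c d : F} (h : IsSim σ G c g)
    (h' : IsSim ρ B d g) : ∀ x ∈ twoAdj σ G B, conjAlgHom g x ∈ twoAdj σ G B :=
  fun _ ⟨_, h1, h2⟩ => ⟨_, h1.conj h, h2.conj h'⟩

theorem mem_of_twoAdj {ε : F} {G B : Matrix ι ι F} (hG : Herm σ ε G) (hσ : ¬ ∀ a, σ a = a)
    {W : Submodule F (Matrix ι ι F)} (hW : ∀ x ∈ twoAdj σ G B, x ∈ W) {x y z w : Matrix ι ι F}
    (h1 : IsAdj σ G x y) (h2 : IsAdj ρ B x z) (h3 : IsAdj σ G w z) (h4 : IsAdj ρ B w y) : x ∈ W := by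
  push Not at hσ
  obtain ⟨c, hc⟩ := hσ
  have key : ∀ a : F, a • x + σ a • w ∈ W := fun a => hW _ ⟨_,
    (h1.smul hG.invol a).add (h3.smul hG.invol _), by
      rw [hG.invol, add_comm (σ a • y)]
      exact (h2.smul (fun _ => rfl) a).add (h4.smul (fun _ => rfl) _)⟩
  have := W.smul_mem (c - σ c)⁻¹ (W.sub_mem (key c) (W.smul_mem (σ c) (key 1)))
  rwa [map_one, one_smul, one_smul, smul_add, add_sub_add_right_eq_sub, ← sub_smul, smul_smul,
    inv_mul_cancel₀ (sub_ne_zero.mpr hc.symm), one_smul] at this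

theorem pureM_mem {t : ℕ} {A : Submonoid (Matrix (Fin t → κ) (Fin t → κ) F)} {x : Fin t → Matrix κ κ F}
    (h : ∀ i, embT i (x i) ∈ A) : pureM x ∈ A :=
  Submonoid.pi_mem_of_mulSingle_mem
    (H := A.comap (⟨⟨pureM, pureM_one⟩, fun x y => (pureM_mul x y).symm⟩ : _ →* _)) x h

theorem TensorFam.eq_top {H : Subgroup (GL ι F)} {m t : ℕ}
    {φ : Fin t → (Matrix (Fin m) (Fin m) F →ₐ[F] Matrix ι ι F)} (h : TensorFam H φ)
    (A : Subalgebra F (Matrix ι ι F)) (hA : ∀ i x, φ i x ∈ A) : A = ⊤ := by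
  obtain ⟨e, P, h1, -⟩ := h.exists_coord
  refine top_unique fun y _ => ?_
  obtain ⟨y, rfl⟩ := (coord_bijective e P).2 y
  rw [matrix_eq_sum_single y]
  change _ ∈ A.comap (coord e P)
  refine sum_mem fun a _ => sum_mem fun b _ => ?_
  rw [← mul_one (y a b), ← smul_eq_mul, ← smul_single, ← pureM_single]
  exact Subalgebra.smul_mem _ (pureM_mem (A := (A.comap (coord e P)).toSubmonoid) fun i =>
    show coord e P _ ∈ A from h1 i _ ▸ hA i _) _

theorem eq_top_of_adjoin {A : Subring (Matrix ι ι F)} (h : Algebra.adjoin F (A : Set (Matrix ι ι F)) = ⊤)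
    (W : Submodule F (Matrix ι ι F)) (hW : ∀ x ∈ A, x ∈ W) : W = ⊤ := by
  have := Algebra.adjoin_eq_span F (A : Set (Matrix ι ι F))
  rw [h, show Submonoid.closure (A : Set (Matrix ι ι F)) = A.toSubmonoid from Submonoid.closure_eq _] at this
  exact top_unique (this.le.trans (Submodule.span_le.mpr hW))

theorem IsAdj.trace_eq {G x y : Matrix ι ι F} (hG : G.det ≠ 0) (h : IsAdj σ G x y) :
    trace x = σ (trace y) := by
  have h1 := mul_nonsing_inv G (Ne.isUnit hG)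
  rw [← trace_transpose, ← mul_one xᵀ, ← h1, ← mul_assoc, h, trace_mul_cycle,
    nonsing_inv_mul G (Ne.isUnit hG), one_mul, AddMonoidHom.map_trace σ]

theorem adjugate_two (x : Matrix (Fin 2) (Fin 2) F) : adjugate x = trace x • (1 : Matrix _ _ F) - x := by
  ext i j; fin_cases i <;> fin_cases j <;> simp [adjugate_fin_two, trace_fin_two]

theorem TFForm.span_two {ε ε₁ : F} {G : Matrix ι ι F} (hG : Herm σ ε G) (hσ : ¬ ∀ a, σ a = a)
    {H : Subgroup (GL ι F)} {t : ℕ} {φ : Fin t → (Matrix (Fin 2) (Fin 2) F →ₐ[F] Matrix ι ι F)} {G₁}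
    (h : TFForm σ G H φ ε₁ G₁) : ∃ ε' B, Herm ρ ε' B ∧ (∀ g ∈ H, ∃ c, IsSim ρ B c (g : Matrix ι ι F)) ∧
      ∀ W : Submodule F (Matrix ι ι F), (∀ x ∈ twoAdj σ G B, x ∈ W) → W = ⊤ := by
  obtain ⟨B, hB, h1, h2⟩ := h.fam.exists_form_two
  refine ⟨_, B, hB, h2, eq_top_of_adjoin (h.fam.eq_top _ fun i x => ?_)⟩
  obtain ⟨y, hy⟩ := exists_isAdj hG.invol h.herm.det_ne x
  refine mem_of_twoAdj hG hσ (W := (Algebra.adjoin F _).toSubmodule) (fun x hx => Algebra.subset_adjoin hx)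
    ((h.adj i _ _).mp hy) (h1 i x) ((h.adj i (adjugate y) _).mp ?_) ?_
  · rw [adjugate_two, adjugate_two, hy.trace_eq h.herm.det_ne]
    exact ((isAdj_one _).smul hG.invol _).sub (h.herm.isAdj_symm hy)
  · simpa [adjugate_adjugate] using h1 i (adjugate y)

theorem IsSim.fixed [Nonempty ι] {ε c : F} {G g : Matrix ι ι F} (hG : Herm σ ε G) (h : IsSim σ G c g) :
    σ c = c := by
  obtain ⟨a, b, hab⟩ := exists_ne_zero_of_det hG.det_ne
  have h1 := hG.swap (g *ᵥ Pi.single b 1) (g *ᵥ Pi.single a 1)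
  rw [isSim_iff.mp h, isSim_iff.mp h, map_mul, hG.swap, gf_single] at h1
  exact mul_right_cancel₀ (mul_ne_zero hG.eps_ne hab) (by linear_combination h1)

theorem sim_eq_iso_two [Nonempty ι] (hσ : ∀ a, σ a = a ^ 2) {G : Matrix ι ι F} (hG : Herm σ 1 G) :
    similarityGroup (gf σ G) = isoGrp σ G := by
  ext g
  rw [mem_similarityGroup hG.det_ne]
  refine ⟨fun ⟨c, hc⟩ => ?_, fun h => ⟨1, h⟩⟩
  have := hc.fixed hG
  rw [hσ, sq, mul_right_eq_self₀, or_iff_left (hc.ne_zero hG.det_ne)] at this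
  subst this
  exact hc

theorem exists_nil2_three [Fintype F] (hF : Fintype.card F = 2 ^ 2) (hσ : ∀ a, σ a = a ^ 2)
    {G : Matrix (Fin 3) (Fin 3) F} (hG : Herm σ 1 G) :
    (∃ D, CommAlg σ G (similarityGroup (gf σ G)) D) ∨ ∃ R, Nil2 (isoGrp σ G) R := by
  have hirr := irr_isoGrp (by simp) hG (sig_ne hF hσ)
  rw [sim_eq_iso_two hσ hG]
  rcases core (by simp) _ hirr with ⟨N, hNH, hN, z, hz, hz1, hz2⟩ | ⟨N, hNH, hN, k, φ, hk, hkn, hφ⟩ |
    ⟨N, hNH, hN, htop, hc⟩ | h | ⟨m, t, φ, hφ⟩ | ⟨N, hN, htop, hsc⟩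
  · exact .inl ⟨_, commAlg_zalg hG hN hNH hz hz1 hz2⟩
  · haveI : NeZero k := ⟨by omega⟩
    have := card_dvd_of_algHom φ
    simp only [Fintype.card_fin] at this hkn
    interval_cases k
    simp at this
  · obtain ⟨F₀, r, P, ζ, hr, h1, -, -, h2⟩ := su_subring hF hσ (by simp) hG hirr (fun _ h => h) (rclos N)
      (span_rclos htop) hc (fun h hh => conj_mem_rclos (hN h hh)) (isAdj_rclos hNH)
    rcases h2 with ⟨h, -⟩ | ⟨-, h, -⟩ | ⟨-, h, -⟩
    · have h3 : Nat.card F₀ ^ r = 2 ^ 2 := h1.symm.trans hF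
      have h4 := Nat.pow_le_pow_left (show 2 ≤ _ from Finite.one_lt_card (α := F₀)) r
      have h5 := Nat.pow_le_pow_right two_pos
        (show 3 ≤ r by have := hr.two_le; rw [Nat.odd_iff] at h; omega)
      omega
    · exact absurd h (by decide)
    · exact absurd h (by decide)
  · exact .inr h
  · have h1 := hφ.card
    have h2 := Nat.pow_le_pow_left hφ.two_le_m t
    have h3 := Nat.pow_le_pow_right two_pos hφ.two_le_t
    simp only [Fintype.card_fin] at h1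
    omega
  · refine (not_perfect_of_card (by simp) (AlgHom.id F _) hN.perfect (by simpa using htop.symm)
      (isoGrp σ G) (fun a ha => hN.le ha) (a := 3) (b := 4) ?_).elim
    rw [card_isoGrp hF hσ hG]
    decide

theorem Nil2.exists_comm [Nonempty ι] {U R : Subgroup (GL ι F)} (h : Nil2 U R) {a : GL ι F} (ha : a ∈ R)
    (hs : a ∉ scalars ι F) : ∃ u ∈ U, u * a * u⁻¹ * a⁻¹ ∉ scalars ι F := by
  by_contra h0
  push Not at h0
  have h1 : a ∈ Subgroup.zpowers a ⊔ scalars ι F := Subgroup.mem_sup_left (Subgroup.mem_zpowers a)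
  have h4 : ∀ u ∈ U, Subgroup.zpowers a ⊔ scalars ι F ≤
      (Subgroup.zpowers a ⊔ scalars ι F).comap (MulAut.conj u).toMonoidHom := fun u hu =>
    sup_le (Subgroup.zpowers_le.mpr (by simpa using mul_mem (Subgroup.mem_sup_right (h0 u hu)) h1))
      fun z hz => Subgroup.mem_comap.mpr (Subgroup.mem_sup_right (scalars_normal.conj_mem z hz u))
  rcases h.min ((Subgroup.zpowers a ⊔ scalars ι F) ⊓ R) inf_le_right (fun u hu x hx =>
    ⟨h4 u hu hx.1, h.norm u hu x hx.2⟩) with h2 | h2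
  · exact hs (h2 ⟨h1, ha⟩)
  · refine hs (mem_scalars'.mpr (scalar_of_alg_top h.top _ fun x hx => ?_))
    have h3 : Subgroup.zpowers a ⊔ scalars ι F ≤ Subgroup.centralizer {a} :=
      sup_le (Subgroup.zpowers_le.mpr (Subgroup.mem_centralizer_singleton_iff.mpr rfl)) fun z hz =>
        Subgroup.mem_centralizer_singleton_iff.mpr (scalars_comm hz a)
    rw [← h2] at hx
    rw [← Units.val_mul, ← Subgroup.mem_centralizer_singleton_iff.mp (h3 hx.1), Units.val_mul]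

theorem TensorFam.exists_piGL {H : Subgroup (GL ι F)} {m t : ℕ}
    {φ : Fin t → (Matrix (Fin m) (Fin m) F →ₐ[F] Matrix ι ι F)} (h : TensorFam H φ) :
    (∃ Φ : (Fin t → GL (Fin m) F) →* GL ι F, ∀ i a, (Φ (Pi.mulSingle i a) : Matrix ι ι F) = φ i a) ∧
      ∀ s : Equiv.Perm (Fin t), ∃ g : GL ι F, ∀ k x, conjAlgHom g (φ k x) = φ (s k) (conjAlgHom 1 x) := by
  obtain ⟨e, P, hφ, -⟩ := h.exists_coord
  refine ⟨⟨(coordGL e P).toMonoidHom.comp (MonoidHom.mk' pureGL fun x y => Units.ext (pureM_mul _ _).symm),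
    fun i a => ?_⟩, fun s => ⟨coordGL e P (permTGL _ F s), fun k x => ?_⟩⟩
  · rw [hφ, embT_apply]
    refine (coe_coordGL e P _).trans (congrArg _ (congrArg pureM (funext fun j => ?_)))
    by_cases hj : j = i
    · subst hj; simp
    · simp [Function.update_of_ne hj, Pi.mulSingle_eq_of_ne hj]
  · rw [hφ, conj_coord, conj_permTGL_embT, hφ, conjAlgHom_one]

theorem TFForm.nil2 [Finite F] {ε ε₁ : F} {G : Matrix ι ι F} (hG : Herm σ ε G) {H : Subgroup (GL ι F)}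
    (hH : ∀ h ∈ H, IsSim σ G 1 (h : Matrix ι ι F)) {m t : ℕ}
    {φ : Fin t → (Matrix (Fin m) (Fin m) F →ₐ[F] Matrix ι ι F)} {G₁} (h : TFForm σ G H φ ε₁ G₁)
    (hs : similarityGroup (gf σ G₁) = isoGrp σ G₁) {R₁ : Subgroup (GL (Fin m) F)}
    (hR : Nil2 (isoGrp σ G₁) R₁) :
    ∃ R, Nil2 (subgroupNormalizer R) R ∧ H ≤ subgroupNormalizer R ∧ R ≤ isoGrp σ G := by
  haveI := h.fam.neZero
  haveI := h.fam.nonempty
  obtain ⟨⟨Φ, h1⟩, hsw⟩ := h.fam.exists_piGL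
  have ind : ∀ (K : Subgroup (GL ι F)) a, (∀ i, Φ (Pi.mulSingle i (a i)) ∈ K) → Φ a ∈ K :=
    fun K a => Subgroup.pi_mem_of_mulSingle_mem (H := K.comap Φ) a
  set R := (Subgroup.pi Set.univ fun _ => R₁).map Φ
  have h2 : ∀ i, ∀ a ∈ R₁, Φ (Pi.mulSingle i a) ∈ R := fun i a ha =>
    ⟨_, Subgroup.mulSingle_mem_pi i a |>.mpr fun _ => ha, rfl⟩
  have h3 : ∀ (g : GL ι F) (s : Fin t → Fin t) (a : Fin t → GL (Fin m) F), (∀ i, a i ∈ isoGrp σ G₁) →
      (∀ i x, conjAlgHom g (φ i x) = φ (s i) (conjAlgHom (a i) x)) → g ∈ subgroupNormalizer R := by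
    intro g s a ha hg
    refine Subgroup.mem_normalizer_fintype ?_
    rintro _ ⟨b, hb, rfl⟩
    refine ind (R.comap (MulAut.conj g).toMonoidHom) b fun i => ?_
    have := h2 (s i) _ (hR.norm _ (ha i) _ (hb i trivial))
    rwa [show Φ (Pi.mulSingle (s i) _) = g * Φ (Pi.mulSingle i (b i)) * g⁻¹ from Units.ext (by
      rw [← conjAlgHom_coe, h1, h1, hg, conjAlgHom_coe])] at this
  have h4 : ∀ a, (∀ i, a i ∈ scalars (Fin m) F) → Φ a ∈ scalars ι F := fun a ha => ind _ a fun i => by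
    obtain ⟨c, hc⟩ := mem_scalars'.mp (ha i)
    exact mem_scalars'.mpr ⟨c, by rw [h1, hc, map_smul, map_one]⟩
  have h5 : ∀ i, ∀ u ∈ isoGrp σ G₁, Φ (Pi.mulSingle i u) ∈ subgroupNormalizer R := fun i u hu => by
    refine Subgroup.mem_normalizer_fintype ?_
    rintro _ ⟨b, hb, rfl⟩
    refine ⟨_, fun j _ => hR.norm (Pi.mulSingle (M := fun _ => GL (Fin m) F) i u j) ?_ _ (hb j trivial),
      by rw [← map_inv, ← map_mul, ← map_mul]; rfl⟩
    exact Subgroup.mulSingle_mem_pi (I := Set.univ) (H := fun _ => isoGrp σ G₁) i u |>.mpr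
      (fun _ => hu) j trivial
  refine ⟨R, ⟨Subgroup.le_normalizer, fun g hg x hx => (hg x).mp hx, h.fam.eq_top _ fun i x => ?_,
    fun c => ?_, Subgroup.commutator_le.mpr ?_, fun M hM hN => ?_⟩, fun g hg => ?_, ?_⟩
  · exact (hR.top.ge.trans (alg_le (A := (alg R).comap (φ i)) fun a ha =>
      show φ i a ∈ alg R from h1 i a ▸ mem_alg (h2 i a ha))) trivial
  · let i : Fin t := ⟨0, by have := h.fam.two_le_t; omega⟩
    simpa using rclos_le (A := (rclos R).comap (φ i).toRingHom) (fun a ha =>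
      show φ i a ∈ rclos R from h1 i a ▸ mem_rclos (h2 i a ha)) (hR.scal c)
  · rintro _ ⟨a, ha, rfl⟩ _ ⟨b, hb, rfl⟩
    rw [← map_commutatorElement]
    exact h4 _ fun i => hR.comm (Subgroup.commutator_mem_commutator (ha i trivial) (hb i trivial))
  · refine or_iff_not_imp_left.mpr fun hns => le_antisymm hM ?_
    obtain ⟨_, hx, hx'⟩ := SetLike.not_le_iff_exists.mp hns
    obtain ⟨a, ha, rfl⟩ := hM hx
    obtain ⟨i, hi⟩ := not_forall.mp (mt (h4 a) hx')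
    obtain ⟨u, hu, hu'⟩ := hR.exists_comm (a := a i) (ha i trivial) hi
    have hai : a i ∈ R₁ := ha i trivial
    have h8 : Φ (Pi.mulSingle i (u * a i * u⁻¹ * (a i)⁻¹)) ∈ M := by
      have := mul_mem (hN _ (h5 i u hu) _ hx) (inv_mem hx)
      rw [← map_inv, ← map_inv, ← map_mul, ← map_mul, ← map_mul] at this
      convert this using 2
      funext j
      by_cases hj : j = i
      · subst hj; simp
      · simp [Pi.mulSingle_eq_of_ne hj]
    have h9 : NormBy (isoGrp σ G₁) 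
        (M.comap (Φ.comp (MonoidHom.mulSingle (fun _ => GL (Fin m) F) i)) ⊓ R₁) := fun v hv y hy => by
      refine ⟨?_, hR.norm v hv y hy.2⟩
      have := hN _ (h5 i v hv) (Φ (Pi.mulSingle i y)) hy.1
      rw [← map_inv, ← map_mul, ← map_mul, ← Pi.mulSingle_inv, ← Pi.mulSingle_mul,
        ← Pi.mulSingle_mul] at this
      exact this
    have h6 := (hR.min _ inf_le_right h9).resolve_left fun h7 =>
      hu' (h7 ⟨h8, R₁.mul_mem (hR.norm u hu _ hai) (R₁.inv_mem hai)⟩)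
    rintro _ ⟨b, hb, rfl⟩
    refine ind _ b fun j => ?_
    obtain ⟨g, h7⟩ := hsw (Equiv.swap i j)
    have := hN _ (h3 _ _ 1 (fun _ => one_mem _) h7) _ (h6.ge (hb j trivial)).1
    convert this using 1
    refine Units.ext ?_
    rw [← conjAlgHom_coe, h1]
    exact ((congrArg _ (h1 i _)).trans (by rw [h7, Equiv.swap_apply_left, conjAlgHom_one])).symm
  · obtain ⟨s, a, h6, h7⟩ := h.exists_conj hG hg (hH g hg)
    exact h3 g s a (fun i => hs ▸ (mem_similarityGroup h.herm.det_ne).mpr (h7 i)) h6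
  · rintro _ ⟨a, ha, rfl⟩
    refine ind _ a fun i => IsSim.of_isAdj_inv ?_
    rw [← map_inv, ← Pi.mulSingle_inv, h1, h1]
    exact (h.adj i _ _).mp (IsSim.isAdj_inv (hR.le (ha i trivial)))

end CL.Asch
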