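import Cfsg.Agent.CLAS.AschSu1
import Cfsg.Agent.CLAS.NonMaxDec

/-!
Aschbacher's theorem for the unitary groups.
-/

set_option autoImplicit false

namespace CL.Asch

open Matrix Cfsg.Geo
open scoped Kronecker MatrixGroups commutatorElement

variable {F : Type*} [Field F] {ι κ μ : Type} [Fintype ι] [DecidableEq ι] [Fintype κ] [DecidableEq κ]
  [Fintype μ] [DecidableEq μ] {σ : F →+* F} {q : ℕ}

local notation "ρ" => RingHom.id F

/-- the geometric subgroups for a hermitian form -/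
inductive SuCls [Fintype F] (σ : F →+* F) (q : ℕ) (G : Matrix ι ι F) : Subgroup (GL ι F) → Prop
  | ts (W : Submodule F (ι → F)) (h0 : W ≠ ⊥) (h : IsTotallySingularFor (gf σ G) W) :
      SuCls σ q G (subspaceStabilizer W)
  | nd (W : Submodule F (ι → F)) (h0 : W ≠ ⊥) (h : IsNondegenerateOn (gf σ G) W)
      (hd : 2 * Module.finrank F W < Fintype.card ι) : SuCls σ q G (subspaceStabilizer W)
  | dec (t m : ℕ) (D : Fin t → Submodule F (ι → F)) (h : IsNondegenerateMDecomposition (gf σ G) m D) :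
      SuCls σ q G (decompositionStabilizer D)
  | pair (m : ℕ) (D : Fin 2 → Submodule F (ι → F)) (h : IsMDecomposition m D)
      (hts : ∀ i, IsTotallySingularFor (gf σ G) (D i)) : SuCls σ q G (decompositionStabilizer D)
  | fld (r : ℕ) (K : Subalgebra F (Matrix ι ι F)) (hr : r.Prime) (ho : Odd r) (hK : IsFieldSubalgebra r K)
      (ha : ∀ x ∈ K, ∃ y ∈ K, IsAdj σ G x y) : SuCls σ q G (subalgebraNormalizer K)
  | tens (k l : ℕ) (e : ι ≃ Fin k × Fin l) (P : GL ι F) (c : F) (hk : 2 ≤ k) (hkl : k < l)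
      (hex : k = 2 → 3 ≤ q) (hc : c ≠ 0)
      (h : cpull σ G e P = c • ((1 : Matrix (Fin k) (Fin k) F) ⊗ₖ (1 : Matrix (Fin l) (Fin l) F))) :
      SuCls σ q G (tensorProductSubgroup k l e P)
  | sub (F₀ : Subfield F) (r : ℕ) (P : GL ι F) (hr : r.Prime) (ho : Odd r)
      (hc : Fintype.card F = Nat.card F₀ ^ r) (h : IsFormRationalStructure (gf σ G) F₀ 1 P) :
      SuCls σ q G (subfieldSubgroup F₀ P)
  | so (hq : Odd q) (F₀ : Subfield F) (P : GL ι F) (hc : Fintype.card F = Nat.card F₀ ^ 2)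
      (h : IsFormRationalStructure (gf σ G) F₀ 1 P) : SuCls σ q G (subfieldSubgroup F₀ P)
  | sp (hn : Even (Fintype.card ι)) (F₀ : Subfield F) (P : GL ι F) (ζ : F)
      (hc : Fintype.card F = Nat.card F₀ ^ 2) (h0 : ζ ≠ 0) (hζ : ζ + ζ ^ q = 0)
      (h : IsFormRationalStructure (gf σ G) F₀ ζ P) (halt : ∀ u : ι → F, (∀ i, u i ∈ F₀) →
        gf σ G ((P : Matrix ι ι F) *ᵥ u) ((P : Matrix ι ι F) *ᵥ u) = 0) :
      SuCls σ q G (subfieldSubgroup F₀ P)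
  | c6 (r k p e : ℕ) (R : Subgroup (GL ι F)) (h : IsSymplecticTypeGroup r R) (htop : alg R = ⊤)
      (hc : ⁅R, R⁆ ≤ scalars ι F) (hR : R ≤ isoGrp σ G) (hrp : r ≠ p)
      (hm : IsMinimalFieldFor (Nat.card (Subgroup.center R)) p e F) (hk : 1 ≤ k)
      (hn : Fintype.card ι = r ^ k)
      (hZ : (Odd r ∧ Nat.card (Subgroup.center R) = r ∧ Nat.card R = r ^ (1 + 2 * k)) ∨
        (r = 2 ∧ e = 2 ∧ Nat.card (Subgroup.center R) = 4 ∧ Nat.card R = 2 ^ (2 + 2 * k))) :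
      SuCls σ q G (subgroupNormalizer R)
  | pow (m t : ℕ) (e : ι ≃ (Fin t → Fin m)) (P : GL ι F) (G₁ : Matrix (Fin m) (Fin m) F) (c : F)
      (hm : 3 ≤ m) (ht : 2 ≤ t) (hex : m = 3 → 3 ≤ q) (hG₁ : Herm σ 1 G₁) (hc : c ≠ 0)
      (h : cpull σ G e P = c • pureM fun _ => G₁) : SuCls σ q G (tensorWreathSubgroup m t e P)

section
variable [Fintype F] (hF : Fintype.card F = q ^ 2)
include hF

theorem minimal_even {z p e : ℕ} (h : IsMinimalFieldFor z p e F) : ∃ d, e = 2 * d ∧ q = p ^ d := by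
  have h1 : q ^ 2 = p ^ e := hF.symm.trans h.2.2.1
  obtain ⟨d, -, rfl⟩ := (Nat.dvd_prime_pow h.1).mp (h1 ▸ dvd_pow_self q two_ne_zero)
  rw [← pow_mul] at h1
  exact ⟨d, by have := Nat.pow_right_injective h.1.two_le h1; omega, rfl⟩

theorem min_cases {z p e : ℕ} (h : IsMinimalFieldFor z p e F) (hz : 2 ≤ z) (d₀ : ℕ) (hd₀ : 0 < d₀)
    (P : ℕ → ℕ → Prop) (h0 : ∀ x < z, x = 0 ∨ x ^ d₀ % z = 1)
    (hP : ∀ x < z, ∀ d ≤ d₀, 0 < d → x ^ (2 * d) % z = 1 → (∀ c < 2 * d, 0 < c → x ^ c % z ≠ 1) → P x d) :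
    ∃ d, q = p ^ d ∧ P (p % z) d := by
  obtain ⟨d, h1, h2⟩ := minimal_even hF h
  exact ⟨d, h2, minimalField_cases h hz d₀ hd₀ (fun x e => ∀ d, e = 2 * d → P x d) h0
    (by rintro x hx _ he h3 h4 h5 d rfl; exact hP x hx d (by omega) (by omega) h4 h5) d h1⟩

theorem min_three {p e : ℕ} (h : IsMinimalFieldFor 3 p e F) : q = p ∧ p % 3 = 2 := by
  obtain ⟨d, h1, rfl, h2⟩ := min_cases hF h (by norm_num) 2 (by norm_num) (fun x d => d = 1 ∧ x = 2)
    (by decide) (by intro x hx d hd; interval_cases x <;> interval_cases d <;> decide)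
  exact ⟨by simpa using h1, h2⟩

theorem min_four {p : ℕ} (h : IsMinimalFieldFor 4 p 2 F) : q = p ∧ p % 4 = 3 := by
  obtain ⟨d, h1, h2⟩ := minimal_even hF h
  obtain rfl : d = 1 := by omega
  obtain ⟨-, h3, h4⟩ := minimalField_mod h (by norm_num)
  have h5 := h4 1 one_pos one_lt_two
  have h6 := Nat.mod_lt p four_pos
  refine ⟨by simpa using h2, ?_⟩
  generalize p % 4 = x at h3 h5 h6
  interval_cases x <;> simp at h3 h5 ⊢

theorem min_five {p e : ℕ} (h : IsMinimalFieldFor 5 p e F) :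
    (q = p ∧ p % 5 = 4) ∨ (q = p ^ 2 ∧ (p % 5 = 2 ∨ p % 5 = 3)) := by
  obtain ⟨d, h1, ⟨rfl, h2⟩ | ⟨rfl, h2⟩⟩ := min_cases hF h (by norm_num) 4 (by norm_num)
    (fun x d => (d = 1 ∧ x = 4) ∨ (d = 2 ∧ (x = 2 ∨ x = 3)))
    (by decide) (by intro x hx d hd; interval_cases x <;> interval_cases d <;> decide)
  exacts [.inl ⟨by simpa using h1, h2⟩, .inr ⟨h1, h2⟩]

theorem min_seven {p e : ℕ} (h : IsMinimalFieldFor 7 p e F) :
    (q = p ∧ p % 7 = 6) ∨ (q = p ^ 3 ∧ (p % 7 = 3 ∨ p % 7 = 5)) := by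
  obtain ⟨d, h1, ⟨rfl, h2⟩ | ⟨rfl, h2⟩⟩ := min_cases hF h (by norm_num) 6 (by norm_num)
    (fun x d => (d = 1 ∧ x = 6) ∨ (d = 3 ∧ (x = 3 ∨ x = 5)))
    (by decide) (by intro x hx d hd; interval_cases x <;> interval_cases d <;> decide)
  exacts [.inl ⟨by simpa using h1, h2⟩, .inr ⟨h1, h2⟩]

theorem min_eleven {p e : ℕ} (h : IsMinimalFieldFor 11 p e F) :
    (q = p ∧ p % 11 = 10) ∨ (q = p ^ 5 ∧ (p % 11 = 2 ∨ p % 11 = 6 ∨ p % 11 = 7 ∨ p % 11 = 8)) := by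
  obtain ⟨d, h1, ⟨rfl, h2⟩ | ⟨rfl, h2⟩⟩ := min_cases hF h (by norm_num) 10 (by norm_num)
    (fun x d => (d = 1 ∧ x = 10) ∨ (d = 5 ∧ (x = 2 ∨ x = 6 ∨ x = 7 ∨ x = 8)))
    (by decide) (by intro x hx d hd; interval_cases x <;> interval_cases d <;> decide)
  exacts [.inl ⟨by simpa using h1, h2⟩, .inr ⟨h1, h2⟩]

variable (hσ : ∀ a, σ a = a ^ q) {G : Matrix ι ι F} (hG : Herm σ 1 G) {H : Subgroup (GL ι F)}
include hσ hG

theorem su_comm [Nonempty ι] (hirr : Irr H) (hH : H ≤ isoGrp σ G) {Z : Subalgebra F (Matrix ι ι F)}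
    (hZ : CommAlg σ G H Z) : ∃ M, SuCls σ q G M ∧ H ≤ M := by
  rcases hZ.cases hG hirr (fun h hh => ⟨1, hH hh⟩) with
    ⟨t, e, ht, he, -, hadj⟩ | ⟨e, heZ, he, hadj⟩ | ⟨d, hd, hZd⟩
  · obtain ⟨m, hm⟩ := he.nondeg_decomp hG ht hadj
    exact ⟨_, .dec t m _ hm, he.le_stabilizer⟩
  · obtain ⟨m, hm⟩ := he.isMDecomposition le_rfl
    exact ⟨_, .pair m _ hm (ts_pair hG (he.idem 0) hadj), he.le_stabilizer⟩
  · obtain ⟨r, hr, hrd⟩ := Nat.exists_prime_and_dvd (show d ≠ 1 by omega)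
    obtain ⟨K, hK, -, hKZ⟩ := hZ.subfield hG hZd hrd hr.two_le
    exact ⟨_, .fld r K hr (odd_of_adj_field hG (sig_ne hF hσ) hK hKZ.adj) hK hKZ.adj,
      le_subalgebraNormalizer hKZ.norm⟩

theorem su_sub (hn : 2 ≤ Fintype.card ι) (hirr : Irr H) (hH : H ≤ isoGrp σ G)
    (A : Subring (Matrix ι ι F)) (hspan : ∀ W : Submodule F (Matrix ι ι F), (∀ x ∈ A, x ∈ W) → W = ⊤)
    (hc : ∃ c : F, c • (1 : Matrix ι ι F) ∉ A) (hN : ∀ h ∈ H, ∀ x ∈ A, conjAlgHom h x ∈ A)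
    (hA : ∀ x ∈ A, ∃ y ∈ A, IsAdj σ G x y) : ∃ M, SuCls σ q G M ∧ H ≤ M := by
  obtain ⟨F₀, r, P, ζ, hr, h1, h2, h3, ⟨h4, rfl⟩ | ⟨rfl, h4, rfl⟩ | ⟨rfl, h4, h5, h6, h7⟩⟩ :=
    su_subring hF hσ hn hG hirr hH A hspan hc hN hA
  exacts [⟨_, .sub F₀ r P hr h4 h1 h2, h3⟩, ⟨_, .so h4 F₀ P h1 h2, h3⟩,
    ⟨_, .sp h4 F₀ P ζ h1 h5 h6 h2 h7, h3⟩]

theorem su_two_forms (hn : 2 ≤ Fintype.card ι) (hirr : Irr H) (hH : H ≤ isoGrp σ G) {ε : F}
    {B : Matrix ι ι F} (hB : Herm ρ ε B) (hHB : ∀ g ∈ H, ∃ c, IsSim ρ B c (g : Matrix ι ι F))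
    (hspan : ∀ W : Submodule F (Matrix ι ι F), (∀ x ∈ twoAdj σ G B, x ∈ W) → W = ⊤) :
    ∃ M, SuCls σ q G M ∧ H ≤ M := by
  have := nonempty_of_two_le hn
  exact su_sub hF hσ hG hn hirr hH _ hspan (twoAdj_scalar hG hB (sig_ne hF hσ))
    (fun h hh => (hHB h hh).elim fun _ hc => twoAdj_conj (hH hh) hc) (twoAdj_adj hG hB)

theorem su_nil2 (hn : 2 ≤ Fintype.card ι) {R : Subgroup (GL ι F)} (h : Nil2 H R) (hR : R ≤ isoGrp σ G) :
    SuCls σ q G (subgroupNormalizer R) := by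
  have := nonempty_of_two_le hn
  obtain ⟨r, k, p, e, h1, h2, h3, h4, h5, h6, -, h7⟩ := h.data hn
  refine .c6 r k p e R h1 h.top h.comm hR h2 h3 h4 h5 ?_
  rcases h7 with ⟨h7, h8⟩ | ⟨rfl, h7 | h7⟩
  · exact .inl ⟨h7, h8, by rw [h6, h8, pow_add, pow_one]⟩
  · obtain ⟨ε, B, hB, h8⟩ := h.exists_bilinear h7
    exact absurd (fixed_of_two_forms h.scal hG.invol hB.invol hG.det_ne hB.det_ne hR h8) (sig_ne hF hσ)
  · refine .inr ⟨rfl, ?_, h7, by rw [h6, h7, pow_add]; rfl⟩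
    rw [h7] at h3
    obtain ⟨d, rfl, -⟩ := minimal_even hF h3
    obtain ⟨h8, h9, h10⟩ := minimalField_mod h3 (by norm_num)
    by_contra h11
    have h12 := h10 2 two_pos (by omega)
    have h13 := Nat.mod_lt p four_pos
    have h14 := (h3.1.eq_two_or_odd).resolve_left h2.symm
    have h15 : p % 4 = 1 ∨ p % 4 = 3 := by omega
    rcases h15 with h | h <;> simp [h] at h12

theorem su_pow (hirr : Irr H) (hH : H ≤ isoGrp σ G) {m t : ℕ}
    {φ : Fin t → (Matrix (Fin m) (Fin m) F →ₐ[F] Matrix ι ι F)} {G₁} (h : TFForm σ G H φ 1 G₁) :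
    ∃ M, SuCls σ q G M ∧ H ≤ M := by
  have := h.fam.nonempty
  have h1 := h.fam.two_le_t
  have h2 := h.fam.two_le_m
  have hn : 2 ≤ Fintype.card ι := h.fam.card ▸ h2.trans (Nat.le_self_pow (by omega) m)
  rcases h2.lt_or_eq with h3 | rfl
  swap
  · obtain ⟨ε, B, hB, h3, h4⟩ := h.span_two hG (sig_ne hF hσ)
    exact su_two_forms hF hσ hG hn hirr hH hB h3 h4
  by_cases hex : m = 3 → 3 ≤ q
  · obtain ⟨e, P, c, -, hle, hc, hP⟩ := h.exists_coord hG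
    exact ⟨_, .pow m t e P G₁ c h3 h1 hex h.herm hc hP, hle⟩
  obtain ⟨rfl, rfl⟩ : m = 3 ∧ q = 2 := by have := two_le_q hF hσ; omega
  rcases exists_nil2_three hF hσ h.herm with ⟨D, hD⟩ | ⟨R, hR⟩
  · exact su_comm hF hσ hG hirr hH (h.commAlg hG (fun h hh => ⟨1, hH hh⟩) hD)
  · obtain ⟨R, h4, h5, h6⟩ := h.nil2 hG hH (sim_eq_iso_two hσ h.herm) hR
    exact ⟨_, su_nil2 hF hσ hG hn h4 h6, h5⟩

theorem su_tens (hirr : Irr H) (hH : H ≤ isoGrp σ G) {k l : ℕ}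
    {φ : Matrix (Fin k) (Fin k) F →ₐ[F] Matrix ι ι F} {ψ : Matrix (Fin l) (Fin l) F →ₐ[F] Matrix ι ι F}
    {ε₁ ε₂ : F} {G₁ G₂} (h : TPForm σ G H φ ψ ε₁ ε₂ G₁ G₂) : ∃ M, SuCls σ q G M ∧ H ≤ M := by
  wlog hkl : k ≤ l generalizing k l ε₁ ε₂
  · exact this h.symm (by omega)
  have h0 := sig_ne hF hσ
  have := h.pair.nonempty
  obtain ⟨a, ha⟩ := exists_congr_herm (h.herm₂.one_of_ne h0) (herm_one hG.invol) h0
  replace h := (h.congr (herm_one hG.invol) one_ne_zero (ha.trans (one_smul _ _).symm)).symm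
  obtain ⟨b, hb⟩ := exists_congr_herm (h.herm₂.one_of_ne h0) (herm_one hG.invol) h0
  replace h := (h.congr (herm_one hG.invol) one_ne_zero (hb.trans (one_smul _ _).symm)).symm
  rcases hkl.lt_or_eq with hkl | rfl
  swap
  · exact su_pow hF hσ hG hirr hH h.fam
  by_cases hex : k = 2 → 3 ≤ q
  · obtain ⟨e, P, c, -, -, hle, hc, hP⟩ := h.exists_coord hG
    exact ⟨_, .tens k l e P c h.pair.two_le_k hkl hex hc hP, hle⟩
  obtain ⟨rfl, rfl⟩ : k = 2 ∧ q = 2 := by have := two_le_q hF hσ; omega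
  obtain ⟨D, hD, -⟩ := exists_frame_unitary_two hF hσ h.herm₁
  exact su_comm hF hσ hG hirr hH (h.commAlg (fun h hh => ⟨1, hH hh⟩) hD)

/-- Aschbacher's theorem for unitary groups. -/
theorem su_cases (hn : 2 ≤ Fintype.card ι) (hH : H ≤ isoGrp σ G) :
    (∃ M, SuCls σ q G M ∧ H ≤ M) ∨ InUnitaryResidualClass H := by
  have := nonempty_of_two_le hn
  by_cases hirr : Irr H
  swap
  · left
    rcases reducible_cases hG (fun h hh => ⟨1, hH hh⟩) hirr with ⟨W, h0, h, hW⟩ | ⟨W, U, h, hle, hW, hU⟩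
    · exact ⟨_, .ts W h0 h, le_subspaceStabilizer hW⟩
    · rcases hle.lt_or_eq with hlt | heq
      · exact ⟨_, .nd W h.ne₁ (h.nondeg hG) (by have := h.finrank; omega), le_subspaceStabilizer hW⟩
      · exact ⟨_, .dec 2 _ _ (h.decomp hG heq), le_decomp_pair hW hU⟩
  rcases core hn H hirr with ⟨N, hNH, hN, z, hz, hz1, hz2⟩ | ⟨N, hNH, hN, k, φ, hk, hkn, hφ⟩ |
    ⟨N, hNH, hN, htop, hc⟩ | ⟨N, hN⟩ | ⟨m, t, φ, hφ⟩ | ⟨N, hN, htop, hsc⟩
  · exact .inl (su_comm hF hσ hG hirr hH (commAlg_zalg hG hN (hNH.trans hH) hz hz1 hz2))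
  · obtain ⟨l, ψ, h⟩ := exists_tensorPair hN hk hkn hφ
    obtain ⟨ε₁, ε₂, G₁, G₂, h⟩ := h.exists_form hG fun x => by
      obtain ⟨y, hy, hy'⟩ := isAdj_alg hG.invol (hNH.trans hH) (φ x) (hφ ▸ ⟨x, rfl⟩)
      rw [← hφ] at hy
      obtain ⟨y, rfl⟩ := hy
      exact ⟨y, hy'⟩
    exact .inl (su_tens hF hσ hG hirr hH h)
  · exact .inl (su_sub hF hσ hG hn hirr hH (rclos N) (span_rclos htop) hc
      (fun h hh => conj_mem_rclos (hN h hh)) (isAdj_rclos (hNH.trans hH)))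
  · exact .inl ⟨_, su_nil2 hF hσ hG hn hN (hN.le.trans hH), hN.norm.le_normalizer⟩
  · obtain ⟨ε₁, G₁, h⟩ := hφ.exists_form hG hH
    exact .inl (su_pow hF hσ hG hirr hH ⟨h.fam, h.herm.one_of_ne (sig_ne hF hσ), h.adj⟩)
  · have key : ∀ {ε} {B : Matrix ι ι F}, Herm ρ ε B → ¬ FixesForm (matrixSet N) (gf ρ B) := fun hB h =>
      sig_ne hF hσ (fixed_of_two_forms hsc hG.invol hB.invol hG.det_ne hB.det_ne (hN.le.trans hH)
        (isSim_of_fixesForm h))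
    refine .inr ⟨N, hN, fun ⟨Q, hQ, h⟩ => key (herm_of_quad hQ) ?_, fun ⟨f, hf, h⟩ =>
      key (herm_of_symplectic hf) ?_⟩
    · rw [← IsBilinearForm.eq_gf hQ.polar_bilinear]; exact fixesForm_polar h
    · rwa [← IsBilinearForm.eq_gf hf.bilinear]

omit hF hσ in
theorem even_of_rat_alt {F₀ : Subfield F} {P : GL ι F} (h : ∀ u : ι → F, (∀ i, u i ∈ F₀) →
    gf σ G ((P : Matrix ι ι F) *ᵥ u) ((P : Matrix ι ι F) *ᵥ u) = 0) : Even (Fintype.card ι) := by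
  simp only [← gf_gpull] at h
  have h1 : ∀ a, gpull σ G P a a = 0 := fun a => by
    simpa only [gf_single] using h _ (single_mem_subfield F₀ a)
  refine even_card_of_alt (hG.gpull P).det_ne (Matrix.ext fun a b => ?_) h1
  have := h (Pi.single a 1 + Pi.single b 1) fun i =>
    F₀.add_mem (single_mem_subfield F₀ a i) (single_mem_subfield F₀ b i)
  simp only [gf_add_left, gf_add_right, gf_single, h1] at this
  simp only [transpose_apply, Matrix.neg_apply]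
  linear_combination this

theorem SuCls.not_le (hn : 3 ≤ Fintype.card ι) (hex : ¬ (Fintype.card ι = 3 ∧ q = 2))
    {M : Subgroup (GL ι F)} (h : SuCls σ q G M) : ¬ isoGrp σ G ⊓ specialLinear ι F ≤ M := by
  have hA := amb_su hF hσ hn hex hG
  have hsub : ∀ (F₀ : Subfield F) r P, r.Prime → Fintype.card F = Nat.card F₀ ^ r →
      ¬ isoGrp σ G ⊓ specialLinear ι F ≤ subfieldSubgroup F₀ P := fun F₀ r P hr hc => by
    by_cases h : ∀ u : ι → F, (∀ i, u i ∈ F₀) →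
      gf σ G ((P : Matrix ι ι F) *ᵥ u) ((P : Matrix ι ι F) *ᵥ u) = 0
    · obtain ⟨k, hk⟩ := even_of_rat_alt hG h
      exact hA.not_le_subfield (exists_not_mem_subfield hr hc) P (by omega)
    · push Not at h
      obtain ⟨u, hu, hu'⟩ := h
      exact hA.not_le_subfield_of_ne (exists_not_mem_subfield hr hc) P (by omega) hu hu'
  cases h with
  | ts W h0 h => exact hA.not_le_ts h0 h
  | nd W h0 h hd => exact hA.not_le_subspace h0 (by rintro rfl; simp at hd; omega)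
  | dec t m D h =>
    have h1 := card_eq_of_isMDecomposition h.decomp
    have h2 := h.decomp.two_le
    have h3 := h.decomp.pos
    refine hA.not_le_decomp h ?_
    rcases h2.lt_or_eq with h4 | rfl
    · nlinarith
    · omega
  | pair m D h hts => exact hA.not_le_pair h
  | fld r K hr ho hK ha => exact hA.not_le_field hK hr.two_le
  | tens k l e P c hk hkl hex hc h =>
    obtain ⟨k, rfl⟩ : ∃ j, k = j + 2 := ⟨k - 2, by omega⟩
    obtain ⟨l, rfl⟩ : ∃ j, l = j + 3 := ⟨l - 3, by omega⟩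
    obtain ⟨d, hd⟩ := exists_mul_sig hF hσ (a := -1) (by simp)
    have h1 : (1 : Fin (l + 3)) ≠ 2 := Fin.ne_of_val_ne (show 1 ≠ 2 by decide)
    have h2 : (0 : Fin (l + 3)) ≠ 2 := Fin.ne_of_val_ne (show 0 ≠ 2 by decide)
    refine hA.not_le_tensor' e P 0 0 (x := Pi.single (1, 1) 1 + d • Pi.single (1, 2) 1)
      (fun h => by simpa [h1] using congrFun h (1, 1)) ?_ ?_ (fun i => by simp [h2]) (fun i => by simp) <;>
    rw [← gf_cpull, h, gf_smul_gram, one_kronecker_one] <;>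
    simp only [gf_add_left, gf_add_right, gf_smul_left, gf_smul_right, gf_single, one_apply]
    · simp only [Prod.mk.injEq, h1, h1.symm, and_false, if_true, if_false]
      linear_combination c * hd
    · simp
  | sub F₀ r P hr ho hc h => exact hsub F₀ r P hr hc
  | so hq F₀ P hc h => exact hsub F₀ 2 P Nat.prime_two hc
  | sp hn F₀ P ζ hc h0 hζ h halt => exact hsub F₀ 2 P Nat.prime_two hc
  | c6 r k p e R h htop hc hR => exact hA.not_le_c6 hR htop hc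
  | pow m t e P G₁ c hm ht =>
    refine hA.not_le_wreath e P (by omega) ?_
    rw [Fintype.card_congr e, Fintype.card_fun, Fintype.card_fin, Fintype.card_fin]
    obtain ⟨m, rfl⟩ : ∃ j, m = j + 3 := ⟨m - 3, by omega⟩
    clear * - ht
    induction t, ht using Nat.le_induction with
    | base => simp only [Nat.add_succ_sub_one]; nlinarith
    | succ t ht ih =>
      simp only [Nat.add_succ_sub_one] at ih ⊢
      have := Nat.mul_le_mul_right (m + 2) (Nat.one_le_pow t (m + 3) (by omega))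
      rw [pow_succ]
      generalize (m + 3) ^ t = X at ih this ⊢
      nlinarith

theorem su_max (hn : 3 ≤ Fintype.card ι) (hex : ¬ (Fintype.card ι = 3 ∧ q = 2))
    (hH : IsMaximalIn (isoGrp σ G ⊓ specialLinear ι F) H) :
    (∃ M, SuCls σ q G M ∧ H = M ⊓ (isoGrp σ G ⊓ specialLinear ι F)) ∨ InUnitaryResidualClass H :=
  (su_cases hF hσ hG (by omega) (hH.1.le.trans inf_le_left)).imp_left fun ⟨M, h1, h2⟩ =>
    ⟨M, h1, IsMaximalIn.eq_inf hH h2 (h1.not_le hF hσ hG hn hex)⟩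

end

theorem adjClosed_of {G : Matrix ι ι F} {K : Subalgebra F (Matrix ι ι F)}
    (h : ∀ x ∈ K, ∃ y ∈ K, IsAdj σ G x y) : IsAdjointClosedFor (gf σ G) K :=
  fun k hk => (h k hk).imp fun _ hy => ⟨hy.1, isAdj_iff.mp hy.2⟩

theorem isoGrp_le_sim (G : Matrix ι ι F) : isoGrp σ G ≤ similarityGroup (gf σ G) :=
  fun _ hg => ⟨1, fun u v => by rw [Units.val_one, one_mul]; exact isSim_one_iff.mp hg u v⟩

section
variable [Fintype F] (hF : Fintype.card F = q ^ 2) (n : ℕ)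

theorem hermForm_eq : Cfsg.hermForm n F q = gf (Uni.sig hF) 1 := by
  funext u v
  rw [gf, one_mulVec]; rfl

theorem GU_eq : Cfsg.GU n F q = isoGrp (Uni.sig hF) 1 := by
  ext g
  rw [mem_isoGrp, isSim_one_iff, ← hermForm_eq]; rfl

theorem herm_sig : Herm (Uni.sig hF) 1 (1 : Matrix ι ι F) := herm_one (Uni.sig_sig hF)

theorem three_le_of_planes {n t : ℕ} {D : Fin t → Submodule F (Fin n → F)}
    (hD : IsNondegenerateMDecomposition (gf (Uni.sig hF) 1) 2 D)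
    (hH : IsMaximalIn (isoGrp (Uni.sig hF) 1 ⊓ specialLinear (Fin n) F)
      (decompositionStabilizer D ⊓ (isoGrp (Uni.sig hF) 1 ⊓ specialLinear (Fin n) F))) : 3 ≤ q := by
  refine (two_le_q hF (Uni.sig_apply hF)).lt_of_ne fun h => ?_
  subst h
  rw [← hermForm_eq] at hD
  rw [← GU_eq] at hH
  exact IsMaximalIn.not_between hH (FGL.unitary_planes_not_maximal hF hD)

end

end CL.Asch
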