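import Cfsg.Agent.CLAS.AschSu2
import Cfsg.Agent.CLAS.AschCod

/-!
Reductions of small unitary exceptions to explicit models.
-/

set_option autoImplicit false

namespace CL.Asch

open Matrix Cfsg.Geo
open scoped Kronecker MatrixGroups commutatorElement

variable {F : Type*} [Field F] {ι κ μ : Type} [Fintype ι] [DecidableEq ι] [Fintype κ] [DecidableEq κ]
  [Fintype μ] [DecidableEq μ] {σ : F →+* F} {q : ℕ} {E : Type*} [Field E] {τ : E →+* E}

local notation "ρ" => RingHom.id F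

/-- the special isometry group -/
abbrev suG (σ : F →+* F) (G : Matrix ι ι F) : Subgroup (GL ι F) := isoGrp σ G ⊓ specialLinear ι F

theorem mem_suG {G : Matrix ι ι F} {g : GL ι F} :
    g ∈ suG σ G ↔ IsSim σ G 1 (g : Matrix ι ι F) ∧ (g : Matrix ι ι F).det = 1 :=
  and_congr Iff.rfl mem_specialLinear

/-- the elements of `X` with property `T` lie in a bigger proper subgroup -/
def NonMax {Γ : Type*} [Group Γ] (X : Subgroup Γ) (T : Γ → Prop) : Prop :=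
  ∃ (K : Subgroup Γ) (a b : Γ), (∀ g ∈ X, T g → g ∈ K) ∧ a ∈ X ∧ a ∈ K ∧ ¬ T a ∧ b ∈ X ∧ b ∉ K

theorem NonMax.elim {Γ G : Type*} [Group Γ] [Group G] {X₀ : Subgroup Γ} {T : Γ → Prop}
    (h : NonMax X₀ T) (Φ : Γ ≃* G) {X H : Subgroup G} (hΦ : ∀ g, Φ g ∈ X ↔ g ∈ X₀)
    (hH : IsMaximalIn X H) (hP : ∀ g, Φ g ∈ H → T g) : False := by
  obtain ⟨K, a, b, h1, h2, h3, h4, h5, h6⟩ := h
  exact not_max_of_equiv Φ hH (fun g hg => h1 g ((hΦ g).mp (hH.1.le hg)) (hP g hg)) h3 ((hΦ a).mpr h2)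
    (fun h => h4 (hP a h)) h6 ((hΦ b).mpr h5)

theorem exists_phi [Fintype F] [Fintype E] (hF : Fintype.card F = q ^ 2) (hσ : ∀ a, σ a = a ^ q)
    (hE : Fintype.card E = q ^ 2) (hτ : ∀ a, τ a = a ^ q) :
    ∃ φ : E ≃+* F, ∀ a, φ (τ a) = σ (φ a) :=
  ⟨FiniteField.ringEquivOfCardEq (hE.trans hF.symm), fun a => by rw [hτ, hσ, map_pow]⟩

theorem trGL_mem_suG {φ : E ≃+* F} (hφ : ∀ a, φ (τ a) = σ (φ a)) {G : Matrix ι ι F}
    {G' : Matrix κ κ E} {e : ι ≃ κ} {P : GL ι F} (h : cpull σ G e P = G'.map φ) (g : GL κ E) :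
    trGL φ e P g ∈ suG σ G ↔ g ∈ suG τ G' := by
  rw [mem_suG, mem_suG, coe_trGL, isSim_trM_one hφ h, det_trM, map_eq_one_iff _ φ.injective]

/-- an invertible matrix from a power equal to one -/
def glOfPow (g : Matrix κ κ E) (k : ℕ) (h : g ^ (k + 1) = 1) : GL κ E :=
  ⟨g, g ^ k, by rw [← pow_succ', h], by rw [← pow_succ, h]⟩

/-- an invertible matrix from its determinant -/
noncomputable def glOfDet (g : Matrix κ κ E) (h : g.det = 1) : GL κ E :=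
  GeneralLinearGroup.mkOfDetNeZero g (h ▸ one_ne_zero)

theorem glOfDet_mem {G g : Matrix κ κ E} (h : g.det = 1) (h' : IsSim τ G 1 g) : glOfDet g h ∈ suG τ G :=
  mem_suG.mpr ⟨h', h⟩

theorem det_eq_one_of_pow {G g : Matrix κ κ E} (hG : Herm τ 1 G) (h : IsSim τ G 1 g) {k : ℕ}
    (hk : g ^ k = 1) (hc : ∀ c : E, c * τ c = 1 → c ^ k = 1 → c = 1) : g.det = 1 :=
  hc _ (by rw [h.det_eq hG.det_ne, one_pow]) (by rw [← det_pow, hk, det_one])

theorem comp_single (φ : E ≃+* F) (a : κ) : φ ∘ Pi.single a (1 : E) = Pi.single a (1 : F) := by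
  funext b
  by_cases h : b = a <;> simp [h]

/-- block monomial matrices -/
def Pattern {t : ℕ} (β : κ → Fin t) (g : GL κ E) : Prop :=
  ∃ s : Equiv.Perm (Fin t), ∀ a b, β a ≠ s (β b) → (g : Matrix κ κ E) a b = 0

theorem pattern_of_decomp {t : ℕ} {D : Fin t → Submodule F (ι → F)} (β : κ → Fin t) {e : ι ≃ κ}
    {P : GL ι F} (h1 : ∀ a, cvec e P (Pi.single a 1) ∈ D (β a))
    (h2 : ∀ i u, cvec e P u ∈ D i → ∀ a, β a ≠ i → u a = 0) (φ : E ≃+* F) {g : GL κ E}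
    (hg : trGL φ e P g ∈ decompositionStabilizer D) : Pattern β g := by
  obtain ⟨s, hs⟩ := decomposition_maps hg
  refine ⟨s, fun a b hab => ?_⟩
  have h3 := hs _ _ (h1 b)
  rw [← comp_single φ, coe_trGL, trM_mulVec] at h3
  simpa using h2 _ _ h3 a hab

section
variable [Fintype F] (hF : Fintype.card F = q ^ 2) (hσ : ∀ a, σ a = a ^ q) {G : Matrix ι ι F}
  (hG : Herm σ 1 G)
include hF hσ hG

theorem exists_norm_one {v : ι → F} (hv : gf σ G v v ≠ 0) : ∃ c : F, gf σ G (c • v) (c • v) = 1 := by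
  obtain ⟨c, hc⟩ := exists_mul_sig hF hσ (a := (gf σ G v v)⁻¹) (by rw [map_inv₀, hG.swap, one_mul])
  exact ⟨c, by rw [gf_smul_left, gf_smul_right, ← mul_assoc, hc, inv_mul_cancel₀ hv]⟩

theorem frame_coord {n : ℕ} (hn : Fintype.card ι = n) {D : Fin n → Submodule F (ι → F)}
    (hD : IsNondegenerateMDecomposition (gf σ G) 1 D) : ∃ (e : ι ≃ Fin n) (P : GL ι F),
      cpull σ G e P = 1 ∧ (∀ a, cvec e P (Pi.single a 1) ∈ D a) ∧
      ∀ i u, cvec e P u ∈ D i → ∀ a, a ≠ i → u a = 0 := by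
  have key : ∀ i, ∃ w ∈ D i, gf σ G w w = 1 := fun i => by
    obtain ⟨v, hv, h0⟩ := IsMDecomposition.exists_ne_zero hD.decomp i
    obtain ⟨x, hx, h2⟩ := (hD.nondegenerate i v hv h0).1
    rw [← Submodule.eq_of_le_of_finrank_eq ((Submodule.span_singleton_le_iff_mem _ _).mpr hv)
      (by rw [finrank_span_singleton h0, hD.decomp.finrank_eq]), Submodule.mem_span_singleton] at hx
    obtain ⟨a, rfl⟩ := hx
    obtain ⟨c, hc⟩ := exists_norm_one hF hσ hG (v := v) fun h => h2 (by rw [gf_smul_left, h, mul_zero])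
    exact ⟨_, (D i).smul_mem c hv, hc⟩
  choose w hw h1 using key
  have h2 : gres σ G w = 1 := by
    ext a b
    by_cases h : a = b
    · subst h; simp [gres, h1]
    · simp [gres, one_apply_ne h, hD.orthogonal a b h _ (hw a) _ (hw b)]
  obtain ⟨e, P, h3, h4⟩ := exists_coord_of_gram hG.surj G (by simpa using hn) w (by simp [h2])
  refine ⟨e, P, h4.trans h2, fun a => by simpa [h3, Pi.single_apply] using hw a, fun i u hu a ha => ?_⟩
  have h5 := hD.orthogonal i a ha.symm _ hu _ (hw a)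
  have h6 : w a = cvec e P (Pi.single a 1) := by simp [h3, Pi.single_apply]
  rw [h6, ← gf_cpull, h4, h2] at h5
  simpa [gf, dotProduct, Pi.single_apply, apply_ite σ] using h5

theorem frame_false {n : ℕ} (hn : Fintype.card ι = n) [Fintype E] (hE : Fintype.card E = q ^ 2)
    (hτ : ∀ a, τ a = a ^ q) (h : NonMax (suG τ (1 : Matrix (Fin n) (Fin n) E)) (Pattern id))
    {D : Fin n → Submodule F (ι → F)} (hD : IsNondegenerateMDecomposition (gf σ G) 1 D)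
    (hH : IsMaximalIn (suG σ G) (decompositionStabilizer D ⊓ suG σ G)) : False := by
  obtain ⟨φ, hφ⟩ := exists_phi hF hσ hE hτ
  obtain ⟨e, P, h1, h2, h3⟩ := frame_coord hF hσ hG hn hD
  exact h.elim (trGL φ e P) (trGL_mem_suG hφ (by simp [h1])) hH fun g hg =>
    pattern_of_decomp id h2 h3 φ hg.1

theorem exists_field_elt [Nonempty ι] {r : ℕ} {K : Subalgebra F (Matrix ι ι F)}
    (hK : IsFieldSubalgebra r K) (ha : ∀ x ∈ K, ∃ y ∈ K, IsAdj σ G x y) {l : ℕ} (hl : l ∣ q ^ r + 1) :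
    ∃ x ∈ isoGrp σ G, orderOf x = l ∧ (x : Matrix ι ι F) ∈ K ∧
      ∀ h ∈ subalgebraNormalizer K, ∃ i, h * x * h⁻¹ = x ^ (q ^ 2) ^ i := by
  obtain ⟨θ, h1, h2⟩ := exists_adjHom hG K.toSubring hK.comm ha
  letI := (IsFieldSubalgebra.isField hK).toField
  obtain ⟨a, ha⟩ := not_forall.mp (sig_ne hF hσ)
  have hθ : θ (algebraMap F K a) ≠ algebraMap F K a := fun h => ha (by
    have h3 := h1 (algebraMap F K a)
    rw [h] at h3
    have h4 := (isAdj_one G).smul hG.invol a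
    rw [← Algebra.algebraMap_eq_smul_one] at h4
    have := h4.unique hG.det_ne h3
    exact smul_one_inj (this.trans (Algebra.algebraMap_eq_smul_one a)))
  obtain ⟨Q, hQ, hfix⟩ := invol_fixed (K := K) θ h2 hθ
  have hQ' := hQ
  rw [Module.natCard_eq_pow_finrank (K := F), hK.finrank_eq, Nat.card_eq_fintype_card, hF, ← pow_mul,
    mul_comm, pow_mul] at hQ'
  obtain rfl := Nat.pow_left_injective two_ne_zero hQ'
  obtain ⟨w, hw⟩ := IsCyclic.exists_ofOrder_eq_natCard (α := Kˣ)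
  rw [Nat.card_units, hQ] at hw
  have hq : 1 < q ^ r := by
    have := Finite.one_lt_card (α := K)
    by_contra h
    have : (q ^ r) ^ 2 ≤ 1 ^ 2 := Nat.pow_le_pow_left (by omega) 2
    omega
  let u : Kˣ := Units.map (θ : K →* K) w * w⁻¹
  have hu : orderOf u = q ^ r + 1 := by
    refine (orderOf_eq_orderOf_iff (y := w ^ (q ^ r - 1))).mpr (fun k => ?_) |>.trans ?_
    · have h3 := hfix ((w ^ k : Kˣ) : K)
      obtain ⟨t, ht⟩ : ∃ t, q ^ r = t + 1 := ⟨q ^ r - 1, by omega⟩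
      rw [ht, pow_succ, mul_eq_right₀ (Units.ne_zero _)] at h3
      rw [ht, Nat.add_sub_cancel, ← pow_mul, mul_comm, pow_mul, Units.ext_iff (v := 1),
        Units.ext_iff (v := 1), Units.val_pow_eq_pow_val (w ^ k), Units.val_one, ← h3]
      simp [u, mul_pow, mul_inv_eq_one₀]
    · have h3 := Nat.sq_sub_sq (q ^ r) 1
      rw [one_pow] at h3
      rw [orderOf_pow_of_dvd (by omega) (by rw [hw, h3]; exact Dvd.intro_left _ rfl), hw, h3,
        Nat.mul_div_cancel _ (by omega)]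
  have hu1 : θ u * u = 1 := by
    simp only [u, Units.val_mul, Units.coe_map, MonoidHom.coe_coe, map_mul, Units.val_inv_eq_inv_val,
      map_inv₀]
    rw [h2]
    have := (map_ne_zero θ).mpr w.ne_zero
    field_simp
  let ψ : Kˣ →* GL ι F := Units.map (K.val : K →* Matrix ι ι F)
  have hψ : Function.Injective ψ := Units.map_injective Subtype.val_injective
  refine ⟨ψ (u ^ ((q ^ r + 1) / l)), ?_, ?_, (u ^ _ : Kˣ).1.2, fun h hh => ?_⟩
  · rw [map_pow]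
    refine Subgroup.pow_mem _ (IsSim.of_isAdj_inv ?_) _
    have h3 := h1 u
    rwa [eq_inv_of_mul_eq_one_left hu1, ← Units.val_inv_eq_inv_val] at h3
  · rw [orderOf_injective ψ hψ, ← hu, orderOf_pow_orderOf_div (by omega) (hu ▸ hl)]
  · let χ : K →ₐ[F] K := ((conjAlgHom h).comp K.val).codRestrict K fun x => (hh x).mp x.2
    haveI := Fact.mk (CharP.char_is_prime F (ringChar F))
    obtain ⟨i, hi⟩ := FiniteField.exists_forall_apply_eq_pow F (ringChar F) K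
      (AlgEquiv.ofBijective χ (χ.bijective))
    refine ⟨i, Units.ext ?_⟩
    have h3 := congrArg Subtype.val (hi (u ^ ((q ^ r + 1) / l) : Kˣ))
    rw [Nat.card_eq_fintype_card, hF] at h3
    exact h3

end

/-- `g` conjugates `x` to one of the powers `x ^ Q ^ i` -/
def NormPow {Γ : Type*} [Group Γ] (x : Γ) (Q : ℕ) (g : Γ) : Prop := ∃ i, g * x * g⁻¹ = x ^ Q ^ i

theorem normPow_false {Γ G : Type*} [Group Γ] [Group G] {X₀ : Subgroup Γ} {x₀ : Γ} {Q : ℕ}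
    (h : NonMax X₀ (NormPow x₀ Q)) (Φ : Γ ≃* G) {X H : Subgroup G} (hΦ : ∀ g, Φ g ∈ X ↔ g ∈ X₀)
    (hH : IsMaximalIn X H) {x g : G} {k : ℕ} (hg : ∀ y, g * y * g⁻¹ ∈ X ↔ y ∈ X)
    (hx : g * Φ x₀ * g⁻¹ = x ^ k) (hN : ∀ h ∈ H, NormPow x Q h) : False := by
  refine h.elim (Φ.trans (MulAut.conj g)) (fun y => (hg _).trans (hΦ y)) hH fun y hy => ?_
  obtain ⟨i, hi⟩ := hN _ hy
  refine ⟨i, (Φ.trans (MulAut.conj g)).injective ?_⟩
  rw [map_mul, map_mul, map_inv, map_pow, show (Φ.trans (MulAut.conj g)) x₀ = x ^ k from hx,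
    ← conj_pow, hi, ← pow_mul, ← pow_mul, mul_comm]

theorem not_normPow {x a : GL κ E}
    (h : a.1 * x.1 * (a⁻¹).1 * x.1 ≠ x.1 * (a.1 * x.1 * (a⁻¹).1)) {Q : ℕ} : ¬ NormPow x Q a := by
  rintro ⟨i, hi⟩
  have h1 : a * x * a⁻¹ * x = x * (a * x * a⁻¹) := by rw [hi, ← pow_succ, ← pow_succ']
  exact h (congrArg Units.val h1)

theorem exists_conj_pow {Γ : Type*} [Group Γ] [Finite Γ] {X : Subgroup Γ} {l : ℕ} (hl : l.Prime)
    (hc : ¬ l ^ 2 ∣ Nat.card X) {x y : Γ} (hx : x ∈ X) (hy : y ∈ X) (ox : orderOf x = l)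
    (oy : orderOf y = l) : ∃ g ∈ X, ∃ k : ℕ, g * y * g⁻¹ = x ^ k := by
  haveI := Fact.mk hl
  have h1 : ∀ z : X, orderOf (z : Γ) = l → Nat.card (Subgroup.zpowers z) = l ^ 1 := fun z hz => by
    rw [Nat.card_zpowers, ← Subgroup.orderOf_coe, hz, pow_one]
  obtain ⟨P, hP⟩ := (IsPGroup.of_card (h1 ⟨x, hx⟩ ox)).exists_le_sylow
  obtain ⟨Q, hQ⟩ := (IsPGroup.of_card (h1 ⟨y, hy⟩ oy)).exists_le_sylow
  obtain ⟨g, hg⟩ := MulAction.exists_smul_eq X Q P
  obtain ⟨k, hk⟩ := IsPGroup.iff_card.mp P.isPGroup'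
  have h2 : k ≤ 1 := by
    by_contra h
    exact hc ((pow_dvd_pow l (by omega)).trans (hk ▸ Subgroup.card_subgroup_dvd_card _))
  have h3 := Subgroup.eq_of_le_of_card_ge hP (by
    rw [hk, h1 _ ox]; exact Nat.pow_le_pow_right hl.pos h2)
  have h4 : g * ⟨y, hy⟩ * g⁻¹ ∈ (P : Subgroup X) := by
    rw [← hg]; exact Subgroup.smul_mem_pointwise_smul _ (MulAut.conj g) _ (hQ (Subgroup.mem_zpowers _))
  rw [← h3, ← mem_powers_iff_mem_zpowers] at h4
  obtain ⟨j, hj⟩ := h4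
  exact ⟨g, g.2, j, (congrArg Subtype.val hj).symm⟩

theorem herm_map {φ : E ≃+* F} (hφ : ∀ a, φ (τ a) = σ (φ a)) {G : Matrix κ κ E} (hG : Herm τ 1 G) :
    Herm σ 1 (G.map φ) where
  invol a := by obtain ⟨a, rfl⟩ := φ.surjective a; rw [← hφ, ← hφ, hG.invol]
  det_ne := ((φ : E →+* F).map_det G).symm.trans_ne ((map_ne_zero _).mpr hG.det_ne)
  herm := by
    ext a b
    have := congrFun (congrFun hG.herm a) b
    simp only [transpose_apply, map_apply, one_smul] at this ⊢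
    rw [← hφ, this]
  eps := .inl rfl

theorem singer_false {n : ℕ} [Fintype F] (hF : Fintype.card F = q ^ 2) (hσ : ∀ a, σ a = a ^ q)
    {G : Matrix (Fin (n + 1)) (Fin (n + 1)) F} (hG : Herm σ 1 G) [Fintype E]
    (hE : Fintype.card E = q ^ 2) (hτ : ∀ a, τ a = a ^ q) {G₀ : Matrix (Fin (n + 1)) (Fin (n + 1)) E}
    (hG₀ : Herm τ 1 G₀) {x₀ : GL (Fin (n + 1)) E} (hx : x₀ ∈ suG τ G₀) {l r : ℕ} (hl : l.Prime)
    (ho : orderOf x₀ = l) (h1 : l ∣ q ^ r + 1) (h2 : l.Coprime (q + 1))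
    (h3 : ¬ l ^ 2 ∣ Uni.guOrder q (n + 1)) (h : NonMax (suG τ G₀) (NormPow x₀ (q ^ 2)))
    {K : Subalgebra F (Matrix (Fin (n + 1)) (Fin (n + 1)) F)} (hK : IsFieldSubalgebra r K)
    (ha : ∀ x ∈ K, ∃ y ∈ K, IsAdj σ G x y)
    (hH : IsMaximalIn (suG σ G) (subalgebraNormalizer K ⊓ suG σ G)) : False := by
  obtain ⟨φ, hφ⟩ := exists_phi hF hσ hE hτ
  obtain ⟨P, hP⟩ := exists_congr_herm hG (herm_map hφ hG₀) (sig_ne hF hσ)
  have hΦ := trGL_mem_suG hφ (G := G) (e := Equiv.refl _) (P := P) hP.symm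
  obtain ⟨x, h4, h5, -, h6⟩ := exists_field_elt hF hσ hG hK ha h1
  have h7 : x ∈ suG σ G := mem_suG.mpr ⟨h4, det_eq_one_of_pow hG h4 (k := l)
    (by rw [← Units.val_pow_eq_pow_val, ← h5, pow_orderOf_eq_one, Units.val_one]) fun c hc hc' => by
      rw [hσ, ← pow_succ'] at hc
      rw [← pow_one c, ← h2, pow_gcd_eq_one.mpr ⟨hc', hc⟩]⟩
  obtain ⟨g, hg, k, hk⟩ := exists_conj_pow hl (fun h => h3 (by
    have := card_suGrp hF hσ hG
    rw [Fintype.card_fin] at this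
    exact this ▸ h.mul_left _)) h7 ((hΦ _).mpr hx) h5 (by rw [MulEquiv.orderOf_eq, ho])
  exact normPow_false h _ hΦ hH (fun y => by
    rw [Subgroup.mul_mem_cancel_right _ (inv_mem hg), Subgroup.mul_mem_cancel_left _ hg]) hk
    fun h hh => h6 h hh.1

theorem eq_of_cyclic {n : ℕ} {x g g' : Matrix (Fin (n + 1)) (Fin (n + 1)) E}
    (hx : ∀ j : Fin (n + 1), x ^ (j : ℕ) *ᵥ Pi.single 0 1 = Pi.single j 1) (hg : Commute g x)
    (hg' : Commute g' x) (h : g *ᵥ Pi.single 0 1 = g' *ᵥ Pi.single 0 1) : g = g' := by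
  ext i j
  have key : ∀ g : Matrix _ _ E, Commute g x → g i j = (x ^ (j : ℕ) *ᵥ (g *ᵥ Pi.single 0 1)) i :=
    fun g hg => by rw [mulVec_mulVec, ← (hg.pow_right _).eq, ← mulVec_mulVec, hx]; simp
  rw [key g hg, key g' hg', h]

theorem singer_model {n : ℕ} {G : Matrix (Fin (n + 1)) (Fin (n + 1)) E} {x y w : GL (Fin (n + 1)) E}
    {K : Subgroup (GL (Fin (n + 1)) E)} {Q N m : ℕ} (hx : x ∈ suG τ G)
    (hc : ∀ j : Fin (n + 1), x.1 ^ (j : ℕ) *ᵥ Pi.single 0 1 = Pi.single j 1) (hy : y ∈ suG τ G)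
    (hyK : y ∈ K) (hyx : y.1 * x.1 = x.1 ^ Q * y.1) (hw : w.1 * x.1 = x.1 * w.1) (hwK : w ^ m ∈ K)
    (hd : ∀ a < N, w.1.det ^ a = 1 → m ∣ a)
    (hC : ∀ u, (∀ j < n + 1, gf τ G (x.1 ^ j *ᵥ u) u = gf τ G (x.1 ^ j *ᵥ Pi.single 0 1) (Pi.single 0 1)) →
      ∃ a < N, u = w.1 ^ a *ᵥ Pi.single 0 1) : ∀ g ∈ suG τ G, NormPow x Q g → g ∈ K := by
  have h1 : ∀ g ∈ suG τ G, g * x = x * g → g ∈ K := fun g hg h => by
    have h2 : Commute g.1 x.1 := congrArg Units.val h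
    obtain ⟨a, ha, h3⟩ := hC (g.1 *ᵥ Pi.single 0 1) fun j _ => by
      rw [mulVec_mulVec, ← (h2.pow_right _).eq, ← mulVec_mulVec, isSim_one_iff.mp hg.1]
    have h4 : g = w ^ a := Units.ext (eq_of_cyclic hc h2 (Commute.pow_left hw a) h3)
    obtain ⟨b, rfl⟩ := hd a ha (by
      rw [← det_pow, ← Units.val_pow_eq_pow_val, ← h4]; exact (mem_suG.mp hg).2)
    rw [h4, pow_mul]
    exact K.pow_mem hwK b
  have h2 : y * x * y⁻¹ = x ^ Q := mul_inv_eq_iff_eq_mul.mpr (Units.ext hyx)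
  have h3 : ∀ i : ℕ, y ^ i * x * (y ^ i)⁻¹ = x ^ Q ^ i := fun i => by
    induction i with
    | zero => simp
    | succ i ih => rw [pow_succ' Q, pow_mul, ← h2, conj_pow, ← ih, pow_succ' y]; group
  rintro g hg ⟨i, hi⟩
  rw [← K.mul_mem_cancel_left (K.inv_mem (K.pow_mem hyK i))]
  refine h1 _ (Subgroup.mul_mem _ (inv_mem (pow_mem hy i)) hg) ?_
  rw [← h3, mul_inv_eq_iff_eq_mul] at hi
  rw [mul_assoc, hi]
  group

namespace Cod

variable {E : Type} [Field E] {τ : E →+* E} (C : Cod E τ)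

/-- the check on the centraliser of a cyclic matrix -/
noncomputable def cent (n N : ℕ) (G X W : List (List ℕ)) (e : List ℕ) : Bool :=
  allV C.n n fun l => impB
    (allN n fun j => Nat.beq (C.hf G (iter (C.mv X) j l) l) (C.hf G (iter (C.mv X) j e) e))
    (exN N fun a => eqL l (iter (C.mv W) a e))

theorem cent_spec {n N : ℕ} {G x w : Matrix (Fin n) (Fin n) E} {e : Fin n → E} {G' X W e'}
    (h1 : C.cm G = G') (h2 : C.cm x = X) (h3 : C.cm w = W) (h4 : C.cv e = e')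
    (h : C.cent n N G' X W e' = true) (u : Fin n → E)
    (hu : ∀ j < n, gf τ G (x ^ j *ᵥ u) u = gf τ G (x ^ j *ᵥ e) e) : ∃ a < N, u = w ^ a *ᵥ e := by
  subst h1 h2 h3 h4
  obtain ⟨a, ha, h5⟩ := exN_iff.mp (impB_iff.mp (C.allV_cv h u) (allN_iff.mpr fun j hj => by
    rw [iter_cv, iter_cv, hf_cv, hf_cv, hu j hj, Nat.beq_refl]))
  exact ⟨a, ha, C.cv_inj (by rw [eqL_iff.mp h5, iter_cv])⟩

end Cod

end CL.Asch
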