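import Cfsg.Agent.CLAS.AschSu3

/-!
Explicit models: normalisers of Singer cycles in `SU₅(2)`, `SU₃(3)`, `SU₃(5)`.
-/

set_option autoImplicit false

namespace CL.Asch

open Matrix Cfsg.Geo

namespace M52

/-- Gram matrix -/
def G : Matrix (Fin 5) (Fin 5) E4 := E4.cod.dm 5 [[1, 0, 0, 1, 1], [0, 1, 0, 0, 1], [0, 0, 1, 0, 0], [1, 0, 0, 1, 0], [1, 1, 0, 0, 1]]
/-- an element of order 11 in `SU₅(2)` -/
def x : GL (Fin 5) E4 := glOfPow (E4.cod.dm 5 [[0, 0, 0, 0, 1], [1, 0, 0, 0, 2], [0, 1, 0, 0, 1], [0, 0, 1, 0, 1], [0, 0, 0, 1, 3]]) 10 (by decide +kernel)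
/-- normalising element -/
def y : GL (Fin 5) E4 := glOfPow (E4.cod.dm 5 [[0, 3, 1, 2, 2], [2, 1, 3, 3, 0], [0, 0, 2, 0, 3], [2, 0, 0, 2, 2], [2, 2, 3, 3, 1]]) 4 (by decide +kernel)
/-- generator of the centraliser -/
def w : GL (Fin 5) E4 := ⟨E4.cod.dm 5 [[0, 0, 0, 0, 2], [2, 0, 0, 0, 3], [0, 2, 0, 0, 2], [0, 0, 2, 0, 2], [0, 0, 0, 2, 1]], E4.cod.dm 5 [[1, 3, 0, 0, 0], [3, 0, 3, 0, 0], [3, 0, 0, 3, 0], [2, 0, 0, 0, 3], [3, 0, 0, 0, 0]],
  by decide +kernel, by decide +kernel⟩
/-- an involution of the overgroup -/
def a : GL (Fin 5) E4 := glOfPow (E4.cod.dm 5 [[1, 0, 1, 1, 0], [1, 3, 3, 2, 3], [1, 2, 1, 1, 3], [1, 2, 0, 0, 3], [1, 2, 0, 1, 2]]) 1 (by decide +kernel)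
/-- an involution outside the overgroup -/
def b : GL (Fin 5) E4 := glOfPow (E4.cod.dm 5 [[1, 0, 0, 0, 0], [0, 3, 0, 3, 2], [0, 0, 1, 0, 0], [0, 3, 0, 0, 3], [0, 3, 0, 1, 2]]) 1 (by decide +kernel)
/-- an orbit of the overgroup -/
noncomputable def p : List ℕ → Bool := mask 4 (nat_lit 0x101c011c0000642051401050c11102000020890080004404008400030000020004000085040202006000011160120a8106110320013810009000204020080001009a10191080410230020000004880001a100a01001c80400800050008204005300653802000080008003909a34400095c2400050900200c60006a0c0a00000)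

theorem herm : Herm E4.fr 1 G :=
  ⟨by decide +kernel, det_ne_zero_of_right_inverse (B := E4.cod.dm 5 [[0, 1, 0, 0, 1], [1, 1, 0, 1, 0], [0, 0, 1, 0, 0], [0, 1, 0, 1, 1], [1, 0, 0, 1, 0]]) (by decide +kernel),
    by decide +kernel, .inl rfl⟩

theorem x_mem : x ∈ suG E4.fr G := mem_suG.mpr ⟨by unfold IsSim; decide +kernel, det_eq_one_of_pow herm (k := 11) (by unfold IsSim; decide +kernel) (by decide +kernel) (by decide +kernel)⟩

theorem x_ord : orderOf x = 11 :=
  haveI : Fact (Nat.Prime 11) := ⟨by norm_num⟩
  orderOf_eq_prime (Units.ext (by rw [Units.val_pow_eq_pow_val]; decide +kernel))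
    (fun h => absurd (congrArg Units.val h) (by decide +kernel))

theorem pres : E4.cod.pres 5 p [[[0, 3, 1, 2, 2], [2, 1, 3, 3, 0], [0, 0, 2, 0, 3], [2, 0, 0, 2, 2], [2, 2, 3, 3, 1]], [[0, 0, 0, 0, 2], [2, 0, 0, 0, 3], [0, 2, 0, 0, 2], [0, 0, 2, 0, 2], [0, 0, 0, 2, 1]], [[1, 0, 1, 1, 0], [1, 3, 3, 2, 3], [1, 2, 1, 1, 3], [1, 2, 0, 0, 3], [1, 2, 0, 1, 2]]] = true := by
  decide +kernel

theorem nonMax : NonMax (suG E4.fr G) (NormPow x (2 ^ 2)) :=
  ⟨_, a, b, singer_model (y := y) (w := w) (N := 33) (m := 1) x_mem (by decide +kernel)
    (mem_suG.mpr ⟨by unfold IsSim; decide +kernel, det_eq_one_of_pow herm (k := 5) (by unfold IsSim; decide +kernel) (by decide +kernel) (by decide +kernel)⟩)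
    (E4.cod.mem_of_pres pres (by decide +kernel)) (by decide +kernel) (by decide +kernel)
    (E4.cod.mem_of_pres pres (by rw [Units.val_pow_eq_pow_val]; decide +kernel)) (fun _ _ _ => one_dvd _)
    (E4.cod.cent_spec (G' := [[1, 0, 0, 1, 1], [0, 1, 0, 0, 1], [0, 0, 1, 0, 0], [1, 0, 0, 1, 0], [1, 1, 0, 0, 1]]) (X := [[0, 0, 0, 0, 1], [1, 0, 0, 0, 2], [0, 1, 0, 0, 1], [0, 0, 1, 0, 1], [0, 0, 0, 1, 3]]) (W := [[0, 0, 0, 0, 2], [2, 0, 0, 0, 3], [0, 2, 0, 0, 2], [0, 0, 2, 0, 2], [0, 0, 0, 2, 1]]) (e' := [1, 0, 0, 0, 0])
      (by decide +kernel) (by decide +kernel) (by decide +kernel) (by decide +kernel) (by decide +kernel)),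
    mem_suG.mpr ⟨by unfold IsSim; decide +kernel, det_eq_one_of_pow herm (k := 2) (by unfold IsSim; decide +kernel) (by decide +kernel) (by decide +kernel)⟩,
    E4.cod.mem_of_pres pres (by decide +kernel), not_normPow (by decide +kernel),
    mem_suG.mpr ⟨by unfold IsSim; decide +kernel, det_eq_one_of_pow herm (k := 2) (by unfold IsSim; decide +kernel) (by decide +kernel) (by decide +kernel)⟩,
    E4.cod.not_mem_of (E4.cod.dv 5 [1, 2, 1, 3, 0]) (by decide +kernel) (by decide +kernel)⟩

end M52

namespace M33

/-- Gram matrix -/
def G : Matrix (Fin 3) (Fin 3) E9 := E9.cod.dm 3 [[1, 2, 0], [2, 1, 2], [0, 2, 1]]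
/-- an element of order 7 in `SU₃(3)` -/
def x : GL (Fin 3) E9 := glOfPow (E9.cod.dm 3 [[0, 0, 1], [1, 0, 5], [0, 1, 4]]) 6 (by decide +kernel)
/-- normalising element -/
def y : GL (Fin 3) E9 := glOfPow (E9.cod.dm 3 [[4, 4, 7], [5, 8, 4], [7, 7, 0]]) 2 (by decide +kernel)
/-- generator of the centraliser -/
def w : GL (Fin 3) E9 := ⟨E9.cod.dm 3 [[0, 0, 3], [3, 0, 8], [0, 3, 5]], E9.cod.dm 3 [[8, 6, 0], [5, 0, 6], [6, 0, 0]],
  by decide +kernel, by decide +kernel⟩
/-- an involution of the overgroup -/
def a : GL (Fin 3) E9 := glOfPow (E9.cod.dm 3 [[8, 8, 5], [7, 5, 1], [5, 6, 1]]) 1 (by decide +kernel)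
/-- an involution outside the overgroup -/
def b : GL (Fin 3) E9 := glOfPow (E9.cod.dm 3 [[7, 3, 8], [6, 6, 6], [8, 3, 7]]) 1 (by decide +kernel)
/-- an orbit of the overgroup -/
noncomputable def p : List ℕ → Bool := mask 9 (nat_lit 0x20000404140082412a00804006082001c44020000000000410060000008100024c484021804020000184040000808048e4000008902000000000200010000201005000000100203000000040001400008002040488004823005000)

theorem herm : Herm E9.fr 1 G :=
  ⟨by decide +kernel, det_ne_zero_of_right_inverse (B := E9.cod.dm 3 [[0, 2, 2], [2, 2, 2], [2, 2, 0]]) (by decide +kernel),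
    by decide +kernel, .inl rfl⟩

theorem x_mem : x ∈ suG E9.fr G := mem_suG.mpr ⟨by unfold IsSim; decide +kernel, by rw [det_fin_three]; decide +kernel⟩

theorem x_ord : orderOf x = 7 :=
  haveI : Fact (Nat.Prime 7) := ⟨by norm_num⟩
  orderOf_eq_prime (Units.ext (by rw [Units.val_pow_eq_pow_val]; decide +kernel))
    (fun h => absurd (congrArg Units.val h) (by decide +kernel))

theorem pres : E9.cod.pres 3 p [[[4, 4, 7], [5, 8, 4], [7, 7, 0]], [[0, 0, 3], [3, 0, 8], [0, 3, 5]], [[8, 8, 5], [7, 5, 1], [5, 6, 1]]] = true := by
  decide +kernel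

theorem nonMax : NonMax (suG E9.fr G) (NormPow x (3 ^ 2)) :=
  ⟨_, a, b, singer_model (y := y) (w := w) (N := 28) (m := 1) x_mem (by decide +kernel)
    (mem_suG.mpr ⟨by unfold IsSim; decide +kernel, by rw [det_fin_three]; decide +kernel⟩)
    (E9.cod.mem_of_pres pres (by decide +kernel)) (by decide +kernel) (by decide +kernel)
    (E9.cod.mem_of_pres pres (by rw [Units.val_pow_eq_pow_val]; decide +kernel)) (fun _ _ _ => one_dvd _)
    (E9.cod.cent_spec (G' := [[1, 2, 0], [2, 1, 2], [0, 2, 1]]) (X := [[0, 0, 1], [1, 0, 5], [0, 1, 4]]) (W := [[0, 0, 3], [3, 0, 8], [0, 3, 5]]) (e' := [1, 0, 0])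
      (by decide +kernel) (by decide +kernel) (by decide +kernel) (by decide +kernel) (by decide +kernel)),
    mem_suG.mpr ⟨by unfold IsSim; decide +kernel, by rw [det_fin_three]; decide +kernel⟩,
    E9.cod.mem_of_pres pres (by decide +kernel), not_normPow (by decide +kernel),
    mem_suG.mpr ⟨by unfold IsSim; decide +kernel, by rw [det_fin_three]; decide +kernel⟩,
    E9.cod.not_mem_of (E9.cod.dv 3 [6, 4, 2]) (by decide +kernel) (by decide +kernel)⟩

end M33

namespace M35

/-- Gram matrix -/
def G : Matrix (Fin 3) (Fin 3) E25 := E25.cod.dm 3 [[1, 9, 7], [24, 1, 9], [22, 24, 1]]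
/-- an element of order 7 in `SU₃(5)` -/
def x : GL (Fin 3) E25 := glOfPow (E25.cod.dm 3 [[0, 0, 1], [1, 0, 23], [0, 1, 22]]) 6 (by decide +kernel)
/-- normalising element -/
def y : GL (Fin 3) E25 := glOfPow (E25.cod.dm 3 [[22, 21, 8], [13, 1, 24], [8, 21, 7]]) 2 (by decide +kernel)
/-- generator of the centraliser -/
def w : GL (Fin 3) E25 := ⟨E25.cod.dm 3 [[2, 15, 13], [9, 21, 5], [15, 13, 3]], E25.cod.dm 3 [[3, 18, 10], [20, 6, 24], [18, 10, 2]],
  by decide +kernel, by decide +kernel⟩
/-- an involution of the overgroup -/
def a : GL (Fin 3) E25 := glOfPow (E25.cod.dm 3 [[2, 14, 17], [18, 7, 3], [4, 7, 20]]) 1 (by decide +kernel)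
/-- an involution outside the overgroup -/
def b : GL (Fin 3) E25 := glOfPow (E25.cod.dm 3 [[22, 5, 0], [4, 8, 0], [0, 0, 4]]) 1 (by decide +kernel)
/-- an orbit of the overgroup -/
noncomputable def p : List ℕ → Bool := mask 25 (nat_lit 0x90080100000000000000000000000480000000000000200000000000810000000201000000000000000000c0002080000000000800000028000000000104a6000000004001000000000000020018000004008000000000000000000000000000008080000000000001010000880000000006022944100400004004040020000000000000008000100000000000000000000000000000402200040000000000800408400000022000000000000000000000114a20000000000000000000c00000200400000480000000004000100000000018000000000102004004000000000000404000000000140000000001200010000004010000000000000000000000000000000000000000000000000000144011400000000000000000c0400004000810100040000208000080022000000000028000000200010000400040040000000000000000040020004000000000c000000000080080000000000000000000000000000018000080000001000000000000000000000000000010200000000009000002020000001000000028000004010000000000000020000000000110100008000000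00000000000000200100000000400200000000040040000020000000000000000000000000000000180000008008000000000000000000000200001000000000000080040000060000002000000000000008000008000280000000600000100001000090000000000000040040000008000000011000000000000400004000000000000000000000000000000000000000000000006002002000000000000001040000000010400000000104000000000000000800410200000000002001000400040240000800004008002000000400002000030000000000204000000000000000000002000000040000000000000000002080000000000000040040000000000c0002000008000000000000000000000200000102000000600000000000002001000000000000410000000000000000000000048020008000000000210010100000000000000000000000600000000000000180000000080329010008000050020010000024000002400088000000001001000000000000000820000000000000000000000000020000000000000000000000004000000006000000000110000000810000020000810000000000000000000000600204000004080000000000000000000000100000002001040000000020000420001030000000000000000000000000000000000000000000000000000000000040200140000080420000800200020000000000004800000000420080080000000240000000008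2000000000180200000011000000808000000000000000002200000000000000000000000000000000000030000000040000000002100000020000010010000000000000000000000202000000000000000100080000040440000200000000000100000000401000000a0000000020000000000000000000000300000000000000200206000000000000001800000000000000000000002020021000000000000000008000020000000000000000000100800000000200008000000000000040000810008014000001010009040192020001000400080002000108040000830000000000040114a00000000000000000000000000000000000000000000000000002008000040002400000000000000000005000000000011000020000008000000000044000000000000102000a00001400001002000001800000000000000000002944010000000000000000000201000001080000800800000000000000000000040040000000080080408000000082000000000000020010000000001004014a200800001800088004080000000000000000040040000000020200000000000000041000000c0000000000040080000000000000000000400080000a0000000800000000008200000000000000000000000220000000000c000000000200000000000000900014000000000000000000400804800000000000000000010080000000114a200400000000000000000200000004000000000000000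0000000000000000000020800000000000c00000000000010042000100000000000000000404800020400000000280000000000500000000004040000200400000002000100000000008000000000000001400000000000000000000000020000004040000022000000000100008000000800004208000000000040040000000000000000110000800010000000000000100020000108000000000000100000040114a0000000004020008040000000200004000000000001000000002001000000000000140000000000002040000088000000000040000000005000000010100000000000000000000000001040000000440000000008000000a2008a0000200000000040004200002000200800000000000000000000000000220000040800000000002000004100000044000000000202000000001800000808000001000000000000000000000000000000012000000000000000000200010000000080100000010001008000000000000000020400001002000000000000000000000000000000000000000080040000060000000000000000000000022020001000000000000000000000000000000000000000000000400010000000000000002002063012)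

theorem herm : Herm E25.fr 1 G :=
  ⟨by decide +kernel, det_ne_zero_of_right_inverse (B := E25.cod.dm 3 [[2, 7, 11], [22, 4, 7], [16, 22, 2]]) (by decide +kernel),
    by decide +kernel, .inl rfl⟩

theorem x_mem : x ∈ suG E25.fr G := mem_suG.mpr ⟨by unfold IsSim; decide +kernel, by rw [det_fin_three]; decide +kernel⟩

theorem x_ord : orderOf x = 7 :=
  haveI : Fact (Nat.Prime 7) := ⟨by norm_num⟩
  orderOf_eq_prime (Units.ext (by rw [Units.val_pow_eq_pow_val]; decide +kernel))
    (fun h => absurd (congrArg Units.val h) (by decide +kernel))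

theorem pres : E25.cod.pres 3 p [[[22, 21, 8], [13, 1, 24], [8, 21, 7]], [[23, 13, 15], [13, 13, 7], [13, 15, 17]], [[2, 14, 17], [18, 7, 3], [4, 7, 20]]] = true := by
  decide +kernel

theorem nonMax : NonMax (suG E25.fr G) (NormPow x (5 ^ 2)) :=
  ⟨_, a, b, singer_model (y := y) (w := w) (N := 126) (m := 6) x_mem (by decide +kernel)
    (mem_suG.mpr ⟨by unfold IsSim; decide +kernel, by rw [det_fin_three]; decide +kernel⟩)
    (E25.cod.mem_of_pres pres (by decide +kernel)) (by decide +kernel) (by decide +kernel)
    (E25.cod.mem_of_pres pres (by rw [Units.val_pow_eq_pow_val]; decide +kernel)) (by rw [det_fin_three]; decide +kernel)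
    (E25.cod.cent_spec (G' := [[1, 9, 7], [24, 1, 9], [22, 24, 1]]) (X := [[0, 0, 1], [1, 0, 23], [0, 1, 22]]) (W := [[2, 15, 13], [9, 21, 5], [15, 13, 3]]) (e' := [1, 0, 0])
      (by decide +kernel) (by decide +kernel) (by decide +kernel) (by decide +kernel) (by decide +kernel)),
    mem_suG.mpr ⟨by unfold IsSim; decide +kernel, by rw [det_fin_three]; decide +kernel⟩,
    E25.cod.mem_of_pres pres (by decide +kernel), not_normPow (by decide +kernel),
    mem_suG.mpr ⟨by unfold IsSim; decide +kernel, by rw [det_fin_three]; decide +kernel⟩,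
    E25.cod.not_mem_of (E25.cod.dv 3 [10, 10, 14]) (by decide +kernel) (by decide +kernel)⟩

end M35

variable {F : Type*} [Field F] [Fintype F] {q : ℕ} (hF : Fintype.card F = q ^ 2) {σ : F →+* F}
  (hσ : ∀ a, σ a = a ^ q)
include hF hσ

theorem three_le_of_singer_five {G : Matrix (Fin 5) (Fin 5) F} (hG : Herm σ 1 G)
    {K : Subalgebra F (Matrix (Fin 5) (Fin 5) F)} (hK : IsFieldSubalgebra 5 K)
    (ha : ∀ x ∈ K, ∃ y ∈ K, IsAdj σ G x y)
    (hH : IsMaximalIn (suG σ G) (subalgebraNormalizer K ⊓ suG σ G)) : 3 ≤ q := by
  refine (two_le_q hF hσ).lt_of_ne fun h => ?_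
  subst h
  exact singer_false hF hσ hG E4.card_eq E4.fr_eq M52.herm M52.x_mem (by norm_num) M52.x_ord
    (by norm_num) (by norm_num) (by decide +kernel) M52.nonMax hK ha hH

theorem ne_of_singer_three {G : Matrix (Fin 3) (Fin 3) F} (hG : Herm σ 1 G)
    {K : Subalgebra F (Matrix (Fin 3) (Fin 3) F)} (hK : IsFieldSubalgebra 3 K)
    (ha : ∀ x ∈ K, ∃ y ∈ K, IsAdj σ G x y)
    (hH : IsMaximalIn (suG σ G) (subalgebraNormalizer K ⊓ suG σ G)) : q ≠ 3 ∧ q ≠ 5 := by
  constructor <;> rintro rfl
  · exact singer_false hF hσ hG E9.card_eq E9.fr_eq M33.herm M33.x_mem (by norm_num) M33.x_ord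
      (by norm_num) (by norm_num) (by decide +kernel) M33.nonMax hK ha hH
  · exact singer_false hF hσ hG E25.card_eq E25.fr_eq M35.herm M35.x_mem (by norm_num) M35.x_ord
      (by norm_num) (by norm_num) (by decide +kernel) M35.nonMax hK ha hH

end CL.Asch
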