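import Cfsg.Agent.CLAS.AschSu5
import Cfsg.Agent.KSG.SpUClasses

/-!
Explicit models: the field extension subgroup of `SU₆(2)` and the extraspecial normaliser of `SU₃(5)`.
-/

set_option autoImplicit false

namespace CL.Asch

open Matrix Cfsg.Geo
open scoped Kronecker MatrixGroups commutatorElement

variable {F : Type*} [Field F] {ι κ μ : Type} [Fintype ι] [DecidableEq ι] [Fintype κ] [DecidableEq κ]
  [Fintype μ] [DecidableEq μ] {σ : F →+* F} {q : ℕ}

local notation "ρ" => RingHom.id F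

/-- a cube root of the scalar `w` -/
def x6 (w : F) : Matrix (Fin 6) (Fin 6) F :=
  !![0,0,w,0,0,0; 1,0,0,0,0,0; 0,1,0,0,0,0; 0,0,0,0,0,w; 0,0,0,1,0,0; 0,0,0,0,1,0]

/-- a symmetric form for which `x6 w` is self-adjoint -/
def b6 (w : F) : Matrix (Fin 6) (Fin 6) F :=
  !![0,0,0,1,0,0; 0,0,0,0,0,w; 0,0,0,0,w,0; 1,0,0,0,0,0; 0,0,w,0,0,0; 0,w,0,0,0,0]

theorem det_x6 (w : F) : (x6 w).det = w * w := by
  simp [x6, det_succ_row_zero, Fin.sum_univ_succ, Fin.succAbove]

theorem eq_x6 {w : F} (hw : w ≠ 0) {z : Matrix (Fin 6) (Fin 6) F}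
    (h1 : z * x6 w = x6 w * z) (h2 : (b6 w * z)ᵀ = b6 w * z) (h3 : ∀ i, (b6 w * z) i i = 0) :
    z = z 0 0 • 1 + z 1 0 • x6 w + z 2 0 • (x6 w * x6 w) := by
  simp [← Matrix.ext_iff, Fin.forall_fin_succ, mul_apply, Fin.sum_univ_succ, x6, b6, hw, one_apply, vecMul,
    dotProduct] at h1 h2 h3 ⊢
  grind

theorem alt_b6 (h2 : (2 : F) = 0) (w : F) (g : Matrix (Fin 6) (Fin 6) F) (i : Fin 6) :
    (gᵀ * b6 w * g) i i = 0 := by
  simp [mul_apply, b6, Fin.sum_univ_succ]
  grind

theorem conj_x6 {w : F}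
    (hw : ∀ a b c : F, a ^ 3 + w * b ^ 3 + w ^ 2 * c ^ 3 - 3 * w * a * b * c = 0 → a = 0 ∧ b = 0 ∧ c = 0)
    {x : Matrix (Fin 6) (Fin 6) F} (hx : x ^ 3 = w • 1) : ∃ P : GL (Fin 6) F, x * P = P * x6 w := by
  have h3 : ∀ v, x *ᵥ (x *ᵥ (x *ᵥ v)) = w • v := fun v => by
    rw [mulVec_mulVec, mulVec_mulVec, ← pow_three', hx, smul_mulVec, one_mulVec]
  let T : F → F → F → (Fin 6 → F) → Fin 6 → F := fun a b c v => a • v + b • x *ᵥ v + c • x *ᵥ (x *ᵥ v)
  have hT : ∀ d e f a b c v, T d e f (T a b c v) =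
      T (d * a + w * (e * c + f * b)) (d * b + e * a + w * f * c) (d * c + e * b + f * a) v := by
    intro d e f a b c v
    simp only [T, Matrix.mulVec_add, Matrix.mulVec_smul, h3]
    module
  have hN : ∀ a b c v, T (a ^ 2 - w * b * c) (w * c ^ 2 - a * b) (b ^ 2 - a * c) (T a b c v) =
      (a ^ 3 + w * b ^ 3 + w ^ 2 * c ^ 3 - 3 * w * a * b * c) • v := by
    intro a b c v
    rw [hT]
    simp only [T]
    module
  have hadd : ∀ d e f u v, T d e f (u + v) = T d e f u + T d e f v := by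
    intro d e f u v
    simp only [T, Matrix.mulVec_add]
    module
  let u : Fin 6 → F := Pi.single 0 1
  classical
  obtain ⟨v, hv⟩ := exists_not_mem_of_finrank_lt
    (Submodule.span F (({u, x *ᵥ u, x *ᵥ (x *ᵥ u)} : Finset (Fin 6 → F)) : Set (Fin 6 → F)))
    (((finrank_span_finset_le _).trans Finset.card_le_three).trans_lt (by simp))
  let P : Matrix (Fin 6) (Fin 6) F := (of ![u, x *ᵥ u, x *ᵥ (x *ᵥ u), v, x *ᵥ v, x *ᵥ (x *ᵥ v)])ᵀ
  have hP : IsUnit P := by
    refine mulVec_injective_iff_isUnit.mp ((injective_iff_map_eq_zero P.mulVecLin).mpr fun a ha => ?_)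
    have h1 : T (a 0) (a 1) (a 2) u + T (a 3) (a 4) (a 5) v = 0 := by
      rw [← ha, mulVecLin_apply, mulVec_transpose, vecMul_eq_sum]
      simp only [T, Fin.sum_univ_six, add_assoc]
      rfl
    have h2 := congrArg (T (a 3 ^ 2 - w * a 4 * a 5) (w * a 5 ^ 2 - a 3 * a 4) (a 4 ^ 2 - a 3 * a 5)) h1
    rw [hadd, hN, hT, show T _ _ _ 0 = 0 by simp [T]] at h2
    obtain ⟨h4, h5, h6⟩ := hw _ _ _ (by_contra fun h => hv (by
      rw [← Submodule.smul_mem_iff _ h, eq_neg_of_add_eq_zero_right h2]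
      refine Submodule.neg_mem _ (Submodule.add_mem _ (Submodule.add_mem _ ?_ ?_) ?_) <;>
        exact Submodule.smul_mem _ _ (Submodule.subset_span (by simp))))
    rw [h4, h5, h6, show T 0 0 0 v = 0 by simp [T], add_zero] at h1
    have h7 := hN (a 0) (a 1) (a 2) u
    rw [h1, show T _ _ _ 0 = 0 by simp [T]] at h7
    obtain ⟨h8, h9, h10⟩ := hw _ _ _ ((smul_eq_zero.mp h7.symm).resolve_right (single_one_ne_zero 0))
    ext i
    fin_cases i <;> assumption
  refine ⟨hP.unit, ?_⟩
  ext i j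
  change (x *ᵥ (![u, x *ᵥ u, x *ᵥ (x *ᵥ u), v, x *ᵥ v, x *ᵥ (x *ᵥ v)] j)) i = (P * x6 w) i j
  fin_cases j <;> simp [-mulVec_mulVec, h3, P, x6, mul_apply, Fin.sum_univ_succ, mul_comm]

/-- the element of order 9 -/
def x62 : GL (Fin 6) E4 := glOfPow (x6 (E4.cod.d 2)) 8 (by decide +kernel)

theorem herm_b6 : Herm (RingHom.id E4) 1 (b6 (E4.cod.d 2)) :=
  ⟨fun _ => rfl, det_ne_zero_of_right_inverse (B := b6 (E4.cod.d 3)) (by decide +kernel),
    by decide +kernel, .inl rfl⟩

theorem field6_model : ∀ g ∈ suG E4.fr 1, NormPow x62 (2 ^ 2) g →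
    g ∈ similarityGroup (gf (RingHom.id E4) (b6 (E4.cod.d 2))) := by
  rintro g hg ⟨i, hi⟩
  obtain ⟨h1, h2⟩ := mem_suG.mp hg
  rw [mul_inv_eq_iff_eq_mul] at hi
  have h3 : g.1 * x6 (E4.cod.d 2) = x6 (E4.cod.d 2) ^ (2 ^ 2) ^ i * g.1 := congrArg Units.val hi
  generalize (2 ^ 2) ^ i = j at h3
  generalize hw : E4.cod.d 2 = w at *
  have hx : IsAdj (RingHom.id E4) (b6 w) (x6 w) (x6 w) := by subst hw; unfold IsAdj; decide +kernel
  have hj := hx.pow j
  have hB : (b6 w).map E4.fr * b6 w = 1 := by subst hw; decide +kernel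
  have hB' : (b6 w)ᵀ = b6 w := by subst hw; decide +kernel
  simp only [IsAdj, RingHom.coe_id, Matrix.map_id] at hx hj
  obtain ⟨z, hz⟩ : ∃ z, z = (b6 w).map E4.fr * (g.1ᵀ * b6 w * g.1) := ⟨_, rfl⟩
  have h4 : b6 w * z = g.1ᵀ * b6 w * g.1 := by rw [hz, ← Matrix.mul_assoc, mul_eq_one_comm.mp hB, Matrix.one_mul]
  have h5 := eq_x6 (w := w) (z := z) (by subst hw; decide) (by
    rw [← Matrix.one_mul (x6 w * z), ← hB, Matrix.mul_assoc, ← Matrix.mul_assoc (b6 w), ← hx,
      Matrix.mul_assoc, h4, hz, Matrix.mul_assoc, Matrix.mul_assoc, h3, ← Matrix.mul_assoc (x6 w)ᵀ,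
      ← Matrix.mul_assoc (x6 w)ᵀ, ← transpose_mul, h3, transpose_mul, Matrix.mul_assoc _ _ (b6 w), hj]
    simp only [Matrix.mul_assoc]) (by
    rw [h4, transpose_mul, transpose_mul, transpose_transpose, hB', Matrix.mul_assoc]) fun i => by
    rw [h4, alt_b6 (by decide)]
  have h6 : IsSim E4.fr 1 1 z := by
    have h7 : IsSim E4.fr 1 1 g.1ᵀ := by
      rw [IsSim, Matrix.mul_one, one_smul] at h1 ⊢
      rw [transpose_transpose, mul_eq_one_comm, transpose_map, ← transpose_transpose g.1, ← transpose_mul,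
        transpose_transpose, h1, transpose_one]
    have h8 : IsSim E4.fr 1 1 (b6 w) ∧ IsSim E4.fr 1 1 ((b6 w).map E4.fr) := by
      subst hw; unfold IsSim; decide +kernel
    simpa [hz] using h8.2.mul ((h7.mul h8.1).mul h1)
  have h7 : z.det = 1 := by
    rw [hz, det_mul, det_mul, det_mul, det_transpose, h2, one_mul, mul_one, ← det_mul, hB, det_one]
  generalize z 0 0 = a, z 1 0 = b, z 2 0 = c at h5
  have h8 : (b = 0 ∧ c = 0) ∨ (a = 0 ∧ c = 0) ∨ (a = 0 ∧ b = 0) := by
    rw [h5, ← hw] at h6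
    exact (by unfold IsSim; decide +kernel : ∀ a b c : E4, IsSim E4.fr 1 1 (a • (1 : Matrix _ _ E4) +
      b • x6 (E4.cod.d 2) + c • (x6 (E4.cod.d 2) * x6 (E4.cod.d 2))) →
      (b = 0 ∧ c = 0) ∨ (a = 0 ∧ c = 0) ∨ (a = 0 ∧ b = 0)) a b c h6
  have h9 : ∀ b : E4, b ^ 6 * (w * w) ≠ 1 ∧ b ^ 6 * (w * w * (w * w)) ≠ 1 := by subst hw; decide +kernel
  obtain ⟨rfl, rfl⟩ | ⟨rfl, rfl⟩ | ⟨rfl, rfl⟩ := h8
  · refine (mem_similarityGroup (by subst hw; exact herm_b6.det_ne)).mpr ⟨a, ?_⟩
    rw [IsSim, RingHom.coe_id, Matrix.map_id, ← h4, h5]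
    simp
  · exact absurd (by simpa [h5, det_x6] using h7) (h9 b).1
  · exact absurd (by simpa [h5, det_x6] using h7) (h9 c).2

theorem conj_mem_suG {G : Matrix ι ι F} {g : GL ι F} (hg : g ∈ isoGrp σ G) (y : GL ι F) :
    g * y * g⁻¹ ∈ suG σ G ↔ y ∈ suG σ G :=
  and_congr ((Subgroup.mul_mem_cancel_right _ (inv_mem hg)).trans (Subgroup.mul_mem_cancel_left _ hg))
    ((MonoidHom.normal_ker _).mem_comm_iff.trans (by rw [inv_mul_cancel_left]; rfl))

theorem field6_false [Fintype F] (hF : Fintype.card F = 2 ^ 2)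
    (h : NonMax (suG E4.fr (1 : Matrix (Fin 6) (Fin 6) E4)) (NormPow x62 (2 ^ 2)))
    {K : Subalgebra F (Matrix (Fin 6) (Fin 6) F)} (hK : IsFieldSubalgebra 3 K)
    (ha : ∀ x ∈ K, ∃ y ∈ K, IsAdj (Uni.sig hF) 1 x y)
    (hH : IsMaximalIn (suG (Uni.sig hF) 1) (subalgebraNormalizer K ⊓ suG (Uni.sig hF) 1)) : False := by
  have hσ := Uni.sig_apply hF
  obtain ⟨φ, hφ⟩ := exists_phi hF hσ E4.card_eq E4.fr_eq
  obtain ⟨x, h1, h2, h3, h4⟩ := exists_field_elt hF hσ (herm_sig hF) hK ha (l := 9) (by norm_num)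
  have hw : φ (E4.cod.d 2) ^ 2 + φ (E4.cod.d 2) + 1 = 0 := by
    rw [← map_pow, ← map_add, ← map_one φ, ← map_add, map_eq_zero_iff _ φ.injective]; decide
  obtain ⟨k, hk⟩ : ∃ k : ℕ, (x ^ k).1 ^ 3 = φ (E4.cod.d 2) • 1 := by
    letI := (IsFieldSubalgebra.isField hK).toField
    let y : K := ⟨x, h3⟩
    have h5 : y ^ 9 = 1 := Subtype.ext (congrArg Units.val (h2 ▸ pow_orderOf_eq_one x))
    have h6 : y ^ 3 ≠ 1 := fun h => pow_ne_one_of_lt_orderOf (x := x) three_ne_zero (by omega)
      (Units.ext (congrArg Subtype.val h))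
    have h7 := congrArg (algebraMap F K) hw
    rw [map_add, map_add, map_pow, map_one, map_zero] at h7
    have : y ^ 3 = algebraMap F K (φ (E4.cod.d 2)) ∨ (y ^ 2) ^ 3 = algebraMap F K (φ (E4.cod.d 2)) := by
      grind
    rcases this with h | h
    · exact ⟨1, by rw [pow_one, ← Algebra.algebraMap_eq_smul_one]; exact congrArg Subtype.val h⟩
    · exact ⟨2, by rw [← Algebra.algebraMap_eq_smul_one]; exact congrArg Subtype.val h⟩
  obtain ⟨P, hP⟩ := conj_x6 (fun a b c h => by
    obtain ⟨a, rfl⟩ := φ.surjective a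
    obtain ⟨b, rfl⟩ := φ.surjective b
    obtain ⟨c, rfl⟩ := φ.surjective c
    simp only [map_eq_zero_iff _ φ.injective]
    refine (by decide +kernel : ∀ a b c : E4, a ^ 3 + E4.cod.d 2 * b ^ 3 + E4.cod.d 2 ^ 2 * c ^ 3 -
      3 * E4.cod.d 2 * a * b * c = 0 → a = 0 ∧ b = 0 ∧ c = 0) a b c (φ.injective ?_)
    simpa [map_ofNat] using h) hk
  have h5 : cpull (Uni.sig hF) 1 (Equiv.refl (Fin 6)) 1 = (1 : Matrix (Fin 6) (Fin 6) E4).map φ := by
    simp [cpull, gpull]
  have h6 : (trGL φ (Equiv.refl _) 1 x62).1 = x6 (φ (E4.cod.d 2)) := by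
    ext i j
    fin_cases i <;> fin_cases j <;> simp [coe_trGL, trM_apply, coord_apply, x62, glOfPow, x6]
  have h7 : trGL φ (Equiv.refl _) 1 x62 ∈ isoGrp (Uni.sig hF) 1 :=
    (isSim_trM_one hφ h5).mpr (by unfold IsSim; decide +kernel)
  rw [← GU_eq] at h1 h7
  obtain ⟨g, hg⟩ := isConj_iff.mp ((SpU.isConj_GU_iff' hF ⟨_, h7⟩ ⟨_, pow_mem h1 k⟩).mpr
    (isConj_iff.mpr ⟨P, mul_inv_eq_iff_eq_mul.mpr (Units.ext (by
      rw [Units.val_mul, Units.val_mul, h6]; exact hP.symm))⟩))
  exact normPow_false h _ (trGL_mem_suG hφ h5) hH (conj_mem_suG (GU_eq hF 6 ▸ g.2))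
    (congrArg Subtype.val hg) fun h hh => h4 h hh.1

theorem heis_coord [Fintype F] (hF : Fintype.card F = q ^ 2) (hσ : ∀ a, σ a = a ^ q)
    {G : Matrix (Fin 3) (Fin 3) F} (hG : Herm σ 1 G) (h3 : (3 : F) ≠ 0) {w : F} (hw : w ^ 2 + w + 1 = 0)
    {x y : Matrix (Fin 3) (Fin 3) F} (hx : IsSim σ G 1 x) (hy : IsSim σ G 1 y) (hx3 : x ^ 3 = 1)
    (hy3 : y ^ 3 = 1) (h : x * y = w • (y * x)) : ∃ (e : Fin 3 ≃ Fin 3) (P : GL (Fin 3) F),
      cpull σ G e P = 1 ∧ x = coord e P !![1, 0, 0; 0, w, 0; 0, 0, w ^ 2] ∧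
      y = coord e P !![0, 0, 1; 1, 0, 0; 0, 1, 0] := by
  have h1 : ∀ v, x *ᵥ (y *ᵥ v) = w • y *ᵥ (x *ᵥ v) := fun v => by
    rw [mulVec_mulVec, mulVec_mulVec, h, smul_mulVec]
  have hc : ∀ z : Matrix (Fin 3) (Fin 3) F, z ^ 3 = 1 → ∀ v, z *ᵥ (z *ᵥ (z *ᵥ v)) = v := fun z hz v => by
    rw [mulVec_mulVec, mulVec_mulVec, ← pow_three', hz, one_mulVec]
  have hy0 : ∀ v, y *ᵥ v = 0 → v = 0 := fun v hv => by rw [← hc y hy3 v, hv]; simp
  have hw1 : w - 1 ≠ 0 := by grind
  obtain ⟨v, hv0, hv⟩ : ∃ v, v ≠ 0 ∧ x *ᵥ v = v := by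
    by_contra h0
    have e0 : ∀ v, x *ᵥ v = v → v = 0 := fun v hv => by_contra fun h => h0 ⟨v, h, hv⟩
    have e1 : ∀ v, x *ᵥ v = w ^ 2 • v → v = 0 := fun v hv => hy0 _ (e0 _ (by
      rw [h1, hv, Matrix.mulVec_smul, smul_smul, show w * w ^ 2 = 1 by grind, one_smul]))
    have e2 : ∀ v, x *ᵥ v = w • v → v = 0 := fun v hv => hy0 _ (e1 _ (by
      rw [h1, hv, Matrix.mulVec_smul, smul_smul, sq]))
    let u : Fin 3 → F := Pi.single 0 1
    have t0 := e0 (u + x *ᵥ u + x *ᵥ (x *ᵥ u)) (by simp only [Matrix.mulVec_add, hc x hx3]; abel)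
    have t1 := e1 (u + w • x *ᵥ u + w ^ 2 • x *ᵥ (x *ᵥ u)) (by
      simp only [Matrix.mulVec_add, Matrix.mulVec_smul, hc x hx3]
      match_scalars <;> grind)
    have t2 := e2 (u + w ^ 2 • x *ᵥ u + w • x *ᵥ (x *ᵥ u)) (by
      simp only [Matrix.mulVec_add, Matrix.mulVec_smul, hc x hx3]
      match_scalars <;> grind)
    refine single_one_ne_zero (F := F) (0 : Fin 3) ((smul_eq_zero.mp (?_ : (3 : F) • u = 0)).resolve_left h3)
    linear_combination (norm := skip) t0 + t1 + t2
    match_scalars <;> grind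
  have ho : ∀ v, x *ᵥ v = v → gf σ G (y *ᵥ v) v = 0 ∧ gf σ G (y *ᵥ (y *ᵥ v)) v = 0 := fun v hv => by
    have h4 := isSim_one_iff.mp hx (y *ᵥ v) v
    have h5 := isSim_one_iff.mp hx (y *ᵥ (y *ᵥ v)) v
    rw [h1, hv, gf_smul_left] at h4
    rw [h1, h1, hv, Matrix.mulVec_smul, gf_smul_left, gf_smul_left] at h5
    constructor <;> grind
  obtain ⟨c, hc1⟩ := exists_norm_one hF hσ hG (v := v) fun h0 => by
    have h4 := two_mul_finrank_le hG (W := Submodule.span F (Set.range ![v, y *ᵥ v])) (by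
      intro a ha b hb
      simp only [range_cons, range_empty, Set.union_empty, Set.union_singleton,
        Submodule.mem_span_pair] at ha hb
      obtain ⟨a, a', rfl⟩ := ha
      obtain ⟨b, b', rfl⟩ := hb
      simp [gf_add_left, gf_add_right, gf_smul_left, gf_smul_right, h0, (ho v hv).1,
        hG.eq_zero_symm (ho v hv).1, isSim_one_iff.mp hy])
    rw [finrank_span_eq_card (LinearIndependent.pair_iff.mpr fun a b hab => ?_)] at h4
    · simp at h4
    have h5 := congrArg (x *ᵥ ·) hab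
    simp only [Matrix.mulVec_add, Matrix.mulVec_smul, h1, hv, mulVec_zero] at h5
    have h6 : (b * (w - 1)) • y *ᵥ v = 0 := by
      linear_combination (norm := skip) h5 - hab
      match_scalars <;> ring
    obtain rfl : b = 0 := (mul_eq_zero.mp ((smul_eq_zero.mp h6).resolve_right fun h =>
      hv0 (hy0 _ h))).resolve_right hw1
    simpa [hv0] using hab
  have hu : x *ᵥ (c • v) = c • v := by rw [Matrix.mulVec_smul, hv]
  generalize c • v = u at hc1 hu
  have h4 : gres σ G ![u, y *ᵥ u, y *ᵥ (y *ᵥ u)] = 1 := by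
    ext a b
    fin_cases a <;> fin_cases b <;> simp [-mulVec_mulVec, gres, hc1, isSim_one_iff.mp hy, (ho u hu).1,
      (ho u hu).2, hG.eq_zero_symm (ho u hu).1, hG.eq_zero_symm (ho u hu).2]
  obtain ⟨e, P, h5, h6⟩ := exists_coord_of_gram hG.surj G rfl _ (by rw [h4, det_one]; exact one_ne_zero)
  refine ⟨e, P, h6.trans h4, eq_coord_of fun a => ?_, eq_coord_of fun a => ?_⟩ <;> fin_cases a <;>
    simp [-mulVec_mulVec, h5, Fin.sum_univ_three, hu, h1, hc y hy3, Matrix.mulVec_smul, smul_smul, sq]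

/-- generators of the extraspecial group -/
def x35 : GL (Fin 3) E25 := glOfPow (E25.cod.dm 3 [[1, 0, 0], [0, 12, 0], [0, 0, 17]]) 2 (by decide +kernel)
/-- generators of the extraspecial group -/
def y35 : GL (Fin 3) E25 := glOfPow (E25.cod.dm 3 [[0, 0, 1], [1, 0, 0], [0, 1, 0]]) 2 (by decide +kernel)
/-- the centre of the extraspecial group -/
def z35 : GL (Fin 3) E25 := glOfPow (E25.cod.dm 3 [[12, 0, 0], [0, 12, 0], [0, 0, 12]]) 2 (by decide +kernel)
/-- the elements of the extraspecial group -/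
def r35 (t : Fin 3 × Fin 3 × Fin 3) : GL (Fin 3) E25 := z35 ^ t.1.1 * x35 ^ t.2.1.1 * y35 ^ t.2.2.1
/-- normalising the extraspecial group -/
def Norm35 (g : GL (Fin 3) E25) : Prop := (∃ t, g * x35 = r35 t * g) ∧ ∃ t, g * y35 = r35 t * g

theorem heis_false [Fintype F] (hF : Fintype.card F = 5 ^ 2) (hσ : ∀ a, σ a = a ^ 5)
    {G : Matrix (Fin 3) (Fin 3) F} (hG : Herm σ 1 G)
    (h : NonMax (suG E25.fr (1 : Matrix (Fin 3) (Fin 3) E25)) Norm35) {R : Subgroup (GL (Fin 3) F)}
    (hR : IsSymplecticTypeGroup 3 R) (htop : alg R = ⊤) (hc : ⁅R, R⁆ ≤ scalars (Fin 3) F)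
    (hle : R ≤ isoGrp σ G) (hcard : Nat.card R = 27)
    (hH : IsMaximalIn (suG σ G) (subgroupNormalizer R ⊓ suG σ G)) : False := by
  obtain ⟨φ, hφ⟩ := exists_phi hF hσ E25.card_eq E25.fr_eq
  have hw : φ (E25.cod.d 12) ^ 2 + φ (E25.cod.d 12) + 1 = 0 := by
    rw [← map_pow, ← map_add, ← map_one φ, ← map_add, map_eq_zero_iff _ φ.injective]; decide
  have h3 : (3 : F) ≠ 0 := by
    rw [← map_ofNat φ, map_ne_zero_iff _ φ.injective]; decide
  have hp : ∀ x ∈ R, x.1 ^ 3 = 1 := fun x hx => by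
    have := Monoid.pow_exponent_eq_one (⟨x, hx⟩ : R)
    rw [hR.exponent_eq] at this
    exact congrArg (fun z : R => z.1.1) this
  obtain ⟨x, hx, y, hy, hxy⟩ : ∃ x ∈ R, ∃ y ∈ R, x.1 * y.1 = φ (E25.cod.d 12) • (y.1 * x.1) := by
    obtain ⟨x, hx, y, hy, hxy⟩ : ∃ x ∈ R, ∃ y ∈ R, x.1 * y.1 ≠ y.1 * x.1 := by
      by_contra h0
      push Not at h0
      have := adjoin_comm (S := matrixSet R) (by rintro _ ⟨x, hx, rfl⟩ _ ⟨y, hy, rfl⟩; exact h0 x hx y hy)
        (single 0 1 1) (htop.ge trivial) (single 1 0 1) (htop.ge trivial)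
      simpa using congrFun (congrFun this 0) 0
    obtain ⟨c, hc⟩ := mem_scalars'.mp (hc (Subgroup.commutator_mem_commutator hx hy))
    have h4 : x.1 * y.1 = c • (y.1 * x.1) := by
      rw [← Matrix.one_mul (y.1 * x.1), ← Matrix.smul_mul, ← hc, ← Units.val_mul, ← Units.val_mul,
        ← Units.val_mul, commutatorElement_def]
      congr 1
      group
    have h5 := congrArg det h4
    rw [det_smul, det_mul, det_mul, Fintype.card_fin] at h5
    have h6 := x.isUnit.map detMonoidHom |>.ne_zero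
    have h7 := y.isUnit.map detMonoidHom |>.ne_zero
    simp only [coe_detMonoidHom] at h6 h7
    have h8 : c ≠ 1 := by rintro rfl; exact hxy (by simpa using h4)
    obtain rfl | h9 : c = φ (E25.cod.d 12) ∨ φ (E25.cod.d 12) * c = 1 := by grind
    · exact ⟨x, hx, y, hy, h4⟩
    · exact ⟨y, hy, x, hx, by rw [h4, smul_smul, h9, one_smul]⟩
  obtain ⟨e, P, h4, h5, h6⟩ := heis_coord hF hσ hG h3 hw (hle hx) (hle hy) (hp x hx) (hp y hy) hxy
  have e17 : φ (E25.cod.d 17) = φ (E25.cod.d 12) ^ 2 := by rw [← map_pow]; congr 1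
  have e0 : φ (E25.cod.d 0) = 0 := map_zero φ
  have e1 : φ (E25.cod.d 1) = 1 := map_one φ
  have h7 : trGL φ e P x35 = x := Units.ext (by
    rw [h5, coe_trGL, trM_apply]; congr 1; ext i j
    fin_cases i <;> fin_cases j <;> first | exact e0 | exact e1 | exact e17 | rfl)
  have h8 : trGL φ e P y35 = y := Units.ext (by
    rw [h6, coe_trGL, trM_apply]; congr 1; ext i j
    fin_cases i <;> fin_cases j <;> first | exact e0 | exact e1)
  have h9 : trGL φ e P z35 ∈ R := by
    rw [show z35 = x35 * y35 * x35⁻¹ * y35⁻¹ from Units.ext (by decide +kernel)]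
    simp only [map_mul, map_inv, h7, h8]
    exact R.mul_mem (R.mul_mem (R.mul_mem hx hy) (R.inv_mem hx)) (R.inv_mem hy)
  let f : Fin 3 × Fin 3 × Fin 3 → R := fun t => ⟨trGL φ e P (r35 t), by
    simp only [r35, map_mul, map_pow, h7, h8]
    exact R.mul_mem (R.mul_mem (R.pow_mem h9 _) (R.pow_mem hx _)) (R.pow_mem hy _)⟩
  have hf : Function.Bijective f := (Nat.bijective_iff_injective_and_card f).mpr ⟨fun t t' h =>
    (by decide +kernel : ∀ t t', (r35 t).1 = (r35 t').1 → t = t') t t'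
      (congrArg Units.val ((trGL φ e P).injective (congrArg Subtype.val h))), by simp [hcard]⟩
  have key : ∀ g z, trGL φ e P g ∈ subgroupNormalizer R → trGL φ e P z ∈ R → ∃ t, g * z = r35 t * g :=
    fun g z hg hz => by
      obtain ⟨t, ht⟩ := hf.2 ⟨_, (hg _).mp hz⟩
      refine ⟨t, (trGL φ e P).injective ?_⟩
      rw [map_mul, map_mul, show trGL φ e P (r35 t) = _ from congrArg Subtype.val ht, inv_mul_cancel_right]
  exact h.elim (trGL φ e P) (trGL_mem_suG hφ (by simp [h4])) hH fun g hg =>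
    ⟨key g _ hg.1 (h7 ▸ hx), key g _ hg.1 (h8 ▸ hy)⟩

/-- universal quantifier over a list -/
noncomputable def allL {α : Type} (L : List α) (f : α → Bool) : Bool :=
  List.rec true (fun a _ r => andB (f a) r) L

/-- existential quantifier over a list -/
noncomputable def exL {α : Type} (L : List α) (f : α → Bool) : Bool :=
  List.rec false (fun a _ r => orB (f a) r) L

theorem allL_iff {α : Type} {L : List α} {f : α → Bool} : allL L f = true ↔ ∀ a ∈ L, f a = true := by
  induction L with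
  | nil => simp [allL]
  | cons a L ih => rw [List.forall_mem_cons, ← ih]; exact andB_iff

theorem exL_iff {α : Type} {L : List α} {f : α → Bool} : exL L f = true ↔ ∃ a ∈ L, f a = true := by
  induction L with
  | nil => simp [exL]
  | cons a L ih => rw [List.exists_mem_cons_iff, ← ih]; exact orB_iff

namespace Cod

variable {E : Type} [Field E] {τ : E →+* E} (C : Cod E τ)

/-- the test for determinant one -/
noncomputable def det3 (a b c : List ℕ) : Bool :=
  Nat.beq (C.ad (C.ad (C.mu (C.mu (a.getD 0 0) (b.getD 1 0)) (c.getD 2 0))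
      (C.mu (C.mu (a.getD 1 0) (b.getD 2 0)) (c.getD 0 0))) (C.mu (C.mu (a.getD 2 0) (b.getD 0 0)) (c.getD 1 0)))
    (C.ad (C.ad (C.ad 1 (C.mu (C.mu (a.getD 0 0) (b.getD 2 0)) (c.getD 1 0)))
      (C.mu (C.mu (a.getD 1 0) (b.getD 0 0)) (c.getD 2 0))) (C.mu (C.mu (a.getD 2 0) (b.getD 1 0)) (c.getD 0 0)))

theorem det3_cv {g : Matrix (Fin 3) (Fin 3) E} (h : g.det = 1) : C.det3 (C.cv (g *ᵥ Pi.single 0 1))
    (C.cv (g *ᵥ Pi.single 1 1)) (C.cv (g *ᵥ Pi.single 2 1)) = true := by
  have h1 : ∀ v : Fin 3 → E, C.cv v = [C.c (v 0), C.c (v 1), C.c (v 2)] := fun _ => rfl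
  rw [det_fin_three] at h
  simp only [det3, h1, List.getD_cons_zero, List.getD_cons_succ, Nat.beq_eq, mulVec_single_one, col_apply]
  simp only [← C.mul, ← C.one, ← C.add]
  congr 1
  linear_combination h

/-- the check on the normaliser of the extraspecial group -/
noncomputable def heis (R Q : List (List (List ℕ))) : Bool :=
  allV C.n 3 fun u => impB (Nat.beq (C.dot u (mapL C.fc u)) 1) (impB (exL R.tail fun X => eqL (C.mv X u) u)
    (allL R fun Y => impB (Nat.beq (C.dot (C.mv Y u) (mapL C.fc u)) 0)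
      (impB (C.det3 u (C.mv Y u) (C.mv Y (C.mv Y u))) (exL Q fun A => exL R fun B =>
        andB (eqL (C.mv A (C.mv B [1, 0, 0])) u) (andB (eqL (C.mv A (C.mv B [0, 1, 0])) (C.mv Y u))
          (eqL (C.mv A (C.mv B [0, 0, 1])) (C.mv Y (C.mv Y u))))))))

end Cod

theorem heis_model {p : List ℕ → Bool} {R Q : List (List (List ℕ))} (h1 : E25.cod.heis R Q = true)
    (h2 : E25.cod.pres 3 p (Q ++ R) = true) (h3 : ∀ t, (r35 t).1 = 1 ∨ E25.cod.cm (r35 t).1 ∈ R.tail)
    (h4 : ∀ M ∈ Q ++ R, E25.cod.cm (E25.cod.dm 3 M) = M) :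
    ∀ g ∈ suG E25.fr 1, Norm35 g → g ∈ Cfsg.stabilizing (Cfsg.glToMat (Fin 3) E25) (E25.cod.set 3 p) := by
  rintro g hg ⟨⟨s, hs⟩, t, ht⟩
  obtain ⟨h5, h6⟩ := mem_suG.mp hg
  have hs' : g.1 * x35.1 = (r35 s).1 * g.1 := congrArg Units.val hs
  have ht' : ∀ v, (r35 t).1 *ᵥ (g.1 *ᵥ v) = g.1 *ᵥ (y35.1 *ᵥ v) := fun v => by
    rw [mulVec_mulVec, mulVec_mulVec, ← Units.val_mul, ← ht, Units.val_mul]
  have hx : E25.cod.cm (r35 s).1 ∈ R.tail := (h3 s).resolve_left fun h => by
    rw [show r35 s = 1 from Units.ext h, one_mul, mul_eq_left] at hs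
    exact absurd (congrArg Units.val hs) (by decide +kernel)
  have hy : E25.cod.cm (r35 t).1 ∈ R := List.mem_of_mem_tail ((h3 t).resolve_left fun h => by
    rw [show r35 t = 1 from Units.ext h, one_mul, mul_eq_left] at ht
    exact absurd (congrArg Units.val ht) (by decide +kernel))
  have hf : ∀ u v : Fin 3 → E25, E25.cod.dot (E25.cod.cv (g.1 *ᵥ u)) (mapL E25.cod.fc (E25.cod.cv (g.1 *ᵥ v))) =
      E25.cod.c (gf E25.fr 1 u v) := fun u v => by
    rw [E25.cod.map_cv _ _ E25.cod.fr, Cod.dot_cv, ← isSim_one_iff.mp h5, gf, one_mulVec]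
  have h7 := allL_iff.mp (impB_iff.mp (impB_iff.mp (E25.cod.allV_cv h1 (g.1 *ᵥ Pi.single 0 1)) (by
    rw [hf]; decide +kernel)) (exL_iff.mpr ⟨_, hx, by
      rw [Cod.mv_cv, mulVec_mulVec, ← hs', ← mulVec_mulVec,
        show x35.1 *ᵥ Pi.single 0 1 = Pi.single 0 1 by decide +kernel, eqL_iff]⟩)) _ hy
  rw [Cod.mv_cv, Cod.mv_cv, ht', ht', show y35.1 *ᵥ Pi.single 0 1 = Pi.single 1 1 by decide +kernel,
    show y35.1 *ᵥ Pi.single 1 1 = Pi.single 2 1 by decide +kernel, hf] at h7
  obtain ⟨A, hA, h8⟩ := exL_iff.mp (impB_iff.mp (impB_iff.mp h7 (by decide +kernel)) (E25.cod.det3_cv h6))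
  obtain ⟨B, hB, h9⟩ := exL_iff.mp h8
  have hA' := List.mem_append_left R hA
  have hB' := List.mem_append_right Q hB
  have h10 : g.1 = E25.cod.dm 3 A * E25.cod.dm 3 B := by
    rw [← h4 A hA', ← h4 B hB', show [1, 0, 0] = E25.cod.cv (Pi.single (0 : Fin 3) 1) by decide +kernel,
      show [0, 1, 0] = E25.cod.cv (Pi.single (1 : Fin 3) 1) by decide +kernel,
      show [0, 0, 1] = E25.cod.cv (Pi.single (2 : Fin 3) 1) by decide +kernel] at h9
    simp only [Cod.mv_cv, andB_iff, eqL_iff, mulVec_mulVec, mulVec_single_one] at h9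
    ext i j
    fin_cases j
    exacts [(congrFun (E25.cod.cv_inj h9.1) i).symm, (congrFun (E25.cod.cv_inj h9.2.1) i).symm,
      (congrFun (E25.cod.cv_inj h9.2.2) i).symm]
  refine mem_stabilizing_of_mapsTo fun v hv => ?_
  have key : ∀ M ∈ Q ++ R, ∀ v ∈ E25.cod.set 3 p, E25.cod.dm 3 M *ᵥ v ∈ E25.cod.set 3 p := fun M hM v hv => by
    have := allL_iff.mp (impB_iff.mp (E25.cod.allV_cv h2 v) hv) M hM
    rwa [← h4 M hM, Cod.mv_cv] at this
  rw [h10, ← mulVec_mulVec]
  exact key A hA' _ (key B hB' v hv)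

/-- an orbit of `3.M₁₀` -/
noncomputable def p35 : List ℕ → Bool := mask 25 (nat_lit 0x200000000000000000200008000000000000000000000000000000000000000000000000000000000000000000000000008000000000000008008000000000000000000060000020000000000000000000020000002000000000000020020000000000000000002000000000000000000000000000000000000020000000000000000000000000000000000000000000000000000000000000000000000000002000010000000000010000000008000000000000002000000000000000000000000000000000000008000000000000000000000000000000000000000000000000000000000000000000200008000000000000000000100000000000000000000000000000000000000000000000000000000000000000000000000300000000000008000000000000000000000200100100000000000000000000000020010000000000000410000110000400000100000000012000000000000010000010000000000020000000000000000000000000000000000000010000000000000000002000000000000000020000000008000000000110000000048020000100000020800000000000000010000000800000000008000000000000000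00000000000000000000004000000000000000000800000000000000000000000000000000000040000002000000000000000082000000000000008000000000000004008000000000000000000000000000000000000001000000000000000000000000008084008000000000000000000000000010000010000000000080000000200000000000020000000004000000000020000000000000000000000000000000000020000000020000000000000000000084020000000200000200000000000000001202080002000000200000220000000000000000020000080000000000000100000000000000000000000000000000001000000000000000000200000000000000000000000000000000000000000000000000000000000000000000010000010000000000000000000040000000000000000040000000800000000000800000000000000000000000000000000000000000000000000000000000000000000000008000020000000000010000022000002000000200008200000000000000000002000002000000000000090000080000000000000000010000000000000000000000000000000001000001000000000000000004020000000000002000000000000000200002000000000000000000000000000000000002000000000000000000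00000000040420040000000000000000000000000100000008000000000400000008000000000000020000000020000000020000000000000000000000000000000000000004000000100000000000000000000420100000000000000000000000000000000000000000800000002000000000004000820000000200020000000048000000000000004000000020000000002200000040000000000000000008000000000000000200000080000000000200000080000000000000000000010000000000000000000000000000000000010000000000000000000000000000000000000000000000000000000000000000000000080000000000000000003000000000000000000000000000000000000000000000000000000000000000000000000002000000000000080002000000000000002002001000000000000000000000000000000000000000000000000000000000000000000000000000004000000200000000000000004000000000000000000002000200000000000002000000000000000000000000000000000000000000000000000000000000000000000000000000000000000000000080000200000000000000000020000000000000000200000020000000000080000000000000000000000000000000000080080000000000000080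00000000000000000000000000000000000000000000000000000000000000000000000008000200000000000000000200000000000000000000800000c00000000000000000000000000000000000000000000000000000010000200000000000008000000900020000000400220000000000000000000200008000000000010400000800000000000000000100000000000000000000000000000000000010000040000000000000000210000000000000000800000000000010004000000000000000000000000000000000000800000000000000000000000000020210020000060000000000000000200000000000000000000000000000000000000000000000000000000000000000000000200200000000000000000000800000000000040000020000800000000000000000020000000000000100100000000000000000000000000000000000000000000000000000000000000000000000100000000000000000000000c00000000000020000800000400000000000000000000000000000000000000002000008000000000080000002000000000000000100000004000000000800000000000000000000000000000000000100000000020000000000000000000084020000000000000000000000000000000000000000840080840200000000000000000000042004042010000000000000000000000000000000000000000000000210020000000000000084020000000)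

/-- the extraspecial normaliser of `SU₃(5)` lies in `3.M₁₀` -/
theorem nonMax_heis : NonMax (suG E25.fr (1 : Matrix (Fin 3) (Fin 3) E25)) Norm35 :=
  ⟨_, glOfPow (E25.cod.dm 3 [[0, 14, 14], [19, 2, 3], [19, 3, 2]]) 1 (by decide +kernel),
    glOfPow (E25.cod.dm 3 [[1, 0, 0], [0, 6, 10], [0, 10, 21]]) 4 (by decide +kernel),
    heis_model (p := p35) (R := [[[1, 0, 0], [0, 1, 0], [0, 0, 1]],
    [[0, 0, 1], [1, 0, 0], [0, 1, 0]],
    [[0, 1, 0], [0, 0, 1], [1, 0, 0]],
    [[1, 0, 0], [0, 12, 0], [0, 0, 17]],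
    [[0, 0, 1], [12, 0, 0], [0, 17, 0]],
    [[0, 1, 0], [0, 0, 12], [17, 0, 0]],
    [[1, 0, 0], [0, 17, 0], [0, 0, 12]],
    [[0, 0, 1], [17, 0, 0], [0, 12, 0]],
    [[0, 1, 0], [0, 0, 17], [12, 0, 0]],
    [[12, 0, 0], [0, 12, 0], [0, 0, 12]],
    [[0, 0, 12], [12, 0, 0], [0, 12, 0]],
    [[0, 12, 0], [0, 0, 12], [12, 0, 0]],
    [[12, 0, 0], [0, 17, 0], [0, 0, 1]],
    [[0, 0, 12], [17, 0, 0], [0, 1, 0]],
    [[0, 12, 0], [0, 0, 17], [1, 0, 0]],
    [[12, 0, 0], [0, 1, 0], [0, 0, 17]],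
    [[0, 0, 12], [1, 0, 0], [0, 17, 0]],
    [[0, 12, 0], [0, 0, 1], [17, 0, 0]],
    [[17, 0, 0], [0, 17, 0], [0, 0, 17]],
    [[0, 0, 17], [17, 0, 0], [0, 17, 0]],
    [[0, 17, 0], [0, 0, 17], [17, 0, 0]],
    [[17, 0, 0], [0, 1, 0], [0, 0, 12]],
    [[0, 0, 17], [1, 0, 0], [0, 12, 0]],
    [[0, 17, 0], [0, 0, 1], [12, 0, 0]],
    [[17, 0, 0], [0, 12, 0], [0, 0, 1]],
    [[0, 0, 17], [12, 0, 0], [0, 1, 0]],
    [[0, 17, 0], [0, 0, 12], [1, 0, 0]]])
      (Q := [[[0, 0, 4], [0, 4, 0], [4, 0, 0]],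
    [[1, 0, 0], [0, 1, 0], [0, 0, 1]],
    [[8, 7, 8], [7, 8, 8], [7, 7, 15]],
    [[8, 8, 15], [7, 15, 15], [8, 15, 8]],
    [[8, 8, 8], [7, 15, 8], [15, 7, 8]],
    [[10, 10, 10], [10, 23, 22], [10, 22, 23]],
    [[10, 10, 23], [10, 23, 10], [22, 23, 23]],
    [[10, 10, 22], [10, 23, 23], [23, 10, 23]]])
      (by decide +kernel) (by decide +kernel) (by decide +kernel) (by decide +kernel),
    mem_suG.mpr ⟨by unfold IsSim; decide +kernel, by rw [det_fin_three]; decide +kernel⟩,
    E25.cod.mem_of_pres (L := [[[0, 14, 14], [19, 2, 3], [19, 3, 2]]]) (by decide +kernel) (by decide +kernel),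
    fun ⟨⟨t, ht⟩, _⟩ => absurd (congrArg Units.val ht) (by revert t; decide +kernel),
    mem_suG.mpr ⟨by unfold IsSim; decide +kernel, by rw [det_fin_three]; decide +kernel⟩,
    E25.cod.not_mem_of (E25.cod.dv 3 [21, 2, 9]) (by decide +kernel) (by decide +kernel)⟩

/-- the field extension subgroup of `SU₆(2)` lies in `3 × Sp₆(2)` -/
theorem nonMax_field6 : NonMax (suG E4.fr (1 : Matrix (Fin 6) (Fin 6) E4)) (NormPow x62 (2 ^ 2)) :=
  ⟨_, glOfPow (E4.cod.dm 6 [[1, 0, 0, 0, 0, 0], [0, 1, 0, 0, 0, 0], [0, 0, 0, 0, 1, 0], [0, 0, 0, 1, 0, 0], [0, 0, 1, 0, 0, 0], [0, 0, 0, 0, 0, 1]]) 1 (by decide +kernel),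
    glOfPow (E4.cod.dm 6 [[1, 0, 0, 0, 0, 0], [0, 1, 0, 0, 0, 0], [0, 0, 1, 0, 0, 0], [0, 0, 0, 1, 0, 0], [0, 0, 0, 0, 0, 1], [0, 0, 0, 0, 1, 0]]) 1 (by decide +kernel),
    field6_model, mem_suG_of_pow (herm_one (by decide +kernel)) 2 (by unfold IsSim; decide +kernel)
      (by decide +kernel) (by decide +kernel),
    (mem_similarityGroup herm_b6.det_ne).mpr ⟨1, by unfold IsSim; decide +kernel⟩,
    not_normPow (by decide +kernel), mem_suG_of_pow (herm_one (by decide +kernel)) 2 (by unfold IsSim; decide +kernel)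
      (by decide +kernel) (by decide +kernel),
    fun h => absurd ((mem_similarityGroup herm_b6.det_ne).mp h) (by unfold IsSim; decide +kernel)⟩

theorem three_le_of_field6 [Fintype F] (hF : Fintype.card F = q ^ 2)
    {K : Subalgebra F (Matrix (Fin 6) (Fin 6) F)} (hK : IsFieldSubalgebra 3 K)
    (ha : ∀ x ∈ K, ∃ y ∈ K, IsAdj (Uni.sig hF) 1 x y)
    (hH : IsMaximalIn (suG (Uni.sig hF) 1) (subalgebraNormalizer K ⊓ suG (Uni.sig hF) 1)) : 3 ≤ q := by
  refine (two_le_q hF (Uni.sig_apply hF)).lt_of_ne fun h => ?_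
  subst h
  exact field6_false hF nonMax_field6 hK ha hH

theorem eleven_le_of_heis [Fintype F] (hF : Fintype.card F = q ^ 2) (hσ : ∀ a, σ a = a ^ q) (hq : 3 ≤ q)
    {G : Matrix (Fin 3) (Fin 3) F} (hG : Herm σ 1 G) {p e : ℕ} (hm : IsMinimalFieldFor 3 p e F)
    {R : Subgroup (GL (Fin 3) F)} (hR : IsSymplecticTypeGroup 3 R) (htop : alg R = ⊤)
    (hc : ⁅R, R⁆ ≤ scalars (Fin 3) F) (hle : R ≤ isoGrp σ G) (hcard : Nat.card R = 3 ^ (1 + 2 * 1))
    (hH : IsMaximalIn (suG σ G) (subgroupNormalizer R ⊓ suG σ G)) : 11 ≤ p := by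
  obtain ⟨rfl, h1⟩ := min_three hF hm
  by_contra h
  obtain rfl | rfl : q = 5 ∨ q = 8 := by omega
  · exact heis_false hF hσ hG nonMax_heis hR htop hc hle hcard hH
  · exact absurd hm.1 (by norm_num)

end CL.Asch
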