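import Cfsg.Agent.CLAS.AschNil

/-!
Subfield structures coming from spanning subrings of the matrix algebra.
-/

set_option autoImplicit false

namespace CL.Asch

open Matrix Cfsg.Geo
open scoped Kronecker MatrixGroups

variable {F : Type*} [Field F] {ι κ : Type} [Fintype ι] [DecidableEq ι] [Fintype κ] [DecidableEq κ]

theorem exists_algHom_of_units (u : κ → κ → Matrix ι ι F)
    (h1 : ∀ a b d, u a b * u b d = u a d) (h2 : ∀ a b c d, b ≠ c → u a b * u c d = 0)
    (h3 : ∑ a, u a a = 1) : ∃ Φ : Matrix κ κ F →ₐ[F] Matrix ι ι F,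
      ∀ y, Φ y = ∑ a, ∑ b, y a b • u a b := by
  let L : Matrix κ κ F →ₗ[F] Matrix ι ι F :=
    liftLinear F (fun a b => LinearMap.toSpanSingleton F _ (u a b))
  have hL : ∀ y, L y = ∑ a, ∑ b, y a b • u a b := fun y => by
    simp only [L, liftLinear_apply, LinearMap.toSpanSingleton_apply]
  refine ⟨AlgHom.ofLinearMap L ?_ ?_, hL⟩
  · rw [hL, ← h3]
    refine Finset.sum_congr rfl fun a _ => ?_
    simp [one_apply]
  · intro x y
    simp only [hL, Finset.sum_mul, Finset.mul_sum, smul_mul_assoc, mul_smul_comm, mul_apply,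
      Finset.sum_smul]
    conv_rhs => rw [Finset.sum_comm]
    conv_lhs => rw [Finset.sum_comm]
    refine Finset.sum_congr rfl fun d _ => ?_
    conv_lhs => rw [Finset.sum_comm]
    refine Finset.sum_congr rfl fun c _ => ?_
    rw [Finset.smul_sum]
    refine Finset.sum_congr rfl fun a _ => ?_
    rw [Finset.smul_sum, Finset.sum_eq_single c]
    · rw [h1, smul_smul, mul_comm]
    · intro b _ hb
      rw [h2 _ _ _ _ hb, smul_zero, smul_zero]
    · intro h; exact absurd (Finset.mem_univ _) h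

/-- the scalars in a subring of matrices -/
def scalF [Finite F] (A : Subring (Matrix ι ι F)) : Subfield F where
  toSubring := A.comap (algebraMap F (Matrix ι ι F))
  inv_mem' x hx := by
    by_cases h0 : x = 0
    · rw [h0, _root_.inv_zero]; exact Subring.zero_mem _
    · obtain ⟨k, hk, hk'⟩ := (isOfFinOrder_of_finite (Units.mk0 x h0)).exists_pow_eq_one
      have h1 : x ^ k = 1 := congrArg Units.val hk'
      have : x⁻¹ = x ^ (k - 1) := by
        apply inv_eq_of_mul_eq_one_right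
        rw [← pow_succ', Nat.sub_add_cancel hk, h1]
      rw [this]
      exact Subring.pow_mem _ hx _

theorem mem_scalF [Finite F] {A : Subring (Matrix ι ι F)} {c : F} :
    c ∈ scalF A ↔ c • (1 : Matrix ι ι F) ∈ A := by
  rw [← Algebra.algebraMap_eq_smul_one]; rfl

theorem exists_subfield_coord [Finite F] [Nonempty ι] (A : Subring (Matrix ι ι F))
    (hspan : ∀ W : Submodule F (Matrix ι ι F), (∀ x ∈ A, x ∈ W) → W = ⊤) :
    ∃ P : GL ι F, ∀ x, x ∈ A ↔ ∀ i j, conjAlgHom P⁻¹ x i j ∈ scalF A := by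
  haveI : IsSemisimpleRing A := isSemisimpleRing_of_irr A ⊥ (fun h hh x hx => by
      rw [Subgroup.mem_bot.mp hh, conjAlgHom_one]; exact hx) (fun W hW _ => by
    apply eq_bot_or_top_of_all
    intro y v hv
    let L : Matrix ι ι F →ₗ[F] (ι → F) :=
      { toFun := fun x => x *ᵥ v, map_add' := fun x y => add_mulVec x y v,
        map_smul' := fun c x => smul_mulVec c x v }
    have : y ∈ W.comap L := by rw [hspan (W.comap L) (fun x hx => hW x hx v hv)]; trivial
    exact this)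
  let f : scalF A →+* A := ((algebraMap F (Matrix ι ι F)).comp (scalF A).subtype).codRestrict A
    (fun c => c.2)
  letI : Algebra (scalF A) A := f.toAlgebra' (fun c x => Subtype.ext (Algebra.commutes (c : F) (x : Matrix ι ι F)))
  obtain ⟨d, hd, ⟨e⟩⟩ := exists_algEquiv_matrix (R₀ := scalF A) (R := A) (fun z hz => by
    obtain ⟨c, hc⟩ := scalar_of_commute_univ (z : Matrix ι ι F) (fun x _ => by
      have : x ∈ Subalgebra.toSubmodule (Subalgebra.centralizer F {(z : Matrix ι ι F)}) := by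
        rw [hspan (Subalgebra.toSubmodule (Subalgebra.centralizer F {(z : Matrix ι ι F)}))
          (fun y hy => (Subalgebra.mem_centralizer_iff F).mpr (fun w hw => by
            obtain rfl : w = z := hw
            exact congrArg Subtype.val (hz ⟨y, hy⟩)))]
        trivial
      exact (Subalgebra.mem_centralizer_iff F).mp this _ rfl)
    exact ⟨⟨c, mem_scalF.mpr (hc ▸ z.2)⟩, Subtype.ext
      (hc.trans (Algebra.algebraMap_eq_smul_one c).symm)⟩)
  obtain ⟨Φ, hΦ⟩ := exists_algHom_of_units (fun a b => ((e.symm (single a b 1) : A) : Matrix ι ι F))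
    (fun a b d => by rw [← Subring.coe_mul, ← map_mul, single_mul_single_same, mul_one])
    (fun a b c d h => by
      rw [← Subring.coe_mul, ← map_mul, single_mul_single_of_ne _ _ _ _ h, map_zero, Subring.coe_zero])
    (by rw [← AddSubmonoidClass.coe_finset_sum, ← map_sum, sum_single_diag_one, map_one, Subring.coe_one])
  have hΦe : ∀ y : Matrix (Fin d) (Fin d) (scalF A),
      Φ (y.map (scalF A).subtype) = ((e.symm y : A) : Matrix ι ι F) := by
    intro y
    rw [hΦ]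
    conv_rhs => rw [matrix_eq_sum_single y]
    simp only [map_sum, AddSubmonoidClass.coe_finset_sum]
    refine Finset.sum_congr rfl fun a _ => Finset.sum_congr rfl fun b _ => ?_
    rw [show single a b (y a b) = y a b • (single a b 1 : Matrix (Fin d) (Fin d) (scalF A)) by simp,
      map_smul, Algebra.smul_def (y a b), Subring.coe_mul, Algebra.smul_def]
    rfl
  haveI : NeZero d := ⟨hd.ne'⟩
  have hsurj : Function.Surjective Φ := by
    intro x
    have : x ∈ LinearMap.range Φ.toLinearMap := by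
      rw [hspan (LinearMap.range Φ.toLinearMap) (fun y hy => ⟨_, (hΦe (e ⟨y, hy⟩)).trans (by simp)⟩)]
      trivial
    exact this
  obtain ⟨ε⟩ : Nonempty (ι ≃ Fin d) := Fintype.card_eq.mp (card_eq_of_surjective Φ hsurj)
  obtain ⟨P, hP⟩ := exists_coord Φ ε
  have hP' : ∀ y, conjAlgHom P⁻¹ (Φ y) = y.submatrix ε ε := fun y => by
    rw [hP]; exact conjAlgHom_inv_cancel P _
  refine ⟨P, fun x => ⟨fun hx i j => ?_, fun hx => ?_⟩⟩
  · have : x = Φ ((e ⟨x, hx⟩).map (scalF A).subtype) := by rw [hΦe]; simp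
    rw [this, hP']
    exact Subtype.prop _
  · let y : Matrix (Fin d) (Fin d) (scalF A) := Matrix.of fun a b => ⟨_, hx (ε.symm a) (ε.symm b)⟩
    have : x = Φ (y.map (scalF A).subtype) := by
      apply conjAlgHom_injective P⁻¹
      rw [hP']
      ext i j
      simp [y]
    rw [this, hΦe]
    exact Subtype.prop _

theorem mem_subfieldSubgroup_iff (F₀ : Subfield F) (P g : GL ι F) :
    g ∈ subfieldSubgroup F₀ P ↔ ∃ c : F, c ≠ 0 ∧ ∀ i j, c * conjAlgHom P⁻¹ g i j ∈ F₀ := by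
  constructor
  · rintro ⟨k, hk, rfl⟩
    obtain ⟨_, ⟨y, rfl⟩, z, hz, rfl⟩ := Subgroup.mem_sup_of_normal_right.mp hk
    obtain ⟨c, hc⟩ := (mem_scalars_iff z).mp hz
    refine ⟨(c : F)⁻¹, inv_ne_zero c.ne_zero, fun i j => ?_⟩
    have : conjAlgHom P⁻¹ (((MulAut.conj P).toMonoidHom
        (Matrix.GeneralLinearGroup.map F₀.subtype y * z) : GL ι F) : Matrix ι ι F) =
        (Matrix.GeneralLinearGroup.map F₀.subtype y * z : GL ι F) := conjAlgHom_inv_cancel P _
    rw [this, Units.val_mul, hc, Matrix.mul_smul, mul_one, Matrix.smul_apply, smul_eq_mul,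
      inv_mul_cancel_left₀ c.ne_zero]
    exact Subtype.prop _
  · rintro ⟨c, hc, h⟩
    let y : Matrix ι ι F₀ := Matrix.of fun i j => ⟨_, h i j⟩
    have hy : y.map F₀.subtype = c • conjAlgHom P⁻¹ g := by ext i j; simp [y]
    have hdet : y.det ≠ 0 := by
      intro h0
      have := congrArg F₀.subtype h0
      rw [RingHom.map_det, RingHom.mapMatrix_apply, hy, det_smul, map_zero, conjAlgHom_coe] at this
      exact mul_ne_zero (pow_ne_zero _ hc) (Matrix.GeneralLinearGroup.det_ne_zero _) this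
    refine ⟨P⁻¹ * g * P, ?_, by simp [mul_assoc]⟩
    refine Subgroup.mem_sup_of_normal_right.mpr ⟨_, ⟨Matrix.GeneralLinearGroup.mkOfDetNeZero y hdet, rfl⟩,
      Units.map (Matrix.scalar ι : F →+* Matrix ι ι F).toMonoidHom (Units.mk0 c hc)⁻¹, ⟨_, rfl⟩, ?_⟩
    apply Units.ext
    rw [Units.val_mul]
    change y.map F₀.subtype * scalar ι (c⁻¹) = _
    rw [hy, scalar_apply, ← smul_eq_mul_diagonal, smul_smul, inv_mul_cancel₀ hc, one_smul,
      conjAlgHom_coe, inv_inv]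

theorem subfieldSubgroup_mono {F₀ F₁ : Subfield F} (h : F₀ ≤ F₁) (P : GL ι F) :
    subfieldSubgroup F₀ P ≤ subfieldSubgroup F₁ P := by
  intro g hg
  rw [mem_subfieldSubgroup_iff] at hg ⊢
  obtain ⟨c, hc, hg⟩ := hg
  exact ⟨c, hc, fun i j => h (hg i j)⟩

theorem exists_entry_ne_zero [Nonempty ι] (g : GL ι F) : ∃ i j, (g : Matrix ι ι F) i j ≠ 0 := by
  by_contra h
  push Not at h
  exact g.ne_zero (Matrix.ext h)

theorem conj_single_apply (x y : Matrix ι ι F) (a b i j : ι) :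
    (x * single a b (1 : F) * y) i j = x i a * y b j := by
  rw [mul_apply, Finset.sum_eq_single b]
  · simp
  · intro c _ hc
    rw [mul_single_apply_of_ne _ _ _ _ _ hc, zero_mul]
  · simp

theorem mem_subfieldSubgroup_of_normalizes [Nonempty ι] {A : Subring (Matrix ι ι F)} {F₀ : Subfield F}
    {P : GL ι F} (hP : ∀ x, x ∈ A ↔ ∀ i j, conjAlgHom P⁻¹ x i j ∈ F₀) {h : GL ι F}
    (hh : ∀ x ∈ A, conjAlgHom h x ∈ A) : h ∈ subfieldSubgroup F₀ P := by
  rw [mem_subfieldSubgroup_iff]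
  obtain ⟨b, j, hbj⟩ := exists_entry_ne_zero (P⁻¹ * h * P)⁻¹
  refine ⟨_, hbj, fun i a => ?_⟩
  have h1 : conjAlgHom P (single a b 1) ∈ A := by
    rw [hP, conjAlgHom_inv_cancel]
    intro i j
    rw [single_apply]
    split_ifs
    exacts [F₀.one_mem, F₀.zero_mem]
  have h2 := (hP _).mp (hh _ h1) i j
  rw [← conjAlgHom_mul, ← conjAlgHom_mul, conjAlgHom_apply, conj_single_apply, mul_comm] at h2
  rw [conjAlgHom_coe, inv_inv]
  exact h2

variable {σ : F →+* F}

/-- Gram matrix in a new basis -/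
def gpull (σ : F →+* F) (G : Matrix ι ι F) (P : GL ι F) : Matrix ι ι F :=
  (P : Matrix ι ι F)ᵀ * G * (P : Matrix ι ι F).map σ

theorem gf_gpull (G : Matrix ι ι F) (P : GL ι F) (u v : ι → F) :
    gf σ (gpull σ G P) u v = gf σ G ((P : Matrix ι ι F) *ᵥ u) ((P : Matrix ι ι F) *ᵥ v) :=
  (gf_mulVec G _ u v).symm

theorem det_gpull (G : Matrix ι ι F) (P : GL ι F) :
    (gpull σ G P).det = (P : Matrix ι ι F).det * σ (P : Matrix ι ι F).det * G.det := by
  rw [gpull, det_mul, det_mul, det_transpose, RingHom.map_det, RingHom.mapMatrix_apply]; ring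

theorem Herm.gpull {ε : F} {G : Matrix ι ι F} (hG : Herm σ ε G) (P : GL ι F) :
    Herm σ ε (gpull σ G P) := by
  refine ⟨hG.invol, ?_, ?_, hG.eps⟩
  · rw [det_gpull]
    exact mul_ne_zero (mul_ne_zero P.det_ne_zero ((map_ne_zero σ).mpr P.det_ne_zero)) hG.det_ne
  · apply gf_inj (σ := σ)
    intro u v
    rw [← gf_swap hG.invol, gf_smul_gram, gf_gpull, gf_gpull, hG.swap]

theorem exists_zeta [Nonempty ι] {A : Subring (Matrix ι ι F)} {F₀ : Subfield F}
    {P : GL ι F} (hP : ∀ x, x ∈ A ↔ ∀ i j, conjAlgHom P⁻¹ x i j ∈ F₀) {ε : F} {G : Matrix ι ι F}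
    (hG : Herm σ ε G) (hA : ∀ x ∈ A, ∃ y ∈ A, IsAdj σ G x y) (hσ : ∀ c ∈ F₀, σ c ∈ F₀) :
    ∃ ζ : F, ζ ≠ 0 ∧ ∀ a b, ζ * gpull σ G P a b ∈ F₀ := by
  have hdet := (hG.gpull P).det_ne
  obtain ⟨i, b, hib⟩ := exists_entry_ne_zero (Matrix.GeneralLinearGroup.mkOfDetNeZero _ hdet)⁻¹
  refine ⟨_, hib, fun a j => ?_⟩
  have h1 : conjAlgHom P (single b a 1)ᵀ ∈ A := by
    rw [hP, conjAlgHom_inv_cancel]
    intro i j
    rw [transpose_apply, single_apply]
    split_ifs
    exacts [F₀.one_mem, F₀.zero_mem]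
  obtain ⟨y, hy, hxy⟩ := hA _ h1
  rw [← conjAlgHom_cancel_inv P y] at hxy
  have h2 : (single b a 1)ᵀᵀ * gpull σ G P = gpull σ G P * (conjAlgHom P⁻¹ y).map σ := isAdj_pull hxy
  have h3 : (conjAlgHom P⁻¹ y).map σ = (((Matrix.GeneralLinearGroup.mkOfDetNeZero _ hdet)⁻¹ : GL ι F) :
      Matrix ι ι F) * single b a (1 : F) * gpull σ G P := by
    rw [transpose_transpose] at h2
    rw [mul_assoc, h2]
    exact (Units.inv_mul_cancel_left (Matrix.GeneralLinearGroup.mkOfDetNeZero _ hdet) _).symm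
  have h4 := congrFun (congrFun h3 i) j
  rw [conj_single_apply] at h4
  rw [← h4]
  exact hσ _ ((hP y).mp hy i j)

theorem isFormRationalStructure_of {F₀ : Subfield F} {P : GL ι F} {G : Matrix ι ι F} {ζ : F}
    (h : ∀ a b, ζ * gpull σ G P a b ∈ F₀) (hσ : ∀ c ∈ F₀, σ c ∈ F₀) :
    IsFormRationalStructure (gf σ G) F₀ ζ P := by
  intro u v hu hv
  rw [← gf_gpull, gf_eq_sum, Finset.mul_sum]
  refine Subfield.sum_mem _ fun a _ => ?_
  rw [Finset.mul_sum]
  refine Subfield.sum_mem _ fun b _ => ?_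
  have := F₀.mul_mem (F₀.mul_mem (hu a) (h a b)) (hσ _ (hv b))
  convert this using 1
  ring

theorem map_mem_of_pow {F₁ : Subfield F} {Q : ℕ} (h : ∀ x, x ∈ F₁ ↔ x ^ Q = x) :
    ∀ c ∈ F₁, σ c ∈ F₁ := fun c hc => by
  rw [h] at hc ⊢
  rw [← map_pow, hc]

/-- the scalar matrix as an element of `GL` -/
def scGL (ι : Type) [Fintype ι] [DecidableEq ι] (c : F) (hc : c ≠ 0) : GL ι F :=
  Units.map (Matrix.scalar ι : F →+* Matrix ι ι F).toMonoidHom (Units.mk0 c hc)

theorem coe_scGL (c : F) (hc : c ≠ 0) : (scGL ι c hc : Matrix ι ι F) = c • (1 : Matrix ι ι F) := by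
  rw [smul_one_eq_diagonal]; rfl

theorem scGL_mem (c : F) (hc : c ≠ 0) : scGL ι c hc ∈ scalars ι F := ⟨_, rfl⟩

theorem conjAlgHom_scalar {z : GL ι F} (hz : z ∈ scalars ι F) (x : Matrix ι ι F) :
    conjAlgHom z x = x := by
  obtain ⟨c, hc⟩ := (mem_scalars_iff z).mp hz
  rw [conjAlgHom_eq_self_iff, hc, Matrix.smul_mul, Matrix.mul_smul, one_mul, mul_one]

theorem subfieldSubgroup_mul_scalar (F₀ : Subfield F) (P : GL ι F) {z : GL ι F}
    (hz : z ∈ scalars ι F) : subfieldSubgroup F₀ (P * z) = subfieldSubgroup F₀ P := by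
  ext g
  simp only [mem_subfieldSubgroup_iff, _root_.mul_inv_rev, conjAlgHom_mul,
    conjAlgHom_scalar (inv_mem hz)]

theorem gpull_mul_scGL (G : Matrix ι ι F) (P : GL ι F) (c : F) (hc : c ≠ 0) :
    gpull σ G (P * scGL ι c hc) = (c * σ c) • gpull σ G P := by
  rw [gpull, gpull, Units.val_mul, coe_scGL, Matrix.mul_smul, mul_one, transpose_smul, map_smul_eq,
    Matrix.smul_mul, Matrix.smul_mul, Matrix.mul_smul, smul_smul]

/-- The subfield case: output for a spanning subring normalised by `H` missing a scalar. -/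
theorem exists_subfield_class [Fintype F] [Nonempty ι] (A : Subring (Matrix ι ι F))
    (hspan : ∀ W : Submodule F (Matrix ι ι F), (∀ x ∈ A, x ∈ W) → W = ⊤)
    (hc : ∃ c : F, c • (1 : Matrix ι ι F) ∉ A) {H : Subgroup (GL ι F)}
    (hH : ∀ h ∈ H, ∀ x ∈ A, conjAlgHom h x ∈ A) :
    ∃ (F₁ : Subfield F) (r : ℕ) (P : GL ι F), r.Prime ∧ Fintype.card F = Nat.card F₁ ^ r ∧
      (∀ x, x ∈ F₁ ↔ x ^ Nat.card F₁ = x) ∧ H ≤ subfieldSubgroup F₁ P ∧
      ∀ (σ : F →+* F) (ε : F) (G : Matrix ι ι F), Herm σ ε G → (∀ x ∈ A, ∃ y ∈ A, IsAdj σ G x y) →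
        ∃ ζ : F, ζ ≠ 0 ∧ ∀ a b, ζ * gpull σ G P a b ∈ F₁ := by
  obtain ⟨P, hP⟩ := exists_subfield_coord A hspan
  obtain ⟨F₁, r, hr, hle, hcard, hmem⟩ := exists_prime_subfield (scalF A) (fun h => by
    obtain ⟨c, hc⟩ := hc
    apply hc
    rw [← mem_scalF, h]; trivial)
  refine ⟨F₁, r, P, hr, hcard, hmem, fun h hh =>
    subfieldSubgroup_mono hle P (mem_subfieldSubgroup_of_normalizes hP (hH h hh)), ?_⟩
  intro σ ε G hG hA
  obtain ⟨ζ, hζ, h⟩ := exists_zeta hP hG hA (fun c hc => by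
    rw [mem_scalF] at hc ⊢
    obtain ⟨y, hy, hxy⟩ := hA _ hc
    rwa [hxy.unique hG.det_ne ((isAdj_one G).smul hG.invol c)] at hy)
  exact ⟨ζ, hζ, fun a b => hle (h a b)⟩

theorem span_rclos {N : Subgroup (GL ι F)} (htop : alg N = ⊤) (W : Submodule F (Matrix ι ι F))
    (hW : ∀ x ∈ rclos N, x ∈ W) : W = ⊤ := by
  rw [eq_top_iff]
  intro y _
  exact alg_le_submodule (fun x hx => hW _ (mem_rclos hx)) y (by rw [htop]; trivial)

/-- A group fixing a bilinear and a sesquilinear form is realised over the fixed field. -/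
theorem fixed_of_two_forms [Nonempty ι] {τ : F →+* F} {N : Subgroup (GL ι F)}
    (hsc : ∀ c : F, c • (1 : Matrix ι ι F) ∈ rclos N) {G G' : Matrix ι ι F}
    (hσ : ∀ a, σ (σ a) = a) (hτ : ∀ a, τ (τ a) = a) (hG : G.det ≠ 0) (hG' : G'.det ≠ 0)
    (h1 : ∀ x ∈ N, IsSim σ G 1 (x : Matrix ι ι F)) (h2 : ∀ x ∈ N, IsSim τ G' 1 (x : Matrix ι ι F))
    (c : F) : σ c = τ c := by
  let W : AddSubgroup (Matrix ι ι F) :=
    { carrier := {x | ∃ y, IsAdj σ G x y ∧ IsAdj τ G' x y}
      add_mem' := by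
        rintro a b ⟨a', ha, ha'⟩ ⟨b', hb, hb'⟩
        exact ⟨a' + b', ha.add hb, ha'.add hb'⟩
      zero_mem' := ⟨0, isAdj_zero G, isAdj_zero G'⟩
      neg_mem' := by
        rintro a ⟨a', ha, ha'⟩
        exact ⟨-a', ha.neg, ha'.neg⟩ }
  obtain ⟨y, hy, hy'⟩ := rclos_le_addSubgroup (W := W)
    (fun x hx => ⟨_, (h1 x hx).isAdj_inv, (h2 x hx).isAdj_inv⟩) _ (hsc c)
  exact smul_one_inj (ι := ι) (((isAdj_one G).smul hσ c).unique hG hy |>.trans
    (hy'.unique hG' ((isAdj_one G').smul hτ c)))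

end CL.Asch
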