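import Cfsg.Agent.CLAS.AschSub

/-!
Forms in tensor coordinates, and the dictionary with the form predicates of the geometric classes.
-/

set_option autoImplicit false

namespace CL.Asch

open Matrix Cfsg.Geo
open scoped Kronecker MatrixGroups

variable {F : Type*} [Field F] {ι κ μ : Type} [Fintype ι] [DecidableEq ι] [Fintype κ] [DecidableEq κ]
  [Fintype μ] [DecidableEq μ] {σ : F →+* F}

/-- vectors in coordinates -/
def cvec (e : ι ≃ κ) (P : GL ι F) : (κ → F) ≃ₗ[F] (ι → F) :=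
  (LinearEquiv.funCongrLeft F F e).trans (Matrix.GeneralLinearGroup.toLin P).toLinearEquiv

theorem cvec_apply (e : ι ≃ κ) (P : GL ι F) (u : κ → F) : cvec e P u = (P : Matrix ι ι F) *ᵥ (u ∘ e) :=
  rfl

theorem coord_mulVec (e : ι ≃ κ) (P : GL ι F) (x : Matrix κ κ F) (u : κ → F) :
    coord e P x *ᵥ cvec e P u = cvec e P (x *ᵥ u) := by
  rw [cvec_apply, cvec_apply, coord_apply, ← conjAlgHom_apply, conj_mulVec, submatrix_mulVec_equiv]
  congr 3
  funext a; simp

/-- Gram matrix in coordinates -/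
def cpull (σ : F →+* F) (G : Matrix ι ι F) (e : ι ≃ κ) (P : GL ι F) : Matrix κ κ F :=
  (gpull σ G P).submatrix e.symm e.symm

theorem gf_cpull (G : Matrix ι ι F) (e : ι ≃ κ) (P : GL ι F) (u v : κ → F) :
    gf σ (cpull σ G e P) u v = gf σ G (cvec e P u) (cvec e P v) := by
  rw [cvec_apply, cvec_apply, ← gf_gpull, gf_eq_sum, gf_eq_sum, ← e.sum_comp]
  refine Finset.sum_congr rfl fun a _ => ?_
  rw [← e.sum_comp]
  simp [cpull]

theorem Herm.cpull {ε : F} {G : Matrix ι ι F} (hG : Herm σ ε G) (e : ι ≃ κ) (P : GL ι F) :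
    Herm σ ε (cpull σ G e P) := by
  refine ⟨hG.invol, ?_, ?_, hG.eps⟩
  · rw [Asch.cpull, det_submatrix_equiv_self]; exact (hG.gpull P).det_ne
  · apply gf_inj (σ := σ)
    intro u v
    rw [← gf_swap hG.invol, gf_smul_gram, gf_cpull, gf_cpull, hG.swap]

theorem isAdj_cpull {G : Matrix ι ι F} {e : ι ≃ κ} {P : GL ι F} {x y : Matrix κ κ F} :
    IsAdj σ (cpull σ G e P) x y ↔ IsAdj σ G (coord e P x) (coord e P y) := by
  simp only [isAdj_iff, gf_cpull, ← coord_mulVec]
  constructor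
  · intro h u v
    rw [← (cvec e P).apply_symm_apply u, ← (cvec e P).apply_symm_apply v, h]
  · intro h u v
    rw [h]

theorem isSim_cpull {G : Matrix ι ι F} {e : ι ≃ κ} {P : GL ι F} {x : Matrix κ κ F} {c : F} :
    IsSim σ (cpull σ G e P) c x ↔ IsSim σ G c (coord e P x) := by
  simp only [isSim_iff, gf_cpull, ← coord_mulVec]
  constructor
  · intro h u v
    rw [← (cvec e P).apply_symm_apply u, ← (cvec e P).apply_symm_apply v, h]
  · intro h u v
    rw [h]

theorem exists_cpull_eq {ε : F} {G₀ : Matrix κ κ F} (hG : Herm σ ε G₀) (e : ι ≃ κ) (P : GL ι F) :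
    ∃ G, Herm σ ε G ∧ cpull σ G e P = G₀ := by
  refine ⟨gpull σ (cpull σ G₀ e.symm 1) P⁻¹, (hG.cpull e.symm 1).gpull P⁻¹, ?_⟩
  apply gf_inj (σ := σ)
  intro u v
  rw [gf_cpull, gf_gpull, cvec_apply, cvec_apply, inv_mulVec_mulVec, inv_mulVec_mulVec, gf_cpull,
    cvec_apply, cvec_apply]
  simp [Function.comp_assoc]

theorem map_kronecker (x : Matrix κ κ F) (y : Matrix μ μ F) : (x ⊗ₖ y).map σ = x.map σ ⊗ₖ y.map σ := by
  ext ⟨a, b⟩ ⟨c, d⟩; simp

theorem transpose_kronecker (x : Matrix κ κ F) (y : Matrix μ μ F) : (x ⊗ₖ y)ᵀ = xᵀ ⊗ₖ yᵀ := rfl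

theorem IsAdj.kron {G₁ x y : Matrix κ κ F} {G₂ x' y' : Matrix μ μ F} (h : IsAdj σ G₁ x y)
    (h' : IsAdj σ G₂ x' y') : IsAdj σ (G₁ ⊗ₖ G₂) (x ⊗ₖ x') (y ⊗ₖ y') := by
  unfold IsAdj at *
  rw [transpose_kronecker, map_kronecker, ← mul_kronecker_mul, ← mul_kronecker_mul, h, h']

theorem scalar_of_commute_kron [Nonempty κ] (z : Matrix (κ × μ) (κ × μ) F)
    (h1 : ∀ x, z * kronL κ μ F x = kronL κ μ F x * z) (h2 : ∀ y, z * kronR κ μ F y = kronR κ μ F y * z) :
    ∃ c : F, z = c • (1 : Matrix (κ × μ) (κ × μ) F) := by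
  apply exists_smul_one_of_commute
  rintro ⟨a, b⟩ ⟨c, d⟩
  have : (single (a, b) (c, d) 1 : Matrix (κ × μ) (κ × μ) F) =
      kronL κ μ F (single a c 1) * kronR κ μ F (single b d 1) := by
    rw [kronL_mul_kronR, single_kronecker_single, mul_one]
  rw [this, ← mul_assoc, h1, mul_assoc, h2, mul_assoc]

theorem exists_cpull_eq_kron [Nonempty κ] [Nonempty μ] {ε ε₁ ε₂ : F} {G : Matrix ι ι F}
    {G₁ : Matrix κ κ F} {G₂ : Matrix μ μ F} (hG : Herm σ ε G) (hG₁ : Herm σ ε₁ G₁) (hG₂ : Herm σ ε₂ G₂)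
    (e : ι ≃ κ × μ) (P : GL ι F)
    (h1 : ∀ x y, IsAdj σ G₁ x y → IsAdj σ G (coord e P (kronL κ μ F x)) (coord e P (kronL κ μ F y)))
    (h2 : ∀ x y, IsAdj σ G₂ x y → IsAdj σ G (coord e P (kronR κ μ F x)) (coord e P (kronR κ μ F y))) :
    ∃ c : F, c ≠ 0 ∧ cpull σ G e P = c • (G₁ ⊗ₖ G₂) := by
  obtain ⟨c, hc⟩ := exists_smul_of_isAdj (σ := σ) (G := G₁ ⊗ₖ G₂) (G' := cpull σ G e P)
    (by rw [det_kronecker]; exact mul_ne_zero (pow_ne_zero _ hG₁.det_ne) (pow_ne_zero _ hG₂.det_ne))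
    (Set.range (kronL κ μ F) ∪ Set.range (kronR κ μ F))
    (fun z hz => scalar_of_commute_kron z (fun x => hz _ (Or.inl ⟨x, rfl⟩))
      (fun y => hz _ (Or.inr ⟨y, rfl⟩))) (by
      rintro _ (⟨x, rfl⟩ | ⟨x, rfl⟩)
      · obtain ⟨y, hy⟩ := exists_isAdj hG.invol hG₁.det_ne x
        exact ⟨kronL κ μ F y, hy.kron (isAdj_one G₂), isAdj_cpull.mpr (h1 x y hy)⟩
      · obtain ⟨y, hy⟩ := exists_isAdj hG.invol hG₂.det_ne x
        exact ⟨kronR κ μ F y, (isAdj_one G₁).kron hy, isAdj_cpull.mpr (h2 x y hy)⟩)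
  refine ⟨c, ?_, hc⟩
  rintro rfl
  apply (hG.cpull e P).det_ne
  rw [hc, zero_smul, det_zero]

theorem isTensorFormStructure_of {n₁ n₂ : ℕ} {G : Matrix ι ι F} {G₁ : Matrix (Fin n₁) (Fin n₁) F}
    {G₂ : Matrix (Fin n₂) (Fin n₂) F} {e : ι ≃ Fin n₁ × Fin n₂} {P : GL ι F} {c : F} (hc : c ≠ 0)
    (h : cpull σ G e P = c • (G₁ ⊗ₖ G₂)) :
    IsTensorFormStructure σ (gf σ G) (gf σ G₁) (gf σ G₂) e P :=
  ⟨c, hc, fun x y => by
    rw [← cvec_apply, ← cvec_apply, ← gf_cpull, h, gf_smul_gram, gramMatrix_gf, gramMatrix_gf,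
      formOfGram_eq]⟩

theorem eps_eq_of_smul [Nonempty κ] {ε ε' c : F} {G G' : Matrix κ κ F} (hG : Herm (RingHom.id F) ε G)
    (h : G = c • G') (h' : G'ᵀ = ε' • G') : ε = ε' := by
  have h1 := hG.herm
  have h2 : G.map (RingHom.id F) = G := rfl
  rw [h2] at h1
  have h3 : Gᵀ = ε' • G := by rw [h, transpose_smul, h', smul_comm]
  have hG0 : G ≠ 0 := by rintro rfl; exact hG.det_ne det_zero
  exact smul_left_injective F hG0 (h1.symm.trans h3)

theorem Herm.transpose_eq {ε : F} {G : Matrix κ κ F} (hG : Herm (RingHom.id F) ε G) : Gᵀ = ε • G :=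
  hG.herm

theorem eps_eq_mul [Nonempty κ] [Nonempty μ] {ε ε₁ ε₂ c : F} {G : Matrix (κ × μ) (κ × μ) F}
    {G₁ : Matrix κ κ F} {G₂ : Matrix μ μ F} (hG : Herm (RingHom.id F) ε G)
    (hG₁ : Herm (RingHom.id F) ε₁ G₁) (hG₂ : Herm (RingHom.id F) ε₂ G₂) (h : G = c • (G₁ ⊗ₖ G₂)) :
    ε = ε₁ * ε₂ :=
  eps_eq_of_smul hG h (by
    rw [transpose_kronecker, hG₁.transpose_eq, hG₂.transpose_eq, smul_kronecker, kronecker_smul,
      smul_smul])

variable {t : ℕ}

theorem map_pureM (x : Fin t → Matrix κ κ F) : (pureM x).map σ = pureM (fun i => (x i).map σ) := by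
  ext a b; simp [pureM_apply]

theorem transpose_pureM (x : Fin t → Matrix κ κ F) : (pureM x)ᵀ = pureM (fun i => (x i)ᵀ) := rfl

theorem pureM_smul (c : Fin t → F) (x : Fin t → Matrix κ κ F) :
    pureM (fun i => c i • x i) = (∏ i, c i) • pureM x :=
  (pureML t κ F).map_smul_univ c x

theorem isAdj_pureM {G x y : Fin t → Matrix κ κ F} (h : ∀ i, IsAdj σ (G i) (x i) (y i)) :
    IsAdj σ (pureM G) (pureM x) (pureM y) := by
  unfold IsAdj at *
  rw [transpose_pureM, map_pureM, pureM_mul, pureM_mul]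
  congr 1
  funext i
  exact h i

theorem isAdj_embT {G : Fin t → Matrix κ κ F} (i : Fin t) {x y : Matrix κ κ F}
    (h : IsAdj σ (G i) x y) : IsAdj σ (pureM G) (embT i x) (embT i y) := by
  rw [embT_apply, embT_apply]
  apply isAdj_pureM
  intro j
  by_cases hj : j = i
  · subst hj; simpa using h
  · simpa [Function.update_of_ne hj] using isAdj_one (G j)

theorem det_pureM_ne {G : Fin t → Matrix κ κ F} (h : ∀ i, (G i).det ≠ 0) : (pureM G).det ≠ 0 :=
  (pureGL fun i => Matrix.GeneralLinearGroup.mkOfDetNeZero (G i) (h i)).det_ne_zero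

theorem exists_cpull_eq_pure [Nonempty κ] {ε : F} {G : Matrix ι ι F} {G₁ : Fin t → Matrix κ κ F}
    (hG : Herm σ ε G) (hG₁ : ∀ i, (G₁ i).det ≠ 0) (e : ι ≃ (Fin t → κ)) (P : GL ι F)
    (h1 : ∀ i x y, IsAdj σ (G₁ i) x y → IsAdj σ G (coord e P (embT i x)) (coord e P (embT i y))) :
    ∃ c : F, c ≠ 0 ∧ cpull σ G e P = c • pureM G₁ := by
  obtain ⟨c, hc⟩ := exists_smul_of_isAdj (σ := σ) (G := pureM G₁) (G' := cpull σ G e P)
    (det_pureM_ne hG₁) {z | ∃ i x, embT i x = z}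
    (fun z hz => exists_smul_one_of_commute_embT (fun i x => hz _ ⟨i, x, rfl⟩)) (by
      rintro _ ⟨i, x, rfl⟩
      obtain ⟨y, hy⟩ := exists_isAdj hG.invol (hG₁ i) x
      exact ⟨embT i y, isAdj_embT i hy, isAdj_cpull.mpr (h1 i x y hy)⟩)
  refine ⟨c, ?_, hc⟩
  rintro rfl
  apply (hG.cpull e P).det_ne
  rw [hc, zero_smul, det_zero]

theorem isTensorPowerFormStructure_of {k : ℕ} {G : Matrix ι ι F} {G₁ : Matrix (Fin k) (Fin k) F}
    {e : ι ≃ (Fin t → Fin k)} {P : GL ι F} {c : F} (hc : c ≠ 0)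
    (h : cpull σ G e P = c • pureM (fun _ => G₁)) :
    IsTensorPowerFormStructure σ (gf σ G) (gf σ G₁) e P :=
  ⟨c, hc, fun x y => by
    rw [← cvec_apply, ← cvec_apply, ← gf_cpull, h, gf_smul_gram, gramMatrix_gf, gf_eq_sum]; rfl⟩

theorem eps_eq_pow [Nonempty κ] {ε ε₁ c : F} {G : Matrix (Fin t → κ) (Fin t → κ) F}
    {G₁ : Matrix κ κ F} (hG : Herm (RingHom.id F) ε G) (hG₁ : Herm (RingHom.id F) ε₁ G₁)
    (h : G = c • pureM (fun _ => G₁)) : ε = ε₁ ^ t :=
  eps_eq_of_smul hG h (by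
    rw [transpose_pureM, hG₁.transpose_eq, pureM_smul (fun _ => ε₁) (fun _ => G₁)]; simp)

theorem transpose_permT (s : Equiv.Perm (Fin t)) : (permT κ F s)ᵀ = permT κ F s⁻¹ := by
  ext a b
  simp only [permT, transpose_apply, of_apply]
  congr 1
  apply propext
  constructor
  · rintro rfl; funext i; simp
  · rintro rfl; funext i; simp

theorem map_permT (s : Equiv.Perm (Fin t)) : (permT κ F s).map σ = permT κ F s := by
  ext a b
  simp only [permT, map_apply, of_apply]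
  split_ifs <;> simp

theorem isSim_permT (G₁ : Matrix κ κ F) (s : Equiv.Perm (Fin t)) :
    IsSim σ (pureM fun _ : Fin t => G₁) 1 (permT κ F s) := by
  rw [IsSim, transpose_permT, map_permT, permT_mul_pureM, mul_assoc, permT_mul, inv_mul_cancel,
    permT_one, mul_one, one_smul]
  rfl

theorem isSim_pureM {G x : Fin t → Matrix κ κ F} {c : Fin t → F} (h : ∀ i, IsSim σ (G i) (c i) (x i)) :
    IsSim σ (pureM G) (∏ i, c i) (pureM x) := by
  unfold IsSim at *
  rw [transpose_pureM, map_pureM, pureM_mul, pureM_mul, ← pureM_smul]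
  congr 1
  funext i
  exact h i

theorem IsSim.mul {G x y : Matrix ι ι F} {c d : F} (hx : IsSim σ G c x) (hy : IsSim σ G d y) :
    IsSim σ G (c * d) (x * y) := by
  rw [isSim_iff] at *
  intro u v
  rw [← mulVec_mulVec, ← mulVec_mulVec, hx, hy, mul_assoc]

theorem IsSim.smul {G x : Matrix ι ι F} {c : F} (hx : IsSim σ G c x) (d : F) :
    IsSim σ G (d * σ d * c) (d • x) := by
  rw [isSim_iff] at *
  intro u v
  rw [smul_mulVec, smul_mulVec, gf_smul_left, gf_smul_right, hx]; ring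

/-- the standard alternating form in dimension two -/
def J2 (F : Type*) [Field F] : Matrix (Fin 2) (Fin 2) F := !![0, 1; -1, 0]

theorem herm_J2 : Herm (RingHom.id F) (-1) (J2 F) := by
  refine ⟨fun _ => rfl, by simp [J2], ?_, Or.inr ⟨rfl, fun _ => rfl⟩⟩
  ext a b
  fin_cases a <;> fin_cases b <;> simp [J2]

theorem isSim_J2 (a : Matrix (Fin 2) (Fin 2) F) : IsSim (RingHom.id F) (J2 F) a.det a := by
  ext i j
  fin_cases i <;> fin_cases j <;> simp [J2, det_fin_two, mul_apply, Fin.sum_univ_two, vecMul,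
    dotProduct] <;> ring

theorem isAdj_J2 (a : Matrix (Fin 2) (Fin 2) F) : IsAdj (RingHom.id F) (J2 F) a (adjugate a) := by
  ext i j
  fin_cases i <;> fin_cases j <;> simp [J2, adjugate_fin_two, mul_apply, Fin.sum_univ_two, vecMul,
    dotProduct]

theorem herm_pureM_id {ε : F} {G₁ : Matrix κ κ F} (h : Herm (RingHom.id F) ε G₁) :
    Herm (RingHom.id F) (ε ^ t) (pureM fun _ : Fin t => G₁) := by
  refine ⟨fun _ => rfl, det_pureM_ne fun _ => h.det_ne, ?_, ?_⟩
  · change (pureM fun _ : Fin t => G₁)ᵀ = _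
    rw [transpose_pureM, h.transpose_eq, pureM_smul (fun _ => ε) (fun _ => G₁)]; simp
  · rcases h.eps with rfl | ⟨rfl, -⟩
    · simp
    · rcases neg_one_pow_eq_or F t with h | h
      · exact Or.inl h
      · exact Or.inr ⟨h, fun _ => rfl⟩

/-- A group permuting the factors of `2 ⊗ ⋯ ⊗ 2` preserves a bilinear form up to scalars. -/
theorem exists_form_two_tensor (e : ι ≃ (Fin t → Fin 2)) (P : GL ι F) :
    ∃ G : Matrix ι ι F, Herm (RingHom.id F) ((-1) ^ t) G ∧
      cpull (RingHom.id F) G e P = pureM (fun _ => J2 F) ∧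
      ∀ (g : GL ι F) (s : Equiv.Perm (Fin t)),
        (∀ i x, ∃ y, conjAlgHom g (coord e P (embT i x)) = coord e P (embT (s i) y)) →
        ∃ c, IsSim (RingHom.id F) G c g := by
  obtain ⟨G, hG, hGe⟩ := exists_cpull_eq (herm_pureM_id (t := t) (herm_J2 (F := F))) e P
  refine ⟨G, hG, hGe, fun g s hg => ?_⟩
  obtain ⟨c, a, -, h⟩ := exists_eq_pure_perm ((coordGL e P).symm g) s (fun i x => by
    obtain ⟨y, hy⟩ := hg i x
    refine ⟨y, (coord_bijective e P).1 ?_⟩
    rw [← conj_coord, MulEquiv.apply_symm_apply, hy])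
  have := ((isSim_pureM fun i => isSim_J2 (a i : Matrix (Fin 2) (Fin 2) F)).mul
    (isSim_permT (J2 F) s)).smul c
  rw [← h, ← hGe, isSim_cpull, coord_symm] at this
  exact ⟨_, this⟩

/-! ### dictionary -/

theorem alt_of_diag {G : Matrix ι ι F} (h1 : Gᵀ = -G) (h2 : ∀ a, G a a = 0) (v : ι → F) :
    gf (RingHom.id F) G v v = 0 := by
  have hs : ∀ u w, gf (RingHom.id F) G u w + gf (RingHom.id F) G w u = 0 := by
    intro u w
    have := gf_swap (σ := RingHom.id F) (fun _ => rfl) G u w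
    change gf _ G u w = gf _ Gᵀ w u at this
    rw [this, h1, ← neg_one_smul F G, gf_smul_gram]; ring
  induction v using Pi.single_induction with
  | zero => exact gf_zero_left _ _
  | add u w hu hw =>
    rw [gf_add_left, gf_add_right, gf_add_right, hu, hw]
    linear_combination hs u w
  | single i c =>
    rw [show (Pi.single i c : ι → F) = c • (Pi.single i 1 : ι → F) by
      rw [← Pi.single_smul, smul_eq_mul, mul_one], gf_smul_left, gf_smul_right, gf_single, h2]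
    simp

theorem Herm.alt_of_two_ne {G : Matrix ι ι F} (hG : Herm (RingHom.id F) (-1) G) (h2 : (2 : F) ≠ 0)
    (v : ι → F) : gf (RingHom.id F) G v v = 0 := by
  have := hG.swap v v
  rw [RingHom.id_apply] at this
  have h3 : 2 * gf (RingHom.id F) G v v = 0 := by linear_combination this
  exact (mul_eq_zero.mp h3).resolve_left h2

theorem isSymplecticForm_gf {G : Matrix ι ι F} (hG : G.det ≠ 0)
    (h : ∀ v, gf (RingHom.id F) G v v = 0) : IsSymplecticForm (gf (RingHom.id F) G) := by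
  refine ⟨isBilinearForm_gf G, fun v w => ?_, h, isNondegenerateForm_gf Function.surjective_id hG⟩
  have := h (v + w)
  rw [gf_add_left, gf_add_right, gf_add_right, h, h] at this
  linear_combination this

theorem even_card_of_gf {G : Matrix ι ι F} (hG : G.det ≠ 0)
    (h : ∀ v, gf (RingHom.id F) G v v = 0) : Even (Fintype.card ι) := by
  refine even_card_of_alt hG ?_ (fun a => by rw [← gf_single (σ := RingHom.id F) G a a, h])
  ext a b
  rw [transpose_apply, Matrix.neg_apply, ← gf_single (σ := RingHom.id F) G a b,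
    ← gf_single (σ := RingHom.id F) G b a]
  exact (isSymplecticForm_gf hG h).skew _ _

theorem Herm.isSymmetricForm {G : Matrix ι ι F} (hG : Herm (RingHom.id F) 1 G) :
    IsSymmetricForm (gf (RingHom.id F) G) :=
  ⟨isBilinearForm_gf G, fun u v => by simpa using hG.swap u v, hG.nondeg⟩

theorem Herm.symm {G : Matrix ι ι F} (hG : Herm (RingHom.id F) 1 G) (u v : ι → F) :
    gf (RingHom.id F) G u v = gf (RingHom.id F) G v u := hG.isSymmetricForm.symm u v

/-- an involutive ring map as an automorphism -/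
def involEquiv (hσ : ∀ a, σ (σ a) = a) : F ≃+* F :=
  { toFun := σ, invFun := σ, left_inv := hσ, right_inv := hσ, map_mul' := map_mul σ,
    map_add' := map_add σ }

theorem Herm.isUnitaryForm {G : Matrix ι ι F} (hG : Herm σ 1 G) (hσ : ¬ ∀ a, σ a = a) :
    IsUnitaryForm (involEquiv hG.invol) (gf σ G) :=
  ⟨fun h => hσ fun a => congrArg (fun f : F ≃+* F => f a) h, hG.invol, gf_add_left G,
    gf_smul_left G, fun v w => by rw [hG.swap', one_mul]; rfl, hG.nondeg⟩

theorem Herm.isUnitaryFormPow {G : Matrix ι ι F} (hG : Herm σ 1 G) {q : ℕ} (hq : ∀ a, σ a = a ^ q) :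
    IsUnitaryFormPow q (gf σ G) :=
  ⟨gf_add_left G, gf_smul_left G, fun v w => by rw [hG.swap', one_mul, hq], hG.nondeg⟩

theorem polar_gf {G : Matrix ι ι F} (hG : Herm (RingHom.id F) 1 G) :
    QuadraticMap.polar (fun v => gf (RingHom.id F) G v v) = gf (RingHom.id F) ((2 : F) • G) := by
  funext u v
  rw [QuadraticMap.polar, gf_add_left, gf_add_right, gf_add_right, gf_smul_gram, hG.symm v u]
  ring

theorem Herm.isQuad {G : Matrix ι ι F} (hG : Herm (RingHom.id F) 1 G) (h2 : (2 : F) ≠ 0) :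
    IsNondegenerateQuadraticForm (fun v => gf (RingHom.id F) G v v) := by
  refine ⟨fun c v => ?_, ?_, ?_⟩
  · rw [gf_smul_left, gf_smul_right, RingHom.id_apply]; ring
  · rw [polar_gf hG]; exact isBilinearForm_gf _
  · rw [polar_gf hG]
    refine isNondegenerateForm_gf Function.surjective_id ?_
    rw [det_smul]; exact mul_ne_zero (pow_ne_zero _ h2) hG.det_ne

theorem mem_quadSimilarityGroup_gf [Nonempty ι] {G : Matrix ι ι F} (hG : G.det ≠ 0) {g : GL ι F} {c : F}
    (h : IsSim (RingHom.id F) G c g) : g ∈ quadSimilarityGroup (fun v => gf (RingHom.id F) G v v) :=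
  ⟨Units.mk0 c (h.ne_zero hG), fun v => isSim_iff.mp h v v⟩

theorem herm_of_bilinear {f : (ι → F) → (ι → F) → F} (hf : IsBilinearForm f)
    (hn : IsNondegenerateForm f) {ε : F} (hε : ε = 1 ∨ ε = -1) (h : ∀ u v, f u v = ε * f v u) :
    Herm (RingHom.id F) ε (gramMatrix f) := by
  refine ⟨fun _ => rfl, det_ne_zero_of_gf (σ := RingHom.id F) Function.surjective_id (fun v hv => ?_),
    ?_, hε.imp id fun h => ⟨h, fun _ => rfl⟩⟩
  · rw [← IsBilinearForm.eq_gf hf]; exact (hn v hv).1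
  · ext a b
    exact h _ _

theorem herm_of_symplectic {f : (ι → F) → (ι → F) → F} (hf : IsSymplecticForm f) :
    Herm (RingHom.id F) (-1) (gramMatrix f) :=
  herm_of_bilinear hf.bilinear hf.nondegenerate (Or.inr rfl) fun u v => by rw [hf.skew, neg_one_mul]

theorem herm_of_quad {Q : (ι → F) → F} (hQ : IsNondegenerateQuadraticForm Q) :
    Herm (RingHom.id F) 1 (gramMatrix (QuadraticMap.polar Q)) :=
  herm_of_bilinear hQ.polar_bilinear hQ.nondegenerate (Or.inl rfl) fun u v => by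
    rw [one_mul, QuadraticMap.polar_comm]

theorem polar_self_of_quad {Q : (ι → F) → F} (hQ : ∀ (c : F) v, Q (c • v) = c ^ 2 * Q v) (v : ι → F) :
    QuadraticMap.polar Q v v = 2 * Q v := by
  rw [QuadraticMap.polar, ← two_smul F v, hQ]; ring

theorem eq_gf_of_unitary {τ : F ≃+* F} {f : (ι → F) → (ι → F) → F} (hf : IsUnitaryForm τ f) :
    f = gf (τ : F →+* F) (gramMatrix f) :=
  eq_gf_of_semilinear hf.add_left hf.smul_left
    (fun v x y => by rw [hf.herm, hf.add_left, map_add, ← hf.herm, ← hf.herm])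
    (fun c v x => by rw [hf.herm, hf.smul_left, map_mul, ← hf.herm]; rfl)

theorem herm_of_unitary {τ : F ≃+* F} {f : (ι → F) → (ι → F) → F} (hf : IsUnitaryForm τ f) :
    Herm (τ : F →+* F) 1 (gramMatrix f) := by
  refine ⟨hf.involutive, det_ne_zero_of_gf (σ := (τ : F →+* F)) τ.surjective (fun v hv => ?_),
    ?_, Or.inl rfl⟩
  · rw [← eq_gf_of_unitary hf]; exact (hf.nondegenerate v hv).1
  · ext a b
    rw [one_smul]
    exact (hf.herm _ _).symm

theorem not_id_of_unitary {τ : F ≃+* F} {f : (ι → F) → (ι → F) → F} (hf : IsUnitaryForm τ f) :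
    ¬ ∀ a, (τ : F →+* F) a = a := fun h => hf.ne_refl (RingEquiv.ext h)

theorem isSim_of_fixesForm {N : Subgroup (GL ι F)} {G : Matrix ι ι F}
    (h : FixesForm (matrixSet N) (gf σ G)) : ∀ x ∈ N, IsSim σ G 1 (x : Matrix ι ι F) :=
  fun x hx => isSim_one_iff.mpr (h _ ⟨x, hx, rfl⟩)

theorem fixesForm_polar {S : Set (Matrix ι ι F)} {Q : (ι → F) → F} (h : FixesQuadForm S Q) :
    FixesForm S (QuadraticMap.polar Q) := fun s hs u v => by
  rw [QuadraticMap.polar, QuadraticMap.polar, ← mulVec_add, h s hs, h s hs, h s hs]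

theorem two_ne_zero_of_odd [Fintype F] (h : Odd (Fintype.card F)) : (2 : F) ≠ 0 := by
  intro h2
  have := FiniteField.even_card_of_char_two (F := F) (by
    haveI : CharP F 2 := CharTwo.of_one_ne_zero_of_two_eq_zero one_ne_zero h2
    exact ringChar.eq F 2)
  rw [Nat.odd_iff] at h
  omega

theorem two_eq_zero_of_not_odd [Fintype F] (h : ¬ Odd (Fintype.card F)) : (2 : F) = 0 := by
  by_contra h2
  apply h
  rw [Nat.odd_iff]
  exact FiniteField.odd_card_of_char_ne_two fun hc => h2 (by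
    have := ringChar.Nat.cast_ringChar (R := F)
    rw [hc] at this
    exact_mod_cast this)

end CL.Asch
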