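import Mathlib
import Cfsg.Agent.CLAS.Ref1

/-!
Orthogonal decompositions: projections, block swaps, and subgroups containing the stabiliser.
-/

set_option autoImplicit false
set_option linter.unusedSectionVars false

namespace CL.Witt

open Module

namespace Form

variable {F : Type*} [Field F] {T : FormType F} {V : Type*} [AddCommGroup V] [Module F V]
  {f : Form T V} {K : Subgroup (V ≃ₗ[F] V)} [FiniteDimensional F V]
  {ι : Type*} {D : ι → Submodule F V}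

theorem mem_dstab_of_fix {g : V ≃ₗ[F] V} (h : ∀ i, ∀ v ∈ D i, g v ∈ D i) : g ∈ dstab D :=
  ⟨1, fun i => Witt.mem_stab_iff_map.1 (mem_stab_of_le (h i))⟩

/-- An orthogonal decomposition of the whole space. -/
structure SDec (f : Form T V) (D : ι → Submodule F V) : Prop extends f.ODec D where
  top : ⨆ i, D i = ⊤

namespace ODec

variable (h : f.ODec D)

/-- The projection onto the `i`-th member. -/
noncomputable def pr (i : ι) : V →ₗ[F] V :=
  (D i).projection (f.perp (D i)) (f.isCompl_perp_of_restrict_nondeg (h.nondeg i))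

theorem pr_mem (i : ι) (v : V) : h.pr i v ∈ D i := Submodule.projection_apply_mem _ _

theorem pr_of_mem {i : ι} {v : V} (hv : v ∈ D i) : h.pr i v = v :=
  Submodule.projection_apply_of_mem_left _ hv

theorem pr_eq_zero_iff {i : ι} {v : V} : h.pr i v = 0 ↔ v ∈ f.perp (D i) :=
  Submodule.projection_apply_eq_zero_iff _

theorem pr_of_ne {i j : ι} (hij : i ≠ j) {v : V} (hv : v ∈ D j) : h.pr i v = 0 :=
  h.pr_eq_zero_iff.2 (h.orth i j hij hv)

theorem pr_pr (i : ι) (v : V) : h.pr i (h.pr i v) = h.pr i v := h.pr_of_mem (h.pr_mem i v)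

theorem pr_pr_ne {i j : ι} (hij : i ≠ j) (v : V) : h.pr i (h.pr j v) = 0 :=
  h.pr_of_ne hij (h.pr_mem j v)

theorem sub_pr_mem (i : ι) (v : V) : v - h.pr i v ∈ f.perp (D i) :=
  h.pr_eq_zero_iff.1 (by rw [map_sub, h.pr_pr, sub_self])

theorem B_pr {i : ι} {d : V} (hd : d ∈ D i) (v : V) : f.B d (h.pr i v) = f.B d v := by
  have := h.sub_pr_mem i v d hd
  rw [B_sub_right, sub_eq_zero] at this
  exact this.symm

theorem B_pr' {i : ι} {d : V} (hd : d ∈ D i) (v : V) : f.B (h.pr i v) d = f.B v d := by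
  rw [f.symm, h.B_pr hd, ← f.symm]

theorem q_eq_add (i : ι) (v : V) : f.q v = f.q (h.pr i v) + f.q (v - h.pr i v) := by
  rw [← f.q_add_of_B_eq_zero (h.sub_pr_mem i v _ (h.pr_mem i v)), add_sub_cancel]

theorem exists_B_ne {i : ι} {v : V} (hv : h.pr i v ≠ 0) : ∃ d ∈ D i, f.B d v ≠ 0 := by
  obtain ⟨d, hd, e⟩ := h.exists_B_eq' (h.pr_mem i v) hv 1
  exact ⟨d, hd, by rw [← h.B_pr hd, e]; exact one_ne_zero⟩

include h in
theorem mem_dstab_of_perp {g : V ≃ₗ[F] V} (hg : g ∈ f.O) (hf : f.Nondeg) {i : ι}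
    (hi : ∀ v ∈ f.perp (D i), g v = v) : g ∈ dstab D := mem_dstab_of_fix fun j v hv => by
  by_cases hij : i = j
  · subst hij
    exact mem_of_perp_stable hf hg (fun w hw => by rwa [hi w hw]) v hv
  · rwa [hi v (h.orth i j hij hv)]

include h in
theorem ei_mem_dstab {u v : V} {a : F} (ha : f.EichOK u v a) {i : ι} (hu : u ∈ D i)
    (hv : v ∈ D i) : f.ei u v a ∈ dstab D := mem_dstab_of_fix fun j w hw => by
  by_cases hij : i = j
  · subst hij; exact (ha.ei_mem_stab_of_mem hu hv w).1 hw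
  · rwa [ha.ei_apply_fix (h.B_eq hij hu hw) (h.B_eq hij hv hw)]

include h in
theorem full (hK : dstab D ⊓ f.E ≤ K) (i : ι) : f.Full K (D i) :=
  fun u v a ha hu hv => hK ⟨h.ei_mem_dstab ha hu hv, ei_mem_E u v a⟩

include h in
theorem mem_dstab_of_rk {g : V ≃ₗ[F] V} {p : V} {i : ι} (hp : p ∈ D i) {c : F}
    (e : ∀ v, g v = v + (c * f.B p v) • p) : g ∈ dstab D := mem_dstab_of_fix fun j w hw => by
  rw [e]
  by_cases hij : i = j
  · subst hij; exact (D i).add_mem hw ((D i).smul_mem _ hp)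
  · rw [h.B_eq hij hp hw]; simpa using hw

include h in
theorem mem_dstab_of_le [Finite ι] {k : ℕ} (hk : ∀ i, finrank F (D i) = k) (h0 : 0 < k)
    {g : V ≃ₗ[F] V} (hg : ∀ i, ∃ j, ∀ v ∈ D i, g v ∈ D j) : g ∈ dstab D := by
  choose π hπ using hg
  have h1 : ∀ i, (D i).map (g : V →ₗ[F] V) = D (π i) := fun i =>
    Submodule.eq_of_le_of_finrank_eq (by rintro _ ⟨v, hv, rfl⟩; exact hπ i v hv)
      (by rw [LinearEquiv.finrank_map_eq, hk, hk])
  have h2 : Function.Injective π := fun i j e => by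
    have h3 : D i = D j := Submodule.map_injective_of_injective g.injective
      (by rw [h1, h1, e])
    obtain ⟨v, hv, hv0⟩ := Submodule.exists_mem_ne_zero_of_ne_bot (p := D i)
      (fun e => by have := hk i; rw [e, finrank_bot] at this; omega)
    exact h.eq_of_mem hv (h3 ▸ hv) hv0
  exact ⟨Equiv.ofBijective π (Finite.injective_iff_bijective.1 h2), h1⟩

include h in
/-- An isometry interchanging two isometric members. -/
theorem exists_O_swap (hf : f.Nondeg) {i j : ι} (hij : i ≠ j) (e : D i ≃ₗ[F] D j)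
    (he : IsIsom (f.restrict (D i)) (f.restrict (D j)) e) :
    ∃ s ∈ f.O, (∀ v : D i, s v = e v) ∧ (∀ v : D j, s v = e.symm v) ∧
      ∀ v ∈ f.perp (D i), v ∈ f.perp (D j) → s v = v := by
  let P : ∀ i, V →ₗ[F] D i := fun i => (h.pr i).codRestrict (D i) (h.pr_mem i)
  let s : V →ₗ[F] V := LinearMap.id - h.pr i - h.pr j + (D j).subtype ∘ₗ e.toLinearMap ∘ₗ P i +
    (D i).subtype ∘ₗ e.symm.toLinearMap ∘ₗ P j
  have P1 : ∀ i (v : D i), P i v = v := fun i v => Subtype.ext (h.pr_of_mem v.2)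
  have P2 : ∀ i, ∀ v ∈ f.perp (D i), P i v = 0 := fun i v hv =>
    Subtype.ext (h.pr_eq_zero_iff.2 hv)
  have s1 : ∀ v : D i, s v = e v := fun v => by
    simp [s, P1, P2 j v (h.orth j i hij.symm v.2), h.pr_of_mem v.2, h.pr_of_ne hij.symm v.2]
  have s2 : ∀ v : D j, s v = e.symm v := fun v => by
    simp [s, P1, P2 i v (h.orth i j hij v.2), h.pr_of_mem v.2, h.pr_of_ne hij v.2]
  have s3 : ∀ v ∈ f.perp (D i), v ∈ f.perp (D j) → s v = v := fun v h1 h2 => by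
    simp [s, P2 i v h1, P2 j v h2, h.pr_eq_zero_iff.2 h1, h.pr_eq_zero_iff.2 h2]
  have hs : IsIsom f f s := by
    refine f.isIsom_of_span f s (s := {v | v ∈ D i ∨ v ∈ D j ∨ v ∈ f.perp (D i) ∧ v ∈ f.perp (D j)})
      (eq_top_iff.2 fun v _ => ?_) ?_ ?_
    · rw [show v = h.pr i v + h.pr j v + (v - h.pr i v - h.pr j v) by abel]
      refine add_mem (add_mem (Submodule.subset_span (Or.inl (h.pr_mem i v)))
        (Submodule.subset_span (Or.inr (Or.inl (h.pr_mem j v)))))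
        (Submodule.subset_span (Or.inr (Or.inr ⟨?_, ?_⟩)))
      · exact sub_mem (h.sub_pr_mem i v) (h.orth i j hij (h.pr_mem j v))
      · rw [sub_right_comm]
        exact sub_mem (h.sub_pr_mem j v) (h.orth j i hij.symm (h.pr_mem i v))
    · rintro x (hx | hx | hx) y (hy | hy | hy)
      · rw [s1 ⟨x, hx⟩, s1 ⟨y, hy⟩]; exact he.B_eq ⟨x, hx⟩ ⟨y, hy⟩
      · rw [s1 ⟨x, hx⟩, s2 ⟨y, hy⟩, h.B_eq hij hx hy, h.B_eq hij.symm (e _).2 (e.symm _).2]
      · rw [s1 ⟨x, hx⟩, s3 y hy.1 hy.2, hy.1 x hx, hy.2 _ (e _).2]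
      · rw [s2 ⟨x, hx⟩, s1 ⟨y, hy⟩, h.B_eq hij.symm hx hy, h.B_eq hij (e.symm _).2 (e _).2]
      · rw [s2 ⟨x, hx⟩, s2 ⟨y, hy⟩]; exact he.symm.B_eq ⟨x, hx⟩ ⟨y, hy⟩
      · rw [s2 ⟨x, hx⟩, s3 y hy.1 hy.2, hy.2 x hx, hy.1 _ (e.symm _).2]
      · rw [s3 x hx.1 hx.2, s1 ⟨y, hy⟩, f.B_eq_zero_symm (hx.1 y hy),
          f.B_eq_zero_symm (hx.2 _ (e _).2)]
      · rw [s3 x hx.1 hx.2, s2 ⟨y, hy⟩, f.B_eq_zero_symm (hx.2 y hy),
          f.B_eq_zero_symm (hx.1 _ (e.symm _).2)]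
      · rw [s3 x hx.1 hx.2, s3 y hy.1 hy.2]
    · rintro x (hx | hx | hx)
      · rw [s1 ⟨x, hx⟩]; exact he.q_eq ⟨x, hx⟩
      · rw [s2 ⟨x, hx⟩]; exact he.symm.q_eq ⟨x, hx⟩
      · rw [s3 x hx.1 hx.2]
  obtain ⟨g, hg, hgs⟩ := hs.exists_mem_O hf
  exact ⟨g, hg, fun v => by rw [hgs, s1], fun v => by rw [hgs, s2],
    fun v h1 h2 => by rw [hgs, s3 v h1 h2]⟩

end ODec

variable (f D) in
/-- The members are pairwise isometric. -/
def Isom : Prop :=
  ∀ i j, ∃ e : D i ≃ₗ[F] D j, IsIsom (f.restrict (D i)) (f.restrict (D j)) e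

variable (f) in
/-- Every isometry can be corrected into `E` by an isometry of `W`. -/
def Cmp (W : Submodule F V) : Prop :=
  ∀ g ∈ f.O, ∃ d ∈ f.O, (∀ v ∈ f.perp W, d v = v) ∧ g * d ∈ f.E

theorem cmp_of_hyp (hf : f.Nondeg) {W : Submodule F V} {x y : V} (hxW : x ∈ W) (hyW : y ∈ W)
    (hx : f.q x = 0) (hy : f.q y = 0) (hxy : f.B x y = 1) : f.Cmp W := fun g hg => by
  obtain ⟨e, he, d, hd, rfl⟩ := hf.exists_eq_E_mul_fix hx hy hxy hg
  have := (f.fix _).inv_mem hd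
  refine ⟨d⁻¹, this.1, fun v hv => this.2 v ?_, by simpa using he⟩
  exact f.mem_perp_span_pair.2 ⟨hv x hxW, hv y hyW⟩

theorem Cmp.exists_agree {W : Submodule F V} (h : f.Cmp W) {g : V ≃ₗ[F] V} (hg : g ∈ f.O) :
    ∃ e ∈ f.E, (∀ v ∈ f.perp W, e v = g v) := by
  obtain ⟨d, -, h1, h2⟩ := h g hg
  exact ⟨_, h2, fun v hv => by rw [LinearEquiv.mul_apply, h1 v hv]⟩

theorem ODec.exists_E_swap (h : f.ODec D) [DecidableEq ι] (hf : f.Nondeg) (hiso : f.Isom D)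
    {i j : ι} (hc : f.Cmp (D i)) : ∃ s ∈ dstab D ⊓ f.E, (∀ v ∈ D i, s v ∈ D j) ∧
      (∀ v ∈ D j, s v ∈ D i) ∧ ∀ v ∈ f.perp (D i), v ∈ f.perp (D j) → s v = v := by
  by_cases hij : i = j
  · exact ⟨1, one_mem _, fun v hv => hij ▸ hv, fun v hv => hij ▸ hv, fun _ _ _ => rfl⟩
  obtain ⟨e, he⟩ := hiso i j
  obtain ⟨s, hs, s1, s2, s3⟩ := h.exists_O_swap hf hij e he
  obtain ⟨d, hd, d1, d2⟩ := hc s hs
  have d3 := mem_of_perp_stable hf hd (W := D i) fun w hw => by rwa [d1 w hw]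
  have e1 : ∀ v ∈ D i, (s * d) v ∈ D j := fun v hv => by
    rw [LinearEquiv.mul_apply, s1 ⟨_, d3 v hv⟩]; exact (e _).2
  have e2 : ∀ v ∈ D j, (s * d) v ∈ D i := fun v hv => by
    rw [LinearEquiv.mul_apply, d1 v (h.orth i j hij hv), s2 ⟨v, hv⟩]; exact (e.symm _).2
  have e3 : ∀ v ∈ f.perp (D i), v ∈ f.perp (D j) → (s * d) v = v := fun v h1 h2 => by
    rw [LinearEquiv.mul_apply, d1 v h1, s3 v h1 h2]
  refine ⟨s * d, ⟨⟨Equiv.swap i j, fun l => ?_⟩, d2⟩, e1, e2, e3⟩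
  have hd : finrank F (D i) = finrank F (D j) := e.finrank_eq
  by_cases h1 : l = i
  · rw [h1, Equiv.swap_apply_left]
    exact Submodule.eq_of_le_of_finrank_eq (by rintro _ ⟨v, hv, rfl⟩; exact e1 v hv)
      (by rw [LinearEquiv.finrank_map_eq, hd])
  by_cases h2 : l = j
  · rw [h2, Equiv.swap_apply_right]
    exact Submodule.eq_of_le_of_finrank_eq (by rintro _ ⟨v, hv, rfl⟩; exact e2 v hv)
      (by rw [LinearEquiv.finrank_map_eq, hd])
  · rw [Equiv.swap_apply_of_ne_of_ne h1 h2]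
    exact Witt.mem_stab_iff_map.1 (mem_stab_of_le fun v hv => by
      rwa [e3 v (h.orth i l (Ne.symm h1) hv) (h.orth j l (Ne.symm h2) hv)])

/-- The stabiliser of the decomposition in `E` is doubly transitive on the members. -/
theorem ODec.exists_E_two (h : f.ODec D) (hf : f.Nondeg) (hiso : f.Isom D)
    (hc : ∀ i, f.Cmp (D i)) {i j i' j' : ι} (hij : i ≠ j) (hij' : i' ≠ j') :
    ∃ s ∈ dstab D ⊓ f.E, (∀ v ∈ D i, s v ∈ D i') ∧ (∀ v ∈ D j, s v ∈ D j') := by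
  classical
  obtain ⟨s, hs, s1, s2, s3⟩ := h.exists_E_swap hf hiso (j := i') (hc i)
  obtain ⟨l, hl, s4⟩ : ∃ l, l ≠ i' ∧ ∀ v ∈ D j, s v ∈ D l := by
    by_cases h1 : j = i'
    · exact ⟨i, h1 ▸ hij, h1 ▸ s2⟩
    · exact ⟨j, h1, fun v hv => by
        rwa [s3 v (h.orth i j hij hv) (h.orth i' j (Ne.symm h1) hv)]⟩
  obtain ⟨r, hr, r1, -, r3⟩ := h.exists_E_swap hf hiso (j := j') (hc l)
  refine ⟨r * s, mul_mem hr hs, fun v hv => ?_, fun v hv => r1 _ (s4 v hv)⟩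
  rw [LinearEquiv.mul_apply, r3 _ (h.orth l i' hl (s1 v hv)) (h.orth j' i' hij'.symm (s1 v hv))]
  exact s1 v hv

namespace SDec

variable [Fintype ι] (h : f.SDec D)
include h

theorem sum_pr (v : V) : ∑ i, h.pr i v = v := by
  classical
  have hv : v ∈ ⨆ i, D i := h.top ▸ Submodule.mem_top
  induction hv using Submodule.iSup_induction' with
  | mem i v hv =>
    rw [Finset.sum_eq_single i (fun j _ hj => h.pr_of_ne hj hv) (by simp), h.pr_of_mem hv]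
  | zero => simp
  | add v w _ _ h1 h2 => simp only [map_add, Finset.sum_add_distrib, h1, h2]

theorem eq_zero_of_pr {v : V} (hv : ∀ i, h.pr i v = 0) : v = 0 := by
  rw [← h.sum_pr v]; simp [hv]

theorem mem_of_pr {W : Submodule F V} {v : V} (hv : ∀ i, h.pr i v ∈ W) : v ∈ W :=
  h.sum_pr v ▸ W.sum_mem fun i _ => hv i

theorem mem_of_pr_eq_zero {i : ι} {v : V} (hv : ∀ j, j ≠ i → h.pr j v = 0) : v ∈ D i :=
  h.mem_of_pr fun j => by
    by_cases hj : j = i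
    · rw [hj]; exact h.pr_mem i v
    · rw [hv j hj]; exact zero_mem _

theorem exists_pr_ne {i : ι} {v : V} (hv : v ∉ D i) : ∃ j, j ≠ i ∧ h.pr j v ≠ 0 := by
  by_contra! H; exact hv (h.mem_of_pr_eq_zero H)

theorem q_eq_sum (v : V) : f.q v = ∑ i, f.q (h.pr i v) := by
  conv_lhs => rw [← h.sum_pr v]
  exact f.q_sum_of_ortho _ _ fun i _ j _ hij => h.B_eq hij (h.pr_mem i v) (h.pr_mem j v)

theorem exists_q_pr_ne {v : V} (hv : f.q v ≠ 0) : ∃ i, f.q (h.pr i v) ≠ 0 := by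
  by_contra! H; exact hv (by rw [h.q_eq_sum]; simp [H])

theorem B_eq_sum (v w : V) : f.B v w = ∑ i, f.B (h.pr i v) (h.pr i w) := by
  conv_lhs => rw [← h.sum_pr v, map_sum, LinearMap.sum_apply]
  exact Finset.sum_congr rfl fun i _ => (h.B_pr (h.pr_mem i v) w).symm

theorem nondeg' : f.Nondeg := fun _ hx => h.eq_zero_of_pr fun _ =>
  h.pr_eq_zero_iff.2 fun w _ => f.B_eq_zero_symm (hx w)

theorem perp_le {i : ι} {W : Submodule F V} (hW : ∀ j, j ≠ i → D j ≤ W) : f.perp (D i) ≤ W :=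
  fun v hv => h.mem_of_pr fun j => by
    by_cases hj : j = i
    · rw [hj, h.pr_eq_zero_iff.2 hv]; exact zero_mem _
    · exact hW j hj (h.pr_mem j v)

theorem eq_top_of {W : Submodule F V} (hW : ∀ j, D j ≤ W) : W = ⊤ :=
  eq_top_iff.2 (h.top ▸ iSup_le hW)

theorem le_SZ (hK : dstab D ⊓ f.E ≤ K) {i j : ι} (hij : i ≠ j) (hc : f.Cmp (D i))
    (hirr : (f.restrict (D j)).OIrr) {t : V} (ht : t ∈ f.SZ K (D i)) (ht' : h.pr j t ≠ 0) :
    D j ≤ f.SZ K (D i) := by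
  refine Form.le_SZ h.nondeg' (h.nondeg j) (h.orth i j hij) hirr (fun g hg _ _ h3 => ?_) ht
    (mt h.pr_eq_zero_iff.2 ht')
  obtain ⟨d, hd, d1, d2⟩ := hc g hg
  exact ⟨g * d, hK ⟨mul_mem (h.mem_dstab_of_perp hg h.nondeg' h3)
    (h.mem_dstab_of_perp hd h.nondeg' d1), d2⟩, mul_mem hg hd,
    fun v hv => by rw [LinearEquiv.mul_apply, d1 v hv]⟩

/-- One pair of members linked by Eichler elements forces `E ≤ K`. -/
theorem E_le_of_le_SZ (hK : dstab D ⊓ f.E ≤ K) (hiso : f.Isom D) (hc : ∀ i, f.Cmp (D i))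
    {i j : ι} (hij : i ≠ j) (hS : D j ≤ f.SZ K (D i)) {x y : V} (hxZ : x ∈ D i) (hyZ : y ∈ D i)
    (hx : f.q x = 0) (hy : f.q y = 0) (hxy : f.B x y ≠ 0) : f.E ≤ K := by
  refine (h.full hK i).E_le_of_perp_le h.nondeg' (h.nondeg i) hxZ hyZ hx hy hxy
    (h.perp_le fun l hl v hv => ?_)
  obtain ⟨s, hs, s1, s2⟩ := h.exists_E_two h.nondeg' hiso hc hij hl.symm
  obtain ⟨e, -⟩ := hiso j l
  have : (D j).map (s : V →ₗ[F] V) = D l :=
    Submodule.eq_of_le_of_finrank_eq (by rintro _ ⟨v, hv, rfl⟩; exact s2 v hv)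
      (by rw [LinearEquiv.finrank_map_eq, e.finrank_eq])
  obtain ⟨w, hw, rfl⟩ := this.ge hv
  exact map_mem_SZ (hS hw) (hK hs) (E_le_O hs.2) (inv_mem_of_mem s1)

theorem not_E_le_dstab {i : ι} {e u : V} (he : e ∈ D i) (he0 : e ≠ 0)
    (hu : u ∈ f.perp (D i)) (hu0 : u ≠ 0) (huq : f.q u = 0) : ¬ f.E ≤ dstab D := fun H =>
  h.not_E_le_pstab he he0 rfl hu hu0 huq fun _ hg => dstab_le_pstab _ ⟨H hg, E_le_O hg⟩

end SDec

end Form

end CL.Witt
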