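import Mathlib
import Cfsg.Agent.CLAS.Ref2
import Cfsg.Agent.CLAS.UniGen

/-!
Stabilisers of non-degenerate subspaces and decompositions in groups generated by transvections.
-/

set_option autoImplicit false
set_option linter.unusedSectionVars false

namespace CL.Witt

open Module

namespace Form

variable {F : Type*} [Field F] {T : FormType F} {V : Type*} [AddCommGroup V] [Module F V]
  {f : Form T V} {K : Subgroup (V ≃ₗ[F] V)} [FiniteDimensional F V]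
  {ι : Type*} {D : ι → Submodule F V}

variable (f) in
/-- The vectors of `W` satisfying `P` are not covered by two proper orthogonal subspaces. -/
def Conn (W : Submodule F V) (P : V → Prop) : Prop :=
  ∀ W₁ W₂ : Submodule F V, W₂ ≤ f.perp W₁ → (∀ v ∈ W, P v → v ∈ W₁ ∨ v ∈ W₂) → W ≤ W₁ ∨ W ≤ W₂

theorem Conn.map_le {W Z : Submodule F V} {P : V → Prop} (h : f.Conn W P) {g : V ≃ₗ[F] V}
    (hg : g ∈ f.O) (hP : ∀ v ∈ W, P v → g v ∈ Z ∨ g v ∈ f.perp Z) :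
    (∀ v ∈ W, g v ∈ Z) ∨ ∀ v ∈ W, g v ∈ f.perp Z :=
  h (Z.comap (g : V →ₗ[F] V)) ((f.perp Z).comap (g : V →ₗ[F] V))
    (fun v hv w hw => by rw [← mem_O_B hg]; exact hv _ hw) hP

theorem ODec.exists_not_mem (h : f.ODec D) [Finite ι] {k : ℕ} (hk : ∀ i, finrank F (D i) = k)
    (h0 : 0 < k) {P : V → Prop} (hP : ∀ i, f.Conn (D i) P) (hP' : ∀ i, ∃ v ∈ D i, v ≠ 0 ∧ P v)
    {g : V ≃ₗ[F] V} (hg : g ∈ f.O) (hg' : g ∉ dstab D) :
    ∃ i, ∃ v ∈ D i, P v ∧ ∀ j, g v ∉ D j := by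
  by_contra! H
  refine hg' (h.mem_dstab_of_le hk h0 fun i => ?_)
  obtain ⟨v, hv, hv0, hvP⟩ := hP' i
  obtain ⟨j, hj⟩ := H i v hv hvP
  refine ⟨j, ((hP i).map_le hg (Z := D j) fun w hw hwP => ?_).resolve_right fun H' =>
    hv0 (by simpa using h.eq_zero hj (H' v hv))⟩
  obtain ⟨l, hl⟩ := H i w hw hwP
  by_cases hjl : j = l
  · exact Or.inl (hjl ▸ hl)
  · exact Or.inr (h.orth j l hjl hl)

theorem conn_singular {W : Submodule F V} (hW : (f.restrict W).Nondeg) (hb : (f.restrict W).Big 0)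
    {u : V} (huW : u ∈ W) (hu : f.q u = 0) (hu0 : u ≠ 0) : f.Conn W fun v => f.q v = 0 := by
  have key : ∀ W₁ W₂ : Submodule F V, W₂ ≤ f.perp W₁ → (∀ v ∈ W, f.q v = 0 → v ∈ W₁ ∨ v ∈ W₂) →
      u ∈ W₁ → W ≤ W₁ := by
    intro W₁ W₂ ho hc h1
    obtain ⟨w, hwW, hw, huw⟩ := exists_partner_mem hu huW fun e =>
      hu0 (restrict_nondeg_iff'.1 hW u huW e)
    refine le_of_singular hu hw (by simp [huw]) huW hwW fun v hv hq => ?_
    by_cases hv0 : v = 0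
    · rw [hv0]; exact zero_mem _
    obtain ⟨x, hx, h2, h3⟩ := hW.exists_common_partner' hb (x := ⟨u, huW⟩) (z := ⟨v, hv⟩) hu
      (by simpa using hu0) hq (by simpa using hv0)
    have h4 := (hc x x.2 hx).resolve_right fun e => h2 (ho e u h1)
    exact (hc v hv hq).resolve_right fun e => h3 (f.B_eq_zero_symm (ho e x h4))
  intro W₁ W₂ ho hc
  rcases hc u huW hu with h | h
  · exact Or.inl (key W₁ W₂ ho hc h)
  · exact Or.inr (key W₂ W₁ (fun v hv w hw => f.B_eq_zero_symm (ho hw v hv))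
      (fun v hv hq => (hc v hv hq).symm) h)

variable (f K) in
/-- `K` contains all transvections with centre `u`. -/
def Tr (u : V) : Prop := f.q u = 0 ∧ ∀ a, T.π a = 0 → f.ei u 0 a ∈ K

omit [FiniteDimensional F V] in
theorem Tr.map {u : V} (h : f.Tr K u) {g : V ≃ₗ[F] V} (hg : g ∈ K) (hO : g ∈ f.O) :
    f.Tr K (g u) := ⟨(mem_O_q hO u).trans h.1, fun a ha => by
  have := (eichOK_zero h.1 ha).conj_ei hO
  rw [map_zero] at this
  exact this ▸ K.mul_mem (K.mul_mem hg (h.2 a ha)) (K.inv_mem hg)⟩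

omit [FiniteDimensional F V] in
theorem Tr.rk {u : V} (h : f.Tr K u) (hπ : ∃ a : F, a ≠ 0 ∧ T.π a = 0) : f.Rk K u := by
  obtain ⟨a, ha0, ha⟩ := hπ
  refine ⟨_, h.2 a ha, ei_mem_O _ _ _, -(T.ε * a), by simp [T.ε_ne_zero, ha0], fun v => ?_⟩
  rw [ei_zero_apply h.1 ha]; module

omit [FiniteDimensional F V] in
theorem Full.tr {Z : Submodule F V} (h : f.Full K Z) {u : V} (huZ : u ∈ Z) (hu : f.q u = 0) :
    f.Tr K u := ⟨hu, h.tv hu huZ⟩

omit [FiniteDimensional F V] in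
theorem Tr.es {u w : V} (hu : f.Tr K u) (hw : f.Tr K w) (huw : f.Tr K (u + w))
    (hB : f.B u w = 0) {a : F} (ha : T.π a = 0) : f.Es K u (-(T.ε * a) • w) :=
  ⟨0, ⟨hu.1, by rw [B_smul_right, hB, mul_zero], by rw [map_zero, f.q_smul_eq_zero hw.1]⟩, by
    rw [ei_eq_tv_mul hu.1 hw.1 hB ha]
    exact K.mul_mem (K.mul_mem (huw.2 a ha) (K.inv_mem (hu.2 a ha))) (K.inv_mem (hw.2 a ha))⟩

theorem Full.mem_SZ_of_scale {Z : Submodule F V} (h : f.Full K Z) (hZ : (f.restrict Z).Nondeg)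
    (hb : (f.restrict Z).Big 0) {z t : V} (hz : z ∈ Z) (hz0 : z ≠ 0) (ht : t ∈ f.perp Z)
    (hs : ∀ μ : F, μ ≠ 0 → ∃ g ∈ K, g ∈ f.O ∧ g z = μ • z ∧ ∀ t ∈ f.perp Z, g t = t)
    {γ : F} (hγ : γ ≠ 0) (he : f.Es K z (γ • t)) : t ∈ f.SZ K Z := by
  refine h.mem_SZ hZ hb hz hz0 ht fun c => ?_
  by_cases hc : c = 0
  · rw [hc, zero_smul]; exact Es.zero he.hu
  have hμ : T.σ (c / γ) ≠ 0 := by simp [hc, hγ]
  obtain ⟨g, hg, hO, h1, h2⟩ := hs _ hμ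
  have := he.map hg hO
  rw [h1, h2 _ (Submodule.smul_mem _ _ ht)] at this
  have := this.of_smul_left hμ
  rwa [T.σσ, smul_smul, div_mul_cancel₀ _ hγ] at this

theorem Full.mem_SZ_of_tr_sing {Z : Submodule F V} (h : f.Full K Z) (hZ : (f.restrict Z).Nondeg)
    (hπ : ∃ a : F, a ≠ 0 ∧ T.π a = 0) {z t : V} (hz : z ∈ Z) (hz0 : z ≠ 0) (hq : f.q z = 0)
    (ht : t ∈ f.perp Z) (hy : f.Tr K (z + t)) {l : F} (hl0 : l ≠ 0) (hl1 : l ≠ 1)
    (hs : ∀ μ : F, μ ≠ 0 → ∃ g ∈ K, g ∈ f.O ∧ g z = μ • z ∧ ∀ t ∈ f.perp Z, g t = t) :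
    t ∈ f.SZ K Z := by
  obtain ⟨a, ha0, ha⟩ := id hπ
  obtain ⟨g, hg, hO, h1, h2⟩ := hs l hl0
  have h3 := hy.map hg hO
  rw [map_add, h1, h2 t ht, show l • z + t = (l - 1) • z + (z + t) by module] at h3
  have h4 := ((h.tr (Z.smul_mem (l - 1) hz) (f.q_smul_eq_zero hq _)).es hy h3 (by
    rw [B_smul_left, B_add_right, f.B_self_eq_zero hq, ht z hz]; simp) ha).of_smul_left
    (sub_ne_zero.2 hl1)
  rw [smul_smul, smul_add] at h4
  have h5 := h4.sub (Es.self hq (h.tv hq hz) (T.σ (l - 1) * -(T.ε * a)))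
  rw [add_sub_cancel_left] at h5
  exact h.mem_SZ_of_scale hZ (Or.inl hπ) hz hz0 ht hs
    (mul_ne_zero (mt T.σ_eq_zero.1 (sub_ne_zero.2 hl1)) (by simp [T.ε_ne_zero, ha0])) h5

theorem full_of_stab {Z : Submodule F V} (hK : Witt.stab Z ⊓ f.E ≤ K) : f.Full K Z :=
  fun u v a ha hu hv => hK ⟨ha.ei_mem_stab_of_mem hu hv, ei_mem_E u v a⟩

theorem E_le_of_mem_SZ (hf : f.Nondeg) {Z : Submodule F V} (hZ : (f.restrict Z).Nondeg)
    (hK : Witt.stab Z ⊓ f.E ≤ K) {x y : V} (hxZ : x ∈ Z) (hyZ : y ∈ Z) (hx : f.q x = 0)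
    (hy : f.q y = 0) (hxy : f.B x y = 1) (hirr : (f.restrict (f.perp Z)).OIrr) {t : V}
    (ht : t ∈ f.SZ K Z) (ht0 : t ≠ 0) : f.E ≤ K := by
  refine (full_of_stab hK).E_le_of_perp_le hf hZ hxZ hyZ hx hy (by simp [hxy])
    (le_SZ hf (hf.restrict_perp hZ) le_rfl hirr (fun g hg h1 _ _ => ?_) ht fun e =>
      ht0 (restrict_nondeg_iff'.1 (hf.restrict_perp hZ) t ht.1 e))
  obtain ⟨d, hd, d1, d2⟩ := cmp_of_hyp hf hxZ hyZ hx hy hxy g hg
  refine ⟨g * d, hK ⟨mem_stab_of_le fun v hv => ?_, d2⟩, mul_mem hg hd,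
    fun v hv => by rw [LinearEquiv.mul_apply, d1 v hv]⟩
  have := mem_of_perp_stable hf hd (fun w hw => by rwa [d1 w hw]) v hv
  rwa [LinearEquiv.mul_apply, h1 _ this]

variable (f) in
/-- The extension property for transvections. -/
def GTv (Z : Submodule F V) : Prop :=
  ∀ K : Subgroup (V ≃ₗ[F] V), f.Full K Z → ∀ z ∈ Z, z ≠ 0 → ∀ t ∈ f.perp Z, f.Tr K (z + t) →
    t ∈ f.SZ K Z

theorem E_le_of_stab_tv (hf : f.Nondeg) (hπ : ∃ a : F, a ≠ 0 ∧ T.π a = 0) {Z : Submodule F V}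
    (hZ : (f.restrict Z).Nondeg) (hG : f.GTv Z) {u : V} (huZ : u ∈ Z) (hu : f.q u = 0)
    (hu0 : u ≠ 0) (hK : Witt.stab Z ⊓ f.E ≤ K) {g : V ≃ₗ[F] V} (hg : g ∈ f.O) (hgK : g ∈ K)
    (h1 : g ∉ Witt.stab Z) (h2 : ¬ ∀ z ∈ Z, g z ∈ f.perp Z) : f.E ≤ K := by
  have hF := full_of_stab hK
  obtain ⟨v, hv, hq, h3⟩ : ∃ v ∈ Z, f.q v = 0 ∧ ¬ (g v ∈ Z ∨ g v ∈ f.perp Z) := by
    by_contra! H
    exact ((conn_singular hZ (Or.inl hπ) huZ hu hu0).map_le hg H).elim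
      (fun h => h1 (mem_stab_of_le h)) h2
  obtain ⟨w, hwZ, hw, huw⟩ := exists_partner_mem hu huZ fun e =>
    hu0 (restrict_nondeg_iff'.1 hZ u huZ e)
  have h4 := (hF.tr hv hq).map hgK hg
  obtain ⟨z, hz, t, ht, e⟩ := exists_add_perp hZ (g v)
  rw [e] at h3 h4
  exact E_le_of_mem_SZ hf hZ hK huZ hwZ hu hw huw ((hf.restrict_perp hZ).oIrr_of_pi hπ)
    (hG K hF z hz (by rintro rfl; exact h3 (Or.inr (by simpa using ht))) t ht h4)
    (by rintro rfl; exact h3 (Or.inl (by simpa using hz)))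

theorem SDec.exists_tr [Fintype ι] (h : f.SDec D) (hπ : ∃ a : F, a ≠ 0 ∧ T.π a = 0) {k : ℕ}
    (hk : ∀ i, finrank F (D i) = k) (h0 : 0 < k) (hs : ∀ i, ∃ u ∈ D i, u ≠ 0 ∧ f.q u = 0)
    (hK : dstab D ⊓ f.E ≤ K) {g : V ≃ₗ[F] V} (hg : g ∈ f.O) (hgK : g ∈ K) (hg' : g ∉ dstab D) :
    ∃ x i j, i ≠ j ∧ f.Tr K x ∧ h.pr i x ≠ 0 ∧ h.pr j x ≠ 0 := by
  obtain ⟨i, v, hv, hq, h1⟩ := h.exists_not_mem hk h0 (fun i => by
    obtain ⟨u, hu, hu0, huq⟩ := hs i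
    exact conn_singular (h.nondeg i) (Or.inl hπ) hu huq hu0) hs hg hg'
  obtain ⟨j, -, hj⟩ := h.exists_pr_ne (h1 i)
  obtain ⟨l, hl, hl'⟩ := h.exists_pr_ne (h1 j)
  exact ⟨_, j, l, hl.symm, ((h.full hK i).tr hv hq).map hgK hg, hj, hl'⟩

theorem SDec.E_le_of_gTv [Fintype ι] (h : f.SDec D) (hπ : ∃ a : F, a ≠ 0 ∧ T.π a = 0) {k : ℕ}
    (hk : ∀ i, finrank F (D i) = k) (h0 : 0 < k) (hs : ∀ i, ∃ u ∈ D i, u ≠ 0 ∧ f.q u = 0)
    (hiso : f.Isom D) (hG : ∀ i, f.GTv (D i))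
    (hK : dstab D ⊓ f.E ≤ K) {g : V ≃ₗ[F] V} (hg : g ∈ f.O) (hgK : g ∈ K) (hg' : g ∉ dstab D) :
    f.E ≤ K := by
  obtain ⟨x, i, j, hij, hx, hi, hj⟩ := h.exists_tr hπ hk h0 hs hK hg hgK hg'
  choose u hu hu0 huq using hs
  choose w hw hwq huw using fun i => exists_partner_mem (huq i) (hu i) fun e =>
    hu0 i (h.eq_zero (hu i) e)
  have hc := fun i => cmp_of_hyp h.nondeg' (hu i) (hw i) (huq i) (hwq i) (huw i)
  refine h.E_le_of_le_SZ hK hiso hc hij (h.le_SZ hK hij (hc i) ((h.nondeg j).oIrr_of_pi hπ)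
    (hG i K (h.full hK i) _ (h.pr_mem i x) hi _ (h.sub_pr_mem i x) (by simpa using hx)) ?_)
    (hu i) (hw i) (huq i) (hwq i) (by simp [huw])
  rwa [map_sub, h.pr_pr_ne hij.symm, sub_zero]

theorem exists_mem_perp_not_mem {Z : Submodule F V} (hf : (f.restrict Z).Nondeg) {z : V}
    (hz : z ∈ Z) (h3 : 3 ≤ finrank F Z) : ∃ u ∈ Z, f.B z u = 0 ∧ u ∉ F ∙ z := by
  by_contra! H
  have h1 := hf.finrank_add_finrank_perp (F ∙ (⟨z, hz⟩ : Z))
  have h2 := finrank_span_singleton_le (F := F) (⟨z, hz⟩ : Z)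
  have h4 : (f.restrict Z).perp (F ∙ (⟨z, hz⟩ : Z)) ≤ F ∙ (⟨z, hz⟩ : Z) := fun v hv => by
    obtain ⟨c, hc⟩ := Submodule.mem_span_singleton.1
      (H v v.2 ((f.restrict Z).mem_perp_span_singleton.1 hv))
    exact Submodule.mem_span_singleton.2 ⟨c, Subtype.ext hc⟩
  have := Submodule.finrank_mono h4
  omega

theorem alt_gTv {f : Form (FormType.alt F) V} {Z : Submodule F V} (hZ : (f.restrict Z).Nondeg)
    (h3 : 3 ≤ finrank F Z) : f.GTv Z := fun _ h z hz hz0 t ht hy => by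
  have hπ : ∃ a : F, a ≠ 0 ∧ (FormType.alt F).π a = 0 := ⟨1, one_ne_zero, rfl⟩
  obtain ⟨u, hu, h1, h2⟩ := exists_mem_perp_not_mem hZ hz h3
  refine h.mem_SZ_of_rk hZ (Or.inl hπ) hz ht (hy.rk hπ) hu
    (by rintro rfl; exact h2 (zero_mem _)) (f.alt_q u) (f.B_eq_zero_symm h1) fun e => h2 ?_
  obtain ⟨c, rfl⟩ := Submodule.mem_span_singleton.1 e
  exact Submodule.mem_span_singleton.2 ⟨c⁻¹, by
    rw [smul_smul, inv_mul_cancel₀ (by rintro rfl; simp at hz0), one_smul]⟩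

section herm

variable [Finite F] {σ : F →+* F} {hσ2 : ∀ a, σ (σ a) = a} {f : Form (FormType.herm σ hσ2) V}
  (hσ : σ ≠ RingHom.id F)
include hσ

theorem herm_pi : ∃ a : F, a ≠ 0 ∧ (FormType.herm σ hσ2).π a = 0 :=
  FormType.exists_add_σ_eq_zero hσ hσ2

theorem Full.herm_scale {Z : Submodule F V} (h : f.Full K Z) (hZ : (f.restrict Z).Nondeg)
    (h3 : 3 ≤ finrank F Z) {z : V} (hz : z ∈ Z) (hz0 : z ≠ 0) (hq : f.q z = 0) (μ : F)
    (hμ : μ ≠ 0) : ∃ g ∈ K, g ∈ f.O ∧ g z = μ • z ∧ ∀ t ∈ f.perp Z, g t = t := by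
  obtain ⟨w, hwZ, hw, hzw⟩ := exists_partner_mem hq hz fun e =>
    hz0 (restrict_nondeg_iff'.1 hZ z hz e)
  have key := fun a : F => Uni.exists_perp_pair_q_eq hσ hZ h3 (u := ⟨z, hz⟩) (w := ⟨w, hwZ⟩) hq hw
    hzw (b := a + σ a) (by rw [map_add, hσ2, add_comm])
  obtain ⟨v, h1, h2, h3⟩ := key μ
  obtain ⟨v', h1', h2', h3'⟩ := key 1
  have := h.exists_scale hZ hz hwZ v.2 v'.2 hq hw hzw h1 h2 h1' h2' (a := μ) (a' := 1) h3.symm
    h3'.symm hμ one_ne_zero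
  rwa [div_one] at this

theorem herm_exists_singular_perp {Z : Submodule F V} (hZ : (f.restrict Z).Nondeg)
    (h3 : 3 ≤ finrank F Z) {z : V} (hz : z ∈ Z) :
    ∃ u ∈ Z, u ≠ 0 ∧ f.q u = 0 ∧ f.B z u = 0 := by
  have h1 := hZ.finrank_add_finrank_perp (F ∙ (⟨z, hz⟩ : Z))
  have h2 := finrank_span_singleton_le (F := F) (⟨z, hz⟩ : Z)
  obtain ⟨u, hu, hu0, huq⟩ := herm_iso2 hσ (f.restrict Z) ((f.restrict Z).perp (F ∙ ⟨z, hz⟩))
    (by omega)
  exact ⟨u, u.2, by simpa using hu0, huq, (f.restrict Z).mem_perp_span_singleton.1 hu⟩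

theorem herm_gTv {Z : Submodule F V} (hZ : (f.restrict Z).Nondeg) (h3 : 3 ≤ finrank F Z) :
    f.GTv Z := fun _ h z hz hz0 t ht hy => by
  by_cases hq : f.q z = 0
  · obtain ⟨l, hl⟩ : ∃ l, σ l ≠ l := by
      by_contra! H; exact hσ (RingHom.ext H)
    exact h.mem_SZ_of_tr_sing hZ (herm_pi hσ) hz hz0 hq ht hy (l := l)
      (by rintro rfl; simp at hl) (by rintro rfl; simp at hl) (h.herm_scale hσ hZ h3 hz hz0 hq)
  · obtain ⟨u, hu, hu0, huq, h1⟩ := herm_exists_singular_perp hσ hZ h3 hz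
    refine h.mem_SZ_of_rk hZ (Or.inl (herm_pi hσ)) hz ht (hy.rk (herm_pi hσ)) hu hu0 huq
      (f.B_eq_zero_symm h1) fun e => hq ?_
    obtain ⟨c, rfl⟩ := Submodule.mem_span_singleton.1 e
    exact f.q_smul_eq_zero huq c

theorem ODec.herm_isom (h : f.ODec D) {k : ℕ} (hk : ∀ i, finrank F (D i) = k) : f.Isom D :=
  fun i j => Uni.exists_isIsom hσ (h.nondeg i) (h.nondeg j) (by rw [hk, hk])

theorem ODec.herm_singular (_h : f.ODec D) {i : ι} (hk : 2 ≤ finrank F (D i)) :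
    ∃ u ∈ D i, u ≠ 0 ∧ f.q u = 0 := herm_iso2 hσ f _ hk

theorem SDec.herm_E_le_two [Fintype ι] (h : f.SDec D) {k : ℕ} (hk : ∀ i, finrank F (D i) = k)
    (h2 : 2 ≤ k) (hι : 3 ≤ Fintype.card ι) {c : F} (hc : σ c = c) (hc0 : c ≠ 0) (hc1 : c ≠ 1)
    (hK : dstab D ⊓ f.E ≤ K) {g : V ≃ₗ[F] V} (hg : g ∈ f.O) (hgK : g ∈ K) (hg' : g ∉ dstab D) :
    f.E ≤ K := by
  classical
  have hπ := herm_pi (hσ2 := hσ2) hσ
  have hs := fun i => h.herm_singular hσ ((hk i).symm ▸ h2)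
  obtain ⟨x, i, j, hij, hx, hi, hj⟩ := h.exists_tr hπ hk (by omega) hs hK hg hgK hg'
  choose u hu hu0 huq using hs
  choose w hw hwq huw using fun i => exists_partner_mem (huq i) (hu i) fun e =>
    hu0 i (h.eq_zero (hu i) e)
  have hC := fun i => cmp_of_hyp h.nondeg' (hu i) (hw i) (huq i) (hwq i) (huw i)
  have hb : ∀ i, h.pr i x ≠ 0 → ∃ b ∈ D i, f.q b = 0 ∧ f.B b x ≠ 0 := fun i hi => by
    obtain ⟨b, hb, hb'⟩ := (h.nondeg i).exists_singular_B_ne (x := ⟨u i, hu i⟩) (huq i)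
      (by simpa using hu0 i) (w := ⟨_, h.pr_mem i x⟩) (by simpa using hi)
    exact ⟨b, b.2, hb, by rwa [restrict_B, h.B_pr b.2] at hb'⟩
  obtain ⟨b, hbD, hbq, hbx⟩ := hb i hi
  obtain ⟨b', hbD', hbq', hbx'⟩ := hb j hj
  obtain ⟨a, ha0, ha⟩ := id hπ
  have hN : f.B b' x * f.B x b' ≠ 0 := mul_ne_zero hbx' fun e => hbx' (f.B_eq_zero_symm e)
  obtain ⟨a', ha0', ha', hne⟩ : ∃ a', a' ≠ 0 ∧ (FormType.herm σ hσ2).π a' = 0 ∧
      a * f.B b x * f.B x b + a' * f.B b' x * f.B x b' ≠ 0 := by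
    by_cases e : a * f.B b x * f.B x b + a * f.B b' x * f.B x b' = 0
    · refine ⟨c * a, mul_ne_zero hc0 ha0, ?_, fun e' => ?_⟩
      · rw [FormType.herm_π] at ha ⊢
        rw [map_mul, hc]; linear_combination c * ha
      · exact mul_ne_zero (mul_ne_zero (sub_ne_zero.2 hc1) ha0) hN (by linear_combination e' - e)
    · exact ⟨a, ha0, ha, e⟩
  have hbb : f.B b b' = 0 := h.B_eq hij hbD hbD'
  set p := -(a * f.B b x) • b with hp
  set p' := -(a' * f.B b' x) • b' with hp'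
  have hpD : p ∈ D i := (D i).smul_mem _ hbD
  have hpD' : p' ∈ D j := (D j).smul_mem _ hbD'
  have hpq : f.q p = 0 := f.q_smul_eq_zero hbq _
  have hpq' : f.q p' = 0 := f.q_smul_eq_zero hbq' _
  have hpp : f.B p p' = 0 := h.B_eq hij hpD hpD'
  have t1 := ((h.full hK i).tr hbD hbq).2 a ha
  have t2 := ((h.full hK j).tr hbD' hbq').2 a' ha'
  have h1 := (hx.map t2 (ei_mem_O _ _ _)).map t1 (ei_mem_O _ _ _)
  have e1 : f.ei b 0 a (f.ei b' 0 a' x) = x + (p + p') := by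
    rw [ei_zero_apply hbq ha, ei_zero_apply hbq' ha', B_sub_right, B_smul_right, hbb, hp, hp',
      FormType.herm_ε]
    module
  rw [e1] at h1
  set β := f.B x (x + (p + p')) with hβ
  have hβ' : β = f.B x (p + p') := by rw [hβ, B_add_right, f.B_self_eq_zero hx.1, zero_add]
  have hβ0 : β ≠ 0 := by
    rw [hβ', B_add_right, hp, hp', B_smul_right, B_smul_right]
    exact fun e => hne (by linear_combination -e)
  have hβπ : (FormType.herm σ hσ2).π β⁻¹ = 0 := by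
    have := h1.1
    rw [f.q_add, hx.1, f.q_add_of_B_eq_zero hpp, hpq, hpq', ← hβ', FormType.herm_π] at this
    rw [FormType.herm_π, map_inv₀]
    have h0 : σ β ≠ 0 := by simpa using hβ0
    field_simp
    linear_combination this
  have h3 := h1.map (hx.2 _ hβπ) (ei_mem_O _ _ _)
  rw [ei_zero_apply hx.1 hβπ, ← hβ, FormType.herm_ε, one_mul, inv_mul_cancel₀ hβ0, one_smul,
    add_sub_cancel_left] at h3
  have h4 := ((h.full hK i).tr hpD hpq).es ((h.full hK j).tr hpD' hpq') h3 hpp ha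
  set y := -((FormType.herm σ hσ2).ε * a) • p' with hy
  have hyD : y ∈ D j := (D j).smul_mem _ hpD'
  have hb0 : b ≠ 0 := by rintro rfl; simp at hbx
  have hb0' : b' ≠ 0 := by rintro rfl; simp at hbx'
  have hy0 : y ≠ 0 := by simp [hy, hp', ha0, ha0', hbx', hb0', FormType.herm_ε]
  obtain ⟨l, hl⟩ : ∃ l, l ∉ ({i, j} : Finset ι) := by
    by_contra! H
    have := Finset.card_le_card (show Finset.univ ⊆ ({i, j} : Finset ι) from fun l _ => H l)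
    have := Finset.card_le_two (a := i) (b := j)
    simp only [Finset.card_univ] at *
    omega
  simp only [Finset.mem_insert, Finset.mem_singleton, not_or] at hl
  have h5 : ∀ v ∈ D j, f.Es K p v := induction_singular (huq j) (hwq j) (by simp [huw]) (hu j)
    (hw j) (f.eiSub K hpq) fun v hv hq => by
      by_cases hv0 : v = 0
      · rw [hv0]; exact zero_mem _
      obtain ⟨e, he, hev⟩ := (h.nondeg j).witt_vector (x := ⟨y, hyD⟩) (y := ⟨v, hv⟩)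
        (by simpa using hy0) (by simpa using hv0) ((f.q_smul_eq_zero hpq' _).trans hq.symm)
      obtain ⟨r, hr, r1, r2⟩ := exists_ext (h.nondeg j) he
      obtain ⟨d, hd, d1, d2⟩ := hC l r hr
      have := h4.map_fix (hK ⟨mul_mem (h.mem_dstab_of_perp hr h.nondeg' r2)
        (h.mem_dstab_of_perp hd h.nondeg' d1), d2⟩) (mul_mem hr hd) (by
          rw [LinearEquiv.mul_apply, d1 p (h.orth l i hl.1 hpD), r2 p (h.orth j i hij.symm hpD)])
      rwa [LinearEquiv.mul_apply, d1 y (h.orth l j hl.2 hyD), r1 ⟨y, hyD⟩, hev] at this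
  exact h.E_le_of_le_SZ hK (h.herm_isom hσ hk) hC hij (fun v hv => (h.full hK i).mem_SZ
    (h.nondeg i) (Or.inl hπ) hpD (by simp [hp, ha0, hbx, hb0]) (h.orth i j hij hv)
      fun c => h5 _ ((D j).smul_mem c hv)) (hu i) (hw i) (huq i) (hwq i) (by simp [huw])

theorem SDec.herm_E_le_three [Fintype ι] (h : f.SDec D) {k : ℕ} (hk : ∀ i, finrank F (D i) = k)
    (h3 : 3 ≤ k) (hK : dstab D ⊓ f.E ≤ K) {g : V ≃ₗ[F] V} (hg : g ∈ f.O) (hgK : g ∈ K)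
    (hg' : g ∉ dstab D) : f.E ≤ K :=
  h.E_le_of_gTv (herm_pi hσ) hk (by omega) (fun i => h.herm_singular hσ (by rw [hk]; omega))
    (h.herm_isom hσ hk) (fun i => herm_gTv hσ (h.nondeg i) (by rw [hk]; omega)) hK hg hgK hg'

end herm

end Form

end CL.Witt

namespace CL.FGL

open Module Matrix Cfsg Cfsg.Geo CL.Witt CL.Witt.Form CL.Orth

variable {F : Type*} [Field F] {ι : Type} [Fintype ι] [DecidableEq ι] {T : FormType F}
  {f : Form T (ι → F)} {t k : ℕ} {D : Fin t → Submodule F (ι → F)}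

theorem sdec_of (f : Form T (ι → F)) {b : (ι → F) → (ι → F) → F}
    (hb : ∀ u v, b u v = 0 ↔ f.B u v = 0) (hD : IsNondegenerateMDecomposition b k D) : f.SDec D :=
  ⟨odec_of f hb hD, hD.decomp.iSup_eq_top⟩

theorem decomp_isMaximalIn {Ω : Subgroup (GL ι F)} (hΩ : ∀ g, g ∈ Ω ↔ glEquiv ι F g ∈ f.E)
    (hne : ¬ f.E ≤ dstab D)
    (h : ∀ M, dstab D ⊓ f.E ≤ M → M ≤ f.E → ∀ g ∈ M, g ∉ dstab D → f.E ≤ M) :
    IsMaximalIn Ω (decompositionStabilizer D ⊓ Ω) :=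
  isMaximalIn_of_equiv (glEquiv ι F) hΩ (fun _ _ => mem_decompositionStabilizer') hne h

/-- Maximality of the stabiliser of a non-degenerate subspace, from the action on overgroups. -/
theorem nondeg_isMaximalIn' (hf : f.Nondeg) {Ω : Subgroup (GL ι F)}
    (hΩ : ∀ g, g ∈ Ω ↔ glEquiv ι F g ∈ f.E) {W Z : Submodule F (ι → F)}
    (hWZ : W = Z ∨ W = f.perp Z) (hb : f.Big 0) {x : ι → F} (hx : f.q x = 0) (hx0 : x ≠ 0)
    (hZ0 : Z ≠ ⊥) (hZ1 : Z ≠ ⊤)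
    (h : ∀ M, Witt.stab Z ⊓ f.E ≤ M → M ≤ f.E → ∀ g ∈ M, g ∉ Witt.stab Z → f.E ≤ M) :
    IsMaximalIn Ω (subspaceStabilizer W ⊓ Ω) := by
  refine isMaximalIn_of_equiv (glEquiv ι F) (S' := Witt.stab Z) hΩ (fun g hg => ?_)
    (hf.not_E_le_stab' hb hx hx0 hZ0 hZ1) h
  rcases hWZ with rfl | rfl
  · rfl
  · have hO := E_le_O ((hΩ g).1 hg)
    exact ⟨fun h => hf.perp_perp Z ▸ mem_stab_perp hO h, mem_stab_perp hO⟩

theorem nondeg_isMaximalIn_tv (hf : f.Nondeg) (hπ : ∃ a : F, a ≠ 0 ∧ T.π a = 0)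
    {Ω : Subgroup (GL ι F)} (hΩ : ∀ g, g ∈ Ω ↔ glEquiv ι F g ∈ f.E) {W : Submodule F (ι → F)}
    (hW : (f.restrict W).Nondeg) (hW0 : W ≠ ⊥) (hlt : 2 * finrank F W < Fintype.card ι)
    (hG : f.GTv (f.perp W)) (hs : ∃ u ∈ f.perp W, u ≠ 0 ∧ f.q u = 0) :
    IsMaximalIn Ω (subspaceStabilizer W ⊓ Ω) := by
  have h1 := hf.finrank_add_finrank_perp W
  rw [finrank_fun] at h1
  obtain ⟨u, hu, hu0, huq⟩ := hs
  refine nondeg_isMaximalIn' hf hΩ (Or.inr (hf.perp_perp W).symm) (Or.inl hπ) huq hu0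
    (by rintro h; rw [h] at hu; exact hu0 hu) (hf.perp_ne_top hW0) fun M h2 h3 g hg hg' =>
      E_le_of_stab_tv hf hπ (hf.restrict_perp hW) hG hu huq hu0 h2 (E_le_O (h3 hg)) hg hg' ?_
  rw [hf.perp_perp]
  exact not_map_le_of_lt (by omega) g

/-- Non-degenerate subspace stabilisers in `Sp`, all dimensions. -/
theorem sp_nondeg_isMaximalIn {m : ℕ} {W : Submodule F (Fin m ⊕ Fin m → F)} (hW0 : W ≠ ⊥)
    (hW : IsNondegenerateOn (sympForm m F) W) (hlt : finrank F W < m) :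
    IsMaximalIn (spGL m F) (subspaceStabilizer W ⊓ spGL m F) := by
  have hW' := restrict_nondeg_of _ sp_B_iff hW
  have hf := Sp.spForm_nondeg m F
  have h1 := hf.finrank_add_finrank_perp W
  have h2 : 0 < finrank F W := by
    rw [Nat.pos_iff_ne_zero]; exact fun e => hW0 (Submodule.finrank_eq_zero.1 e)
  rw [finrank_fun, Fintype.card_sum, Fintype.card_fin] at h1
  obtain ⟨u, hu, hu0⟩ := Submodule.exists_mem_ne_zero_of_ne_bot (p := (Sp.spForm m F).perp W)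
    (fun e => by rw [e, finrank_bot] at h1; omega)
  exact nondeg_isMaximalIn_tv hf ⟨1, one_ne_zero, rfl⟩ (fun _ => mem_spGL_iff_E) hW' hW0
    (by simp; omega) (alt_gTv (hf.restrict_perp hW') (by omega)) ⟨u, hu, hu0, alt_q _ u⟩

variable [Fintype F] {n q : ℕ} (hF : Fintype.card F = q ^ 2)
include hF

/-- Non-degenerate subspace stabilisers in `SU_n`, `n ≥ 4`. -/
theorem su_nondeg_isMaximalIn (hn : 4 ≤ n) {W : Submodule F (Fin n → F)} (hW0 : W ≠ ⊥)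
    (hW : IsNondegenerateOn (hermForm n F q) W) (hlt : 2 * finrank F W < n) :
    IsMaximalIn (GU n F q ⊓ specialLinear (Fin n) F)
      (subspaceStabilizer W ⊓ (GU n F q ⊓ specialLinear (Fin n) F)) := by
  have hW' := restrict_nondeg_of _ (uni_B_iff hF) hW
  have hf := Uni.std_nondeg hF (Fin n)
  have h1 := hf.finrank_add_finrank_perp W
  rw [finrank_fun, Fintype.card_fin] at h1
  exact nondeg_isMaximalIn_tv hf (herm_pi (Uni.sig_ne_id hF)) (fun _ => mem_SU_iff_E hF) hW' hW0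
    (by simpa using hlt) (herm_gTv (Uni.sig_ne_id hF) (hf.restrict_perp hW') (by omega))
    (herm_iso2 (Uni.sig_ne_id hF) _ _ (by omega))

/-- Orthogonal decompositions of unitary spaces into members of dimension at least two. -/
theorem su_decomp_isMaximalIn {D : Fin t → Submodule F (Fin n → F)}
    (hD : IsNondegenerateMDecomposition (hermForm n F q) k D)
    (hk : 3 ≤ k ∨ k = 2 ∧ 3 ≤ t ∧ q ≠ 2) :
    IsMaximalIn (GU n F q ⊓ specialLinear (Fin n) F)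
      (decompositionStabilizer D ⊓ (GU n F q ⊓ specialLinear (Fin n) F)) := by
  have h := sdec_of _ (uni_B_iff hF) hD
  have hσ := Uni.sig_ne_id hF
  have ht := hD.decomp.two_le
  have hd := hD.decomp.finrank_eq
  have hne : (⟨0, by omega⟩ : Fin t) ≠ ⟨1, by omega⟩ := by simp
  obtain ⟨e, he, he0, -⟩ := h.herm_singular hσ (i := ⟨0, by omega⟩) (by rw [hd]; omega)
  obtain ⟨u, hu, hu0, huq⟩ := h.herm_singular hσ (i := ⟨1, by omega⟩) (by rw [hd]; omega)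
  refine decomp_isMaximalIn (fun _ => mem_SU_iff_E hF)
    (h.not_E_le_dstab he he0 (h.orth _ _ hne hu) hu0 huq) fun M h1 h2 g hg hg' => ?_
  rcases hk with hk | ⟨hk, ht, hq⟩
  · exact h.herm_E_le_three hσ hd hk h1 (E_le_O (h2 hg)) hg hg'
  · obtain ⟨c, hc, hc0, hc1⟩ := Uni.exists_fixed_ne hF hq
    exact h.herm_E_le_two hσ hd hk.ge (by simpa using ht) hc hc0 hc1 h1 (E_le_O (h2 hg)) hg hg'

end CL.FGL
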