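import Mathlib
import Cfsg.Agent.CLAS.Ref3

/-!
Reflections in orthogonal groups over finite fields and the extension lemmas for them.
-/

set_option autoImplicit false
set_option linter.unusedSectionVars false

namespace CL.Witt

open Module

theorem exists_notMem_of_lt {α : Type*} [Finite α] (l : List α) (h : l.length < Nat.card α) :
    ∃ a, a ∉ l := by
  classical
  have := Fintype.ofFinite α
  rw [Nat.card_eq_fintype_card] at h
  obtain ⟨a, -, ha⟩ := Finset.exists_mem_notMem_of_card_lt_card (s := l.toFinset)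
    (t := Finset.univ) (lt_of_le_of_lt (List.toFinset_card_le l) h)
  exact ⟨a, by simpa using ha⟩

theorem not_mem_span_comm {F V : Type*} [Field F] [AddCommGroup V] [Module F V] {x y : V}
    (hy : y ≠ 0) (h : x ∉ F ∙ y) : y ∉ F ∙ x := fun e => by
  obtain ⟨c, rfl⟩ := Submodule.mem_span_singleton.1 e
  exact h (Submodule.mem_span_singleton.2 ⟨c⁻¹, by
    rw [smul_smul, inv_mul_cancel₀ (by rintro rfl; simp at hy), one_smul]⟩)

namespace Form

variable {F : Type*} [Field F] {V : Type*} [AddCommGroup V] [Module F V]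
  {f : Form (FormType.quad F) V} {K : Subgroup (V ≃ₗ[F] V)}

variable (f) in
/-- The reflection in `a`. -/
def rf (a : V) : V ≃ₗ[F] V := (Orth.refl f.toQuad a).1

theorem rf_apply (a v : V) : f.rf a v = v - ((f.q a)⁻¹ * f.B a v) • a := by
  rw [rf, Orth.refl_apply, polar_toQuad]; rfl

theorem qB_smul_left (c : F) (x y : V) : f.B (c • x) y = c * f.B x y := f.B_smul_left c x y

theorem rf_mem_O (a : V) : f.rf a ∈ f.O :=
  (f.quad_isIsom_iff f (f.rf a : V →ₗ[F] V)).2 (Orth.refl f.toQuad a).2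

theorem rf_mul_self (a : V) : f.rf a * f.rf a = 1 :=
  congrArg Subtype.val (Orth.refl_mul_self (Q := f.toQuad) a)

theorem rf_inv (a : V) : (f.rf a)⁻¹ = f.rf a := inv_eq_of_mul_eq_one_right (rf_mul_self a)

theorem rf_rf (a v : V) : f.rf a (f.rf a v) = v := by
  rw [← LinearEquiv.mul_apply, rf_mul_self]; rfl

theorem rf_of_perp {a v : V} (h : f.B a v = 0) : f.rf a v = v := by rw [rf_apply, h]; simp

theorem rf_self {a : V} (h : f.q a ≠ 0) : f.rf a a = -a := by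
  rw [rf_apply, quad_B_self, show (f.q a)⁻¹ * (2 * f.q a) = 2 by field_simp]; module

theorem rf_conj {g : V ≃ₗ[F] V} (hg : g ∈ f.O) (a : V) : g * f.rf a * g⁻¹ = f.rf (g a) := by
  ext v
  obtain ⟨v, rfl⟩ := g.surjective v
  rw [LinearEquiv.mul_apply, LinearEquiv.mul_apply, ← LinearEquiv.mul_apply _⁻¹, inv_mul_cancel,
    LinearEquiv.coe_one, id, rf_apply, rf_apply, mem_O_q hg, mem_O_B hg, map_sub, map_smul]

theorem rf_smul {c : F} (hc : c ≠ 0) (a : V) : f.rf (c • a) = f.rf a := by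
  ext v
  rw [rf_apply, rf_apply, quad_q_smul, qB_smul_left, smul_smul]
  congr 2
  by_cases h : f.q a = 0
  · simp [h]
  · field_simp

theorem rf_mem_of_mem {W : Submodule F V} {a v : V} (ha : a ∈ W) (hv : v ∈ W) : f.rf a v ∈ W := by
  rw [rf_apply]; exact W.sub_mem hv (W.smul_mem _ ha)

theorem rf_comm {a b : V} (h : f.B a b = 0) : f.rf a * f.rf b = f.rf b * f.rf a := by
  rw [← mul_inv_eq_iff_eq_mul, rf_conj (rf_mem_O a), rf_of_perp h]

theorem quad_tv {u : V} (a : F) (ha : (FormType.quad F).π a = 0) : f.ei u 0 a ∈ K := by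
  rw [show a = 0 from ha, ei_zero]; exact K.one_mem

theorem Es.quad_mem {u v : V} (h : f.Es K u v) {a : F} (ha : f.EichOK u v a) : f.ei u v a ∈ K :=
  h.mem quad_tv ha

theorem Es.quad_self {u : V} (hu : f.q u = 0) (c : F) : f.Es K u (c • u) := Es.self hu quad_tv c

theorem Es.swap {u v : V} (h : f.Es K u v) (hv : f.q v = 0) : f.Es K v u := by
  have h1 := h.quad_mem (a := 0) ⟨h.hu, h.huv, hv.symm⟩
  rw [ei_swap h.hu hv h.huv] at h1
  have h2 : f.Es K v (-(FormType.quad F).ε • u) :=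
    ⟨0, ⟨hv, by rw [B_smul_right, f.B_eq_zero_symm h.huv, mul_zero],
      (f.q_smul_eq_zero h.hu _).symm⟩, h1⟩
  simpa [FormType.quad_ε] using h2.neg

theorem quad_ei_apply {u v : V} {a : F} (h : f.EichOK u v a) (x : V) :
    f.ei u v a x = x + f.B u x • v - (f.B v x + a * f.B u x) • u := by
  rw [h.ei_apply, FormType.quad_ε, one_mul]

variable (f K) in
/-- `a` is non-singular and its reflection lies in `K`. -/
def Rf (a : V) : Prop := f.q a ≠ 0 ∧ f.rf a ∈ K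

namespace Rf

variable {a b : V}

theorem ne_zero (h : f.Rf K a) : a ≠ 0 := by rintro rfl; exact h.1 f.q_zero

theorem rk (h : f.Rf K a) : f.Rk K a :=
  ⟨_, h.2, rf_mem_O a, -(f.q a)⁻¹, by simpa using h.1, fun v => by rw [rf_apply]; module⟩

theorem map (h : f.Rf K a) {g : V ≃ₗ[F] V} (hg : g ∈ K) (hO : g ∈ f.O) : f.Rf K (g a) :=
  ⟨by rw [mem_O_q hO]; exact h.1, rf_conj hO a ▸ K.mul_mem (K.mul_mem hg h.2) (K.inv_mem hg)⟩

theorem smul (h : f.Rf K a) {c : F} (hc : c ≠ 0) : f.Rf K (c • a) :=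
  ⟨by rw [quad_q_smul]; exact mul_ne_zero (pow_ne_zero _ hc) h.1, (rf_smul (f := f) hc a).symm ▸ h.2⟩

theorem of_smul {c : F} (h : f.Rf K (c • a)) : f.Rf K a := by
  have hc : c ≠ 0 := by rintro rfl; exact h.ne_zero (zero_smul _ _)
  have := h.smul (inv_ne_zero hc)
  rwa [smul_smul, inv_mul_cancel₀ hc, one_smul] at this

theorem neg (h : f.Rf K a) : f.Rf K (-a) := by simpa using h.smul (c := -1) (by simp)

theorem rf (ha : f.Rf K a) (hb : f.Rf K b) : f.Rf K (f.rf a b) := hb.map ha.2 (rf_mem_O a)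

theorem mono {K' : Subgroup (V ≃ₗ[F] V)} (hK : K ≤ K') (h : f.Rf K a) : f.Rf K' a := ⟨h.1, hK h.2⟩

/-- Two reflections whose vectors differ by a singular vector. -/
theorem step {y u : V} (hy : f.Rf K y) (hy' : f.Rf K (y + u)) (hu : f.q u = 0)
    (huy : f.B u y = 0) : f.Es K u ((f.q y)⁻¹ • y) := by
  have hq := hy.1
  have h1 : f.EichOK u (-((f.q y)⁻¹ • y)) (f.q y)⁻¹ := ⟨hu, by simp [huy], by
    rw [q_neg, quad_q_smul, FormType.quad_π]; field_simp⟩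
  have h2 : f.ei u (-((f.q y)⁻¹ • y)) (f.q y)⁻¹ = f.rf (y + u) * f.rf y := by
    ext v
    rw [quad_ei_apply h1, LinearEquiv.mul_apply, rf_apply, rf_apply,
      f.q_add_of_B_eq_zero (f.B_eq_zero_symm huy), hu, add_zero]
    simp only [B_add_left, B_sub_right, B_smul_right, B_neg_left, qB_smul_left, huy, quad_B_self]
    match_scalars <;> field_simp <;> ring
  have h3 : f.Es K u (-((f.q y)⁻¹ • y)) := ⟨_, h1, h2 ▸ K.mul_mem hy'.2 hy.2⟩
  simpa using h3.neg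

end Rf

theorem rf_hyp_eq {x w : V} (hx : f.q x = 0) (hw : f.q w = 0) (hxw : f.B x w = 1) {γ δ s : F}
    (hγ : γ ≠ 0) (hδ : δ ≠ 0) (hs : s ≠ 0) :
    f.rf ((s * γ) • x + w) * f.rf (γ • x + w) = f.rf ((s * δ) • x + w) * f.rf (δ • x + w) := by
  have hq : ∀ c : F, f.q (c • x + w) = c := fun c => by
    rw [quad_q_add, f.q_smul_eq_zero hx, hw, qB_smul_left, hxw]; ring
  ext v
  simp only [LinearEquiv.mul_apply, rf_apply, hq, B_add_left, B_add_right, B_sub_right,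
    B_smul_right, qB_smul_left, f.B_self_eq_zero hx, f.B_self_eq_zero hw, hxw, f.quad_symm x w]
  match_scalars <;> field_simp <;> ring

theorem rf_mul_rf_eq_ei {x w v : V} (hx : f.q x = 0) (hw : f.q w = 0) (hxw : f.B x w = 1)
    (hxv : f.B x v = 0) (hwv : f.B w v = 0) (hv : f.q v ≠ 0) :
    f.rf (f.q v • x + w) * f.rf v =
      f.ei x v (f.q v) * f.ei w ((f.q v)⁻¹ • v) (f.q v)⁻¹ * f.ei x v (f.q v) := by
  have hq : ∀ c : F, f.q (c • x + w) = c := fun c => by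
    rw [quad_q_add, f.q_smul_eq_zero hx, hw, qB_smul_left, hxw]; ring
  have h1 : f.EichOK x v (f.q v) := ⟨hx, hxv, rfl⟩
  have h2 : f.EichOK w ((f.q v)⁻¹ • v) (f.q v)⁻¹ := ⟨hw, by simp [hwv], by
    rw [quad_q_smul, FormType.quad_π]; field_simp⟩
  ext y
  simp only [LinearEquiv.mul_apply, rf_apply, quad_ei_apply h1, quad_ei_apply h2, hq, B_add_left,
    B_add_right, B_sub_right, B_smul_right, qB_smul_left, f.B_self_eq_zero hx,
    hxw, f.quad_symm x w, hxv, hwv, f.quad_symm x v, f.quad_symm w v,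
    f.quad_B_self v]
  match_scalars <;> field_simp <;> ring

variable [FiniteDimensional F V]

theorem exists_q_ne_zero_mem {W : Submodule F V} (hW : (f.restrict W).Nondeg) (h0 : W ≠ ⊥) :
    ∃ v ∈ W, f.q v ≠ 0 := by
  by_contra! H
  obtain ⟨w, hw, hw0⟩ := Submodule.exists_mem_ne_zero_of_ne_bot h0
  exact hw0 (restrict_nondeg_iff'.1 hW w hw fun v hv => by
    rw [quad_B, H _ (W.add_mem hv hw), H v hv, H w hw]; ring)

theorem restrict_nondeg_inf_perp {Z A : Submodule F V} (hZ : (f.restrict Z).Nondeg)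
    (hA : (f.restrict A).Nondeg) (hAZ : A ≤ Z) : (f.restrict (Z ⊓ f.perp A)).Nondeg := by
  rw [restrict_nondeg_iff']
  intro w hw hw'
  refine restrict_nondeg_iff'.1 hZ w hw.1 fun v hv => ?_
  obtain ⟨a, ha, t, ht, rfl⟩ := exists_add_perp hA v
  rw [B_add_left, hw.2 a ha, hw' t ⟨(Z.add_mem_iff_right (hAZ ha)).1 hv, ht⟩, add_zero]

theorem le_finrank_inf_perp' (Z A : Submodule F V) :
    finrank F Z ≤ finrank F (Z ⊓ f.perp A : Submodule F V) + finrank F A := by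
  have h1 := Submodule.finrank_sup_add_finrank_inf_eq Z (f.perp A)
  have h2 := (Z ⊔ f.perp A).finrank_le
  have h3 : finrank F V ≤ finrank F (f.perp A) + finrank F A := by
    let φ : V →ₗ[F] Dual F A := f.toQuad.polarBilin.compl₂ A.subtype
    have h4 := φ.finrank_range_add_finrank_ker
    have h5 := (LinearMap.range φ).finrank_le
    have h6 : LinearMap.ker φ = f.perp A := by
      ext v
      simp only [LinearMap.mem_ker, LinearMap.ext_iff, mem_perp', φ, LinearMap.compl₂_apply,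
        QuadraticMap.polarBilin_apply_apply, polar_toQuad]
      exact ⟨fun h a ha => h ⟨a, ha⟩, fun h a => h a a.2⟩
    rw [h6] at h4
    rw [Subspace.dual_finrank_eq] at h5
    omega
  omega

theorem finrank_span_pair_le (x y : V) : finrank F (Submodule.span F {x, y}) ≤ 2 := by
  rw [Submodule.span_insert]
  exact (finrank_sup_span_le _ _).trans (by have := finrank_span_singleton_le (F := F) x; omega)

theorem exists_perp_hyp {Z : Submodule F V} (hZ : (f.restrict Z).Nondeg) (h3 : 3 ≤ finrank F Z)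
    {x w : V} (hxZ : x ∈ Z) (hwZ : w ∈ Z) (hx : f.q x = 0) (hxw : f.B x w = 1) :
    ∃ v ∈ Z, f.B x v = 0 ∧ f.B w v = 0 ∧ f.q v ≠ 0 := by
  have h1 := le_finrank_inf_perp' (f := f) Z (Submodule.span F {x, w})
  have h2 := finrank_span_pair_le (F := F) x w
  obtain ⟨v, hv, hq⟩ := exists_q_ne_zero_mem (restrict_nondeg_inf_perp hZ
    (restrict_nondeg_hyp (f.B_self_eq_zero hx) (t' := w) (by simp [hxw]))
    (Submodule.span_le.2 (by rintro _ (rfl | rfl) <;> assumption)))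
    (fun e => by rw [e, finrank_bot] at h1; omega)
  exact ⟨v, hv.1, (f.mem_perp_span_pair.1 hv.2).1, (f.mem_perp_span_pair.1 hv.2).2, hq⟩

theorem Full.rf_mul_rf_hyp {Z : Submodule F V} (h : f.Full K Z) (hZ : (f.restrict Z).Nondeg)
    (h3 : 3 ≤ finrank F Z) {x w : V} (hxZ : x ∈ Z) (hwZ : w ∈ Z) (hx : f.q x = 0) (hw : f.q w = 0)
    (hxw : f.B x w = 1) {γ s : F} (hγ : γ ≠ 0) (hs : s ≠ 0) :
    f.rf ((s ^ 2 * γ) • x + w) * f.rf (γ • x + w) ∈ K := by
  obtain ⟨v, hv, hxv, hwv, hq⟩ := exists_perp_hyp hZ h3 hxZ hwZ hx hxw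
  have key : ∀ v ∈ Z, f.B x v = 0 → f.B w v = 0 → f.q v ≠ 0 →
      f.rf (f.q v • x + w) * f.rf v ∈ K := fun v hv hxv hwv hq => by
    rw [rf_mul_rf_eq_ei hx hw hxw hxv hwv hq]
    have h1 := h x v _ ⟨hx, hxv, rfl⟩ hxZ hv
    exact K.mul_mem (K.mul_mem h1 (h w _ _ ⟨hw, by simp [hwv], by
      rw [quad_q_smul, FormType.quad_π]; field_simp⟩ hwZ (Z.smul_mem _ hv))) h1
  have h1 := key _ (Z.smul_mem s hv) (by simp [hxv]) (by simp [hwv])
    (by rw [quad_q_smul]; exact mul_ne_zero (pow_ne_zero _ hs) hq)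
  have h2 := K.mul_mem h1 (K.inv_mem (key v hv hxv hwv hq))
  rw [rf_smul hs, quad_q_smul, mul_inv_rev, mul_assoc, mul_inv_cancel_left, rf_inv] at h2
  rwa [rf_hyp_eq hx hw hxw hγ hq (pow_ne_zero _ hs)]

variable [Finite F]

theorem quad_exists_hyp {Z : Submodule F V} (hZ : (f.restrict Z).Nondeg) (h3 : 3 ≤ finrank F Z) :
    ∃ x ∈ Z, ∃ w ∈ Z, f.q x = 0 ∧ f.q w = 0 ∧ f.B x w = 1 := by
  obtain ⟨x, hx, hx0, hq⟩ := quad_iso3 f Z h3
  obtain ⟨w, hw, h⟩ := exists_partner_mem hq hx fun e => hx0 (restrict_nondeg_iff'.1 hZ x hx e)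
  exact ⟨x, hx, w, hw, hq, h⟩

/-- If `K` contains `Ω(Z)` and one reflection, it contains all reflections of the same class. -/
theorem Full.rf_of_q_eq {Z : Submodule F V} (h : f.Full K Z) (hZ : (f.restrict Z).Nondeg)
    (h3 : 3 ≤ finrank F Z) {y b : V} (hyZ : y ∈ Z) (hbZ : b ∈ Z) (hy : f.Rf K y)
    (hq : f.q b = f.q y) : f.Rf K b := by
  obtain ⟨x, hxZ, w, hwZ, hx, hw, hxw⟩ := quad_exists_hyp hZ h3
  have key : ∀ y ∈ Z, f.q y ≠ 0 → ∃ g ∈ K, g ∈ f.O ∧ ∃ α β : F, g y = α • x + β • w ∧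
      α * β = f.q y := fun y hy hq => by
    obtain ⟨e, he, -, α, β, h1⟩ := hZ.exists_E_apply_mem_hyp (X := ⊥) (x := ⟨x, hxZ⟩)
      (y := ⟨w, hwZ⟩) hx hw hxw (by simp [perp_bot]) (by simp [perp_bot]) (p := ⟨y, hy⟩)
      (by simp [perp_bot]) (by rintro e; exact hq (by
        rw [show y = 0 from congrArg Subtype.val e, q_zero]))
    obtain ⟨g, hg, hO, h2, -⟩ := h.lift hZ he
    have h3 : g y = α • x + β • w := by rw [h2 ⟨y, hy⟩, h1]; rfl
    refine ⟨g, hg, hO, α, β, h3, ?_⟩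
    rw [← mem_O_q hO, h3, quad_q_add, f.q_smul_eq_zero hx, f.q_smul_eq_zero hw, qB_smul_left,
      B_smul_right, hxw]; ring
  have hb : f.q b ≠ 0 := hq ▸ hy.1
  obtain ⟨g, hg, hO, α, β, e1, e2⟩ := key y hyZ hy.1
  obtain ⟨g', hg', hO', α', β', e1', e2'⟩ := key b hbZ hb
  have h0 := mul_ne_zero_iff.1 (e2 ▸ hy.1)
  have h0' := mul_ne_zero_iff.1 (e2' ▸ hb)
  have h1 := (hy.map hg hO).smul (inv_ne_zero h0.2)
  rw [e1, smul_add, smul_smul, smul_smul, inv_mul_cancel₀ h0.2, one_smul] at h1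
  have h2 := K.mul_mem (h.rf_mul_rf_hyp hZ h3 hxZ hwZ hx hw hxw
    (mul_ne_zero (inv_ne_zero h0.2) h0.1) (div_ne_zero h0'.1 h0.1)) h1.2
  rw [mul_assoc, rf_mul_self, mul_one, ← rf_smul h0'.2, smul_add, smul_smul,
    show β' * ((α' / α) ^ 2 * (β⁻¹ * α)) = α' by
      have := h0.1; have := h0.2
      field_simp; linear_combination α' * (e2' - e2 + hq), ← e1'] at h2
  have h3 : f.Rf K (g' b) := ⟨by rwa [mem_O_q hO'], h2⟩
  simpa using h3.map (K.inv_mem hg') (f.O.inv_mem hO')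

theorem exists_smul_q_eq {a : V} {c : F} (ha : f.q a ≠ 0) (hc : c ≠ 0)
    (h : Orth.sqSign (f.q a) = Orth.sqSign c) : ∃ s : F, s ≠ 0 ∧ f.q (s • a) = c := by
  obtain ⟨s, hs, e⟩ := Orth.exists_mul_self_mul_eq ha hc h
  exact ⟨s, hs, by rw [quad_q_smul, sq, e]⟩

theorem Nondeg.rf_mul_rf_mem_E (hf : f.Nondeg) (h5 : 5 ≤ finrank F V) {a b : V} (ha : f.q a ≠ 0)
    (hb : f.q b ≠ 0) (h : Orth.sqSign (f.q a) = Orth.sqSign (f.q b)) : f.rf a * f.rf b ∈ f.E := by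
  have hQ := FGL.toQuad_nondeg hf
  refine (hf.mem_E_iff_dsign h5 (Orth.refl f.toQuad a * Orth.refl f.toQuad b)).2 ⟨?_, ?_⟩
  · rw [Orth.dsign_refl_mul hQ _ ha, Orth.dsign_refl hQ hb, neg_neg]
  · rw [Orth.spin_refl_mul hQ _ ha, Orth.spin_refl hQ hb, toQuad_apply, toQuad_apply, h,
      Int.units_mul_self]

theorem Full.scale_sq {Z : Submodule F V} (h : f.Full K Z) (hZ : (f.restrict Z).Nondeg)
    (h3 : 3 ≤ finrank F Z) {z : V} (hz : z ∈ Z) (hz0 : z ≠ 0) (hq : f.q z = 0) (μ : F)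
    (hμ : μ ≠ 0) : ∃ g ∈ K, g ∈ f.O ∧ g z = (μ ^ 2) • z ∧ ∀ t ∈ f.perp Z, g t = t := by
  obtain ⟨w, hwZ, hw, hzw⟩ := exists_partner_mem hq hz fun e =>
    hz0 (restrict_nondeg_iff'.1 hZ z hz e)
  obtain ⟨v, hv, h1, h2, h4⟩ := exists_perp_hyp hZ h3 hz hwZ hq hzw
  have := h.exists_scale hZ hz hwZ (Z.smul_mem μ hv) hv hq hw hzw (by simp [h1]) (by simp [h2])
    h1 h2 (a := μ ^ 2 * f.q v) (a' := f.q v) (f.quad_q_smul μ v).symm rfl
    (mul_ne_zero (pow_ne_zero _ hμ) h4) h4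
  rwa [mul_div_cancel_right₀ _ h4] at this

theorem Full.scale_four {Z : Submodule F V} (h : f.Full K Z) (hZ : (f.restrict Z).Nondeg)
    (h4 : 4 ≤ finrank F Z) {z : V} (hz : z ∈ Z) (hz0 : z ≠ 0) (hq : f.q z = 0) (μ : F)
    (hμ : μ ≠ 0) : ∃ g ∈ K, g ∈ f.O ∧ g z = μ • z ∧ ∀ t ∈ f.perp Z, g t = t := by
  obtain ⟨w, hwZ, hw, hzw⟩ := exists_partner_mem hq hz fun e =>
    hz0 (restrict_nondeg_iff'.1 hZ z hz e)
  have h1 := le_finrank_inf_perp' (f := f) Z (Submodule.span F {z, w})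
  have h2 := finrank_span_pair_le (F := F) z w
  have key := exists_q_eq_mem (restrict_nondeg_inf_perp hZ
    (restrict_nondeg_hyp (f.B_self_eq_zero hq) (t' := w) (by simp [hzw]))
    (Submodule.span_le.2 (by rintro _ (rfl | rfl) <;> assumption))) (by omega)
  obtain ⟨v, hv, e⟩ := key μ
  obtain ⟨v', hv', e'⟩ := key 1
  have := h.exists_scale hZ hz hwZ hv.1 hv'.1 hq hw hzw (f.mem_perp_span_pair.1 hv.2).1
    (f.mem_perp_span_pair.1 hv.2).2 (f.mem_perp_span_pair.1 hv'.2).1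
    (f.mem_perp_span_pair.1 hv'.2).2 (a := μ) (a' := 1) e.symm e'.symm hμ one_ne_zero
  rwa [div_one] at this

omit [FiniteDimensional F V] in
theorem exists_eq_sq_sub_sq (c : F) : ∃ a b : F, c = a ^ 2 - b ^ 2 := by
  by_cases h2 : (2 : F) = 0
  · obtain ⟨a, ha⟩ := Orth.isSquare_of_two_eq_zero h2 c
    exact ⟨a, 0, by rw [ha]; ring⟩
  · exact ⟨(c + 1) / 2, (c - 1) / 2, by field_simp; ring⟩

omit [FiniteDimensional F V] in
theorem Es.smul_of_sq {z t : V} (hs : ∀ μ : F, μ ≠ 0 → ∃ g ∈ K, g ∈ f.O ∧ g z = (μ ^ 2) • z ∧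
    g t = t) {γ : F} (hγ : γ ≠ 0) (he : f.Es K z (γ • t)) (c : F) : f.Es K z (c • t) := by
  have key : ∀ μ : F, f.Es K z ((μ ^ 2 * γ) • t) := fun μ => by
    by_cases hμ : μ = 0
    · simpa [hμ] using Es.zero he.hu
    obtain ⟨g, hg, hO, h1, h2⟩ := hs μ hμ
    have := he.map hg hO
    rw [h1, map_smul, h2] at this
    have := this.of_smul_left (pow_ne_zero _ hμ)
    rwa [smul_smul] at this
  obtain ⟨a, b, e⟩ := exists_eq_sq_sub_sq (c / γ)
  have := (key a).sub (key b)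
  rwa [← sub_smul, ← sub_mul, ← e, div_mul_cancel₀ _ hγ] at this

omit [FiniteDimensional F V] in
theorem Rf.es_of_scale {z t : V} (hq : f.q z = 0) (hzt : f.B z t = 0) (hy : f.Rf K (z + t))
    {g : V ≃ₗ[F] V} (hg : g ∈ K) (hO : g ∈ f.O) {l : F} (hl : l ≠ 1) (h1 : g z = l • z)
    (h2 : g t = t) : ∃ γ : F, γ ≠ 0 ∧ f.Es K z (γ • t) := by
  have h3 := hy.map hg hO
  rw [map_add, h1, h2, show l • z + t = z + t + (l - 1) • z by module] at h3
  have h4 := (hy.step h3 (f.q_smul_eq_zero hq _) (by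
    rw [qB_smul_left, B_add_right, f.B_self_eq_zero hq, hzt]; simp)).of_smul_left
    (sub_ne_zero.2 hl)
  rw [smul_smul, smul_add] at h4
  have h5 := h4.sub (Es.quad_self hq ((FormType.quad F).σ (l - 1) * (f.q (z + t))⁻¹))
  rw [add_sub_cancel_left] at h5
  exact ⟨_, mul_ne_zero (sub_ne_zero.2 hl) (inv_ne_zero hy.1), h5⟩

theorem quad_big {Z : Submodule F V} (h3 : 3 ≤ finrank F Z) : (f.restrict Z).Big 0 :=
  Or.inr (by omega)

theorem Full.mem_SZ_of_rf_sing {Z : Submodule F V} (h : f.Full K Z) (hZ : (f.restrict Z).Nondeg)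
    (hd : (f.restrict Z).Idx2 ∨ 4 ≤ finrank F Z ∧ 3 ≤ Nat.card F ∨
      3 ≤ finrank F Z ∧ 4 ≤ Nat.card F) {z t : V} (hz : z ∈ Z) (hz0 : z ≠ 0) (hq : f.q z = 0)
    (ht : t ∈ f.perp Z) (hy : f.Rf K (z + t)) : t ∈ f.SZ K Z := by
  rcases hd with hd | ⟨hd, hc⟩ | ⟨hd, hc⟩
  · obtain ⟨w, hwZ, hw, hzw⟩ := exists_partner_mem hq hz fun e =>
      hz0 (restrict_nondeg_iff'.1 hZ z hz e)
    obtain ⟨x, y, hx, -, hxy, h1, h2, -, -⟩ := hd.exists_hyp_perp hZ (u := ⟨z, hz⟩)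
      (w := ⟨w, hwZ⟩) hq hw hzw
    have hx0 : (x : V) ≠ 0 := fun e => by simp [restrict_B, e] at hxy
    refine h.mem_SZ_of_rk hZ hd.big hz ht hy.rk x.2 hx0 hx (f.B_eq_zero_symm h1)
      (not_mem_span_comm hz0 fun e => ?_)
    obtain ⟨c, hc⟩ := Submodule.mem_span_singleton.1 e
    rw [restrict_B, ← hc, qB_smul_left, show f.B z y = 0 from h2] at hxy
    simp at hxy
  · obtain ⟨l, hl⟩ := exists_notMem_of_lt [(0 : F), 1] (by simp; omega)
    simp only [List.mem_cons, List.not_mem_nil, or_false, not_or] at hl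
    have hs := h.scale_four hZ hd hz hz0 hq
    obtain ⟨g, hg, hO, h1, h2⟩ := hs l hl.1
    obtain ⟨γ, hγ, he⟩ := hy.es_of_scale hq (ht z hz) hg hO hl.2 h1 (h2 t ht)
    exact h.mem_SZ_of_scale hZ (quad_big (by omega)) hz hz0 ht hs hγ he
  · obtain ⟨l, hl⟩ := exists_notMem_of_lt [(0 : F), 1, -1] (by simp; omega)
    simp only [List.mem_cons, List.not_mem_nil, or_false, not_or] at hl
    have hs := h.scale_sq hZ hd hz hz0 hq
    obtain ⟨g, hg, hO, h1, h2⟩ := hs l hl.1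
    obtain ⟨γ, hγ, he⟩ := hy.es_of_scale hq (ht z hz) hg hO
      (fun e => (mul_self_eq_one_iff.1 (by rwa [← sq])).elim hl.2.1 hl.2.2) h1 (h2 t ht)
    exact h.mem_SZ hZ (quad_big hd) hz hz0 ht (he.smul_of_sq (fun μ hμ =>
      (hs μ hμ).imp fun g hg => ⟨hg.1, hg.2.1, hg.2.2.1, hg.2.2.2 t ht⟩) hγ)

theorem Full.mem_SZ_of_rf_four {Z : Submodule F V} (h : f.Full K Z) (hZ : (f.restrict Z).Nondeg)
    (hd : 4 ≤ finrank F Z) {z t : V} (hz : z ∈ Z) (hq : f.q z ≠ 0)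
    (ht : t ∈ f.perp Z) (hy : f.Rf K (z + t)) : t ∈ f.SZ K Z := by
  have h1 := le_finrank_inf_perp' (f := f) Z (F ∙ z)
  have h2 := finrank_span_singleton_le (F := F) z
  obtain ⟨u, hu, hu0, huq⟩ := quad_iso3 f (Z ⊓ f.perp (F ∙ z)) (by omega)
  refine h.mem_SZ_of_rk hZ (quad_big (by omega)) hz ht hy.rk hu.1 hu0 huq
    (f.B_eq_zero_symm (f.mem_perp_span_singleton.1 hu.2)) fun e => hq ?_
  obtain ⟨c, rfl⟩ := Submodule.mem_span_singleton.1 e
  exact f.q_smul_eq_zero huq c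

end Form

end CL.Witt
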