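import Mathlib
import Cfsg.Agent.CLAS.Ref4

/-!
Stabilisers of non-degenerate subspaces and decompositions in orthogonal groups.
-/

set_option autoImplicit false
set_option linter.unusedSectionVars false

namespace CL.Witt

open Module

theorem quad_roots {F : Type*} [Field F] {α β γ : F} (h : α ≠ 0 ∨ β ≠ 0 ∨ γ ≠ 0) :
    ∃ r r' : F, ∀ s, α * s ^ 2 + β * s + γ = 0 → s = r ∨ s = r' := by
  by_cases h0 : ∃ r, α * r ^ 2 + β * r + γ = 0
  · obtain ⟨r, hr⟩ := h0
    refine ⟨r, -β / α - r, fun s hs => or_iff_not_imp_left.2 fun e => ?_⟩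
    have h1 : α * (s + r) + β = 0 :=
      mul_left_cancel₀ (sub_ne_zero.2 e) (by linear_combination hs - hr)
    have hα : α ≠ 0 := by
      rintro rfl
      have hβ : β = 0 := by simpa using h1
      simp [hβ] at hr h; exact h hr
    field_simp; linear_combination h1
  · exact ⟨0, 0, fun s hs => (h0 ⟨s, hs⟩).elim⟩

theorem finrank_span_pair_of {F V : Type*} [Field F] [AddCommGroup V] [Module F V] {x y : V}
    (hy : y ≠ 0) (hx : x ∉ F ∙ y) : finrank F (Submodule.span F {x, y}) = 2 := by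
  have := finrank_span_eq_card (linearIndependent_fin2.2 (show (![x, y] : Fin 2 → V) 1 ≠ 0 ∧
    ∀ a : F, a • (![x, y] : Fin 2 → V) 1 ≠ ![x, y] 0 from
      ⟨hy, fun a e => hx (Submodule.mem_span_singleton.2 ⟨a, e⟩)⟩))
  rwa [Matrix.range_cons_cons_empty] at this

namespace Form

section gen

variable {F : Type*} [Field F] {T : FormType F} {V : Type*} [AddCommGroup V] [Module F V]
  {f : Form T V} [FiniteDimensional F V]

theorem OIrr.le_of_q_eq {Y W : Submodule F V} (h : (f.restrict Y).OIrr) {d : F} {y : V}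
    (hy : y ∈ Y) (hy0 : y ≠ 0) (hq : f.q y = d) (hW : ∀ v ∈ Y, f.q v = d → v ∈ W) : Y ≤ W := by
  have := (h (Submodule.span F {v : Y | f.q v = d}) fun g hg v hv => by
    have : (Submodule.span F {v : Y | f.q v = d}).map (g : Y →ₗ[F] Y) ≤ _ :=
      Submodule.map_span_le _ _ _ |>.2 fun w hw => Submodule.subset_span
        (s := {v : Y | f.q v = d}) ((mem_O_q (f := f.restrict Y) hg w).trans hw)
    exact this ⟨v, hv, rfl⟩).resolve_left fun e => hy0 (by
      have : (⟨y, hy⟩ : Y) ∈ Submodule.span F {v : Y | f.q v = d} := Submodule.subset_span hq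
      rw [e, Submodule.mem_bot] at this
      exact congrArg Subtype.val this)
  intro v hv
  have h1 : Submodule.span F {v : Y | f.q v = d} ≤ W.comap Y.subtype :=
    Submodule.span_le.2 fun w hw => hW w w.2 hw
  exact h1 (x := ⟨v, hv⟩) (this ▸ Submodule.mem_top)

omit [FiniteDimensional F V] in
theorem Conn.of_left {W : Submodule F V} {P : V → Prop} {a : V} (ha : a ∈ W) (hP : P a)
    (h : ∀ W₁ W₂ : Submodule F V, W₂ ≤ f.perp W₁ → (∀ v ∈ W, P v → v ∈ W₁ ∨ v ∈ W₂) → a ∈ W₁ →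
      W ≤ W₁ ∨ W ≤ W₂) : f.Conn W P := fun W₁ W₂ ho hc =>
  (hc a ha hP).elim (h W₁ W₂ ho hc) fun h2 =>
    (h W₂ W₁ (fun v hv _ hw => f.B_eq_zero_symm (ho hw v hv)) (fun v hv hq => (hc v hv hq).symm)
      h2).symm

theorem mem_of_add_perp {W A W₁ : Submodule F V} (hA : (f.restrict A).Nondeg) (hAW : A ≤ W)
    (h1 : A ≤ W₁) (h2 : W ⊓ f.perp A ≤ W₁) : W ≤ W₁ := fun v hv => by
  obtain ⟨a, ha, t, ht, rfl⟩ := exists_add_perp hA v
  exact W₁.add_mem (h1 ha) (h2 ⟨(W.add_mem_iff_right (hAW ha)).1 hv, ht⟩)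

omit [FiniteDimensional F V] in
theorem not_mem_span_of_B {x y d : V} (hx : f.B d x ≠ 0) (hy : f.B d y = 0) : x ∉ F ∙ y := by
  intro e
  obtain ⟨c, rfl⟩ := Submodule.mem_span_singleton.1 e
  exact hx (by rw [B_smul_right, hy, mul_zero])

omit [FiniteDimensional F V] in
theorem finrank_span_pair_of_B {x y : V} (hx : f.B x x = 0) (hy : f.B x y ≠ 0) :
    finrank F (Submodule.span F {x, y}) = 2 := by
  rw [Set.pair_comm]
  exact finrank_span_pair_of (by rintro rfl; simp at hy) (not_mem_span_of_B hy hx)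

variable (f) in
/-- `W` contains a totally singular subspace of half its dimension. -/
def Plus (W : Submodule F V) : Prop :=
  ∃ U ≤ W, f.TotSing U ∧ 2 * finrank F U = finrank F W

theorem plus_of_singular {W : Submodule F V} (h2 : finrank F W = 2) {u : V} (hu : u ∈ W)
    (hu0 : u ≠ 0) (hq : f.q u = 0) : f.Plus W :=
  ⟨F ∙ u, (Submodule.span_singleton_le_iff_mem _ _).2 hu, f.totSing_span_singleton hq, by
    rw [finrank_span_singleton hu0, h2]⟩

theorem Plus.exists_singular {W : Submodule F V} (h : f.Plus W) (h0 : 0 < finrank F W) :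
    ∃ u ∈ W, u ≠ 0 ∧ f.q u = 0 := by
  obtain ⟨U, hU, hU', hd⟩ := h
  obtain ⟨x, hx, hx0⟩ := Submodule.exists_mem_ne_zero_of_ne_bot (p := U)
    (by rintro rfl; simp at hd; omega)
  exact ⟨x, hU hx, hx0, hU'.1 x hx⟩

omit [FiniteDimensional F V] in
theorem Plus.of_isom {W W' : Submodule F V} (h : f.Plus W)
    (e : ∃ e : W ≃ₗ[F] W', IsIsom (f.restrict W) (f.restrict W') e) : f.Plus W' := by
  obtain ⟨U, h1, h2, h3⟩ := h
  obtain ⟨e, he⟩ := e
  have h4 : (f.restrict W).TotSing (U.comap W.subtype) :=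
    ⟨fun w hw => h2.1 _ hw, fun w hw w' hw' => h2.2 _ hw _ hw'⟩
  have h5 := h4.map he
  refine ⟨((U.comap W.subtype).map (e : W →ₗ[F] W')).map W'.subtype, Submodule.map_subtype_le _ _,
    ⟨?_, ?_⟩, ?_⟩
  · rintro _ ⟨w, hw, rfl⟩; exact h5.1 w hw
  · rintro _ ⟨w, hw, rfl⟩ _ ⟨w', hw', rfl⟩; exact h5.2 w hw w' hw'
  · rw [Submodule.finrank_map_subtype_eq, LinearEquiv.finrank_map_eq,
      (Submodule.comapSubtypeEquivOfLe h1).finrank_eq, h3, e.finrank_eq]

end gen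

variable {F : Type*} [Field F] {V : Type*} [AddCommGroup V] [Module F V]
  {f : Form (FormType.quad F) V} {K : Subgroup (V ≃ₗ[F] V)} [FiniteDimensional F V]

omit [FiniteDimensional F V] in
theorem quad_q_add_smul (y v : V) (s : F) :
    f.q (y + s • v) = f.q v * s ^ 2 + f.B y v * s + f.q y := by
  rw [quad_q_add, quad_q_smul, B_smul_right]; ring

omit [FiniteDimensional F V] in
theorem exists_q_add_smul_ne [Finite F] {v : V} (hv : f.q v ≠ 0) (y : V) (l : List F)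
    (hl : l.length + 2 < Nat.card F) : ∃ s, s ∉ l ∧ f.q (y + s • v) ≠ 0 := by
  obtain ⟨r, r', h⟩ := quad_roots (α := f.q v) (β := f.B y v) (γ := f.q y) (Or.inl hv)
  obtain ⟨s, hs⟩ := exists_notMem_of_lt (r :: r' :: l) (by simpa using hl)
  simp only [List.mem_cons, not_or] at hs
  exact ⟨s, hs.2.2, fun e => (h s (by rw [← e, quad_q_add_smul])).elim hs.1 hs.2.1⟩

theorem finrank_inf_perp_add {W A : Submodule F V} (hA : (f.restrict A).Nondeg) (hAW : A ≤ W) :
    finrank F (W ⊓ f.perp A : Submodule F V) + finrank F A = finrank F W := by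
  have h1 := Submodule.finrank_sup_add_finrank_inf_eq (W ⊓ f.perp A) A
  rw [le_antisymm (sup_le inf_le_left hAW) (mem_of_add_perp hA hAW le_sup_right le_sup_left),
    (eq_bot_iff (a := W ⊓ f.perp A ⊓ A)).2 fun v hv => restrict_nondeg_iff'.1 hA v hv.2 hv.1.2,
    finrank_bot] at h1
  omega

variable [Finite F]

theorem quad_oIrr' {W : Submodule F V} (hW : (f.restrict W).Nondeg)
    (h : finrank F W ≠ 2 ∨ 4 ≤ Nat.card F ∨ ¬ f.Plus W) : (f.restrict W).OIrr := by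
  refine hW.quad_oIrr fun ⟨h1, h2, x, hx0, hx⟩ => ?_
  rcases h with h | h | h
  · exact h h1
  · have := Fintype.ofFinite F
    have := FGL.card_le_three_of_sq h2
    rw [Nat.card_eq_fintype_card] at h; omega
  · exact h (plus_of_singular h1 x.2 (by simpa using hx0) hx)

theorem conn_odd (h2 : (2 : F) ≠ 0) {W : Submodule F V} (hW : (f.restrict W).Nondeg) {c : F}
    (hc : c ≠ 0) (hd : 4 ≤ finrank F W ∨ 3 ≤ finrank F W ∧ 4 ≤ Nat.card F ∨
      finrank F W = 2 ∧ (6 ≤ Nat.card F ∨ 4 ≤ Nat.card F ∧ ¬ f.Plus W)) :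
    f.Conn W fun v => f.q v = c := by
  obtain ⟨a, ha, hq⟩ := exists_q_eq_mem hW (by omega) c
  have haa : f.B a a ≠ 0 := by rw [quad_B_self, hq]; exact mul_ne_zero h2 hc
  have hA := restrict_nondeg_span_singleton haa
  have hAW := (Submodule.span_singleton_le_iff_mem _ _).2 ha
  have hY := restrict_nondeg_inf_perp hW hA hAW
  have hdY := finrank_inf_perp_add hA hAW
  rw [finrank_span_singleton (by rintro rfl; simp at haa)] at hdY
  obtain ⟨l, hl, y, hy, hy0, hyq⟩ : ∃ l : F, l ≠ 0 ∧ ∃ y ∈ W ⊓ f.perp (F ∙ a), y ≠ 0 ∧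
      f.q y = (1 - l ^ 2) * c := by
    rcases hd with hd | ⟨hd, hF⟩ | ⟨hd, hF⟩
    · obtain ⟨y, h1, h3, h4⟩ := quad_iso3 f (W ⊓ f.perp (F ∙ a)) (by omega)
      exact ⟨1, one_ne_zero, y, h1, h3, by simpa using h4⟩
    · obtain ⟨l, hl⟩ := exists_notMem_of_lt [(0 : F), 1, -1] (by simp; omega)
      simp only [List.mem_cons, List.not_mem_nil, or_false, not_or] at hl
      obtain ⟨y, h1, h3⟩ := exists_q_eq_mem hY (by omega) ((1 - l ^ 2) * c)
      refine ⟨l, hl.1, y, h1, ?_, h3⟩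
      rintro rfl
      rw [q_zero, eq_comm, mul_eq_zero, sub_eq_zero, eq_comm, sq, mul_self_eq_one_iff] at h3
      tauto
    · obtain ⟨e, he, heq⟩ := exists_q_ne_zero_mem hY (fun e => by rw [e, finrank_bot] at hdY; omega)
      have hae : f.B a e = 0 := f.mem_perp_span_singleton.1 he.2
      obtain ⟨r, r', h⟩ := quad_roots (α := f.q e) (β := 0) (γ := -c) (Or.inl heq)
      obtain ⟨s, hs, hN⟩ : ∃ s : F, s ∉ [0, r, r'] ∧ f.q (a + s • e) ≠ 0 := by
        rcases hF with hF | ⟨hF, hp⟩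
        · exact exists_q_add_smul_ne heq a _ (by simp; omega)
        · obtain ⟨s, hs⟩ := exists_notMem_of_lt [0, r, r'] (by simp; omega)
          refine ⟨s, hs, fun e' => hp (plus_of_singular hd (W.add_mem ha (W.smul_mem _ he.1))
            (fun e'' => haa ?_) e')⟩
          simpa [hae] using congrArg (f.B a) e''
      simp only [List.mem_cons, List.not_mem_nil, or_false, not_or] at hs
      rw [quad_q_add_smul, hae, hq, zero_mul, add_zero] at hN
      refine ⟨(f.q e * s ^ 2 - c) / (f.q e * s ^ 2 + c), div_ne_zero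
        (fun e' => (h s (by linear_combination e')).elim hs.2.1 hs.2.2) hN,
        (2 * c * s / (f.q e * s ^ 2 + c)) • e, Submodule.smul_mem _ _ he,
        smul_ne_zero (by simp [h2, hc, hs.1, hN]) (by rintro rfl; exact heq f.q_zero), ?_⟩
      rw [quad_q_smul, div_pow, div_pow, one_sub_div (pow_ne_zero _ hN), div_mul_eq_mul_div,
        div_mul_eq_mul_div]
      congr 1; ring
  refine Conn.of_left ha hq fun W₁ W₂ ho hc' h1 => Or.inl (mem_of_add_perp hA hAW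
    ((Submodule.span_singleton_le_iff_mem _ _).2 h1) ?_)
  refine (quad_oIrr' hY (by omega)).le_of_q_eq hy hy0 hyq fun v hv hvq => ?_
  have hav : f.B a v = 0 := f.mem_perp_span_singleton.1 hv.2
  have h3 := (hc' (v + l • a) (W.add_mem hv.1 (W.smul_mem _ ha)) (by
    rw [quad_q_add_smul, hq, hvq, f.quad_symm, hav]; ring)).resolve_right fun e =>
      mul_ne_zero hl haa (by simpa [hav] using ho e a h1)
  exact (W₁.add_mem_iff_left (W₁.smul_mem _ h1)).1 h3

theorem exists_q_ne_zero_of_lt {W Y : Submodule F V} (hW : (f.restrict W).Nondeg) (hY : Y ≤ W)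
    (h : finrank F W < 2 * finrank F Y) : ∃ v ∈ Y, f.q v ≠ 0 := by
  by_contra! H
  have h1 : (f.restrict W).TotSing (Y.comap W.subtype) :=
    (quad_totSing_iff _ _).2 fun w hw => H w hw
  have := h1.two_mul_finrank_le hW
  rw [(Submodule.comapSubtypeEquivOfLe hY).finrank_eq] at this
  omega

omit [FiniteDimensional F V] in
theorem eq_zero_or_one (h : Nat.card F < 3) (a : F) : a = 0 ∨ a = 1 := by
  have := Fintype.ofFinite F
  have := Fintype.one_lt_card (α := F)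
  rw [Nat.card_eq_fintype_card] at h
  exact eq_zero_or_one_of_card_two (by omega) a

theorem exists_smul_q_eq_two (h2 : (2 : F) = 0) {a : V} {c : F} (ha : f.q a ≠ 0) (hc : c ≠ 0) :
    ∃ s : F, s ≠ 0 ∧ f.q (s • a) = c :=
  exists_smul_q_eq ha hc (by rw [Orth.sqSign_of_two_eq_zero h2, Orth.sqSign_of_two_eq_zero h2])

omit [FiniteDimensional F V] [Finite F] in
theorem B_self_two (h2 : (2 : F) = 0) (a : V) : f.B a a = 0 := by rw [quad_B_self, h2, zero_mul]

theorem conn_even (h2 : (2 : F) = 0) {W : Submodule F V} (hW : (f.restrict W).Nondeg) {c : F}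
    (hc : c ≠ 0) (h0 : 2 ≤ finrank F W)
    (hd : 3 ≤ Nat.card F ∨ 5 ≤ finrank F W ∨ ¬ f.Plus W) : f.Conn W fun v => f.q v = c := by
  obtain ⟨a, ha, hq⟩ := exists_q_eq_mem hW h0 c
  have ha0 : a ≠ 0 := by rintro rfl; exact hc (hq.symm.trans f.q_zero)
  have hpl : ∀ {d}, d ∈ W → Submodule.span F {a, d} ≤ W := fun hd =>
    Submodule.span_le.2 (by rintro _ (rfl | rfl) <;> assumption)
  obtain ⟨b, hb, hbq, hab⟩ : ∃ b ∈ W, f.q b = c ∧ f.B a b ≠ 0 := by
    obtain ⟨d, hdW, had⟩ : ∃ d ∈ W, f.B a d ≠ 0 := by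
      by_contra! H
      exact ha0 (restrict_nondeg_iff'.1 hW a ha fun v hv => f.B_eq_zero_symm (H v hv))
    suffices ∃ b ∈ W, f.q b ≠ 0 ∧ f.B a b ≠ 0 by
      obtain ⟨b, hb, hbq, hab⟩ := this
      obtain ⟨s, hs, e⟩ := exists_smul_q_eq_two h2 hbq hc
      exact ⟨s • b, W.smul_mem _ hb, e, by simp [hs, hab]⟩
    by_cases hdq : f.q d = 0
    swap; · exact ⟨d, hdW, hdq, had⟩
    by_cases hF : 3 ≤ Nat.card F
    · obtain ⟨s, -, hs⟩ := exists_q_add_smul_ne (hq ▸ hc) d [] (by simp; omega)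
      exact ⟨_, W.add_mem hdW (W.smul_mem _ ha), hs, by simpa [B_self_two h2] using had⟩
    have hA := restrict_nondeg_hyp (B_self_two h2 a) had
    have h1 := finrank_inf_perp_add hA (hpl hdW)
    have h3 := finrank_span_pair_le (F := F) a d
    obtain ⟨y, hy, hyq⟩ := exists_q_ne_zero_mem (restrict_nondeg_inf_perp hW hA (hpl hdW))
      fun e => by
        rw [e, finrank_bot] at h1
        exact (hd.resolve_left hF).resolve_left (by omega)
          (plus_of_singular (by omega) hdW (by rintro rfl; simp at had) hdq)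
    have h4 := f.mem_perp_span_pair.1 hy.2
    exact ⟨d + y, W.add_mem hdW hy.1, by rwa [f.q_add_of_B_eq_zero h4.2, hdq, zero_add],
      by simpa [h4.1] using had⟩
  have hA := restrict_nondeg_hyp (B_self_two h2 a) hab
  have hY := restrict_nondeg_inf_perp hW hA (hpl hb)
  have hdY := finrank_inf_perp_add hA (hpl hb)
  have hdA : finrank F (Submodule.span F {a, b}) = 2 := finrank_span_pair_of_B (B_self_two h2 a) hab
  refine Conn.of_left ha hq fun W₁ W₂ ho hc' h1 => Or.inl ?_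
  have h3 := (hc' b hb hbq).resolve_right fun e => hab (ho e a h1)
  have hA1 : Submodule.span F {a, b} ≤ W₁ :=
    Submodule.span_le.2 (by rintro _ (rfl | rfl) <;> assumption)
  have key : ∀ y ∈ W ⊓ f.perp (Submodule.span F {a, b}), f.q y ≠ c → y ∈ W₁ := fun y hy hyq => by
    obtain ⟨p, hp, hpq⟩ := exists_q_eq_mem hA hdA.ge (c - f.q y)
    refine (W₁.add_mem_iff_right (hA1 hp)).1 ((hc' (p + y) (W.add_mem (hpl hb hp) hy.1)
      (by rw [f.q_add_of_B_eq_zero (hy.2 p hp), hpq]; ring)).resolve_right fun e => ?_)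
    have := restrict_nondeg_iff'.1 hA p hp fun v hv => by
      simpa [hy.2 v hv] using ho e v (hA1 hv)
    rw [this, q_zero] at hpq
    exact hyq (by linear_combination hpq)
  refine mem_of_add_perp hA (hpl hb) hA1 fun y hy => ?_
  by_cases hyq : f.q y = c
  swap; · exact key y hy hyq
  by_cases hF : 3 ≤ Nat.card F
  · obtain ⟨s, hs⟩ := exists_notMem_of_lt [(0 : F), 1] (by simp; omega)
    simp only [List.mem_cons, List.not_mem_nil, or_false, not_or] at hs
    refine (W₁.smul_mem_iff hs.1).1 (key _ (Submodule.smul_mem _ _ hy) fun e => hs.2 ?_)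
    rw [quad_q_smul, hyq] at e
    have : (s - 1) ^ 2 = 0 := mul_right_cancel₀ hc (by linear_combination e + (1 - s) * c * h2)
    exact sub_eq_zero.1 (pow_eq_zero_iff two_ne_zero |>.1 this)
  have h01 := eq_zero_or_one (F := F) (by omega)
  by_cases hs : ∃ u ∈ W ⊓ f.perp (Submodule.span F {a, b}), u ≠ 0 ∧ f.q u = 0
  · obtain ⟨u, hu, hu0, huq⟩ := hs
    obtain ⟨w, hw, hwq, huw⟩ := exists_partner_mem huq hu fun e =>
      hu0 (restrict_nondeg_iff'.1 hY u hu e)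
    exact le_of_singular huq hwq (by simp [huw]) hu hw (fun v hv hvq => key v hv (hvq ▸ hc.symm)) hy
  push Not at hs
  have h4 : finrank F (W ⊓ f.perp (Submodule.span F {a, b}) : Submodule F V) < 3 := by
    by_contra! H
    obtain ⟨u, hu, hu0, huq⟩ := quad_iso3 f _ H
    exact hs u hu hu0 huq
  obtain ⟨y', hy', hyy⟩ : ∃ y' ∈ W ⊓ f.perp (Submodule.span F {a, b}), f.B y y' ≠ 0 := by
    by_contra! H
    exact hc (by rw [← hyq, restrict_nondeg_iff'.1 hY y hy fun v hv => f.B_eq_zero_symm (H v hv),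
      q_zero])
  have h5 := f.mem_perp_span_pair.1 hy.2
  have h6 := f.mem_perp_span_pair.1 hy'.2
  have h7 : f.q y' = c := by
    rw [(h01 c).resolve_left hc, (h01 _).resolve_left (hs y' hy' (by rintro rfl; simp at hyy))]
  have h8 : f.B b (a + y) ≠ 0 := by rwa [B_add_right, h5.2, add_zero, f.quad_symm]
  have h9 : f.B (a + y) (b + y') = 0 := by
    rw [B_add_left, B_add_right, B_add_right, h6.1, f.B_eq_zero_symm h5.2,
      (h01 _).resolve_left hab, (h01 _).resolve_left hyy]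
    linear_combination h2
  have h10 : Submodule.span F {y, y'} ≤ W ⊓ f.perp (Submodule.span F {a, b}) :=
    Submodule.span_le.2 (by rintro _ (rfl | rfl) <;> assumption)
  have h11 := Submodule.finrank_mono h10
  rw [finrank_span_pair_of_B (B_self_two h2 y) hyy] at h11
  refine ((hd.resolve_left hF).resolve_left (by omega) ⟨Submodule.span F {a + y, b + y'},
    Submodule.span_le.2 ?_, ?_, ?_⟩).elim
  · rintro _ (rfl | rfl)
    exacts [W.add_mem ha hy.1, W.add_mem hb hy'.1]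
  · have e1 : f.q (a + y) = 0 := by
      rw [f.q_add_of_B_eq_zero h5.1, hq, hyq]; linear_combination c * h2
    have e2 : f.q (b + y') = 0 := by
      rw [f.q_add_of_B_eq_zero h6.2, hbq, h7]; linear_combination c * h2
    refine (quad_totSing_iff _ _).2 fun w hw => ?_
    obtain ⟨α, β, rfl⟩ := Submodule.mem_span_pair.1 hw
    rw [quad_q_add, f.q_smul_eq_zero e1, f.q_smul_eq_zero e2, qB_smul_left, B_smul_right, h9]
    simp
  · rw [finrank_span_pair_of (fun e => hab (by simpa [h6.1] using congrArg (f.B a) e))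
      (not_mem_span_of_B h8 (by rw [B_add_right, B_self_two h2, h6.2, add_zero]))]
    omega

omit [FiniteDimensional F V] in
theorem three_le_card (h2 : (2 : F) ≠ 0) : 3 ≤ Nat.card F := by
  by_contra! H
  rcases eq_zero_or_one H 2 with h | h
  · exact h2 h
  · exact one_ne_zero (α := F) (by linear_combination h)

variable (f) in
/-- The cases in which the vectors of a given non-zero norm form a connected system. -/
def Good (W : Submodule F V) : Prop :=
  5 ≤ finrank F W ∨ finrank F W = 4 ∧ (3 ≤ Nat.card F ∨ ¬ f.Plus W) ∨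
    finrank F W = 3 ∧ 4 ≤ Nat.card F ∨
      finrank F W = 2 ∧ (6 ≤ Nat.card F ∨ Nat.card F ≠ 3 ∧ ¬ f.Plus W)

theorem Good.conn {W : Submodule F V} (h : f.Good W) (hW : (f.restrict W).Nondeg) {c : F}
    (hc : c ≠ 0) : f.Conn W fun v => f.q v = c := by
  unfold Good at h
  by_cases h2 : (2 : F) = 0
  · refine conn_even h2 hW hc (by omega) ?_
    by_cases hp : f.Plus W
    · simp only [hp, not_true, or_false, and_false] at h; omega
    · exact Or.inr (Or.inr hp)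
  · have := three_le_card h2
    refine conn_odd h2 hW hc ?_
    by_cases hp : f.Plus W
    · simp only [hp, not_true, or_false, and_false] at h ⊢; omega
    · simp only [hp, not_false_iff, or_true, and_true] at h ⊢; omega

theorem Good.oIrr {W : Submodule F V} (h : f.Good W) (hW : (f.restrict W).Nondeg) :
    (f.restrict W).OIrr := by
  unfold Good at h
  refine quad_oIrr' hW ?_
  by_cases hp : f.Plus W
  · simp only [hp, not_true, or_false, and_false] at h ⊢; omega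
  · exact Or.inr (Or.inr hp)

omit [Finite F] in
theorem exists_not_mem_of_lt {Y A : Submodule F V} (h : finrank F A < finrank F Y) :
    ∃ y ∈ Y, y ∉ A := by
  by_contra! H
  exact absurd (Submodule.finrank_mono (show Y ≤ A from H)) (by omega)

omit [FiniteDimensional F V] [Finite F] in
theorem add_smul_not_mem {v y : V} (h : y ∉ F ∙ v) (s : F) : y + s • v ∉ F ∙ v := fun e =>
  h ((Submodule.add_mem_iff_left _ (Submodule.smul_mem _ _ (Submodule.mem_span_singleton_self v))).1 e)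

theorem exists_pair {Y : Submodule F V} {v : V} (hv : v ∈ Y) (hq : f.q v ≠ 0)
    (hd : 3 ≤ finrank F Y ∨ 2 ≤ finrank F Y ∧ 4 ≤ Nat.card F) :
    ∃ w ∈ Y, ∃ w' ∈ Y, f.q w ≠ 0 ∧ f.q w' ≠ 0 ∧ Orth.sqSign (f.q w) = Orth.sqSign (f.q w') ∧
      w ∉ F ∙ w' := by
  have hv1 := finrank_span_singleton_le (F := F) v
  suffices H : (∃ w ∈ Y, f.q w ≠ 0 ∧ w ∉ F ∙ v ∧ (2 : F) = 0) ∨ ∃ w ∈ Y, ∃ w' ∈ Y, f.q w ≠ 0 ∧
      f.q w' ≠ 0 ∧ w ∉ F ∙ v ∧ w' ∉ F ∙ v ∧ w ∉ F ∙ w' by
    rcases H with ⟨w, hw, h1, h3, h2⟩ | ⟨w, hw, w', hw', h1, h2, h3, h4, h5⟩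
    · exact ⟨w, hw, v, hv, h1, hq, by simp only [Orth.sqSign_of_two_eq_zero h2], h3⟩
    by_cases e : Orth.sqSign (f.q w) = Orth.sqSign (f.q v)
    · exact ⟨w, hw, v, hv, h1, hq, e, h3⟩
    by_cases e' : Orth.sqSign (f.q w') = Orth.sqSign (f.q v)
    · exact ⟨w', hw', v, hv, h2, hq, e', h4⟩
    refine ⟨w, hw, w', hw', h1, h2, ?_, h5⟩
    rcases Int.units_eq_one_or (Orth.sqSign (f.q w)) with a | a <;>
      rcases Int.units_eq_one_or (Orth.sqSign (f.q w')) with b | b <;>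
      rcases Int.units_eq_one_or (Orth.sqSign (f.q v)) with c | c <;> simp_all
  by_cases hF : 4 ≤ Nat.card F
  · obtain ⟨y, hy, hyv⟩ := exists_not_mem_of_lt (Y := Y) (A := F ∙ v) (by omega)
    obtain ⟨s, -, hs⟩ := exists_q_add_smul_ne hq y [] (by simp; omega)
    obtain ⟨s', hs1, hs'⟩ := exists_q_add_smul_ne hq y [s] (by simp; omega)
    refine Or.inr ⟨_, Y.add_mem hy (Y.smul_mem _ hv), _, Y.add_mem hy (Y.smul_mem _ hv), hs, hs',
      add_smul_not_mem hyv s, add_smul_not_mem hyv s', fun e => ?_⟩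
    obtain ⟨c, hc⟩ := Submodule.mem_span_singleton.1 e
    by_cases h1 : c = 1
    · rw [h1, one_smul, add_right_inj] at hc
      exact hs1 (by simpa using smul_left_injective F (by rintro rfl; exact hq f.q_zero) hc)
    · refine hyv (Submodule.mem_span_singleton.2 ⟨(c - 1)⁻¹ * (s - c * s'), ?_⟩)
      rw [mul_smul, inv_smul_eq_iff₀ (sub_ne_zero.2 h1)]
      linear_combination (norm := module) -hc
  replace hd := hd.resolve_right fun h => hF h.2
  by_cases h2 : (2 : F) = 0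
  · have h1 := le_finrank_inf_perp' (f := f) Y (F ∙ v)
    obtain ⟨y, hy, hyv⟩ := exists_not_mem_of_lt (Y := Y ⊓ f.perp (F ∙ v)) (A := F ∙ v) (by omega)
    by_cases hyq : f.q y = 0
    · refine Or.inl ⟨y + (1 : F) • v, Y.add_mem hy.1 (Y.smul_mem _ hv), ?_,
        add_smul_not_mem hyv 1, h2⟩
      rwa [one_smul, f.q_add_of_B_eq_zero (f.B_eq_zero_symm (f.mem_perp_span_singleton.1 hy.2)),
        hyq, zero_add]
    · exact Or.inl ⟨y, hy.1, hyq, hyv, h2⟩
  have h3 := three_le_card h2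
  obtain ⟨y, hy, hyv⟩ := exists_not_mem_of_lt (Y := Y) (A := F ∙ v) (by omega)
  obtain ⟨y', hy', hyv'⟩ := exists_not_mem_of_lt (Y := Y) (A := Submodule.span F {v, y})
    (by have := finrank_span_pair_le (F := F) v y; omega)
  obtain ⟨s, -, hs⟩ := exists_q_add_smul_ne hq y [] (by simp; omega)
  obtain ⟨s', -, hs'⟩ := exists_q_add_smul_ne hq y' [] (by simp; omega)
  refine Or.inr ⟨_, Y.add_mem hy' (Y.smul_mem _ hv), _, Y.add_mem hy (Y.smul_mem _ hv), hs', hs,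
    add_smul_not_mem (fun e => hyv' (Submodule.span_mono (by simp) e)) s',
    add_smul_not_mem hyv s, fun e => hyv' ?_⟩
  obtain ⟨c, hc⟩ := Submodule.mem_span_singleton.1 e
  exact Submodule.mem_span_pair.2 ⟨c * s - s', c, by linear_combination (norm := module) hc⟩

theorem exists_pair_perp {W : Submodule F V} (hW : (f.restrict W).Nondeg)
    (hd : 4 ≤ finrank F W ∨ 3 ≤ finrank F W ∧ 4 ≤ Nat.card F) (b : V) :
    ∃ w ∈ W, ∃ w' ∈ W, f.B b w = 0 ∧ f.B b w' = 0 ∧ f.q w ≠ 0 ∧ f.q w' ≠ 0 ∧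
      Orth.sqSign (f.q w) = Orth.sqSign (f.q w') ∧ w ∉ F ∙ w' := by
  have h1 := le_finrank_inf_perp' (f := f) W (F ∙ b)
  have h2 := finrank_span_singleton_le (F := F) b
  obtain ⟨v, hv, hq⟩ := exists_q_ne_zero_of_lt hW (Y := W ⊓ f.perp (F ∙ b)) inf_le_left (by omega)
  obtain ⟨w, hw, w', hw', h⟩ := exists_pair hv hq (by omega)
  exact ⟨w, hw.1, w', hw'.1, f.mem_perp_span_singleton.1 hw.2, f.mem_perp_span_singleton.1 hw'.2, h⟩

omit [Finite F] in
theorem rf_mul_rf_mem_stab {Z : Submodule F V} (hZ : (f.restrict Z).Nondeg)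
    (h3 : 3 ≤ finrank F Z) {P : V → Prop} (hc : f.Conn Z P) {x y : V}
    (h : ∀ v ∈ Z, P v → (f.rf x * f.rf y) v ∈ Z ∨ (f.rf x * f.rf y) v ∈ f.perp Z) :
    ∀ v ∈ Z, (f.rf x * f.rf y) v ∈ Z := by
  refine (hc.map_le (mul_mem (rf_mem_O x) (rf_mem_O y)) h).resolve_right fun H => ?_
  have h1 := le_finrank_inf_perp' (f := f) Z (Submodule.span F {x, y})
  have h2 := finrank_span_pair_le (F := F) x y
  obtain ⟨v, hv, hv0⟩ := Submodule.exists_mem_ne_zero_of_ne_bot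
    (p := Z ⊓ f.perp (Submodule.span F {x, y})) fun e => by rw [e, finrank_bot] at h1; omega
  have h4 := H v hv.1
  rw [LinearEquiv.mul_apply, rf_of_perp (f.mem_perp_span_pair.1 hv.2).2,
    rf_of_perp (f.mem_perp_span_pair.1 hv.2).1] at h4
  exact hv0 (restrict_nondeg_iff'.1 hZ v hv.1 h4)

omit [Finite F] in
theorem mem_span_of_rf_mul_rf (hf : f.Nondeg) {Z : Submodule F V} (hZ : (f.restrict Z).Nondeg)
    {x y z t : V} (hx : f.q x ≠ 0) (hxy : x ∉ F ∙ y) (h : ∀ v ∈ Z, (f.rf x * f.rf y) v ∈ Z)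
    (hz : z ∈ Z) (ht : t ∈ f.perp Z) (e : x = z + t) : z ∈ Submodule.span F {x, y} := by
  obtain ⟨v, hv, hv'⟩ := hf.exists_perp_eq' hxy (-f.q x)
  have h1 : ∀ v, (f.rf x * f.rf y) v - v ∈ Submodule.span F {x, y} := fun v =>
    Submodule.mem_span_pair.2 ⟨-((f.q x)⁻¹ * f.B x (f.rf y v)), -((f.q y)⁻¹ * f.B y v), by
      rw [LinearEquiv.mul_apply, rf_apply x, rf_apply y]; module⟩
  have h2 : (f.rf x * f.rf y) v - v = x := by
    rw [LinearEquiv.mul_apply, rf_of_perp (hv y (Submodule.mem_span_singleton_self y)), rf_apply,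
      hv', mul_neg, inv_mul_cancel₀ hx]; module
  obtain ⟨z', hz', t', ht', rfl⟩ := exists_add_perp hZ v
  have h3 := mem_perp_map (mul_mem (rf_mem_O x) (rf_mem_O y)) (inv_mem_of_mem h) ht'
  have h4 : z - ((f.rf x * f.rf y) z' - z') = ((f.rf x * f.rf y) t' - t') - t := by
    rw [map_add] at h2; linear_combination (norm := module) -h2 - e
  have h5 := restrict_nondeg_iff'.1 hZ _ (Z.sub_mem hz (Z.sub_mem (h z' hz') hz'))
    (h4 ▸ sub_mem (sub_mem h3 ht') ht)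
  rw [sub_eq_zero.1 h5]
  exact h1 z'

omit [FiniteDimensional F V] [Finite F] in
theorem exists_of_mem_span_map {g : V ≃ₗ[F] V} {W : Submodule F V} {w w' p : V} (hw : w ∈ W)
    (hw' : w' ∈ W) (hp : p ∈ Submodule.span F {g w, g w'}) : ∃ w₀ ∈ W, g w₀ = p := by
  obtain ⟨a, b, rfl⟩ := Submodule.mem_span_pair.1 hp
  exact ⟨a • w + b • w', W.add_mem (W.smul_mem _ hw) (W.smul_mem _ hw'), by simp⟩

omit [FiniteDimensional F V] [Finite F] in
theorem map_not_mem_span (g : V ≃ₗ[F] V) {w w' : V} (h : w ∉ F ∙ w') : g w ∉ F ∙ g w' := fun e => by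
  obtain ⟨c, hc⟩ := Submodule.mem_span_singleton.1 e
  exact h (Submodule.mem_span_singleton.2 ⟨c, g.injective (by rwa [map_smul])⟩)

omit [FiniteDimensional F V] [Finite F] in
theorem rf_conj_mul {g : V ≃ₗ[F] V} (hg : g ∈ f.O) (a b : V) :
    g * (f.rf a * f.rf b) * g⁻¹ = f.rf (g a) * f.rf (g b) := by
  rw [← rf_conj hg, ← rf_conj hg]; group

/-- Passing from a subgroup of `E` to a group containing reflections. -/
theorem E_le_of_ktrick (hf : f.Nondeg) (h5 : 5 ≤ finrank F V) {S M : Subgroup (V ≃ₗ[F] V)}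
    (hM : S ⊓ f.E ≤ M) {a : V} (ha : f.q a ≠ 0) (haS : f.rf a ∈ S)
    (h : ∀ K : Subgroup (V ≃ₗ[F] V), S ⊓ f.E ≤ K → f.Rf K a →
      (∀ m ∈ M, m ∈ f.O → f.rf (m a) * f.rf a ∈ M → m ∈ K) →
      (∀ x, f.rf x * f.rf a ∈ M → f.rf x ∈ K) → f.E ≤ K) : f.E ≤ M := by
  have hr := rf_mul_self (f := f) a
  have hi : ∀ x, f.rf x * f.rf a ∈ M → f.rf a * f.rf x ∈ M := fun x hx => by
    simpa [rf_inv] using M.inv_mem hx
  have hA : f.rf a ∈ relCore M (Subgroup.zpowers (f.rf a)) ⊔ Subgroup.zpowers (f.rf a) :=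
    Subgroup.mem_sup_right (Subgroup.mem_zpowers _)
  refine le_of_le_relCore_sup (((quad_iso3 f).idx2 hf h5).commutator_E hf h5) (zpowers_comm _)
    (h _ (fun n hn => Subgroup.mem_sup_left (mem_relCore_zpowers hr (hM hn) (hM ⟨S.mul_mem
      (S.mul_mem haS hn.1) haS, ?_⟩))) ⟨ha, hA⟩ (fun m hm hO e => Subgroup.mem_sup_left
        (mem_relCore_zpowers hr hm ?_)) fun x hx => ?_)
  · simpa [rf_inv] using conj_mem_E (rf_mem_O a) hn.2
  · have := M.mul_mem (hi _ e) hm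
    rwa [← rf_conj hO, mul_assoc, inv_mul_cancel_right, ← mul_assoc] at this
  · have := Subgroup.mul_mem _ (Subgroup.mem_sup_left (mem_relCore_zpowers hr hx (by
      rw [mul_assoc, mul_assoc, hr, mul_one]; exact hi x hx))) hA
    rwa [mul_assoc, hr, mul_one] at this

theorem exists_rf_pair {R Blk : V → Prop} {M : Subgroup (V ≃ₗ[F] V)} (hRB : ∀ v, R v → Blk v)
    (hR : ∀ a b, R a → R b → f.q a ≠ 0 → f.q b ≠ 0 → Orth.sqSign (f.q a) = Orth.sqSign (f.q b) →
      f.rf a * f.rf b ∈ M) {W : Submodule F V} (hW : (f.restrict W).Nondeg)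
    (hd : 4 ≤ finrank F W ∨ 3 ≤ finrank F W ∧ 4 ≤ Nat.card F) (hWR : ∀ v ∈ W, R v)
    (h1 : ∀ x y c, c ≠ 0 → f.q x ≠ 0 → x ∉ F ∙ y →
      (∀ v, R v → f.q v = c → Blk ((f.rf x * f.rf y) v)) →
      ∃ p ∈ Submodule.span F {x, y}, f.q p ≠ 0 ∧ Blk p)
    {g : V ≃ₗ[F] V} (hg : g ∈ f.O) (hgM : g ∈ M)
    (h2 : ∀ c, c ≠ 0 → ∃ v, R v ∧ f.q v = c ∧ ¬ Blk (g v)) :
    ∃ a x, Blk a ∧ ¬ Blk x ∧ f.q a ≠ 0 ∧ f.q x = f.q a ∧ f.rf x * f.rf a ∈ M := by
  by_contra! H
  have key : ∀ h ∈ M, h ∈ f.O → ∀ b, R b → f.q b ≠ 0 → Blk (h b) → ∀ v, R v → f.q v = f.q b →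
      Blk (h v) := fun h hM hO b hb hq hB v hv e => by
    by_contra hn
    refine H _ _ hB hn (by rwa [mem_O_q hO]) (by rw [mem_O_q hO, mem_O_q hO, e]) ?_
    rw [← rf_conj_mul hO]
    exact M.mul_mem (M.mul_mem hM (hR v b hv hb (e ▸ hq) hq (by rw [e]))) (M.inv_mem hM)
  obtain ⟨b, hb, hq⟩ := exists_q_ne_zero_mem hW (fun e => by rw [e, finrank_bot] at hd; omega)
  obtain ⟨w, hw, w', hw', e1, e2, q1, q2, e3, e4⟩ := exists_pair_perp hW hd (g⁻¹ b)
  have hB : ∀ w, f.B (g⁻¹ b) w = 0 → f.B (g w) b = 0 := fun w e => by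
    rw [B_apply_left hg, f.quad_symm, e]
  obtain ⟨p, hp, hpq, hpB⟩ := h1 (g w) (g w') _ hq (by rwa [mem_O_q hg]) (map_not_mem_span g e4)
    (key _ (by
      rw [← rf_conj_mul hg]
      exact M.mul_mem (M.mul_mem hgM (hR w w' (hWR _ hw) (hWR _ hw') q1 q2 e3)) (M.inv_mem hgM))
      (mul_mem (rf_mem_O _) (rf_mem_O _)) b (hWR b hb) hq (by
        rw [LinearEquiv.mul_apply, rf_of_perp (hB _ e2), rf_of_perp (hB _ e1)]
        exact hRB b (hWR b hb)))
  obtain ⟨w₀, hw₀, rfl⟩ := exists_of_mem_span_map hw hw' hp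
  rw [mem_O_q hg] at hpq
  obtain ⟨v, hv, hvq, hvB⟩ := h2 _ hpq
  exact hvB (key g hgM hg w₀ (hWR _ hw₀) hpq hpB v hv hvq)

omit [Finite F] in
theorem rf_mem_stab {W : Submodule F V} {a : V} (ha : a ∈ W ∨ a ∈ f.perp W) :
    f.rf a ∈ Witt.stab W := mem_stab_of_le fun v hv => by
  rcases ha with ha | ha
  · exact rf_mem_of_mem ha hv
  · rwa [rf_of_perp (f.B_eq_zero_symm (ha v hv))]

theorem exists_rf_pair_stab (hf : f.Nondeg) (h5 : 5 ≤ finrank F V) {W : Submodule F V}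
    (hW : (f.restrict W).Nondeg) (hG : f.Good W) (h3 : 3 ≤ finrank F W)
    {M : Subgroup (V ≃ₗ[F] V)} (hM : Witt.stab W ⊓ f.E ≤ M) {g : V ≃ₗ[F] V} (hg : g ∈ f.O)
    (hgM : g ∈ M) (h1 : g ∉ Witt.stab W) (h2 : ¬ ∀ z ∈ W, g z ∈ f.perp W) :
    ∃ a x, (a ∈ W ∨ a ∈ f.perp W) ∧ ¬ (x ∈ W ∨ x ∈ f.perp W) ∧ f.q a ≠ 0 ∧ f.q x = f.q a ∧
      f.rf x * f.rf a ∈ M := by
  refine exists_rf_pair (R := (· ∈ W)) (fun _ => Or.inl) (fun a b ha hb qa qb e =>
    hM ⟨mul_mem (rf_mem_stab (Or.inl ha)) (rf_mem_stab (Or.inl hb)),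
      hf.rf_mul_rf_mem_E h5 qa qb e⟩) hW (by unfold Good at hG; omega) (fun _ => id)
    (fun x y c hc hx hxy h => ?_) hg hgM fun c hc => ?_
  · have h4 := rf_mul_rf_mem_stab hW h3 (hG.conn hW hc) h
    obtain ⟨z, hz, t, ht, e⟩ := exists_add_perp hW x
    have h6 := mem_span_of_rf_mul_rf hf hW hx hxy h4 hz ht e
    by_cases hq : f.q z = 0
    · refine ⟨t, ?_, ?_, Or.inr ht⟩
      · rw [← sub_eq_of_eq_add' e]
        exact sub_mem (Submodule.subset_span (by simp)) h6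
      · rwa [e, f.q_add_of_B_eq_zero (ht z hz), hq, zero_add] at hx
    · exact ⟨z, h6, hq, Or.inl hz⟩
  · by_contra! H
    exact ((hG.conn hW hc).map_le hg H).elim (fun h => h1 (mem_stab_of_le h)) h2

theorem Full.mem_SZ_of_perp {Z : Submodule F V} (h : f.Full K Z) (hZ : (f.restrict Z).Nondeg)
    (h3 : 3 ≤ finrank F Z) (hF : 4 ≤ Nat.card F) {z t u : V} (hz : z ∈ Z) (hz0 : z ≠ 0)
    (ht : t ∈ f.perp Z) (hy : f.Rf K (z + t)) (huZ : u ∈ Z) (hu0 : u ≠ 0) (hu : f.q u = 0)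
    (huz : f.B u z = 0) : t ∈ f.SZ K Z := by
  by_cases e : z ∈ F ∙ u
  · obtain ⟨c, rfl⟩ := Submodule.mem_span_singleton.1 e
    exact h.mem_SZ_of_rf_sing hZ (Or.inr (Or.inr ⟨h3, hF⟩)) hz hz0 (f.q_smul_eq_zero hu c) ht hy
  · exact h.mem_SZ_of_rk hZ (quad_big h3) hz ht hy.rk huZ hu0 hu huz e

omit [Finite F] in
theorem exists_mem_perp_B_eq {Z : Submodule F V} (hZ : (f.restrict Z).Nondeg) {z p : V}
    (hz : z ∈ Z) (hp : p ∈ Z) (h : z ∉ F ∙ p) (c : F) : ∃ v ∈ Z, f.B p v = 0 ∧ f.B z v = c := by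
  obtain ⟨v, hv, hv'⟩ := hZ.exists_perp_eq' (H := F ∙ (⟨p, hp⟩ : Z)) (x := ⟨z, hz⟩) (fun e => by
    obtain ⟨d, hd⟩ := Submodule.mem_span_singleton.1 e
    exact h (Submodule.mem_span_singleton.2 ⟨d, congrArg Subtype.val hd⟩)) c
  exact ⟨v, v.2, hv _ (Submodule.mem_span_singleton_self _), hv'⟩

omit [FiniteDimensional F V] in
theorem six_le_card (h2 : (2 : F) ≠ 0) (hF : 4 ≤ Nat.card F) {β : F} (hβ : β ^ 2 = 2) :
    6 ≤ Nat.card F := by
  have := Fintype.ofFinite F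
  have h1 := FiniteField.cast_card_eq_zero F
  have h3 := FiniteField.pow_card_sub_one_eq_one β (by rintro rfl; exact h2 (by simp [← hβ]))
  rw [Nat.card_eq_fintype_card] at *
  by_contra H
  obtain h | h : Fintype.card F = 4 ∨ Fintype.card F = 5 := by omega
  · rw [h] at h1
    exact mul_ne_zero h2 h2 (by push_cast at h1; linear_combination h1)
  · rw [h] at h1 h3
    exact h2 (by push_cast at h1 h3; linear_combination h1 - h3 + (β ^ 2 + 2) * hβ)

/-- The extension step for a three-dimensional subspace. -/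
theorem Full.mem_SZ_three {Z : Submodule F V} (h : f.Full K Z) (hZ : (f.restrict Z).Nondeg)
    (h2 : (2 : F) ≠ 0) (h3 : finrank F Z = 3) (hF : 4 ≤ Nat.card F) {z t : V} (hz : z ∈ Z)
    (hz0 : z ≠ 0) (ht : t ∈ f.perp Z) (hy : f.Rf K (z + t))
    (hb : ∀ b ∈ Z, f.q b = f.q (z + t) → f.Rf K b) : t ∈ f.SZ K Z := by
  obtain ⟨u, huZ, hu0, hu⟩ := quad_iso3 f Z h3.ge
  by_cases huz : f.B u z = 0
  · exact h.mem_SZ_of_perp hZ h3.ge hF hz hz0 ht hy huZ hu0 hu huz
  have hc : f.q (z + t) = f.q z + f.q t := f.q_add_of_B_eq_zero (ht z hz)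
  by_cases hτ : f.q t = 0
  · have h4 := (hb z hz (by rw [hc, hτ, add_zero])).step hy hτ (f.B_eq_zero_symm (ht z hz))
    have hq : f.q z ≠ 0 := by simpa [hc, hτ] using hy.1
    obtain ⟨w, hwZ, -, huw⟩ := exists_partner_mem hu huZ fun e =>
      hu0 (restrict_nondeg_iff'.1 hZ u huZ e)
    obtain ⟨v, hv, huv, -, hvq⟩ := exists_perp_hyp hZ h3.ge huZ hwZ hu huw
    have key : ∀ v ∈ Z, f.B u v = 0 → f.Es K t (f.ei u v (f.q v) ((f.q z)⁻¹ • z)) :=
      fun v hv huv => h4.map_fix (h u v _ ⟨hu, huv, rfl⟩ huZ hv) (ei_mem_O _ _ _)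
        (EichOK.ei_apply_fix ⟨hu, huv, rfl⟩ (ht u huZ) (ht v hv))
    have h5 := ((key v hv huv).add (key _ (Z.neg_mem hv) (by simp [huv]))).sub (h4.add h4)
    rw [quad_ei_apply ⟨hu, huv, rfl⟩, quad_ei_apply ⟨hu, by simp [huv], rfl⟩] at h5
    have h6 : f.Es K t ((-2 * f.q v * ((f.q z)⁻¹ * f.B u z)) • u) := by
      convert h5 using 1
      simp only [q_neg, B_neg_left, B_smul_right]
      module
    have hκ : -2 * f.q v * ((f.q z)⁻¹ * f.B u z) ≠ 0 := by simp [h2, hvq, hq, huz]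
    exact h.mem_SZ hZ (quad_big h3.ge) huZ hu0 ht (Es.smul_of_sq (fun μ hμ =>
      (h.scale_sq hZ h3.ge huZ hu0 hu μ hμ).imp fun g hg => ⟨hg.1, hg.2.1, hg.2.2.1, hg.2.2.2 t ht⟩)
      hκ ((h6.swap (f.q_smul_eq_zero hu _)).of_smul_left hκ))
  set c := f.q (z + t) with hcd
  have hc0 : c ≠ 0 := hy.1
  set p := c • u - f.B u z • z with hp
  have hpZ : p ∈ Z := Z.sub_mem (Z.smul_mem _ huZ) (Z.smul_mem _ hz)
  have hpp : f.B p p ≠ 0 := by
    rw [quad_B_self, show f.q p = -(f.B u z) ^ 2 * f.q t by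
      rw [hp, sub_eq_add_neg, ← neg_smul, quad_q_add_smul, f.q_smul_eq_zero hu, qB_smul_left, hc]
      ring]
    simp [h2, huz, hτ]
  have hA := restrict_nondeg_span_singleton hpp
  have hAZ := (Submodule.span_singleton_le_iff_mem _ _).2 hpZ
  have hY := restrict_nondeg_inf_perp hZ hA hAZ
  have hdY := finrank_inf_perp_add hA hAZ
  rw [finrank_span_singleton (by rintro e; simp [e] at hpp)] at hdY
  have hYz : ¬ Z ⊓ f.perp (F ∙ p) ≤ f.perp (F ∙ z) := fun H => by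
    obtain ⟨v, hv, h4, h5⟩ := exists_mem_perp_B_eq hZ hz hpZ (fun e => by
      obtain ⟨l, hl⟩ := Submodule.mem_span_singleton.1 e
      have h6 := congrArg (f.B u) hl
      rw [hp, B_smul_right, B_sub_right, B_smul_right, B_smul_right, f.B_self_eq_zero hu] at h6
      have h7 : l * f.B u z = -1 := mul_left_cancel₀ huz (by linear_combination -h6)
      rw [hp, smul_sub, smul_smul, smul_smul, h7, neg_one_smul, sub_neg_eq_add, add_eq_right] at hl
      exact smul_ne_zero (mul_ne_zero (by rintro rfl; simp at h7) hc0) hu0 hl) 1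
    rw [f.mem_perp_span_singleton.1 (H ⟨hv, f.mem_perp_span_singleton.2 h4⟩)] at h5
    exact zero_ne_one h5
  obtain ⟨b, hbY, hbq, hzb, hbz⟩ : ∃ b ∈ Z ⊓ f.perp (F ∙ p), f.q b = c ∧ f.B z b ≠ 0 ∧
      b ∉ F ∙ z := by
    by_contra! H
    obtain ⟨y, hy, hyq⟩ := exists_q_eq_mem hY (by omega) c
    obtain ⟨b, hbY, hbq, hzb⟩ : ∃ b ∈ Z ⊓ f.perp (F ∙ p), f.q b = c ∧ f.B z b ≠ 0 := by
      by_contra! H'
      exact hYz ((quad_oIrr' hY (Or.inr (Or.inl hF))).le_of_q_eq hy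
        (by rintro rfl; exact hc0 (hyq.symm.trans f.q_zero)) hyq fun v hv e =>
          f.mem_perp_span_singleton.2 (H' v hv e))
    obtain ⟨β, rfl⟩ := Submodule.mem_span_singleton.1 (H b hbY hbq hzb)
    have h4 := f.mem_perp_span_singleton.1 hbY.2
    rw [hp, B_smul_right, B_sub_left, qB_smul_left, qB_smul_left, quad_B_self] at h4
    rw [quad_q_smul] at hbq
    have hβ : β ≠ 0 := by rintro rfl; simp at hzb
    have h5 : c = 2 * f.q z := mul_left_cancel₀ (mul_ne_zero hβ huz) (by linear_combination h4)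
    have h6 : β ^ 2 = 2 := mul_right_cancel₀ (b := f.q z) (fun e => hc0 (by rw [h5, e, mul_zero]))
      (hbq.trans h5)
    rcases Good.conn (Or.inr (Or.inr (Or.inr ⟨by omega, Or.inl (six_le_card h2 hF h6)⟩))) hY hc0
      (F ∙ z) _ le_rfl (fun v hv e => or_iff_not_imp_right.2 fun h7 =>
        H v hv e (mt f.mem_perp_span_singleton.2 h7)) with h7 | h7
    · have := Submodule.finrank_mono h7
      have := finrank_span_singleton_le (F := F) z
      omega
    · exact hYz h7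
  have h4 := hy.rf (hb b hbY.1 hbq)
  have hβ : c⁻¹ * f.B z b ≠ 0 := mul_ne_zero (inv_ne_zero hc0) hzb
  rw [rf_apply, B_add_left, f.B_eq_zero_symm (ht b hbY.1), add_zero, ← hcd, smul_add,
    ← sub_sub, sub_eq_add_neg _ (_ • t), ← neg_smul] at h4
  refine ((f.SZ K Z).smul_mem_iff (neg_ne_zero.2 hβ)).1 (h.mem_SZ_of_perp hZ h3.ge hF
    (Z.sub_mem hbY.1 (Z.smul_mem _ hz)) (fun e => hbz (sub_eq_zero.1 e ▸ Submodule.smul_mem _ _
      (Submodule.mem_span_singleton_self z))) (Submodule.smul_mem _ _ ht) h4 huZ hu0 hu ?_)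
  have := f.mem_perp_span_singleton.1 hbY.2
  rw [hp, B_sub_left, qB_smul_left, qB_smul_left] at this
  rw [B_sub_right, B_smul_right]
  field_simp
  linear_combination this

theorem two_ne_zero_of_odd' {Z : Submodule F V} (hZ : (f.restrict Z).Nondeg)
    (h : Odd (finrank F Z)) : (2 : F) ≠ 0 := Orth.two_ne_zero_of_odd (FGL.toQuad_nondeg hZ) h

omit [Finite F] in
theorem Plus.top {Z : Submodule F V} (hf : f.Nondeg) (hZ : (f.restrict Z).Nondeg) (h : f.Plus Z)
    (h' : f.Plus (f.perp Z)) : f.Plus ⊤ := by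
  obtain ⟨U, h1, h2, h3⟩ := h
  obtain ⟨U', h1', h2', h3'⟩ := h'
  refine ⟨U ⊔ U', le_top, (quad_totSing_iff _ _).2 fun w hw => ?_, ?_⟩
  · obtain ⟨a, ha, b, hb, rfl⟩ := Submodule.mem_sup.1 hw
    rw [f.q_add_of_B_eq_zero (h1' hb a (h1 ha)), h2.1 a ha, h2'.1 b hb, add_zero]
  · have h4 := Submodule.finrank_sup_add_finrank_inf_eq U U'
    rw [(eq_bot_iff (a := U ⊓ U')).2 fun v hv => restrict_nondeg_iff'.1 hZ v (h1 hv.1) (h1' hv.2),
      finrank_bot] at h4
    have := hf.finrank_add_finrank_perp Z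
    rw [finrank_top]; omega

omit [Finite F] in
theorem stab_perp_le (hf : f.Nondeg) (Z : Submodule F V) :
    Witt.stab (f.perp Z) ⊓ f.E ≤ Witt.stab Z ⊓ f.E := fun _ hg =>
  ⟨hf.perp_perp Z ▸ mem_stab_perp (E_le_O hg.2) hg.1, hg.2⟩

theorem E_le_of_rf_stab (hf : f.Nondeg) {Z : Submodule F V} (hZ : (f.restrict Z).Nondeg)
    (h4 : 4 ≤ finrank F Z) (hirr : (f.restrict (f.perp Z)).OIrr) (hK : Witt.stab Z ⊓ f.E ≤ K)
    {z t : V} (hz : z ∈ Z) (hz0 : z ≠ 0) (ht : t ∈ f.perp Z) (ht0 : t ≠ 0) (hy : f.Rf K (z + t))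
    (h : f.q z ≠ 0 ∨ 3 ≤ Nat.card F ∨ 5 ≤ finrank F Z) : f.E ≤ K := by
  obtain ⟨x, hx, w, hw, h1, h2, h3⟩ := quad_exists_hyp hZ (by omega)
  refine E_le_of_mem_SZ hf hZ hK hx hw h1 h2 h3 hirr ?_ ht0
  by_cases hq : f.q z = 0
  · refine (full_of_stab hK).mem_SZ_of_rf_sing hZ ?_ hz hz0 hq ht hy
    rcases h.resolve_left (not_not.2 hq) with h | h
    · exact Or.inr (Or.inl ⟨h4, h⟩)
    · exact Or.inl ((quad_iso3 _).idx2 hZ h)
  · exact (full_of_stab hK).mem_SZ_of_rf_four hZ h4 hz hq ht hy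

theorem Nondeg.quad_E_le_of_stab (hf : f.Nondeg) (h5 : 5 ≤ finrank F V) {Z : Submodule F V}
    (hZ : (f.restrict Z).Nondeg) (h4 : 4 ≤ finrank F Z) (hirr : (f.restrict (f.perp Z)).OIrr)
    (hc : 3 ≤ Nat.card F ∨ 5 ≤ finrank F Z ∨ 4 ≤ finrank F (f.perp Z) ∧ ¬ f.Plus ⊤)
    {M : Subgroup (V ≃ₗ[F] V)} (hM : Witt.stab Z ⊓ f.E ≤ M) {g : V ≃ₗ[F] V} (hg : g ∈ f.O)
    (hgM : g ∈ M) (h1 : g ∉ Witt.stab Z) (h2 : ¬ ∀ z ∈ Z, g z ∈ f.perp Z) : f.E ≤ M := by
  have hZ' := hf.restrict_perp hZ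
  obtain ⟨a, x, ha, hx, haq, hxq, hxa⟩ : ∃ a x, (a ∈ Z ∨ a ∈ f.perp Z) ∧
      ¬ (x ∈ Z ∨ x ∈ f.perp Z) ∧ f.q a ≠ 0 ∧ f.q x = f.q a ∧ f.rf x * f.rf a ∈ M := by
    by_cases hG : f.Good Z
    · exact exists_rf_pair_stab hf h5 hZ hG (by omega) hM hg hgM h1 h2
    have h6 : finrank F Z = 4 ∧ Nat.card F < 3 ∧ f.Plus Z := by
      unfold Good at hG
      by_cases hp : f.Plus Z
      · exact ⟨by omega, by omega, hp⟩
      · simp only [hp, not_false_iff, or_true, and_true] at hG; omega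
    obtain ⟨h7, h8⟩ := (hc.resolve_left (by omega)).resolve_left (by omega)
    have := exists_rf_pair_stab hf h5 hZ' (by
      unfold Good
      have := mt (h6.2.2.top hf hZ) h8
      simp only [this, not_false_iff, or_true, and_true]; omega) (by omega)
      ((stab_perp_le hf Z).trans hM) hg hgM
      (fun h => h1 (hf.perp_perp Z ▸ mem_stab_perp hg h)) fun h => h2 fun z hz => ?_
    · simpa only [hf.perp_perp, or_comm] using this
    rw [hf.perp_perp] at h
    have h9 : (f.perp Z).map (g : V →ₗ[F] V) = Z := Submodule.eq_of_le_of_finrank_le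
      (by rintro _ ⟨v, hv, rfl⟩; exact h v hv) (by rw [LinearEquiv.finrank_map_eq]; omega)
    intro w hw
    obtain ⟨v, hv, rfl⟩ := h9.ge hw
    exact (mem_O_B hg _ _).trans (f.B_eq_zero_symm (hv z hz))
  refine E_le_of_ktrick hf h5 hM haq (rf_mem_stab ha) fun K hK _ _ h6 => ?_
  obtain ⟨z, hz, t, ht, rfl⟩ := exists_add_perp hZ x
  have hy : f.Rf K (z + t) := ⟨hxq ▸ haq, h6 _ hxa⟩
  have hz0 : z ≠ 0 := by rintro rfl; exact hx (Or.inr (by simpa using ht))
  have ht0 : t ≠ 0 := by rintro rfl; exact hx (Or.inl (by simpa using hz))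
  by_cases h : f.q z ≠ 0 ∨ 3 ≤ Nat.card F ∨ 5 ≤ finrank F Z
  · exact E_le_of_rf_stab hf hZ h4 hirr hK hz hz0 ht ht0 hy h
  · simp only [not_or, not_not] at h
    refine E_le_of_rf_stab hf hZ' ((hc.resolve_left h.2.1).resolve_left h.2.2).1
      (quad_oIrr' (hf.restrict_perp hZ') (Or.inl (by rw [hf.perp_perp]; omega)))
      ((stab_perp_le hf Z).trans hK) ht ht0 (le_perp_perp' Z hz) hz0 (add_comm z t ▸ hy)
      (Or.inl ?_)
    simpa [f.q_add_of_B_eq_zero (ht z hz), h.1] using hy.1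

section dec

variable {ι : Type*} [Fintype ι] {D : ι → Submodule F V} (h : f.SDec D)
include h

omit [Finite F] in
theorem SDec.rf_fix {i : ι} {a : V} (ha : a ∈ D i) (j : ι) : ∀ v ∈ D j, f.rf a v ∈ D j :=
  fun v hv => by
    by_cases hij : i = j
    · exact rf_mem_of_mem (hij ▸ ha) hv
    · rwa [rf_of_perp (h.B_eq hij ha hv)]

omit [Finite F] in
theorem SDec.rf_mem_dstab {i : ι} {a : V} (ha : a ∈ D i) : f.rf a ∈ dstab D :=
  mem_dstab_of_fix (h.rf_fix ha)

theorem SDec.rf_mul_rf_mem (h5 : 5 ≤ finrank F V) {i j : ι} {a b : V} (ha : a ∈ D i)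
    (hb : b ∈ D j) (qa : f.q a ≠ 0) (qb : f.q b ≠ 0)
    (e : Orth.sqSign (f.q a) = Orth.sqSign (f.q b)) : f.rf a * f.rf b ∈ dstab D ⊓ f.E :=
  ⟨mul_mem (h.rf_mem_dstab ha) (h.rf_mem_dstab hb), h.nondeg'.rf_mul_rf_mem_E h5 qa qb e⟩

theorem SDec.rf_of_rf (h5 : 5 ≤ finrank F V) (hK : dstab D ⊓ f.E ≤ K) {i j : ι} {a b : V}
    (ha : a ∈ D i) (hb : b ∈ D j) (qa : f.Rf K a) (qb : f.q b ≠ 0)
    (e : Orth.sqSign (f.q b) = Orth.sqSign (f.q a)) : f.Rf K b := ⟨qb, by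
  have := K.mul_mem (hK (h.rf_mul_rf_mem h5 hb ha qb qa.1 e)) qa.2
  rwa [mul_assoc, rf_mul_self, mul_one] at this⟩

theorem SDec.exists_not_mem_quad {k : ℕ} (hk : ∀ i, finrank F (D i) = k) (h2 : 2 ≤ k)
    (hG : ∀ i, f.Good (D i)) {g : V ≃ₗ[F] V} (hg : g ∈ f.O) (hg' : g ∉ dstab D) {c : F}
    (hc : c ≠ 0) : ∃ v, (∃ i, v ∈ D i) ∧ f.q v = c ∧ ¬ ∃ i, g v ∈ D i := by
  obtain ⟨i, v, hv, hq, h1⟩ := h.exists_not_mem hk (by omega)
    (fun i => (hG i).conn (h.nondeg i) hc) (fun i => by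
      obtain ⟨v, hv, hq⟩ := exists_q_eq_mem (h.nondeg i) (by rw [hk]; omega) c
      exact ⟨v, hv, by rintro rfl; exact hc (hq.symm.trans f.q_zero), hq⟩) hg hg'
  exact ⟨v, ⟨i, hv⟩, hq, not_exists.2 h1⟩

theorem SDec.quad_E_le_three (h5 : 5 ≤ finrank F V) {k : ℕ} (hk : ∀ i, finrank F (D i) = k)
    (h3 : 3 ≤ k) (hG : ∀ i, f.Good (D i)) (hiso : f.Isom D) {M : Subgroup (V ≃ₗ[F] V)}
    (hM : dstab D ⊓ f.E ≤ M) {g : V ≃ₗ[F] V} (hg : g ∈ f.O) (hgM : g ∈ M) (hg' : g ∉ dstab D) :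
    f.E ≤ M := by
  have hf := h.nondeg'
  obtain ⟨i₀⟩ : Nonempty ι := by
    by_contra H
    exact hg' ⟨1, fun i => (H ⟨i⟩).elim⟩
  have hd : 4 ≤ k ∨ k = 3 ∧ 4 ≤ Nat.card F := by
    have := hG i₀
    unfold Good at this
    rw [hk] at this; omega
  obtain ⟨a, x, ⟨i, ha⟩, hx, haq, hxq, hxa⟩ := exists_rf_pair (R := fun v => ∃ i, v ∈ D i)
    (fun _ => id) (fun a b ⟨i, ha⟩ ⟨j, hb⟩ qa qb e => hM (h.rf_mul_rf_mem h5 ha hb qa qb e))
    (h.nondeg i₀) (by rw [hk]; omega) (fun v hv => ⟨i₀, hv⟩) (fun x y c hc hx hxy H => by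
      obtain ⟨j, hj⟩ := h.exists_q_pr_ne hx
      refine ⟨_, mem_span_of_rf_mul_rf hf (h.nondeg j) hx hxy (rf_mul_rf_mem_stab (h.nondeg j)
        (by rw [hk]; omega) ((hG j).conn (h.nondeg j) hc) fun v hv e => ?_) (h.pr_mem j x)
        (h.sub_pr_mem j x) (by simp), hj, j, h.pr_mem j x⟩
      obtain ⟨l, hl⟩ := H v ⟨j, hv⟩ e
      by_cases hjl : j = l
      · exact Or.inl (hjl ▸ hl)
      · exact Or.inr (h.orth j l hjl hl)) hg hgM
    fun c hc => h.exists_not_mem_quad hk (by omega) hG hg hg' hc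
  refine E_le_of_ktrick hf h5 hM haq (h.rf_mem_dstab ha) fun K hK hKa _ h6 => ?_
  have hy : f.Rf K x := ⟨hxq ▸ haq, h6 _ hxa⟩
  obtain ⟨j, hj⟩ := h.exists_q_pr_ne hy.1
  obtain ⟨l, hl, hl'⟩ := h.exists_pr_ne (not_exists.1 hx j)
  choose u hu w hw huq hwq huw using fun i => quad_exists_hyp (h.nondeg i) (by rw [hk]; omega)
  have hc := fun i => cmp_of_hyp hf (hu i) (hw i) (huq i) (hwq i) (huw i)
  have hy' : f.Rf K (h.pr j x + (x - h.pr j x)) := by simpa using hy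
  refine h.E_le_of_le_SZ hK hiso hc hl.symm (h.le_SZ hK hl.symm (hc j) ((hG l).oIrr (h.nondeg l))
    (t := x - h.pr j x) ?_ (by rwa [map_sub, h.pr_pr_ne hl, sub_zero]))
    (hu j) (hw j) (huq j) (hwq j) (by simp [huw])
  rcases hd with hd | ⟨hd, hF⟩
  · exact (h.full hK j).mem_SZ_of_rf_four (h.nondeg j) (by rw [hk]; omega) (h.pr_mem j x) hj
      (h.sub_pr_mem j x) hy'
  · exact (h.full hK j).mem_SZ_three (h.nondeg j)
      (two_ne_zero_of_odd' (h.nondeg j) (by rw [hk, hd]; decide)) (by rw [hk, hd]) hF (h.pr_mem j x)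
      (fun e => hj (by rw [e, q_zero])) (h.sub_pr_mem j x) hy' fun b hb e => by
        rw [add_sub_cancel, hxq] at e
        exact h.rf_of_rf h5 hK ha hb hKa (e ▸ haq) (by rw [e])

end dec

theorem Nondeg.E_le_of_stab_nonsingular' (hf : f.Nondeg) (h2 : (2 : F) = 0) {p : V}
    (hp : f.q p ≠ 0) (h7 : 7 ≤ finrank F V) {M : Subgroup (V ≃ₗ[F] V)}
    (hM : Witt.stab (F ∙ p) ⊓ f.E ≤ M) {g : V ≃ₗ[F] V} (hg : g ∈ f.O) (hgM : g ∈ M)
    (h1 : g ∉ Witt.stab (F ∙ p)) : f.E ≤ M := by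
  have hS : ∀ a, f.B p a = 0 → f.rf a ∈ Witt.stab (F ∙ p) := fun a ha =>
    rf_mem_stab (Or.inr (f.mem_perp_span_singleton.2 ha))
  have hH : ∀ a b, f.B p a = 0 → f.B p b = 0 → f.q a ≠ 0 → f.q b ≠ 0 →
      f.rf a * f.rf b ∈ Witt.stab (F ∙ p) ⊓ f.E := fun a b ha hb qa qb =>
    ⟨mul_mem (hS a ha) (hS b hb), hf.rf_mul_rf_mem_E (by omega) qa qb
      (by simp only [Orth.sqSign_of_two_eq_zero h2])⟩
  have hpp := B_self_two (f := f) h2 p
  have key : ∀ l : List V, l.length ≤ 3 → ∃ a, f.q a ≠ 0 ∧ ∀ x ∈ l, f.B x a = 0 := fun l hl => by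
    have h3 := hf.finrank_add_finrank_perp (Submodule.span F {x | x ∈ l})
    have h4 : finrank F (Submodule.span F {x | x ∈ l}) ≤ l.length := by
      classical
      rw [← List.coe_toFinset]
      exact (finrank_span_finset_le_card (R := F) l.toFinset).trans l.toFinset_card_le
    obtain ⟨a, ha, hq⟩ := exists_q_ne_zero_of_lt (W := ⊤) (restrict_nondeg_iff'.2 fun w _ hw =>
      hf w fun v => f.B_eq_zero_symm (hw v trivial)) (Y := f.perp (Submodule.span F {x | x ∈ l}))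
      le_top (by rw [finrank_top]; omega)
    exact ⟨a, hq, fun x hx => ha x (Submodule.subset_span hx)⟩
  obtain ⟨a, haq, ha⟩ := key [p, g⁻¹ p] (by simp)
  have ha' : f.B p (g a) = 0 := by
    rw [f.quad_symm, B_apply_left hg, f.quad_symm]; exact ha _ (by simp)
  refine E_le_of_ktrick hf (by omega) hM hp (hS p hpp) fun K hK hKp h3 _ => ?_
  have hgK : g ∈ K := h3 g hgM hg (by
    have := M.mul_mem (M.mul_mem (M.mul_mem hgM (hM (hH p a hpp (ha p (by simp)) hp haq)))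
      (M.inv_mem hgM)) (hM (hH (g a) p ha' hpp (by rwa [mem_O_q hg]) hp))
    rwa [rf_conj_mul hg, mul_assoc, ← mul_assoc (f.rf (g a)), rf_mul_self, one_mul] at this)
  obtain ⟨w, hw1, hw2⟩ := hf.exists_perp_eq' (H := F ∙ g p) (x := p) (not_mem_span_comm
    (by rintro rfl; exact hp f.q_zero) fun e => h1 (mem_stab_of_le fun v hv => by
      obtain ⟨c, rfl⟩ := Submodule.mem_span_singleton.1 hv
      rw [map_smul]; exact Submodule.smul_mem _ _ e)) 1
  obtain ⟨w, hwq, hw1, hw2⟩ : ∃ w, f.q w ≠ 0 ∧ f.B (g p) w = 0 ∧ f.B p w = 1 := by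
    have hw1 := hw1 _ (Submodule.mem_span_singleton_self _)
    by_cases hwq : f.q w = 0
    · obtain ⟨b, hbq, hb⟩ := key [p, g p, w] (by simp)
      refine ⟨w + b, ?_, ?_, ?_⟩
      · rwa [f.q_add_of_B_eq_zero (hb w (by simp)), hwq, zero_add]
      · rw [B_add_right, hw1, hb _ (by simp), add_zero]
      · rw [B_add_right, hw2, hb _ (by simp), add_zero]
    · exact ⟨w, hwq, hw1, hw2⟩
  have hw : f.Rf K w := by
    have h4 : f.B p (g⁻¹ w) = 0 := by
      rw [← mem_O_B hg, ← LinearEquiv.mul_apply g, mul_inv_cancel]; exact hw1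
    have h5 : f.q (g⁻¹ w) ≠ 0 := by rwa [mem_O_q (f.O.inv_mem hg)]
    have h6 : f.Rf K (g⁻¹ w) := ⟨h5, by
      have := K.mul_mem (hK (hH _ p h4 hpp h5 hp)) hKp.2
      rwa [mul_assoc, rf_mul_self, mul_one] at this⟩
    simpa using h6.map hgK hg
  have hA := restrict_nondeg_hyp hpp (t' := w) (by simp [hw2])
  have hZ := hf.restrict_perp hA
  have hEs : ∀ u v a, f.EichOK u v a → f.B u p = 0 → f.B v p = 0 → f.ei u v a ∈ K :=
    fun u v a ha hu hv => hK ⟨mem_stab_of_le fun y hy => by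
      obtain ⟨c, rfl⟩ := Submodule.mem_span_singleton.1 hy
      rwa [map_smul, ha.ei_apply_fix hu hv], ei_mem_E u v a⟩
  have hpA : ∀ u ∈ f.perp (Submodule.span F {p, w}), f.B u p = 0 := fun u hu =>
    f.B_eq_zero_symm (f.mem_perp_span_pair.1 hu).1
  have h4 := hf.finrank_add_finrank_perp (Submodule.span F {p, w})
  have h5 := finrank_span_pair_le (F := F) p w
  obtain ⟨x, hx, y, hy, hxq, hyq, hxy⟩ := quad_exists_hyp hZ (by omega)
  have hP : ∀ u ∈ f.perp (Submodule.span F {p, w}), f.q u = 0 → ∀ c : F, f.Es K u (c • p) :=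
    fun u hu hq c => ⟨_, ⟨hq, by rw [B_smul_right, hpA u hu, mul_zero], rfl⟩, hEs _ _ _
      ⟨hq, by rw [B_smul_right, hpA u hu, mul_zero], rfl⟩ (hpA u hu)
      (by rw [qB_smul_left, hpp, mul_zero])⟩
  refine Full.E_le_of_perp_le (fun u v a ha hu hv => hEs u v a ha (hpA u hu) (hpA v hv)) hf hZ hx
    hy hxq hyq (by simp [hxy]) ?_
  rw [hf.perp_perp, Submodule.span_le]
  rintro _ (rfl | rfl)
  · exact ⟨le_perp_perp' _ (Submodule.subset_span (by simp)), fun u hu hq => by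
      simpa using hP u hu hq 1⟩
  · refine ⟨le_perp_perp' _ (Submodule.subset_span (by simp)), fun u hu hq => ?_⟩
    simpa using hw.rk.es_smul (f.mem_perp_span_pair.1 hu).2 (fun c => ⟨_, hP u hu hq c, by
      rw [B_smul_right, f.quad_symm, hw2, mul_one]⟩) 1

end Form

end CL.Witt

namespace CL.FGL

open Module Matrix Cfsg Cfsg.Geo CL.Witt CL.Witt.Form CL.Orth

variable {F : Type*} [Field F] [Fintype F] {ι : Type} [Fintype ι] [DecidableEq ι]
  (Q : QuadraticForm F (ι → F)) (hf : (ofQuad Q).Nondeg)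

theorem plus_iff {W : Submodule F (ι → F)} : IsPlusTypeOn Q W ↔ (ofQuad Q).Plus W :=
  exists_congr fun _ => and_congr_right fun _ => and_congr_left fun _ => quad_totSing_iff' Q

theorem isom_of {t k : ℕ} {D : Fin t → Submodule F (ι → F)}
    (hD : IsOrthogonalMDecomposition Q k D) : (ofQuad Q).Isom D := fun i j =>
  (hD.isometric i j).imp fun _ he => (quad_isIsom_iff _ _ _).2 he

include hf

/-- Non-degenerate subspace stabilisers in `Ω_n`, `n ≥ 7`. -/
theorem quad_nondeg_isMaximalIn7 (h7 : 7 ≤ Fintype.card ι) {W : Submodule F (ι → F)} (hW0 : W ≠ ⊥)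
    (hW1 : W ≠ ⊤) (hW : IsNondegenerateOn (QuadraticMap.polar Q) W)
    (hmid : 2 * finrank F W = Fintype.card ι → Even (finrank F W) ∧ ¬ IsPlusTypeOn Q ⊤ ∨
      Odd (finrank F W) ∧ ∀ g ∈ (ofQuad Q).O, ¬ ∀ w ∈ W, g w ∈ (ofQuad Q).perp W)
    (hex : Fintype.card F ≤ 3 → (finrank F W = 2 → ¬ IsPlusTypeOn Q W) ∧
      (finrank F W + 2 = Fintype.card ι → ¬ IsPlusTypeOn Q ((ofQuad Q).perp W))) :
    IsMaximalIn (omegaGL Q) (subspaceStabilizer W ⊓ omegaGL Q) := by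
  have hW' := restrict_nondeg_of _ (quad_B_iff Q) hW
  have h1 := hf.finrank_add_finrank_perp W
  rw [finrank_fun] at h1
  obtain ⟨x, hx0, hx⟩ := (quad_iso3 (ofQuad Q)).exists_singular (by simp; omega)
  have key : ∀ Z, W = Z ∨ W = (ofQuad Q).perp Z → ((ofQuad Q).restrict Z).Nondeg → Z ≠ ⊤ →
      finrank F ((ofQuad Q).perp Z) ≤ finrank F Z →
      ((ofQuad Q).restrict ((ofQuad Q).perp Z)).OIrr →
      (2 * finrank F Z = Fintype.card ι → Even (finrank F Z) → ¬ IsPlusTypeOn Q ⊤) →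
      (∀ g ∈ (ofQuad Q).O, ¬ ∀ w ∈ Z, g w ∈ (ofQuad Q).perp Z) →
      IsMaximalIn (omegaGL Q) (subspaceStabilizer W ⊓ omegaGL Q) := fun Z h2 hZ h3 h4 h5 h6 h8 => by
    have h9 := hf.finrank_add_finrank_perp Z
    rw [finrank_fun] at h9
    refine nondeg_isMaximalIn' hf (fun _ => mem_omegaGL_iff_E Q hf (by omega)) h2
      (Or.inr (by simp; omega)) hx hx0 (by rintro rfl; rw [finrank_bot] at h9 h4; omega) h3
      fun M h10 h11 g hg hg' => hf.quad_E_le_of_stab (by simp; omega) hZ (by omega) h5 ?_ h10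
        (E_le_O (h11 hg)) hg hg' (h8 g (E_le_O (h11 hg)))
    by_cases h12 : finrank F ((ofQuad Q).perp Z) = 3
    · exact Or.inl (three_le_card (two_ne_zero_of_odd' (hf.restrict_perp hZ) (by rw [h12]; decide)))
    by_cases h13 : finrank F Z = 4
    · exact Or.inr (Or.inr ⟨by omega, (plus_iff Q).not.1 (h6 (by omega) (by rw [h13]; decide))⟩)
    · exact Or.inr (Or.inl (by omega))
  have hcard : ¬ 4 ≤ Nat.card F → Fintype.card F ≤ 3 := by rw [Nat.card_eq_fintype_card]; omega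
  rcases le_or_gt (Fintype.card ι) (2 * finrank F W) with h | h
  · refine key W (Or.inl rfl) hW' hW1 (by omega) (quad_oIrr' (hf.restrict_perp hW') ?_)
      (fun h2 h3 => ((hmid h2).resolve_right fun h4 => Nat.not_odd_iff_even.2 h3 h4.1).2) ?_
    · by_contra! H
      exact (hex (hcard H.2.1.not_ge)).2 (by omega) ((plus_iff Q).2 H.2.2)
    · intro g hg H
      rcases h.eq_or_lt with h | h
      · rcases hmid h.symm with ⟨h2, h3⟩ | ⟨-, h3⟩
        · obtain ⟨U, hU, hU'⟩ := exists_totSing_of_map_le_perp hW' h2 hg H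
          exact h3 ⟨U, le_top, (quad_totSing_iff' Q).2 hU, by simp [hU', h]⟩
        · exact h3 g hg H
      · exact not_map_le_of_lt (by omega) g H
  · refine key _ (Or.inr (hf.perp_perp W).symm) (hf.restrict_perp hW') (hf.perp_ne_top hW0)
      (by rw [hf.perp_perp]; omega) ?_ (fun h2 => by omega) fun g _ => ?_
    · rw [hf.perp_perp]
      refine quad_oIrr' hW' ?_
      by_contra! H
      exact (hex (hcard H.2.1.not_ge)).1 H.1 ((plus_iff Q).2 H.2.2)
    · rw [hf.perp_perp]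
      exact not_map_le_of_lt (by omega) g

/-- Non-singular points in characteristic two. -/
theorem quad_point_isMaximalIn (h7 : 7 ≤ Fintype.card ι) (hchar : ¬ Odd (Fintype.card F))
    {v : ι → F} (hv : Q v ≠ 0) :
    IsMaximalIn (omegaGL Q) (subspaceStabilizer (Submodule.span F {v}) ⊓ omegaGL Q) := by
  have hv0 : v ≠ 0 := by rintro rfl; exact hv (ofQuad Q).q_zero
  obtain ⟨x, hx0, hx⟩ := (quad_iso3 (ofQuad Q)).exists_singular (by simp; omega)
  refine nondeg_isMaximalIn' hf (fun _ => mem_omegaGL_iff_E Q hf (by omega)) (Or.inl rfl)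
    (Or.inr (by simp; omega)) hx hx0 (by simpa using hv0) (fun h => ?_)
    fun M h1 h2 g hg hg' => hf.E_le_of_stab_nonsingular' (two_eq_zero_of_not_odd hchar) hv
      (by simp; omega) h1 (E_le_O (h2 hg)) hg hg'
  have := finrank_span_singleton (K := F) hv0
  rw [h] at this
  simp at this
  omega

/-- Two orthogonal non-isometric subspaces of odd dimension. -/
theorem quad_noniso_isMaximalIn (h7 : 7 ≤ Fintype.card ι) {k : ℕ} (hko : Odd k)
    {D : Fin 2 → Submodule F (ι → F)}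
    (hD : IsNondegenerateMDecomposition (QuadraticMap.polar Q) k D)
    (hni : ¬ AreIsometricFor Q (D 0) (D 1)) :
    IsMaximalIn (omegaGL Q) (decompositionStabilizer D ⊓ omegaGL Q) := by
  have hk0 := hD.decomp.finrank_eq 0
  have hk1 := hD.decomp.finrank_eq 1
  have hn := Sp.mul_eq_finrank_of_isMDecomposition hD.decomp
  have h1 := hf.finrank_add_finrank_perp (D 0)
  rw [finrank_fun] at h1
  have hperp : D 1 = (ofQuad Q).perp (D 0) := Submodule.eq_of_le_of_finrank_eq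
    ((odec_of _ (quad_B_iff Q) hD).orth 0 1 (by decide)) (by omega)
  have hne : ∀ g ∈ (ofQuad Q).O, ¬ ∀ w ∈ D 0, g w ∈ (ofQuad Q).perp (D 0) := by
    intro g hg H
    rw [← hperp] at H
    have hmap : (D 0).map (g : (ι → F) →ₗ[F] (ι → F)) = D 1 :=
      Submodule.eq_of_le_of_finrank_eq (by rintro _ ⟨w, hw, rfl⟩; exact H w hw)
        (by rw [LinearEquiv.finrank_map_eq, hk0, hk1])
    exact hni ⟨(g.submoduleMap (D 0)).trans (LinearEquiv.ofEq _ _ hmap), fun w =>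
      mem_O_q hg (w : ι → F)⟩
  have hk2 : k ≠ 2 := by rintro rfl; exact absurd hko (by decide)
  convert quad_nondeg_isMaximalIn7 Q hf h7 (W := D 0)
    (by intro h; rw [h, finrank_bot] at hk0; omega)
    (by intro h; rw [h, finrank_top, finrank_fun] at hk0; omega)
    (hD.nondegenerate 0) (fun _ => Or.inr ⟨hk0 ▸ hko, hne⟩)
    (fun _ => ⟨fun h => by omega, fun h => by omega⟩) using 1
  ext g
  simp only [Subgroup.mem_inf, and_congr_left_iff]
  intro hg
  have hgO := E_le_O ((mem_omegaGL_iff_E Q hf (by omega)).1 hg)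
  rw [mem_decompositionStabilizer, mem_subspaceStabilizer]
  constructor
  · rintro ⟨σ, hσ⟩
    have h0 := hσ 0
    by_cases hs : σ 0 = 0
    · rw [hs] at h0
      exact mem_stab_iff_map.2 h0
    · rw [show σ 0 = 1 by omega, hperp] at h0
      exact absurd (fun w hw => h0.le ⟨w, hw, rfl⟩) (hne _ hgO)
  · intro h
    refine ⟨1, Fin.forall_fin_two.2 ⟨mem_stab_iff_map.1 h, ?_⟩⟩
    have := mem_stab_perp hgO h
    rw [← hperp] at this
    exact mem_stab_iff_map.1 this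

theorem quad_not_E_le_dstab {t k : ℕ} {D : Fin t → Submodule F (ι → F)}
    (hD : IsNondegenerateMDecomposition (QuadraticMap.polar Q) k D) (h5 : 5 ≤ Fintype.card ι) :
    ¬ (ofQuad Q).E ≤ dstab D := by
  have h := sdec_of _ (quad_B_iff Q) hD
  have ht := hD.decomp.two_le
  have hn := Sp.mul_eq_finrank_of_isMDecomposition hD.decomp
  have h1 := hf.finrank_add_finrank_perp (D ⟨0, by omega⟩)
  have h2 := hD.decomp.finrank_eq ⟨0, by omega⟩
  rw [finrank_fun, h2] at h1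
  obtain ⟨e, he, he0⟩ := Submodule.exists_mem_ne_zero_of_ne_bot (p := D ⟨0, by omega⟩) fun e => by
    have := hD.decomp.pos
    rw [e, finrank_bot] at h2; omega
  obtain ⟨u, hu, hu0, huq⟩ := quad_iso3 (ofQuad Q) ((ofQuad Q).perp (D ⟨0, by omega⟩))
    (by nlinarith)
  exact h.not_E_le_dstab he he0 hu hu0 huq

/-- Orthogonal decompositions into members of dimension at least three. -/
theorem quad_decomp_isMaximalIn3 {t k : ℕ} {D : Fin t → Submodule F (ι → F)}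
    (hD : IsOrthogonalMDecomposition Q k D) (h3 : 3 ≤ k) (hk3 : k = 3 → Fintype.card F ≠ 3)
    (hk4 : k = 4 → Fintype.card F = 2 → ¬ ∀ i, IsPlusTypeOn Q (D i)) :
    IsMaximalIn (omegaGL Q) (decompositionStabilizer D ⊓ omegaGL Q) := by
  have h := sdec_of _ (quad_B_iff Q) hD.decomp
  have ht := hD.decomp.decomp.two_le
  have hd := hD.decomp.decomp.finrank_eq
  have hn := Sp.mul_eq_finrank_of_isMDecomposition hD.decomp.decomp
  have h5 : 5 ≤ Fintype.card ι := by nlinarith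
  refine decomp_isMaximalIn (fun _ => mem_omegaGL_iff_E Q hf h5)
    (quad_not_E_le_dstab Q hf hD.decomp h5) fun M h1 h2 g hg hg' => h.quad_E_le_three
      (by simpa using h5) hd h3 (fun i => ?_) (isom_of Q hD) h1 (E_le_O (h2 hg)) hg hg'
  unfold Good
  rw [hd, Nat.card_eq_fintype_card]
  have := Fintype.one_lt_card (α := F)
  obtain rfl | rfl | h4 : k = 3 ∨ k = 4 ∨ 5 ≤ k := by omega
  · have := three_le_card (two_ne_zero_of_odd' (h.nondeg i) (by rw [hd]; decide))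
    rw [Nat.card_eq_fintype_card] at this
    have := hk3 rfl
    omega
  · refine Or.inr (Or.inl ⟨rfl, or_iff_not_imp_left.2 fun h6 hp => hk4 rfl (by omega) fun j =>
      (plus_iff Q).2 (hp.of_isom (isom_of Q hD i j))⟩)
  · exact Or.inl h4

end CL.FGL
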