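import Mathlib
import Cfsg.Agent.CLAS.Ref5

/-!
Orthogonal frames: overgroups of the monomial group contain a non-monomial element fixing a line.
-/

set_option autoImplicit false
set_option linter.unusedSectionVars false

namespace CL.Witt

open Module

theorem dihedral_conj {G : Type*} [Group G] {a t : G} (ha : a * a = 1) (ht : t * t = 1) (r : ℕ) :
    (a * t) ^ r * t * ((a * t) ^ r)⁻¹ = (a * t) ^ (2 * r) * t := by
  have h : SemiconjBy t (a * t)⁻¹ (a * t) := by
    rw [SemiconjBy, mul_inv_rev, inv_eq_of_mul_eq_one_right ha, inv_eq_of_mul_eq_one_right ht,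
      ← mul_assoc, ht, mul_assoc, ht, one_mul, mul_one]
  rw [← inv_pow, mul_assoc, (h.pow_right r).eq, two_mul, pow_add, mul_assoc]

theorem exists_mem_notMem_list {α : Type*} {s : Finset α} (l : List α) (h : l.length < s.card) :
    ∃ a ∈ s, a ∉ l := by
  classical
  obtain ⟨a, ha, ha'⟩ := Finset.exists_mem_notMem_of_card_lt_card (s := l.toFinset) (t := s)
    (lt_of_le_of_lt (List.toFinset_card_le l) h)
  exact ⟨a, ha, by simpa using ha'⟩

theorem span_pair_le_of {F V : Type*} [Field F] [AddCommGroup V] [Module F V]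
    [FiniteDimensional F V] {x y p p' : V} (hp : p ∈ Submodule.span F {x, y})
    (hp' : p' ∈ Submodule.span F {x, y}) (h0 : p ≠ 0) (h : p' ∉ F ∙ p) :
    Submodule.span F {x, y} ≤ Submodule.span F {p', p} :=
  (Submodule.eq_of_le_of_finrank_le (Submodule.span_le.2 (by rintro _ (rfl | rfl) <;> assumption))
    (by rw [finrank_span_pair_of h0 h]; exact Form.finrank_span_pair_le x y)).ge

namespace Form

variable {F : Type*} [Field F] {T : FormType F} {V : Type*} [AddCommGroup V] [Module F V]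
  {f : Form T V} {ι : Type*} {e : ι → V} {c : F}

variable (f c) in
/-- The coordinate with respect to a vector `x` of norm `c`. -/
def co (x : V) : V →ₗ[F] F := c⁻¹ • f.B x

theorem co_apply (x v : V) : f.co c x v = c⁻¹ * f.B x v := rfl

theorem co_map {g : V ≃ₗ[F] V} (hg : g ∈ f.O) (x v : V) : f.co c (g x) (g v) = f.co c x v := by
  rw [co_apply, mem_O_B hg, co_apply]

theorem co_inv {g : V ≃ₗ[F] V} (hg : g ∈ f.O) (x v : V) : f.co c x (g⁻¹ v) = f.co c (g x) v := by
  rw [co_apply, co_apply, B_apply_left hg]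

variable (F) in
/-- The lines spanned by a family of vectors. -/
def ln (e : ι → V) (i : ι) : Submodule F V := F ∙ e i

variable (f e c) in
/-- An orthogonal basis all of whose members have norm `c`. -/
structure Fr : Prop where
  ε : T.ε = 1
  c0 : c ≠ 0
  σc : T.σ c = c
  self : ∀ i, f.B (e i) (e i) = c
  ne : ∀ i j, i ≠ j → f.B (e i) (e j) = 0
  top : Submodule.span F (Set.range e) = ⊤

namespace Fr

variable (h : f.Fr e c)
include h

theorem co_self (i : ι) : f.co c (e i) (e i) = 1 := by rw [co_apply, h.self, inv_mul_cancel₀ h.c0]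

theorem co_ne {i j : ι} (hij : i ≠ j) : f.co c (e i) (e j) = 0 := by
  rw [co_apply, h.ne i j hij, mul_zero]

theorem σ_co (x y : V) : T.σ (f.co c x y) = f.co c y x := by
  rw [co_apply, co_apply, map_mul, map_inv₀, h.σc, σ_B, h.ε, one_mul]

theorem co_eq_zero {x y : V} : f.co c x y = 0 ↔ f.B x y = 0 := by simp [co_apply, h.c0]

theorem co_symm {x y : V} (h0 : f.co c x y = 0) : f.co c y x = 0 := by rw [← h.σ_co, h0, map_zero]

theorem ne_zero (i : ι) : e i ≠ 0 := fun e0 => h.c0 (by rw [← h.self i, e0]; simp)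

theorem map {g : V ≃ₗ[F] V} (hg : g ∈ f.O) : f.Fr (fun i => g (e i)) c :=
  ⟨h.ε, h.c0, h.σc, fun i => by rw [mem_O_B hg, h.self], fun i j hij => by
    rw [mem_O_B hg, h.ne i j hij], by
    rw [show (Set.range fun i => g (e i)) = (g : V →ₗ[F] V) '' Set.range e from
      Set.range_comp g e, ← Submodule.map_span, h.top, Submodule.map_top, LinearEquiv.range]⟩

variable [Fintype ι]

theorem sum_co (v : V) : ∑ i, f.co c (e i) v • e i = v := by
  classical
  obtain ⟨a, rfl⟩ := (Submodule.mem_span_range_iff_exists_fun F).1 (h.top ▸ Submodule.mem_top (x := v))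
  refine Finset.sum_congr rfl fun i _ => ?_
  rw [map_sum, Finset.sum_eq_single i (fun j _ hj => by simp [h.co_ne hj.symm]) (by simp)]
  simp [h.co_self]

theorem ext {v w : V} (hv : ∀ i, f.co c (e i) v = f.co c (e i) w) : v = w := by
  rw [← h.sum_co v, ← h.sum_co w]; simp [hv]

theorem exists_co_ne {v : V} (hv : v ≠ 0) : ∃ i, f.co c (e i) v ≠ 0 := by
  by_contra! H; exact hv (h.ext fun i => by simp [H])

theorem eq_smul {v : V} {i : ι} (hv : ∀ j, j ≠ i → f.co c (e j) v = 0) :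
    v = f.co c (e i) v • e i := h.ext fun j => by
  by_cases hj : j = i
  · simp [hj, h.co_self]
  · simp [hv j hj, h.co_ne hj]

theorem co_eq_sum (v w : V) : f.co c v w = ∑ i, f.co c v (e i) * f.co c (e i) w := by
  conv_lhs => rw [← h.sum_co w, map_sum]
  simp [mul_comm]

variable [FiniteDimensional F V]

theorem sdec : f.SDec (ln F e) where
  nondeg i := restrict_nondeg_span_singleton (by rw [h.self]; exact h.c0)
  orth i j hij := (Submodule.span_singleton_le_iff_mem _ _).2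
    (f.mem_perp_span_singleton.2 (h.ne i j hij))
  top := by rw [← h.top, Submodule.span_range_eq_iSup]; rfl

theorem mem_dstab_iff {g : V ≃ₗ[F] V} :
    g ∈ dstab (ln F e) ↔ ∀ i, ∃ j, ∃ a : F, g (e i) = a • e j := by
  constructor
  · intro hg i
    obtain ⟨j, hj⟩ := exists_mem_of_mem_dstab hg i
    obtain ⟨a, ha⟩ := Submodule.mem_span_singleton.1 (hj _ (Submodule.mem_span_singleton_self (e i)))
    exact ⟨j, a, ha.symm⟩
  · intro hg
    refine h.sdec.mem_dstab_of_le (k := 1) (fun i => finrank_span_singleton (h.ne_zero i)) one_pos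
      fun i => (hg i).imp fun j ⟨a, ha⟩ v hv => ?_
    obtain ⟨b, rfl⟩ := Submodule.mem_span_singleton.1 hv
    rw [map_smul, ha]
    exact Submodule.smul_mem _ _ (Submodule.smul_mem _ _ (Submodule.mem_span_singleton_self _))

/-- A monomial map moving vectors within a plane fixes all but four basis vectors. -/
theorem card_le_fixed [DecidableEq V] {g : V ≃ₗ[F] V} (hg : g ∈ dstab (ln F e)) (A : Finset ι)
    (x y : V) (hp : ∀ s ∈ A, ∃ p ∈ Submodule.span F {x, y}, ∀ r ∈ A,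
      f.co c (e r) p = f.co c (e r) (g (e s) - e s)) :
    A.card ≤ (A.filter fun s => g (e s) = e s).card + 4 := by
  by_contra! H
  have h5 : 4 < (A.filter fun s => ¬ g (e s) = e s).card := by
    have := Finset.card_filter_add_card_filter_not (s := A) fun s => g (e s) = e s
    omega
  choose π a ha using h.mem_dstab_iff.1 hg
  choose! p hp hp' using hp
  have k1 : ∀ s ∈ A, ¬ g (e s) = e s → f.co c (e s) (p s) ≠ 0 := fun s hs hs' => by
    rw [hp' s hs s hs, map_sub, h.co_self, ha, map_smul, sub_ne_zero]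
    by_cases h1 : s = π s
    · rw [← h1, h.co_self, smul_eq_mul, mul_one]
      rintro h2
      exact hs' (by rw [ha, h2, ← h1, one_smul])
    · simp [h.co_ne h1]
  have k2 : ∀ s ∈ A, ∀ r ∈ A, r ≠ s → r ≠ π s → f.co c (e r) (p s) = 0 := fun s hs r hr h1 h2 => by
    rw [hp' s hs r hr, map_sub, ha, map_smul, h.co_ne h1, h.co_ne h2]; simp
  obtain ⟨s, hs, -⟩ := exists_mem_notMem_list [] (show _ < _ from Nat.zero_lt_of_lt h5)
  obtain ⟨s', hs', n1⟩ := exists_mem_notMem_list [s, π s] (lt_trans (by simp) h5)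
  obtain ⟨s'', hs'', n2⟩ := exists_mem_notMem_list [s, π s, s', π s'] h5
  simp only [List.mem_cons, List.not_mem_nil, or_false, not_or, Finset.mem_filter] at *
  have h1 := span_pair_le_of (hp s hs.1) (hp s' hs'.1) (fun e0 => k1 s hs.1 hs.2 (by simp [e0]))
    (fun e0 => by
      obtain ⟨b, hb⟩ := Submodule.mem_span_singleton.1 e0
      exact k1 s' hs'.1 hs'.2 (by rw [← hb, map_smul, k2 s hs.1 s' hs'.1 n1.1 n1.2, smul_zero]))
    (hp s'' hs''.1)
  obtain ⟨b, b', hb⟩ := Submodule.mem_span_pair.1 h1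
  exact k1 s'' hs''.1 hs''.2 (by
    rw [← hb, map_add, map_smul, map_smul, k2 s hs.1 s'' hs''.1 n2.1 n2.2.1,
      k2 s' hs'.1 s'' hs''.1 n2.2.2.1 n2.2.2.2]; simp)

theorem proj_cases (h2 : (2 : F) ≠ 0) {g : V ≃ₗ[F] V} (hg : g ∈ dstab (ln F e)) {s : ι} {w : V}
    (hw : g (e s) = e s - (2 : F) • w) (hw' : f.B w (e s - w) = 0) :
    w = 0 ∨ w = e s ∨ 2 * f.co c (e s) w = 1 := by
  obtain ⟨r, a, ha⟩ := h.mem_dstab_iff.1 hg s
  by_cases hr : s = r
  · subst hr
    obtain ⟨κ, rfl⟩ : ∃ κ : F, w = κ • e s := ⟨2⁻¹ * (1 - a), by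
      rw [mul_smul, eq_inv_smul_iff₀ h2, sub_smul, ← ha, hw]; module⟩
    by_cases h0 : κ = 0
    · exact Or.inl (by simp [h0])
    · rw [B_smul_left, B_sub_right, B_smul_right, h.self] at hw'
      have : κ = 1 := mul_right_cancel₀ (b := T.σ κ * c) (by simp [h0, h.c0])
        (by linear_combination -hw')
      exact Or.inr (Or.inl (by simp [this]))
  · have := congrArg (f.co c (e s)) ha
    rw [hw, map_sub, map_smul, map_smul, h.co_self, h.co_ne hr] at this
    exact Or.inr (Or.inr (by simp only [smul_eq_mul] at this; linear_combination -this))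

end Fr

variable (f c) in
/-- `τ` is the product of the reflections in the orthogonal vectors `x` and `y`. -/
def IsT (τ : V ≃ₗ[F] V) (x y : V) : Prop :=
  ∀ v, τ v = v - (2 : F) • (f.co c x v • x + f.co c y v • y)

theorem IsT.conj {τ g : V ≃ₗ[F] V} {x y : V} (h : f.IsT c τ x y) (hg : g ∈ f.O) :
    f.IsT c (g * τ * g⁻¹) (g x) (g y) := fun v => by
  rw [LinearEquiv.mul_apply, LinearEquiv.mul_apply, h, co_inv hg, co_inv hg]
  simp

theorem IsT.sub_mem {τ : V ≃ₗ[F] V} {x y : V} (h : f.IsT c τ x y) (v : V) :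
    τ v - v ∈ Submodule.span F {x, y} :=
  Submodule.mem_span_pair.2 ⟨-(2 * f.co c x v), -(2 * f.co c y v), by rw [h]; module⟩

theorem IsT.mul_self {τ : V ≃ₗ[F] V} (h : f.Fr e c) {i j : ι} (hij : i ≠ j)
    (hτ : f.IsT c τ (e i) (e j)) : τ * τ = 1 := by
  ext v
  rw [LinearEquiv.mul_apply, hτ, hτ]
  simp only [map_sub, map_add, map_smul, h.co_self, h.co_ne hij, h.co_ne hij.symm, smul_eq_mul,
    LinearEquiv.coe_one, id]
  module

variable (f c) in
/-- `u` is the three-cycle on the orthogonal vectors `x, y, z`. -/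
def IsCyc (u : V ≃ₗ[F] V) (x y z : V) : Prop :=
  ∀ v, u v = v + f.co c x v • (y - x) + f.co c y v • (z - y) + f.co c z v • (x - z)

theorem IsCyc.conj {u g : V ≃ₗ[F] V} {x y z : V} (h : f.IsCyc c u x y z) (hg : g ∈ f.O) :
    f.IsCyc c (g * u * g⁻¹) (g x) (g y) (g z) := fun v => by
  rw [LinearEquiv.mul_apply, LinearEquiv.mul_apply, h, co_inv hg, co_inv hg, co_inv hg]
  simp

variable (f e c) in
/-- `M` contains the even sign changes and the three-cycles. -/
structure FGen (M : Subgroup (V ≃ₗ[F] V)) : Prop where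
  t : ∀ i j, i ≠ j → ∃ τ ∈ M, τ ∈ dstab (ln F e) ∧ f.IsT c τ (e i) (e j)
  cyc : ∀ i j k, i ≠ j → j ≠ k → i ≠ k → ∃ u ∈ M, f.IsCyc c u (e i) (e j) (e k)

section B

variable [Fintype ι] [FiniteDimensional F V] {M : Subgroup (V ≃ₗ[F] V)} (h : f.Fr e c)
  (h2 : (2 : F) ≠ 0) (G : f.FGen e c M) (hO : M ≤ f.O)
  (hs : ∀ m ∈ M, ∀ i j, ∀ a : F, m (e i) = a • e j → m ∈ dstab (ln F e))
include h h2 G hO hs

theorem mono_of_five {m : V ≃ₗ[F] V} (hm : m ∈ M) {i : ι} {S : Finset ι} (hS : 5 ≤ S.card)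
    (h0 : ∀ j ∈ S, f.co c (e j) (m (e i)) = 0) : m ∈ dstab (ln F e) := by
  by_contra hn
  have hm' := hO (M.inv_mem hm)
  have hy := h.map hm'
  set y := fun j => m⁻¹ (e j) with hyd
  have h1 : ∀ j ∈ S, f.co c (y j) (e i) = 0 := fun j hj => by
    rw [← h0 j hj, hyd, ← co_inv hm', inv_inv]
  have hτ : ∀ j ∈ S, ∀ k ∈ S, j ≠ k → ∃ τ ∈ dstab (ln F e), f.IsT c τ (y j) (y k) :=
    fun j hj k hk hjk => by
      obtain ⟨τ, hτ, -, h3⟩ := G.t j k hjk
      exact ⟨_, hs _ (M.mul_mem (M.mul_mem (M.inv_mem hm) hτ) (M.inv_mem (M.inv_mem hm))) i i 1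
        (by rw [h3.conj hm', h1 j hj, h1 k hk]; simp), h3.conj hm'⟩
  obtain ⟨j, hj, -⟩ := exists_mem_notMem_list (s := S) [] (show 0 < _ by omega)
  obtain ⟨s, hs'⟩ := h.exists_co_ne (hy.ne_zero j)
  set α := fun k => f.co c (y k) (e s) with hα
  have hσ : ∀ k, f.co c (e s) (y k) = T.σ (α k) := fun k => (h.σ_co _ _).symm
  have hj0 : α j ≠ 0 := fun e0 => hs' (by rw [hσ, e0, map_zero])
  have P : ∀ k ∈ S, ∀ l ∈ S, k ≠ l → (α k = 0 ∧ α l = 0) ∨ α k • y k + α l • y l = e s ∨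
      2 * (α k * T.σ (α k) + α l * T.σ (α l)) = 1 := fun k hk l hl hkl => by
    obtain ⟨τ, h3, h4⟩ := hτ k hk l hl hkl
    refine (h.proj_cases h2 h3 (h4 _) ?_).imp (fun h5 => ⟨?_, ?_⟩) (Or.imp_right fun h5 => ?_)
    · rw [B_add_left, B_smul_left, B_smul_left, h.co_eq_zero.1, h.co_eq_zero.1] <;>
        simp [hy.co_self, hy.co_ne hkl, hy.co_ne hkl.symm]
    · simpa [hy.co_self, hy.co_ne hkl] using congrArg (f.co c (y k)) h5
    · simpa [hy.co_self, hy.co_ne hkl.symm] using congrArg (f.co c (y l)) h5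
    · simpa [hσ] using h5
  have C : ∀ k ∈ S, ∀ l ∈ S, j ≠ k → k ≠ l → j ≠ l → α k = 0 → α l = 0 →
      2 * (α j * T.σ (α j)) ≠ 1 := fun k hk l hl h3 h4 h5 hk0 hl0 h6 => by
    obtain ⟨u, hu, h7⟩ := G.cyc j k l h3 h4 h5
    have h8 := h7.conj hm'
    obtain ⟨r, a, ha⟩ := h.mem_dstab_iff.1 (hs _ (M.mul_mem (M.mul_mem (M.inv_mem hm) hu)
      (M.inv_mem (M.inv_mem hm))) i i 1 (by rw [h8, h1 j hj, h1 k hk, h1 l hl]; simp)) s
    rw [h8] at ha
    change e s + α j • (y k - y j) + α k • (y l - y k) + α l • (y j - y l) = _ at ha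
    rw [hk0, hl0, zero_smul, zero_smul, add_zero, add_zero] at ha
    by_cases hr : s = r
    · subst hr
      have := congrArg (f.co c (y k)) ha
      simp only [map_add, map_smul, map_sub, hy.co_self, hy.co_ne h3.symm] at this
      change α k + _ = a • α k at this
      exact hj0 (by simpa [hk0] using this)
    · have := congrArg (f.co c (e s)) ha
      simp only [map_add, map_smul, map_sub, h.co_self, h.co_ne hr, hσ, hk0, smul_eq_mul,
        map_zero] at this
      exact one_ne_zero (α := F) (by linear_combination 2 * this + h6)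
  by_cases hA : ∃ k ∈ S, j ≠ k ∧ α j • y j + α k • y k = e s
  · obtain ⟨k, hk, hjk, h3⟩ := hA
    have h4 : ∀ l, l ≠ j → l ≠ k → α l = 0 := fun l h4 h5 => by
      have := congrArg (f.co c (y l)) h3
      simp only [map_add, map_smul, hy.co_ne h4, hy.co_ne h5] at this
      exact this.symm.trans (by simp)
    obtain ⟨l, hl, n1⟩ := exists_mem_notMem_list (s := S) [j, k] (by simp; omega)
    obtain ⟨l', hl', n2⟩ := exists_mem_notMem_list (s := S) [j, k, l] (by simp; omega)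
    simp only [List.mem_cons, List.not_mem_nil, or_false, not_or] at n1 n2
    rcases P j hj l hl (Ne.symm n1.1) with h5 | h5 | h5
    · exact hj0 h5.1
    · rw [h4 l n1.1 n1.2, zero_smul, add_zero] at h5
      refine hn ((dstab _).inv_mem_iff.1 (hs _ (M.inv_mem hm) j s (α j)⁻¹ ?_))
      rw [← h5, smul_smul, inv_mul_cancel₀ hj0, one_smul]
    · exact C l hl l' hl' (Ne.symm n1.1) (Ne.symm n2.2.2) (Ne.symm n2.1) (h4 l n1.1 n1.2)
        (h4 l' n2.1 n2.2.1) (by simpa [h4 l n1.1 n1.2] using h5)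
  have Q : ∀ k ∈ S, j ≠ k → 2 * (α j * T.σ (α j) + α k * T.σ (α k)) = 1 := fun k hk hjk =>
    ((P j hj k hk hjk).resolve_left fun h3 => hj0 h3.1).resolve_left fun h3 => hA ⟨k, hk, hjk, h3⟩
  obtain ⟨k, hk, n1⟩ := exists_mem_notMem_list (s := S) [j] (by simp; omega)
  obtain ⟨l, hl, n2⟩ := exists_mem_notMem_list (s := S) [j, k] (by simp; omega)
  obtain ⟨r, hr, n3⟩ := exists_mem_notMem_list (s := S) [j, k, l] (by simp; omega)
  obtain ⟨t, ht, n4⟩ := exists_mem_notMem_list (s := S) [j, k, l, r] (by simp; omega)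
  simp only [List.mem_cons, List.not_mem_nil, or_false, not_or] at n1 n2 n3 n4
  have q1 := Q k hk (Ne.symm n1)
  have q2 := Q l hl (Ne.symm n2.1)
  have q3 := Q r hr (Ne.symm n3.1)
  have q4 := Q t ht (Ne.symm n4.1)
  rcases P k hk l hl (Ne.symm n2.2) with h5 | h5 | h5
  · exact C k hk l hl (Ne.symm n1) (Ne.symm n2.2) (Ne.symm n2.1) h5.1 h5.2
      (by simpa [h5.1] using q1)
  · have := congrArg (f.co c (y j)) h5
    simp only [map_add, map_smul, hy.co_ne (Ne.symm n1), hy.co_ne (Ne.symm n2.1)] at this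
    exact hj0 (this.symm.trans (by simp))
  obtain ⟨τ, h3, h4⟩ := hτ j hj k hk (Ne.symm n1)
  obtain ⟨τ', h3', h4'⟩ := hτ l hl r hr (Ne.symm n3.2.2)
  rcases h.proj_cases h2 (mul_mem h3 h3') (s := s)
    (w := α j • y j + α k • y k + α l • y l + α r • y r) (by
      rw [LinearEquiv.mul_apply, h4, h4']
      simp only [map_sub, map_add, map_smul, hy.co_ne (Ne.symm n2.1), hy.co_ne (Ne.symm n2.2),
        hy.co_ne (Ne.symm n3.1), hy.co_ne (Ne.symm n3.2.1), smul_zero, add_zero, sub_zero]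
      module) (by
      rw [B_add_left, B_add_left, B_add_left, B_smul_left, B_smul_left, B_smul_left, B_smul_left,
        h.co_eq_zero.1, h.co_eq_zero.1, h.co_eq_zero.1, h.co_eq_zero.1] <;>
        simp [hy.co_self, hy.co_ne, hα, n1, n2, n3, Ne.symm n1, Ne.symm n2.1, Ne.symm n2.2,
          Ne.symm n3.1, Ne.symm n3.2.1, Ne.symm n3.2.2]) with h6 | h6 | h6
  · have := congrArg (f.co c (y j)) h6
    simp only [map_add, map_smul, hy.co_ne (Ne.symm n1), hy.co_ne (Ne.symm n2.1),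
      hy.co_ne (Ne.symm n3.1), hy.co_self] at this
    exact hj0 (by simpa using this)
  · have := congrArg (f.co c (y t)) h6
    simp only [map_add, map_smul, hy.co_ne n4.1, hy.co_ne n4.2.1, hy.co_ne n4.2.2.1,
      hy.co_ne n4.2.2.2] at this
    have h7 : α t = 0 := this.symm.trans (by simp)
    rw [h7] at q4
    exact one_ne_zero (α := F) (by linear_combination q1 + q2 - h5 - 2 * q4)
  · simp only [map_add, map_smul, hσ, smul_eq_mul] at h6
    exact one_ne_zero (α := F) (by linear_combination h6 - q3 - h5)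

variable (h9 : 9 ≤ Fintype.card ι)
include h9

theorem mono_of_conj {m τ : V ≃ₗ[F] V} (hm : m ∈ M) {i j : ι} (hij : i ≠ j)
    (hτ : f.IsT c τ (e i) (e j)) (h0 : m * τ * m⁻¹ ∈ dstab (ln F e)) : m ∈ dstab (ln F e) := by
  classical
  have h1 := hτ.conj (hO hm)
  have h3 := h.card_le_fixed h0 Finset.univ (m (e i)) (m (e j))
    fun s _ => ⟨_, h1.sub_mem (e s), fun _ _ => rfl⟩
  refine mono_of_five h h2 G hO hs hm (i := i) (S := Finset.univ.filter fun s =>
    (m * τ * m⁻¹) (e s) = e s) (by rw [Finset.card_univ] at h3; omega) fun s hs' => h.co_symm ?_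
  have h4 := congrArg (f.co c (m (e i))) (Finset.mem_filter.1 hs').2
  have hy := h.map (hO hm)
  rw [h1, map_sub, map_smul, map_add, map_smul, map_smul, hy.co_self, hy.co_ne hij] at h4
  simpa [h2] using h4

theorem exists_pow_mono {δ a t τ : V ≃ₗ[F] V} (hδ : δ ∈ M) (ht : t ∈ M) (hτ : τ ∈ M)
    [Finite V] {i j k l : ι} (hij : i ≠ j) (hkl : k ≠ l) (ht' : t ∈ dstab (ln F e))
    (h1 : f.IsT c t (e i) (e j)) (h3 : f.IsT c τ (e k) (e l)) (ha : a = δ * τ * δ⁻¹) :
    ∃ r : ℕ, (a * t) ^ r * δ ∈ dstab (ln F e) := by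
  have htt := h1.mul_self h hij
  have haa : a * a = 1 := by
    rw [ha, show δ * τ * δ⁻¹ * (δ * τ * δ⁻¹) = δ * (τ * τ) * δ⁻¹ by group, h3.mul_self h hkl]
    group
  have hρ : a * t ∈ M := M.mul_mem (ha ▸ M.mul_mem (M.mul_mem hδ hτ) (M.inv_mem hδ)) ht
  have key : ∀ N : ℕ, 0 < N → (a * t) ^ N ∈ dstab (ln F e) →
      ∃ r : ℕ, (a * t) ^ r * δ ∈ dstab (ln F e) := fun N => by
    induction N using Nat.strong_induction_on with | _ N ih => ?_
    intro hN hN'
    rcases Nat.even_or_odd' N with ⟨r, rfl | rfl⟩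
    · exact ih r (by omega) (by omega) (mono_of_conj h h2 G hO hs h9 (M.pow_mem hρ r) hij h1
        (dihedral_conj haa htt r ▸ mul_mem hN' ht'))
    · refine ⟨r, mono_of_conj h h2 G hO hs h9 (M.mul_mem (M.pow_mem hρ r) hδ) hkl h3 ?_⟩
      have h4 : (a * t) ^ r * δ * τ * ((a * t) ^ r * δ)⁻¹ = (a * t) ^ (2 * r + 1) * t := by
        rw [pow_succ', mul_assoc (a * t), ← dihedral_conj haa htt,
          show (a * t) ^ r * δ * τ * ((a * t) ^ r * δ)⁻¹ =
            (a * t) ^ r * (δ * τ * δ⁻¹) * ((a * t) ^ r)⁻¹ by group, ← ha,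
          ← mul_assoc, ← mul_assoc, ← pow_succ', pow_succ, mul_assoc _ _ t, mul_assoc a, htt,
          mul_one]
      exact h4 ▸ mul_mem hN' ht'
  have : Finite (V ≃ₗ[F] V) := Finite.of_injective (fun g : V ≃ₗ[F] V => (g : V → V))
    DFunLike.coe_injective
  exact key _ (orderOf_pos (a * t)) (by rw [pow_orderOf_eq_one]; exact one_mem _)

theorem exists_mem_plane [Finite V] {δ : V ≃ₗ[F] V} (hδ : δ ∈ M) (hn : δ ∉ dstab (ln F e))
    {x y : V} (h1 : f.IsT c δ x y) {i j k l : ι} (hij : i ≠ j) (hkl : k ≠ l) (hik : i ≠ k)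
    (hil : i ≠ l) (hjk : j ≠ k) (hjl : j ≠ l) : ∃ z ∈ Submodule.span F {x, y}, z ≠ 0 ∧
      ∀ s, s ∉ [i, j, k, l] → f.co c (e s) z = 0 := by
  classical
  obtain ⟨t, ht, ht', h3⟩ := G.t i j hij
  obtain ⟨τ, hτ, -, h4⟩ := G.t k l hkl
  obtain ⟨r, hr⟩ := exists_pow_mono h h2 G hO hs h9 hδ ht hτ hij hkl ht' h3 h4 rfl
  set Y := Submodule.span F {e i, e j} ⊔ (Submodule.span F {e k, e l}).map (δ : V →ₗ[F] V)
  have hY : ∀ (r : ℕ) v, ((δ * τ * δ⁻¹ * t) ^ r) v - v ∈ Y := fun r => by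
    induction r with
    | zero => simp
    | succ r ih =>
      intro v
      have h5 := (h4.conj (hO hδ)).sub_mem (t v)
      rw [← LinearEquiv.coe_coe δ, ← Set.image_pair, ← Submodule.map_span] at h5
      have := Y.add_mem (Y.add_mem (ih ((δ * τ * δ⁻¹ * t) v)) (Submodule.mem_sup_right h5))
        (Submodule.mem_sup_left (h3.sub_mem v))
      rw [pow_succ, LinearEquiv.mul_apply]
      convert this using 1
      rw [LinearEquiv.mul_apply _ t]; abel
  have hz : ∀ s, s ∉ [i, j, k, l] → ∀ u ∈ Submodule.span F {e i, e j},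
      ∀ w ∈ Submodule.span F {e k, e l}, f.co c (e s) (u + w) = 0 := fun s hs' u hu w hw => by
    simp only [List.mem_cons, List.not_mem_nil, or_false, not_or] at hs'
    obtain ⟨a, b, rfl⟩ := Submodule.mem_span_pair.1 hu
    obtain ⟨a', b', rfl⟩ := Submodule.mem_span_pair.1 hw
    simp [h.co_ne, hs']
  have h5 := h.card_le_fixed hr (Finset.univ.filter (· ∉ [i, j, k, l])) x y fun s _ => by
    obtain ⟨u, hu, _, ⟨w, hw, rfl⟩, h6⟩ := Submodule.mem_sup.1 (hY r (δ (e s)))
    refine ⟨(δ (e s) - e s) + (δ w - w), add_mem (h1.sub_mem _) (h1.sub_mem _), fun r' hr' => ?_⟩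
    rw [LinearEquiv.mul_apply, ← sub_eq_zero, ← map_sub, ← neg_eq_zero, ← map_neg,
      ← hz r' (Finset.mem_filter.1 hr').2 u hu w hw]
    congr 1
    rw [LinearEquiv.coe_coe] at h6
    linear_combination (norm := module) -h6
  obtain ⟨s, hs'⟩ : ((Finset.univ.filter (· ∉ [i, j, k, l])).filter
      fun s => ((δ * τ * δ⁻¹ * t) ^ r * δ) (e s) = e s).Nonempty := by
    have h6 := Finset.card_filter_add_card_filter_not (s := Finset.univ) (· ∈ [i, j, k, l])
    have h7 : (Finset.univ.filter (· ∈ [i, j, k, l])).card ≤ 4 :=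
      (Finset.card_le_card fun s hs => by simpa using hs).trans [i, j, k, l].toFinset_card_le
    rw [Finset.card_univ] at h6
    exact Finset.card_pos.1 (by omega)
  obtain ⟨u, hu, _, ⟨w, hw, rfl⟩, h6⟩ := Submodule.mem_sup.1 (hY r (δ (e s)))
  rw [← LinearEquiv.mul_apply, (Finset.mem_filter.1 hs').2, LinearEquiv.coe_coe] at h6
  refine ⟨u + w, ?_, fun h7 => hn (hs δ hδ s s 1 ?_), fun s' h7 => hz s' h7 u hu w hw⟩
  · have := sub_mem (neg_mem (h1.sub_mem (e s))) (h1.sub_mem w)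
    convert this using 1
    linear_combination (norm := module) h6
  · obtain ⟨a, b, rfl⟩ := Submodule.mem_span_pair.1 hu
    obtain ⟨a', b', rfl⟩ := Submodule.mem_span_pair.1 hw
    have e1 := congrArg (f.co c (e i)) h7
    have e2 := congrArg (f.co c (e j)) h7
    have e3 := congrArg (f.co c (e k)) h7
    have e4 := congrArg (f.co c (e l)) h7
    simp [h.co_self, h.co_ne, hij, hkl, hik, hil, hjk, hjl, hij.symm, hkl.symm, hik.symm, hil.symm,
      hjk.symm, hjl.symm] at e1 e2 e3 e4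
    rw [e1, e2, e3, e4] at h6
    simp only [zero_smul, add_zero, map_zero] at h6
    rw [one_smul, ← sub_eq_zero.1 h6.symm]

theorem le_dstab_of_star [Finite V] : M ≤ dstab (ln F e) := by
  classical
  intro g hg
  by_contra hn
  have ex := fun (l : List ι) (hl : l.length < 9) =>
    exists_notMem_of_lt l (by rw [Nat.card_eq_fintype_card]; omega)
  obtain ⟨i, -⟩ := ex [] (by simp)
  obtain ⟨j, n1⟩ := ex [i] (by simp)
  obtain ⟨k, n2⟩ := ex [i, j] (by simp)
  obtain ⟨l, n3⟩ := ex [i, j, k] (by simp)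
  obtain ⟨i', n4⟩ := ex [i, j, k, l] (by simp)
  obtain ⟨j', n5⟩ := ex [i, j, k, l, i'] (by simp)
  obtain ⟨k', n6⟩ := ex [i, j, k, l, i', j'] (by simp)
  obtain ⟨l', n7⟩ := ex [i, j, k, l, i', j', k'] (by simp)
  obtain ⟨s, n8⟩ := ex [i, j, k, l, i', j', k', l'] (by simp)
  simp only [List.mem_cons, List.not_mem_nil, or_false, not_or] at n1 n2 n3 n4 n5 n6 n7 n8
  obtain ⟨t, ht, -, h3⟩ := G.t i j (Ne.symm n1)
  have hδ := M.mul_mem (M.mul_mem hg ht) (M.inv_mem hg)
  have hδ' := mt (mono_of_conj h h2 G hO hs h9 hg (Ne.symm n1) h3) hn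
  have h1 := h3.conj (hO hg)
  obtain ⟨z, hz, hz0, h4⟩ := exists_mem_plane h h2 G hO hs h9 hδ hδ' h1 (Ne.symm n1)
    (Ne.symm n3.2.2) (Ne.symm n2.1) (Ne.symm n3.1) (Ne.symm n2.2) (Ne.symm n3.2.1)
  obtain ⟨z', hz', hz0', h4'⟩ := exists_mem_plane h h2 G hO hs h9 hδ hδ' h1 (Ne.symm n5.2.2.2.2)
    (Ne.symm n7.2.2.2.2.2.2) (Ne.symm n6.2.2.2.2.1) (Ne.symm n7.2.2.2.2.1) (Ne.symm n6.2.2.2.2.2)
    (Ne.symm n7.2.2.2.2.2.1)
  have h5 := span_pair_le_of hz hz' hz0 fun e0 => by
    obtain ⟨b, rfl⟩ := Submodule.mem_span_singleton.1 e0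
    refine hz0' (h.ext fun r => ?_)
    by_cases hr : r ∈ [i', j', k', l']
    · rw [map_smul, h4 r (by grind), smul_zero, map_zero]
    · rw [h4' r hr, map_zero]
  have h6 : ∀ p ∈ Submodule.span F {g (e i), g (e j)}, f.co c p (e s) = 0 := fun p hp => by
    obtain ⟨a, b, rfl⟩ := Submodule.mem_span_pair.1 (h5 hp)
    refine h.co_symm ?_
    rw [map_add, map_smul, map_smul, h4 s (by grind), h4' s (by grind)]; simp
  exact hδ' (hs _ hδ s s 1 (by
    rw [h1, h6 _ (Submodule.subset_span (by simp)), h6 _ (Submodule.subset_span (by simp))]; simp))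

end B

/-- An overgroup of the monomial group contains a non-monomial element fixing a line. -/
theorem Fr.exists_not_mono [Fintype ι] [FiniteDimensional F V] [Finite V]
    {M : Subgroup (V ≃ₗ[F] V)} (h : f.Fr e c) (h2 : (2 : F) ≠ 0) (G : f.FGen e c M) (hO : M ≤ f.O)
    (h9 : 9 ≤ Fintype.card ι) (hM : ¬ M ≤ dstab (ln F e)) :
    ∃ m ∈ M, m ∉ dstab (ln F e) ∧ ∃ i j, ∃ a : F, m (e i) = a • e j := by
  by_contra! H
  exact hM (le_dstab_of_star h h2 G hO (fun m hm i j a h1 => by_contra fun h3 =>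
    H m hm h3 i j a h1) h9)

end Form

end CL.Witt
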