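import Mathlib
import Cfsg.Agent.CLAS.Ref6
import Cfsg.Agent.CLAS.PGL2Max

/-!
Groups generated by reflections in a three-dimensional orthogonal space, via Dickson's theorem.
-/

set_option autoImplicit false
set_option linter.unusedSectionVars false

namespace CL.Dk

open Matrix CL.PGL2
open scoped MatrixGroups

theorem orderOf_le_three_of_isPoly {G : Type*} [Group G] (h : IsPoly G) {N : Subgroup G}
    (hN : N.index = 2) {g : G} (hg : g ∈ N) : orderOf g ≤ 3 := by
  rcases h with e | ⟨⟨e⟩⟩ | ⟨⟨e⟩⟩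
  · rcases pow_eq_one_of_equiv_alt_four e g with h | h <;>
      exact (orderOf_le_of_pow_eq_one (by decide) h).trans (by decide)
  · have h1 := Equiv.Perm.eq_alternatingGroup_of_index_eq_two (G := N.map (e : G →* Equiv.Perm (Fin 4)))
      (by rw [Subgroup.index_map_equiv, hN])
    have h2 : Equiv.Perm.sign (e g) = 1 :=
      Equiv.Perm.mem_alternatingGroup.1 (h1 ▸ Subgroup.mem_map_of_mem _ hg)
    have key : ∀ σ : Equiv.Perm (Fin 4), Equiv.Perm.sign σ = 1 → σ ^ 2 = 1 ∨ σ ^ 3 = 1 := by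
      decide +kernel
    rw [← e.orderOf_eq]
    rcases key _ h2 with h | h <;> exact (orderOf_le_of_pow_eq_one (by decide) h).trans (by decide)
  · have : IsSimpleGroup G := e.isSimpleGroup
    rcases (Subgroup.normal_of_index_eq_two hN).eq_bot_or_eq_top with h | h
    · rw [h, Subgroup.mem_bot] at hg; simp [hg]
    · simp [h] at hN

variable {F : Type*} [Field F] [Finite F]

theorem orderOf_le_of_pslIn (h2 : (2 : F) ≠ 0) {g : PGL(2, F)} (hg : g ∈ pslIn F) :
    orderOf g ≤ Nat.card F := by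
  obtain ⟨p, hp⟩ := CharP.exists F
  have h3 := Witt.Form.three_le_card h2
  have := orderOf_dvd_pslIn p hg
  rw [gcd_two_of_odd (odd_card_of_two_ne_zero h2)] at this
  rcases this with h | h | h
  · exact Nat.le_of_dvd (by omega) (h.trans (char_dvd_card p))
  all_goals have := Nat.le_of_dvd (by omega) h; omega

/-- The order bounds left over when a subgroup of `PGL(2, q)` does not contain `PSL(2, q)`. -/
def Bd (F : Type*) (N N' : ℕ) : Prop :=
  N = 5 ∧ N' = 3 ∨ N = N' + 1 ∧ ∃ m, 2 ≤ m ∧ N' ^ m = Nat.card F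

theorem three_inv (h2 : (2 : F) ≠ 0) (S : Subgroup PGL(2, F)) {a b c : PGL(2, F)} (ha : a ∈ S)
    (hb : b ∈ S) (hc : c ∈ S) (ta : tau a = 0) (tb : tau b = 0) (tc : tau c = 0)
    (hab : tau (a * b) ≠ 0) (hbc : tau (b * c) ≠ 0) (habc : tau (a * b * c) ≠ 0) :
    pslIn F ≤ S ∨ ∃ N N', Bd F N N' ∧ (∀ g ∈ S, orderOf g ≤ N) ∧
      ∀ S₀ : Subgroup PGL(2, F), S₀.relIndex S = 2 → ∀ g ∈ S, g ∈ S₀ → orderOf g ≤ N' := by
  obtain ⟨p, hp⟩ := CharP.exists F
  have : Fact p.Prime := ⟨CharP.char_is_prime F p⟩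
  have h4 : (4 : F) ≠ 0 := by rw [show (4 : F) = 2 * 2 by norm_num]; exact mul_ne_zero h2 h2
  have sq : ∀ g : PGL(2, F), tau g = 0 → g * g = 1 := fun g h =>
    (mul_self_eq_one_iff_tau fun e => h4 (by rw [← h, e, tau_one])).2 h
  have poly : IsPoly S → ∃ N N', Bd F N N' ∧ (∀ g ∈ S, orderOf g ≤ N) ∧
      ∀ S₀ : Subgroup PGL(2, F), S₀.relIndex S = 2 → ∀ g ∈ S, g ∈ S₀ → orderOf g ≤ N' := fun h =>
    ⟨5, 3, Or.inl ⟨rfl, rfl⟩, fun g hg => by
      simpa using orderOf_le_five_of_isPoly h ⟨g, hg⟩, fun S₀ h0 g hg hg' => by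
      simpa using orderOf_le_three_of_isPoly h h0 (g := ⟨g, hg⟩) hg'⟩
  rcases dickson_sub (algebraMap F (AlgebraicClosure F)) p S with ⟨x, h⟩ | ⟨x, y, hxy, -, h⟩ | h |
    h | ⟨k, h, h3, hk⟩
  · obtain ⟨g, rfl⟩ := exists_smul_inf x
    have key : ∀ s ∈ S, tau s = 0 → ∃ t, g⁻¹ * s * g = aff (-1) t := fun s hs ht => by
      obtain ⟨u, t, e⟩ := exists_aff_of_smul_inf (g := g⁻¹ * s * g)
        (by rw [mul_smul, mul_smul, h hs, inv_smul_smul])
      rw [← tau_conj' g, e, aff, tau_ofMat] at ht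
      have : u = -1 := Units.ext (by simpa [add_eq_zero_iff_eq_neg] using ht)
      exact ⟨t, this ▸ e⟩
    obtain ⟨t1, e1⟩ := key a ha ta
    obtain ⟨t2, e2⟩ := key b hb tb
    obtain ⟨t3, e3⟩ := key c hc tc
    refine absurd ?_ habc
    rw [← tau_conj' g, show g⁻¹ * (a * b * c) * g = (g⁻¹ * a * g) * (g⁻¹ * b * g) * (g⁻¹ * c * g) by
      group, e1, e2, e3, aff_mul, aff_mul, aff, tau_ofMat]
    simp
  · have hρ := mapG_injective (algebraMap F (AlgebraicClosure F))
    have key : ∀ s ∈ S, tau s ≠ 0 → s ∈ pairT (mapG (algebraMap F (AlgebraicClosure F))) x y :=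
      fun s hs ht => by
        by_cases h1 : s = 1
        · exact h1 ▸ one_mem _
        · exact mem_pairT_of_mul_self_ne_one hρ hxy (h hs)
            (mt (mul_self_eq_one_iff_tau h1).1 ht)
    have k1 := key _ (S.mul_mem ha hb) hab
    have k2 := key _ (S.mul_mem hb hc) hbc
    have k3 := key _ (S.mul_mem (S.mul_mem ha hb) hc) habc
    have mc := (mul_mem_cancel_left k1).1 k3
    have mb := (mul_mem_cancel_right mc).1 k2
    have : IsCyclic _ := isCyclic_pairT hρ hxy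
    have h5 : b * c = c * b := congrArg Subtype.val
      (IsCyclic.commGroup.mul_comm (⟨b, mb⟩ : pairT _ x y) ⟨c, mc⟩)
    have h6 : b * c = 1 := by_contra fun h6 => hbc ((mul_self_eq_one_iff_tau h6).1 (by
      rw [mul_assoc, ← mul_assoc c, ← h5, mul_assoc, sq c tc, mul_one, sq b tb]))
    exact absurd (by rw [mul_assoc, h6, mul_one, ta]) habc
  · exact Or.inr (poly h.1)
  · exact Or.inr (poly (Or.inr (Or.inr h.1)))
  rcases surjective_or_exists_pow k.subtype with hs | ⟨m, hm, hm'⟩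
  · left
    rcases hk with rfl | ⟨-, rfl⟩
    · rw [pglOf_eq_top hs, cjs_of_normal]; exact le_top
    · rw [pslOf_eq_pslIn hs, cjs_of_normal]
  have h2k : (2 : k) ≠ 0 := fun e => h2 (by rw [← map_ofNat k.subtype 2, e, map_zero])
  have hps : ∀ g ∈ cjs h (pslOf k.subtype), orderOf g ≤ Nat.card k := fun g hg => by
    obtain ⟨_, ⟨g', hg', rfl⟩, rfl⟩ := hg
    rw [MulEquiv.toMonoidHom_eq_coe, MonoidHom.coe_coe, MulEquiv.orderOf_eq,
      orderOf_injective _ (mapG_injective _)]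
    exact orderOf_le_of_pslIn h2k hg'
  refine Or.inr ⟨_, Nat.card k, Or.inr ⟨rfl, m, hm, hm'⟩, ?_⟩
  rcases hk with rfl | ⟨-, rfl⟩
  · refine ⟨fun g hg => ?_, fun S₀ h0 g hg hg' => ?_⟩
    · have : CharP k p := k.subtype.charP_iff_charP p |>.2 hp
      rcases orderOf_dvd_of_mem_cjs_pglOf p hg with h | h | h
      · exact (Nat.le_of_dvd (by omega) (h.trans (char_dvd_card (F := k) p))).trans (by omega)
      all_goals have := Nat.le_of_dvd (by omega) h; omega
    · let φ := (MulAut.conj h).toMonoidHom.comp (mapG k.subtype)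
      have e : φ.range = cjs h (pglOf k.subtype) := (MonoidHom.map_range _ _).symm
      rw [← e, ← Subgroup.index_comap] at h0
      have : CharP k p := k.subtype.charP_iff_charP p |>.2 hp
      have h5 := pslIn_le_of_index_two p (by
        rintro rfl; exact h2 (CharP.cast_eq_zero F 2)) h0
      have h6 := Subgroup.relIndex_mul_index h5
      rw [h0, index_pslIn_of_odd (odd_card_of_two_ne_zero h2k)] at h6
      obtain ⟨g', rfl⟩ := e ▸ hg
      exact hps _ ⟨_, ⟨g', Subgroup.relIndex_eq_one.1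
        (Nat.eq_of_mul_eq_mul_right two_pos (h6.trans (one_mul 2).symm)) hg', rfl⟩, rfl⟩
  · exact ⟨fun g hg => (hps g hg).trans (by omega), fun _ _ g hg _ => hps g hg⟩

theorem tau_of_le_five {g : PGL(2, F)} (h1 : g ≠ 1) (h : orderOf g ≤ 5) :
    tau g = 0 ∨ tau g = 1 ∨ tau g = 2 ∨ tau g ^ 2 - 3 * tau g + 1 = 0 := by
  have h0 := orderOf_pos g
  have h2 := pow_orderOf_eq_one g
  have h3 := mt orderOf_eq_one_iff.1 h1
  interval_cases orderOf g
  · exact absurd rfl h3
  · exact Or.inl ((sq_eq_one_iff_tau h1).1 h2)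
  · exact Or.inr (Or.inl ((cube_eq_one_iff_tau h1).1 h2))
  · exact ((pow_four_eq_one_iff_tau h1).1 h2).imp_right fun h => Or.inr (Or.inl h)
  · exact Or.inr (Or.inr (Or.inr ((pow_five_eq_one_iff_tau h1).1 h2)))

theorem tau_of_le_three {g : PGL(2, F)} (h1 : g ≠ 1) (h : orderOf g ≤ 3) :
    tau g = 0 ∨ tau g = 1 := by
  have h0 := orderOf_pos g
  have h2 := pow_orderOf_eq_one g
  have h3 := mt orderOf_eq_one_iff.1 h1
  interval_cases orderOf g
  · exact absurd rfl h3
  · exact Or.inl ((sq_eq_one_iff_tau h1).1 h2)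
  · exact Or.inr ((cube_eq_one_iff_tau h1).1 h2)

theorem eq_of_pairT {K : Type*} [Field K] (φ : F →+* K) {x y : P1 K} (hxy : x ≠ y)
    {g g' : PGL(2, F)} (hg : g ∈ pairT (mapG φ) x y) (hg' : g' ∈ pairT (mapG φ) x y)
    (h : tau g = 0) (h' : tau g' = 0) : g = g' := by
  obtain ⟨k, rfl, rfl⟩ := exists_smul_std_two hxy
  have key : ∀ s ∈ pairT (mapG φ) (k • inf) (k • pt 0), tau s = 0 →
      k⁻¹ * mapG φ s * k = aff (-1) 0 := fun s hs ht => by
    obtain ⟨u, e⟩ := exists_aff_zero (g := k⁻¹ * mapG φ s * k)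
      (by rw [mul_smul, mul_smul, (mem_pairT.1 hs).1, inv_smul_smul])
      (by rw [mul_smul, mul_smul, (mem_pairT.1 hs).2, inv_smul_smul])
    have h1 := tau_conj' k (mapG φ s)
    rw [tau_mapG, ht, e, aff, tau_ofMat] at h1
    have : u = -1 := Units.ext (by simpa [add_eq_zero_iff_eq_neg] using h1)
    exact this ▸ e
  simpa using mapG_injective φ (by simpa using (key g hg h).trans (key g' hg' h').symm)

end CL.Dk

namespace CL.Witt.Form

open Module Matrix CL.PGL2 CL.Dk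
open scoped MatrixGroups

variable {F : Type*} [Field F] [Finite F] {V : Type*} [AddCommGroup V] [Module F V]
  {f : Form (FormType.quad F) V} {K : Subgroup (V ≃ₗ[F] V)} {X : Submodule F V} {u u' w : V}

omit [Finite F] in
theorem qB_self (a : V) : f.B a a = 2 * f.q a := by
  rw [f.B_self_of_lift (a := f.q a) rfl]; simp [FormType.quad, two_mul]

omit [Finite F] in
theorem qB_comm (a b : V) : f.B a b = f.B b a := by rw [f.symm]; simp [FormType.quad]

variable (f X u u' w) in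
/-- A standard basis of a three-dimensional space. -/
structure O3 : Prop where
  h2 : (2 : F) ≠ 0
  hu : u ∈ X
  hu' : u' ∈ X
  hw : w ∈ X
  qu : f.q u = 0
  qu' : f.q u' = 0
  uu' : f.B u u' = 1
  uw : f.B u w = 0
  u'w : f.B u' w = 0
  qw : f.q w ≠ 0
  dec : ∀ a ∈ X, (2 * f.q w) • a =
    (2 * f.q w * f.B u' a) • u + (2 * f.q w * f.B u a) • u' + f.B w a • w

variable (f u u' w) in
/-- The model of a three-dimensional space by matrices of trace zero. -/
def kap (v : V) : Matrix (Fin 2) (Fin 2) F :=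
  !![f.B w v, 2 * f.B u v; 2 * f.q w * f.B u' v, -f.B w v]

theorem kap_smul (c : F) (v : V) : f.kap u u' w (c • v) = c • f.kap u u' w v := by
  ext i j; fin_cases i <;> fin_cases j <;> simp [kap] <;> ring

variable (f K X u u' w) in
/-- The image of `K` in `PGL(2, q)`. -/
def dS (b : Prop) : Subgroup PGL(2, F) :=
  let M : Submonoid PGL(2, F) :=
    { carrier := {g | ∃ m hm, g = ofMat m hm ∧ ∃ k ∈ K, ∃ ε : F, (ε = 1 ∨ b ∧ ε = -1) ∧
        (∀ v, k v - v ∈ X) ∧ ∀ v, f.kap u u' w (k v) * m = ε • (m * f.kap u u' w v)}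
      one_mem' := ⟨1, by simp, (ofMat_one _).symm, 1, one_mem _, 1, Or.inl rfl, by simp, by simp⟩
      mul_mem' := by
        rintro _ _ ⟨m, hm, rfl, k, hk, ε, h1, h2, h3⟩ ⟨m', hm', rfl, k', hk', ε', h1', h2', h3'⟩
        refine ⟨_, _, ofMat_mul _ _, k * k', mul_mem hk hk', ε * ε', by grind, fun v => ?_,
          fun v => ?_⟩
        · simpa using add_mem (h2 (k' v)) (h2' v)
        · rw [LinearEquiv.mul_apply, ← mul_assoc, h3, smul_mul_assoc, mul_assoc, h3',
            mul_smul_comm, smul_smul, mul_assoc] }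
  { M with
    inv_mem' := fun hg => Submonoid.powers_le (P := M).2 hg
      (mem_powers_iff_mem_zpowers.2 (inv_mem (Subgroup.mem_zpowers _))) }

theorem mem_dS {b : Prop} {m : Matrix (Fin 2) (Fin 2) F} {hm : m.det ≠ 0} :
    ofMat m hm ∈ f.dS K X u u' w b ↔ ∃ k ∈ K, ∃ ε : F, (ε = 1 ∨ b ∧ ε = -1) ∧
      (∀ v, k v - v ∈ X) ∧ ∀ v, f.kap u u' w (k v) * m = ε • (m * f.kap u u' w v) := by
  refine ⟨?_, fun h => ⟨m, hm, rfl, h⟩⟩
  rintro ⟨m', hm', e, k, hk, ε, h1, h2, h3⟩
  obtain ⟨c, rfl⟩ := (ofMat_eq_iff _ _).1 e.symm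
  exact ⟨k, hk, ε, h1, h2, fun v => by rw [mul_smul_comm, h3, smul_mul_assoc, smul_comm]⟩

variable (f u u' w) in
open Classical in
/-- The involution in `PGL(2, q)` attached to a vector. -/
noncomputable def io (v : V) : PGL(2, F) :=
  if h : (f.kap u u' w v).det ≠ 0 then ofMat _ h else 1

variable (f K X) in
/-- The reflections in `K` with centre in `X` have products of order at most `N`. -/
def Small (N : ℕ) : Prop :=
  (∀ y ∈ X, ∀ y' ∈ X, f.Rf K y → f.Rf K y' → y ∉ F ∙ y' → ∃ g : PGL(2, F), g ≠ 1 ∧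
    orderOf g ≤ N ∧ tau g * (f.q y * f.q y') = f.B y y' ^ 2) ∧
  ∀ t ∈ X, f.q t ≠ 0 → ∀ (A : Finset V) (m : ℕ), (∀ y ∈ A, y ∈ X ∧ f.B t y = 0 ∧ f.Rf K y) →
    (∀ y ∈ A, ∀ B ⊆ A, (∀ z ∈ B, z ∈ F ∙ y) → B.card ≤ m) → A.card ≤ m * N

namespace O3

variable (h : f.O3 X u u' w)
include h

theorem B_eq {a : V} (ha : a ∈ X) (v : V) : 2 * f.q w * f.B a v =
    f.B w a * f.B w v + 2 * f.q w * (f.B u' a * f.B u v + f.B u a * f.B u' v) := by
  have := congrArg (f.B · v) (h.dec a ha)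
  simp only [B_add_left, qB_smul_left] at this
  linear_combination this

theorem kap_inj {v v' : V} (hv : v - v' ∈ X) (e : f.kap u u' w v = f.kap u u' w v') : v = v' := by
  have h1 := h.dec _ hv
  have e1 : f.B w v = f.B w v' := congrFun (congrFun e 0) 0
  have e2 : 2 * f.B u v = 2 * f.B u v' := congrFun (congrFun e 0) 1
  have e3 : 2 * f.q w * f.B u' v = 2 * f.q w * f.B u' v' := congrFun (congrFun e 1) 0
  rw [map_sub, map_sub, map_sub, e1, mul_left_cancel₀ h.h2 e2, mul_sub, e3] at h1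
  simpa [h.h2, h.qw, sub_eq_zero] using h1

theorem det_kap {a : V} (ha : a ∈ X) : (f.kap u u' w a).det = -(4 * f.q w * f.q a) := by
  have := h.B_eq ha a
  rw [qB_self] at this
  simp only [kap, det_fin_two_of]
  linear_combination this

theorem c4 : 4 * f.q w ≠ 0 := by
  rw [show (4 : F) = 2 * 2 by norm_num]; simp [h.h2, h.qw]

theorem det_ne {a : V} (ha : a ∈ X) (hq : f.q a ≠ 0) : (f.kap u u' w a).det ≠ 0 := by
  rw [h.det_kap ha]; simp only [ne_eq, neg_eq_zero]; exact mul_ne_zero h.c4 hq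

theorem io_eq {a : V} (ha : a ∈ X) (hq : f.q a ≠ 0) :
    f.io u u' w a = ofMat _ (h.det_ne ha hq) := dif_pos _

theorem tau_io {a : V} (ha : a ∈ X) (hq : f.q a ≠ 0) : tau (f.io u u' w a) = 0 := by
  rw [h.io_eq ha hq, tau_ofMat]; simp [kap]

theorem tau_io_mul {a b : V} (ha : a ∈ X) (hq : f.q a ≠ 0) (hb : b ∈ X) (hq' : f.q b ≠ 0) :
    tau (f.io u u' w a * f.io u u' w b) * (f.q a * f.q b) = f.B a b ^ 2 := by
  have e : (f.kap u u' w a * f.kap u u' w b).trace = 4 * f.q w * f.B a b := by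
    simp only [kap, trace_fin_two, mul_fin_two, of_apply, cons_val', cons_val_zero, cons_val_one,
      cons_val_fin_one]
    linear_combination -2 * h.B_eq ha b
  rw [h.io_eq ha hq, h.io_eq hb hq', ofMat_mul, tau_ofMat, det_mul, h.det_kap ha, h.det_kap hb, e]
  have := h.c4
  generalize 4 * f.q w = d at *
  field_simp

theorem mem_of_io {a b : V} (ha : a ∈ X) (hq : f.q a ≠ 0) (hb : b ∈ X) (hq' : f.q b ≠ 0)
    (e : f.io u u' w a = f.io u u' w b) : b ∈ F ∙ a := by
  rw [h.io_eq ha hq, h.io_eq hb hq', ofMat_eq_iff] at e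
  obtain ⟨c, hc⟩ := e
  exact Submodule.mem_span_singleton.2
    ⟨c, h.kap_inj (sub_mem (X.smul_mem _ ha) hb) (by rw [kap_smul, hc])⟩

theorem kap_rf {a : V} (ha : a ∈ X) (hq : f.q a ≠ 0) (v : V) :
    f.kap u u' w (f.rf a v) * f.kap u u' w a = (-1 : F) • (f.kap u u' w a * f.kap u u' w v) := by
  have e1 := h.B_eq ha v
  have e2 := h.B_eq ha a
  rw [qB_self] at e2
  obtain ⟨s, hs⟩ : ∃ s, s = (f.q a)⁻¹ * f.B a v := ⟨_, rfl⟩
  have e3 : s * f.q a = f.B a v := by rw [hs]; field_simp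
  ext i j
  fin_cases i <;> fin_cases j <;> simp [kap, rf_apply, ← hs]
  · linear_combination -2 * e1 + s * e2 - 4 * f.q w * e3
  · ring
  · ring
  · linear_combination -2 * e1 + s * e2 - 4 * f.q w * e3

theorem io_mem {a : V} (ha : a ∈ X) (hq : f.Rf K a) : f.io u u' w a ∈ f.dS K X u u' w True := by
  rw [h.io_eq ha hq.1, mem_dS]
  exact ⟨_, hq.2, -1, by simp, fun v => by simpa [rf_apply] using X.smul_mem _ ha,
    h.kap_rf ha hq.1⟩

theorem io_mul_mem {a b : V} (ha : a ∈ X) (hq : f.Rf K a) (hb : b ∈ X) (hq' : f.Rf K b) :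
    f.io u u' w a * f.io u u' w b ∈ f.dS K X u u' w False := by
  rw [h.io_eq ha hq.1, h.io_eq hb hq'.1, ofMat_mul, mem_dS]
  refine ⟨_, mul_mem hq.2 hq'.2, 1, by simp, fun v => ?_, fun v => ?_⟩
  · have := sub_mem (neg_mem (X.smul_mem ((f.q b)⁻¹ * f.B b v) hb))
      (X.smul_mem ((f.q a)⁻¹ * f.B a (f.rf b v)) ha)
    rw [LinearEquiv.mul_apply, rf_apply a]
    convert this using 1
    rw [rf_apply b v]; abel
  · rw [LinearEquiv.mul_apply, ← mul_assoc, h.kap_rf ha hq.1, smul_mul_assoc, mul_assoc,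
      h.kap_rf hb hq'.1]
    simp [mul_assoc]

theorem mem_of_psl (hS : pslIn F ≤ f.dS K X u u' w True) {m : Matrix (Fin 2) (Fin 2) F}
    (hm : m.det = 1) {e : V ≃ₗ[F] V} (h1 : ∀ v, e v - v ∈ X)
    (h2 : ∀ v, f.kap u u' w (e v) * (m * m) = m * m * f.kap u u' w v) : e ∈ K := by
  obtain ⟨k, hk, ε, h3, h4, h5⟩ := mem_dS.1 (hS (ofMat_mem_pslIn_of_det (by simp [hm]) hm))
  refine (LinearEquiv.ext fun v => h.kap_inj ?_ ?_ : k * k = e) ▸ mul_mem hk hk
  · simpa using sub_mem (add_mem (h4 (k v)) (h4 v)) (h1 v)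
  · refine (isUnit_iff_isUnit_det (m * m)).2 (by simp [hm]) |>.mul_right_cancel ?_
    rw [h2, LinearEquiv.mul_apply, ← mul_assoc, h5, smul_mul_assoc, mul_assoc, h5,
      mul_smul_comm, smul_smul, show ε * ε = 1 by grind, one_smul, mul_assoc]

theorem full [FiniteDimensional F V] (hX : (f.restrict X).Nondeg)
    (hS : pslIn F ≤ f.dS K X u u' w True) : f.Full K X := by
  have h2 := h.h2
  have hw := h.qw
  have wu : f.B w u = 0 := f.B_eq_zero_symm h.uw
  have wu' : f.B w u' = 0 := f.B_eq_zero_symm h.u'w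
  have u'u : f.B u' u = 1 := (qB_comm _ _).trans h.uu'
  have key : ∀ x ∈ X, f.q x = 0 → f.B x w = 0 → ∀ c : F, ∀ m : Matrix (Fin 2) (Fin 2) F,
      m.det = 1 → (∀ v, f.kap u u' w (v + f.B x v • c • w - (c * f.B w v +
        c ^ 2 * f.q w * f.B x v) • x) * (m * m) = m * m * f.kap u u' w v) → f.Es K x (c • w) :=
    fun x hx hq hxw c m hm H => by
      have h1 : f.EichOK x (c • w) (c ^ 2 * f.q w) :=
        ⟨hq, by simp [hxw], by rw [f.q_smul]; simp [FormType.quad, sq]⟩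
      refine ⟨_, h1, h.mem_of_psl hS hm (fun v => ?_) fun v => by
        rw [quad_ei_apply h1, qB_smul_left, H]⟩
      rw [quad_ei_apply h1, add_sub_assoc, add_sub_cancel_left]
      exact sub_mem (X.smul_mem _ (X.smul_mem _ h.hw)) (X.smul_mem _ hx)
  refine full_of_hyp hX h.hu h.hu' h.qu h.qu' (by simp [h.uu']) (fun v a ha hv => ?_)
    fun v a ha hv => ?_
  · refine Es.quad_mem ?_ ha
    have e := h.dec v hv
    rw [← eq_inv_smul_iff₀ (by simp [h2, hw]), ha.huv, mul_zero, zero_smul, add_zero, smul_add,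
      smul_smul, smul_smul] at e
    rw [e]
    generalize (2 * f.q w)⁻¹ * f.B w v = c
    refine (Es.quad_self h.qu _).add (key u h.hu h.qu h.uw c
      !![1, 0; -(c * f.q w / 2), 1] (by simp) fun x => ?_)
    ext i j
    fin_cases i <;> fin_cases j <;>
      simp [kap, qB_self, h.uw, h.u'w, wu, u'u, h.qu] <;> field_simp <;> ring
  · refine Es.quad_mem ?_ ha
    have e := h.dec v hv
    rw [← eq_inv_smul_iff₀ (by simp [h2, hw]), ha.huv, mul_zero, zero_smul, zero_add, smul_add,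
      smul_smul, smul_smul] at e
    rw [e]
    generalize (2 * f.q w)⁻¹ * f.B w v = c
    refine (Es.quad_self h.qu' _).add (key u' h.hu' h.qu' h.u'w c
      !![1, c / 2; 0, 1] (by simp) fun x => ?_)
    ext i j
    fin_cases i <;> fin_cases j <;>
      simp [kap, qB_self, h.uw, h.u'w, wu', h.uu', h.qu'] <;> field_simp <;> ring

theorem small {S : Subgroup PGL(2, F)} {N : ℕ} (hN : ∀ g ∈ S, orderOf g ≤ N)
    (hS : ∀ a ∈ X, ∀ b ∈ X, f.Rf K a → f.Rf K b → f.io u u' w a * f.io u u' w b ∈ S) :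
    f.Small K X N := by
  classical
  have h4 : (4 : F) ≠ 0 := left_ne_zero_of_mul h.c4
  have ne : ∀ a ∈ X, f.q a ≠ 0 → f.io u u' w a ≠ 1 := fun a ha hq e =>
    h4 (by rw [← h.tau_io ha hq, e, tau_one])
  have sq : ∀ a ∈ X, f.q a ≠ 0 → f.io u u' w a * f.io u u' w a = 1 := fun a ha hq =>
    (mul_self_eq_one_iff_tau (ne a ha hq)).2 (h.tau_io ha hq)
  refine ⟨fun y hy y' hy' r r' hn => ⟨_, fun e => hn (h.mem_of_io hy' r'.1 hy r.1 ?_),
    hN _ (hS y hy y' hy' r r'), h.tau_io_mul hy r.1 hy' r'.1⟩, fun t ht qt A m hA hm => ?_⟩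
  · exact mul_left_cancel (e.trans (sq y hy r.1).symm)
  obtain ⟨p, hp⟩ := CharP.exists F
  have : Fact p.Prime := ⟨CharP.char_is_prime F p⟩
  have hρ := mapG_injective (algebraMap F (AlgebraicClosure F))
  obtain ⟨x, x', hx, hT⟩ := exists_mem_pairT_of_not_dvd (algebraMap F (AlgebraicClosure F)) p
    (ne t ht qt) fun hd => by
      rw [orderOf_eq_prime (p := 2) (by rw [pow_two, sq t ht qt]) (ne t ht qt),
        Nat.prime_dvd_prime_iff_eq this.out Nat.prime_two] at hd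
      subst hd
      exact h.h2 (CharP.cast_eq_zero F 2)
  have k1 : ∀ y ∈ A, f.io u u' w y ≠ f.io u u' w t := fun y hy e => by
    obtain ⟨c, rfl⟩ := Submodule.mem_span_singleton.1
      (h.mem_of_io ht qt (hA y hy).1 (hA y hy).2.2.1 e.symm)
    have h1 := (hA _ hy).2.1
    have h3 := (hA _ hy).2.2.ne_zero
    simp only [map_smul, qB_self, smul_eq_mul, mul_eq_zero, h.h2, qt, or_false] at h1
    exact h3 (by rw [h1, zero_smul])
  have k2 : ∀ y ∈ A, f.io u u' w y ∈ pairN _ x x' ∧ f.io u u' w y ∉ pairT _ x x' := fun y hy => by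
    obtain ⟨h1, h3, h5⟩ := hA y hy
    refine ⟨mem_pairN_of_commute hρ hx hT (ne t ht qt) ?_, fun h6 => k1 y hy
      (eq_of_pairT _ hx h6 hT (h.tau_io h1 h5.1) (h.tau_io ht qt))⟩
    have h6 := h.tau_io_mul h1 h5.1 ht qt
    rw [f.B_eq_zero_symm h3, zero_pow two_ne_zero, mul_eq_zero_iff_right (mul_ne_zero h5.1 qt),
      ← mul_self_eq_one_iff_tau fun e => k1 y hy (mul_right_cancel (e.trans (sq t ht qt).symm))]
      at h6
    rw [← inv_eq_of_mul_eq_one_right h6, _root_.mul_inv_rev,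
      inv_eq_of_mul_eq_one_right (sq t ht qt), inv_eq_of_mul_eq_one_right (sq y h1 h5.1)]
  rcases A.eq_empty_or_nonempty with rfl | ⟨a, ha⟩
  · simp
  have := isCyclic_pairT hρ hx
  have := Subgroup.isCyclic_of_le (inf_le_left (a := pairT (mapG (algebraMap F
    (AlgebraicClosure F))) x x') (b := S))
  obtain ⟨g, hg⟩ := IsCyclic.exists_ofOrder_eq_natCard (α := ↥(pairT (mapG (algebraMap F
    (AlgebraicClosure F))) x x' ⊓ S))
  refine (Finset.card_le_mul_card_image (f := fun y => f.io u u' w a * f.io u u' w y) A m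
    fun g hg => ?_).trans (Nat.mul_le_mul_left m ?_)
  · obtain ⟨y, hy, rfl⟩ := Finset.mem_image.1 hg
    exact hm y hy _ (Finset.filter_subset _ _) fun z hz => h.mem_of_io (hA y hy).1
      (hA y hy).2.2.1 (hA z (Finset.mem_filter.1 hz).1).1 (hA z (Finset.mem_filter.1 hz).1).2.2.1
      (mul_left_cancel (Finset.mem_filter.1 hz).2).symm
  · refine le_trans ?_ (hg ▸ (Subgroup.orderOf_coe g).symm ▸ hN g g.2.2)
    rw [← Set.ncard_coe_finset, ← SetLike.coe_sort_coe, Nat.card_coe_set_eq]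
    refine Set.ncard_le_ncard fun g hg => ?_
    obtain ⟨y, hy, rfl⟩ := Finset.mem_image.1 hg
    exact ⟨mul_mem_pairT_of_not_mem (k2 a ha).1 (k2 a ha).2 (k2 y hy).1 (k2 y hy).2,
      hS a (hA a ha).1 y (hA y hy).1 (hA a ha).2.2 (hA y hy).2.2⟩

end O3

variable [FiniteDimensional F V]

theorem exists_O3 (h2 : (2 : F) ≠ 0) (hX : (f.restrict X).Nondeg) (h3 : finrank F X = 3) :
    ∃ u u' w, f.O3 X u u' w := by
  obtain ⟨u, hu, u', hu', qu, qu', uu'⟩ := quad_exists_hyp hX h3.ge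
  obtain ⟨w, hw, uw, u'w, qw⟩ := exists_perp_hyp hX h3.ge hu hu' qu uu'
  refine ⟨u, u', w, h2, hu, hu', hw, qu, qu', uu', uw, u'w, qw, fun a ha => ?_⟩
  have uu := f.B_self_eq_zero qu
  have h4 := finrank_inf_perp_add (restrict_nondeg_hyp uu (by simp [uu']))
    (show Submodule.span F {u, u'} ≤ X from Submodule.span_le.2 (by rintro _ (rfl | rfl) <;> assumption))
  rw [finrank_span_pair_of_B uu (by simp [uu']), h3] at h4
  have h5 : (F ∙ w) = X ⊓ f.perp (Submodule.span F {u, u'}) := Submodule.eq_of_le_of_finrank_le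
    ((Submodule.span_singleton_le_iff_mem _ _).2 ⟨hw, f.mem_perp_span_pair.2 ⟨uw, u'w⟩⟩)
    (by rw [finrank_span_singleton (fun e => qw (by rw [e, q_zero]))]; omega)
  obtain ⟨c, hc⟩ := Submodule.mem_span_singleton.1 (h5 ▸ (show a - f.B u' a • u - f.B u a • u' ∈
    X ⊓ f.perp (Submodule.span F {u, u'}) from ⟨sub_mem (sub_mem ha (X.smul_mem _ hu))
      (X.smul_mem _ hu'), f.mem_perp_span_pair.2 (by
        simp [uu, uu', (qB_comm u' u).trans uu', f.B_self_eq_zero qu'])⟩))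
  have h6 := congrArg (f.B w) hc
  simp only [map_smul, map_sub, qB_self, f.B_eq_zero_symm uw, f.B_eq_zero_symm u'w, smul_eq_mul,
    mul_zero, sub_zero] at h6
  rw [← h6]
  linear_combination (norm := module) -(2 * f.q w) • hc

variable (f) in
/-- Half the Gram determinant of three vectors. -/
def gram (a b c : V) : F := 4 * f.q a * f.q b * f.q c + f.B a b * f.B b c * f.B a c -
  f.q a * f.B b c ^ 2 - f.q b * f.B a c ^ 2 - f.q c * f.B a b ^ 2

/-- Reflections in a three-dimensional space generate the full group, or have small products. -/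
theorem dk3 (h2 : (2 : F) ≠ 0) (hX : (f.restrict X).Nondeg) (h3 : finrank F X = 3) {a b c : V}
    (ha : a ∈ X) (hb : b ∈ X) (hc : c ∈ X) (ra : f.Rf K a) (rb : f.Rf K b) (rc : f.Rf K c)
    (hab : f.B a b ≠ 0) (hbc : f.B b c ≠ 0) (hg : f.gram a b c ≠ 0) :
    f.Full K X ∨ ∃ N N', Bd F N N' ∧ f.Small K X N ∧ (f.Small K X N' ∨
      ∃ k ∈ K, (∀ v ∈ X, k v = -v) ∧ ∀ v, k v - v ∈ X) := by
  obtain ⟨u, u', w, h⟩ := exists_O3 h2 hX h3
  have ne : ∀ a ∈ X, ∀ b ∈ X, f.q a ≠ 0 → f.q b ≠ 0 → f.B a b ≠ 0 →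
      tau (f.io u u' w a * f.io u u' w b) ≠ 0 := fun a ha b hb qa qb h0 e => by
    have := h.tau_io_mul ha qa hb qb
    rw [e, zero_mul] at this
    exact pow_ne_zero 2 h0 this.symm
  refine (three_inv h2 (f.dS K X u u' w True) (h.io_mem ha ra) (h.io_mem hb rb) (h.io_mem hc rc)
    (h.tau_io ha ra.1) (h.tau_io hb rb.1) (h.tau_io hc rc.1) (ne a ha b hb ra.1 rb.1 hab)
    (ne b hb c hc rb.1 rc.1 hbc) ?_).imp (h.full hX) fun ⟨N, N', h4, h5, h6⟩ => ⟨N, N', h4,
      h.small h5 fun a ha b hb ra rb => mul_mem (h.io_mem ha ra) (h.io_mem hb rb), ?_⟩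
  · rw [h.io_eq ha ra.1, h.io_eq hb rb.1, h.io_eq hc rc.1, ofMat_mul, ofMat_mul, tau_ofMat]
    refine div_ne_zero (fun e => mul_ne_zero (pow_ne_zero 3 h.c4) hg ?_)
      (det_mul_ne_zero (det_mul_ne_zero (h.det_ne ha ra.1) (h.det_ne hb rb.1)) (h.det_ne hc rc.1))
    have e1 := h.B_eq ha a
    have e2 := h.B_eq hb b
    have e3 := h.B_eq hc c
    rw [qB_self] at e1 e2 e3
    have : (4 * f.q w) ^ 3 * f.gram a b c =
      4 * (2 * f.q w * (2 * f.q a)) * (2 * f.q w * (2 * f.q b)) * (2 * f.q w * (2 * f.q c)) +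
      8 * (2 * f.q w * f.B a b) * (2 * f.q w * f.B b c) * (2 * f.q w * f.B a c) -
      4 * (2 * f.q w * (2 * f.q a)) * (2 * f.q w * f.B b c) ^ 2 -
      4 * (2 * f.q w * (2 * f.q b)) * (2 * f.q w * f.B a c) ^ 2 -
      4 * (2 * f.q w * (2 * f.q c)) * (2 * f.q w * f.B a b) ^ 2 := by rw [gram]; ring
    rw [this, e1, e2, e3, h.B_eq ha b, h.B_eq hb c, h.B_eq ha c]
    simp only [kap, trace_fin_two, mul_fin_two, of_apply, cons_val', cons_val_zero, cons_val_one,
      cons_val_fin_one] at e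
    linear_combination -e
  by_cases h7 : f.io u u' w a ∈ f.dS K X u u' w False
  · rw [h.io_eq ha ra.1, mem_dS] at h7
    obtain ⟨k, hk, ε, h8, h9, h10⟩ := h7
    refine Or.inr ⟨k * f.rf a, mul_mem hk ra.2, fun v hv => h.kap_inj ?_ ?_, fun v => ?_⟩
    · have := add_mem (h9 (f.rf a v)) (add_mem (rf_mem_of_mem (f := f) ha hv) hv)
      simpa [← add_assoc] using this
    · refine ((isUnit_iff_isUnit_det _).2 (h.det_ne ha ra.1).isUnit).mul_right_cancel ?_
      have := h.kap_rf ha ra.1 (f.rf a v)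
      rw [rf_rf] at this
      rw [LinearEquiv.mul_apply, h10, ← neg_one_smul F v, kap_smul, smul_mul_assoc, this]
      simp [show ε = 1 by simpa using h8]
    · have := sub_mem (h9 (f.rf a v)) (X.smul_mem ((f.q a)⁻¹ * f.B a v) ha)
      rw [LinearEquiv.mul_apply]
      convert this using 1
      rw [rf_apply a v]; abel
  · refine Or.inl (h.small (S := f.dS K X u u' w True ⊓ f.dS K X u u' w False)
      (fun g hg => h6 _ (Subgroup.relIndex_eq_two_iff_exists_notMem_and.2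
        ⟨_, h.io_mem ha ra, h7, ?_⟩) g hg.1 hg.2) fun a ha b hb ra rb =>
      ⟨mul_mem (h.io_mem ha ra) (h.io_mem hb rb), h.io_mul_mem ha ra hb rb⟩)
    rintro _ ⟨m, hm, rfl, k, hk, ε, rfl | ⟨-, rfl⟩, h9, h10⟩
    · exact Or.inr ⟨m, hm, rfl, k, hk, 1, Or.inl rfl, h9, h10⟩
    · left
      rw [h.io_eq ha ra.1, ofMat_mul, mem_dS]
      refine ⟨k * f.rf a, mul_mem hk ra.2, 1, Or.inl rfl, fun v => ?_, fun v => ?_⟩
      · have := sub_mem (h9 (f.rf a v)) (X.smul_mem ((f.q a)⁻¹ * f.B a v) ha)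
        rw [LinearEquiv.mul_apply]
        convert this using 1
        rw [rf_apply a v]; abel
      · rw [LinearEquiv.mul_apply, ← mul_assoc, h10, smul_mul_assoc, mul_assoc,
          h.kap_rf ha ra.1]
        simp [mul_assoc]

omit [Finite F] in
theorem nondeg_of_gram (h2 : (2 : F) ≠ 0) {a b c : V} (hg : f.gram a b c ≠ 0) :
    (f.restrict (Submodule.span F {a, b, c})).Nondeg ∧
      finrank F (Submodule.span F {a, b, c}) = 3 := by
  have key : ∀ x y z : F, x • a + y • b + z • c ∈ f.perp (Submodule.span F {a, b, c}) →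
      x = 0 ∧ y = 0 ∧ z = 0 := fun x y z h => by
    have e1 := f.mem_perp_span.1 h a (by simp)
    have e2 := f.mem_perp_span.1 h b (by simp)
    have e3 := f.mem_perp_span.1 h c (by simp)
    simp only [map_add, map_smul, smul_eq_mul, qB_self, qB_comm b a, qB_comm c a, qB_comm c b]
      at e1 e2 e3
    have := mul_ne_zero h2 hg
    refine ⟨mul_left_cancel₀ this ?_, mul_left_cancel₀ this ?_, mul_left_cancel₀ this ?_⟩ <;>
      rw [gram]
    · linear_combination (4 * f.q b * f.q c - f.B b c ^ 2) * e1 + (f.B a c * f.B b c -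
        2 * f.q c * f.B a b) * e2 + (f.B a b * f.B b c - 2 * f.q b * f.B a c) * e3
    · linear_combination (f.B a c * f.B b c - 2 * f.q c * f.B a b) * e1 + (4 * f.q a * f.q c -
        f.B a c ^ 2) * e2 + (f.B a b * f.B a c - 2 * f.q a * f.B b c) * e3
    · linear_combination (f.B a b * f.B b c - 2 * f.q b * f.B a c) * e1 + (f.B a b * f.B a c -
        2 * f.q a * f.B b c) * e2 + (4 * f.q a * f.q b - f.B a b ^ 2) * e3
  refine ⟨restrict_nondeg_iff'.2 fun w hw hw' => ?_, ?_⟩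
  · obtain ⟨x, y, z, rfl⟩ := Submodule.mem_span_triple.1 hw
    simp [key x y z hw']
  · have : LinearIndependent F ![a, b, c] := Fintype.linearIndependent_iff.2 fun g hg i => by
      obtain ⟨h1, h3, h4⟩ := key (g 0) (g 1) (g 2) (by
        rw [show g 0 • a + g 1 • b + g 2 • c = 0 by simpa [Fin.sum_univ_three] using hg]
        exact zero_mem _)
      fin_cases i <;> assumption
    have h1 := finrank_span_eq_card this
    rwa [show Set.range ![a, b, c] = {a, b, c} by simp [Set.ext_iff]; tauto] at h1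

theorem dk3_prime (h2 : (2 : F) ≠ 0) (hp : (Nat.card F).Prime) {a b c : V} (ra : f.Rf K a)
    (rb : f.Rf K b) (rc : f.Rf K c) (hab : f.B a b ≠ 0) (hbc : f.B b c ≠ 0)
    (hg : f.gram a b c ≠ 0) : f.Full K (Submodule.span F {a, b, c}) ∨
      f.Small K (Submodule.span F {a, b, c}) 5 := by
  obtain ⟨h3, h4⟩ := nondeg_of_gram h2 hg
  refine (dk3 h2 h3 h4 (Submodule.subset_span (by simp)) (Submodule.subset_span (by simp))
    (Submodule.subset_span (by simp)) ra rb rc hab hbc hg).imp_right ?_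
  rintro ⟨N, N', ⟨rfl, -⟩ | ⟨-, m, hm, h5⟩, h6, -⟩
  · exact h6
  · rw [← h5] at hp
    exact absurd hp (Nat.Prime.not_prime_pow hm)

end CL.Witt.Form

namespace CL.Witt.Form

open Module

variable {F : Type*} [Field F] {T : FormType F} {V : Type*} [AddCommGroup V] [Module F V]
  {f : Form T V} {K : Subgroup (V ≃ₗ[F] V)} [FiniteDimensional F V]

/-- A root group together with a reflection not centralising it generates a full subspace. -/
theorem exists_full {u b : V} (hu : f.Tr K u) (hb : f.Rk K b) (hub : f.B u b ≠ 0)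
    {W : Submodule F V} (hW : (f.restrict W).Nondeg) (huW : u ∈ f.perp W)
    (hs : ∀ w ∈ W, f.Es K u w) : ∃ Z : Submodule F V, (f.restrict Z).Nondeg ∧ f.Full K Z ∧
      finrank F W + 2 = finrank F Z ∧ W ≤ Z ∧ ∃ x ∈ Z, ∃ y ∈ Z, f.q x = 0 ∧ f.q y = 0 ∧
        f.B x y ≠ 0 := by
  obtain ⟨s, hsK, hO, κ, hκ, e⟩ := hb
  obtain ⟨z, hz, t, ht, rfl⟩ := exists_add_perp hW b
  have uu := f.B_self_eq_zero hu.1
  have hut : f.B u t ≠ 0 := by rwa [map_add, f.mem_perp'.1 huW z hz, zero_add] at hub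
  have hle : Submodule.span F {u, t} ≤ f.perp W :=
    Submodule.span_le.2 (by rintro _ (rfl | rfl) <;> assumption)
  have hZ := restrict_nondeg_sup hW (restrict_nondeg_hyp uu hut) hle
  have huZ : u ∈ W ⊔ Submodule.span F {u, t} :=
    Submodule.mem_sup_right (Submodule.subset_span (by simp))
  have hsZ : ∀ v ∈ W ⊔ Submodule.span F {u, t}, s v ∈ W ⊔ Submodule.span F {u, t} := fun v hv =>
    e v ▸ add_mem hv (Submodule.smul_mem _ _ (add_mem (Submodule.mem_sup_left hz)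
      (Submodule.mem_sup_right (Submodule.subset_span (by simp)))))
  have hB : f.B u (s u) ≠ 0 := by
    rw [e, map_add, uu, zero_add, map_smul, smul_eq_mul]
    exact mul_ne_zero (mul_ne_zero hκ (mt f.B_eq_zero_symm hub)) hub
  have hq : f.q (s u) = 0 := (mem_O_q hO u).trans hu.1
  have h1 : ∀ v a, f.EichOK u v a → v ∈ W ⊔ Submodule.span F {u, t} → f.ei u v a ∈ K :=
    fun v a ha hv => by
      obtain ⟨w, hw, p, hp, rfl⟩ := Submodule.mem_sup.1 hv
      obtain ⟨α, β, rfl⟩ := Submodule.mem_span_pair.1 hp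
      have h2 := ha.huv
      simp only [map_add, map_smul, uu, f.mem_perp'.1 huW w hw, smul_eq_mul, mul_zero, zero_add,
        mul_eq_zero, hut, or_false] at h2
      refine Es.mem ?_ hu.2 ha
      rw [h2, zero_smul, add_zero]
      exact (hs w hw).add (Es.self hu.1 hu.2 α)
  refine ⟨_, hZ, full_of_hyp hZ huZ (hsZ u huZ) hu.1 hq hB h1 fun v a ha hv => ?_, ?_,
    le_sup_left, u, huZ, s u, hsZ u huZ, hu.1, hq, hB⟩
  · have h2 := ha.map (inv_mem hO)
    rw [← LinearEquiv.mul_apply, inv_mul_cancel, LinearEquiv.coe_one, id] at h2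
    have h3 := h2.conj_ei hO
    rw [← LinearEquiv.mul_apply s s⁻¹, mul_inv_cancel, LinearEquiv.coe_one, id] at h3
    exact h3 ▸ mul_mem (mul_mem hsK (h1 _ _ h2 (inv_mem_of_mem hsZ v hv))) (inv_mem hsK)
  · rw [← finrank_span_pair_of_B uu hut, ← Submodule.finrank_sup_add_finrank_inf_eq,
      (((f.restrict_nondeg_iff W).1 hW).mono_right hle).eq_bot, finrank_bot, add_zero]

end CL.Witt.Form
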