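import Mathlib
import Cfsg.Agent.CLAS.Ref7

/-!
Maximality of the stabiliser of an orthogonal frame in an orthogonal group over a prime field.
-/

set_option autoImplicit false
set_option linter.unusedSectionVars false

namespace CL.Witt

open Module

theorem exists_natCast_eq {F : Type*} [Field F] [Finite F] (hp : (Nat.card F).Prime) (a : F) :
    ∃ n : ℕ, a = n := by
  have := Fintype.ofFinite F
  have : Fact (Nat.card F).Prime := ⟨hp⟩
  obtain ⟨z, rfl⟩ := (ZMod.ringEquivOfPrime F hp Fintype.card_eq_nat_card).surjective a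
  exact ⟨z.val, by rw [← map_natCast (ZMod.ringEquivOfPrime F hp Fintype.card_eq_nat_card),
    ZMod.natCast_zmod_val]⟩

theorem three_ne_zero_of_prime {F : Type*} [Field F] [Finite F] (hp : (Nat.card F).Prime)
    (h : 4 ≤ Nat.card F) : (3 : F) ≠ 0 := fun e => by
  have := Dk.charP_of_dvd_card (F := F) hp dvd_rfl
  have := Nat.le_of_dvd (by omega) ((CharP.cast_eq_zero_iff F (Nat.card F) 3).1 e)
  omega

namespace Form

section gen

variable {F : Type*} [Field F] {T : FormType F} {V : Type*} [AddCommGroup V] [Module F V]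
  {f : Form T V} {ι : Type*} {e : ι → V} {c : F} {K : Subgroup (V ≃ₗ[F] V)}

theorem Es.smul_prime [Finite F] (hp : (Nat.card F).Prime) {u v : V} (h : f.Es K u v) (a : F) :
    f.Es K u (a • v) := by
  obtain ⟨n, rfl⟩ := exists_natCast_eq hp a
  induction n with
  | zero => simpa using Es.zero h.hu
  | succ n ih => simpa [add_smul] using ih.add h

theorem not_mem_span_of_co {x y d : V} (hx : f.co c d x ≠ 0) (hy : f.co c d y = 0) :
    x ∉ F ∙ y := fun h => by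
  obtain ⟨a, rfl⟩ := Submodule.mem_span_singleton.1 h
  simp [hy] at hx

variable [Fintype ι] [FiniteDimensional F V] (h : f.Fr e c)
include h

theorem IsCyc.mem_dstab {u : V ≃ₗ[F] V} {i j k : ι} (hij : i ≠ j) (hjk : j ≠ k) (hik : i ≠ k)
    (hu : f.IsCyc c u (e i) (e j) (e k)) : u ∈ dstab (ln F e) := h.mem_dstab_iff.2 fun s => by
  by_cases h1 : i = s
  · exact ⟨j, 1, by simp [hu _, ← h1, h.co_self, h.co_ne hij.symm, h.co_ne hik.symm]⟩
  by_cases h2 : j = s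
  · exact ⟨k, 1, by simp [hu _, ← h2, h.co_self, h.co_ne hij, h.co_ne hjk.symm]⟩
  by_cases h3 : k = s
  · exact ⟨i, 1, by simp [hu _, ← h3, h.co_self, h.co_ne hik, h.co_ne hjk]⟩
  · exact ⟨s, 1, by simp [hu _, h.co_ne h1, h.co_ne h2, h.co_ne h3]⟩

theorem Fr.card_eq : Fintype.card ι = finrank F V := by
  have : LinearIndependent F e := Fintype.linearIndependent_iff.2 fun g hg i => by
    have := congrArg (f.co c (e i)) hg
    rwa [map_sum, Finset.sum_eq_single i (fun j _ hj => by simp [h.co_ne hj.symm]) (by simp),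
      map_smul, h.co_self, smul_eq_mul, mul_one, map_zero] at this
  rw [← finrank_span_eq_card this, h.top, finrank_top]

theorem Fr.eq_two {x : V} {s r : ι} (hsr : s ≠ r) (hx : ∀ j, j ≠ s → j ≠ r → f.co c (e j) x = 0) :
    x = f.co c (e s) x • e s + f.co c (e r) x • e r := h.ext fun j => by
  by_cases h1 : j = s
  · simp [h1, h.co_self, h.co_ne hsr]
  by_cases h2 : j = r
  · simp [h2, h.co_self, h.co_ne hsr.symm]
  · simp [hx j h1 h2, h.co_ne h1, h.co_ne h2]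

theorem Fr.eq_top_of_split {R : V → Prop} (h4 : 4 ≤ Fintype.card ι) (he : ∀ i, R (e i))
    (hc : ∀ i j k, i ≠ j → j ≠ k → i ≠ k → ∃ u, f.IsCyc c u (e i) (e j) (e k) ∧ ∀ v, R v → R (u v))
    {Z : Submodule F V} (hZ : ∀ v, R v → v ∈ Z ∨ v ∈ f.perp Z) {b : V} (hb : b ∈ Z) (rb : R b)
    {i j : ι} (hij : i ≠ j) (hi : f.co c (e i) b ≠ 0) (hj : f.co c (e j) b ≠ 0) : Z = ⊤ := by
  refine top_le_iff.1 (h.top ▸ Submodule.span_le.2 ?_)
  rintro _ ⟨o, rfl⟩
  refine (hZ _ (he o)).resolve_right fun ho => ?_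
  have k : ∀ s, e s ∈ f.perp Z → ∀ v ∈ Z, f.co c (e s) v = 0 := fun s hs v hv =>
    h.co_eq_zero.2 (f.mem_perp'.1 hs v hv)
  have hio : i ≠ o := fun e0 => hi (k i (e0 ▸ ho) b hb)
  have hjo : j ≠ o := fun e0 => hj (k j (e0 ▸ ho) b hb)
  obtain ⟨l, n⟩ := exists_notMem_of_lt [i, j, o] (by rw [Nat.card_eq_fintype_card]; simp; omega)
  simp only [List.mem_cons, List.not_mem_nil, or_false, not_or] at n
  obtain ⟨u, hu, hu'⟩ := hc i o l hio (Ne.symm n.2.2) (Ne.symm n.1)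
  rcases hZ _ (hu' b rb) with h1 | h1
  · have := k o ho _ h1
    rw [hu] at this
    simp [k o ho b hb, h.co_self, h.co_ne hio.symm, h.co_ne (Ne.symm n.2.2), hi] at this
  · have := h.co_eq_zero.2 (f.mem_perp.1 h1 _ ((hZ _ (he j)).resolve_right fun h2 =>
      hj (k j h2 b hb)))
    rw [hu] at this
    simp [h.co_ne hjo, h.co_ne hij.symm, h.co_ne (Ne.symm n.2.1), hj] at this

end gen

variable {F : Type*} [Field F] [Finite F] {V : Type*} [AddCommGroup V] [Module F V]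
  [FiniteDimensional F V] {f : Form (FormType.quad F) V} {K : Subgroup (V ≃ₗ[F] V)}
  {ι : Type*} [Fintype ι] {e : ι → V} {c : F}

local notation "⟪" x ", " y "⟫" => Form.co f (2 * c) x y

theorem co_comm (x y : V) : ⟪x, y⟫ = ⟪y, x⟫ := by rw [co_apply, qB_comm, co_apply]

theorem co_e (x : V) (i : ι) : ⟪x, e i⟫ = ⟪e i, x⟫ := co_comm _ _

namespace Fr

variable (h : f.Fr e (2 * c))
include h

theorem two_ne : (2 : F) ≠ 0 := left_ne_zero_of_mul h.c0

theorem c_ne : c ≠ 0 := right_ne_zero_of_mul h.c0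

theorem q_e (i : ι) : f.q (e i) = c := mul_left_cancel₀ h.two_ne (by rw [← qB_self, h.self])

theorem B_eq (x y : V) : f.B x y = 2 * c * ⟪x, y⟫ := by
  rw [co_apply, mul_inv_cancel_left₀ h.c0]

theorem co_self' {x : V} (hx : f.q x = c) : ⟪x, x⟫ = 1 := by
  rw [co_apply, qB_self, hx, inv_mul_cancel₀ h.c0]

theorem q_eq (x : V) : f.q x = c * ⟪x, x⟫ :=
  mul_left_cancel₀ h.two_ne (by rw [← qB_self, h.B_eq, mul_assoc])

theorem rf_c {x : V} (hx : f.q x = c) (v : V) : f.rf x v = v - (2 * ⟪x, v⟫) • x := by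
  rw [rf_apply, hx, h.B_eq, mul_comm 2 c, mul_assoc, inv_mul_cancel_left₀ h.c_ne]

theorem rf_e (i : ι) (v : V) : f.rf (e i) v = v - (2 * ⟪e i, v⟫) • e i := h.rf_c (h.q_e i) v

theorem rf_e_mem (i : ι) : f.rf (e i) ∈ dstab (ln F e) :=
  h.sdec.rf_mem_dstab (i := i) (Submodule.mem_span_singleton_self _)

theorem exists_cyc (h5 : 5 ≤ Fintype.card ι) {i j k : ι} (hij : i ≠ j) (hjk : j ≠ k)
    (hik : i ≠ k) : ∃ u ∈ dstab (ln F e) ⊓ f.E, f.IsCyc (2 * c) u (e i) (e j) (e k) := by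
  have k1 : ∀ j, i ≠ j → f.q (e i - e j) = 2 * c := fun j hj => by
    rw [q_sub, h.ne i j hj, h.q_e, h.q_e, map_zero]; ring
  have k2 : ∀ j, i ≠ j → ∀ v, f.rf (e i - e j) v = v - (⟪e i, v⟫ - ⟪e j, v⟫) • (e i - e j) :=
    fun j hj v => by rw [rf_apply, k1 j hj, B_sub_left, mul_sub, co_apply, co_apply]
  have k3 : f.IsCyc (2 * c) (f.rf (e i - e k) * f.rf (e i - e j)) (e i) (e j) (e k) := fun v => by
    rw [LinearEquiv.mul_apply, k2 k hik, k2 j hij]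
    simp only [map_sub, map_smul, h.co_self, h.co_ne hij, h.co_ne hik.symm, h.co_ne hjk.symm,
      smul_eq_mul]
    module
  exact ⟨_, ⟨k3.mem_dstab h hij hjk hik, h.sdec.nondeg'.rf_mul_rf_mem_E (h.card_eq ▸ h5)
    (by rw [k1 k hik]; exact h.c0) (by rw [k1 j hij]; exact h.c0) (by rw [k1 k hik, k1 j hij])⟩, k3⟩

theorem rf_mul_rf_e (h5 : 5 ≤ Fintype.card ι) (i j : ι) :
    f.rf (e i) * f.rf (e j) ∈ dstab (ln F e) ⊓ f.E :=
  ⟨mul_mem (h.rf_e_mem i) (h.rf_e_mem j), h.sdec.nondeg'.rf_mul_rf_mem_E (h.card_eq ▸ h5)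
    (by rw [h.q_e]; exact h.c_ne) (by rw [h.q_e]; exact h.c_ne) (by rw [h.q_e, h.q_e])⟩

theorem fGen (h5 : 5 ≤ Fintype.card ι) {M : Subgroup (V ≃ₗ[F] V)}
    (hM : dstab (ln F e) ⊓ f.E ≤ M) : f.FGen e (2 * c) M where
  t i j hij := ⟨_, hM (h.rf_mul_rf_e h5 i j), (h.rf_mul_rf_e h5 i j).1, fun v => by
    rw [LinearEquiv.mul_apply, h.rf_e, h.rf_e]
    simp only [map_sub, map_smul, h.co_ne hij, smul_zero, sub_zero]
    module⟩
  cyc i j k hij hjk hik := by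
    obtain ⟨u, hu, hu'⟩ := h.exists_cyc h5 hij hjk hik
    exact ⟨u, hM hu, hu'⟩

end Fr

variable (f K c) in
/-- Reflection vectors of the same norm as the frame. -/
def Rc (x : V) : Prop := f.Rf K x ∧ f.q x = c

theorem Rc.map {x : V} (h : f.Rc K c x) {g : V ≃ₗ[F] V} (hg : g ∈ K) (hO : g ∈ f.O) :
    f.Rc K c (g x) := ⟨h.1.map hg hO, (mem_O_q hO x).trans h.2⟩

theorem Rc.rf {x y : V} (h : f.Rc K c x) (h' : f.Rc K c y) : f.Rc K c (f.rf x y) :=
  h'.map h.1.2 (rf_mem_O x)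

theorem Rc.neg {x : V} (h : f.Rc K c x) : f.Rc K c (-x) := ⟨h.1.neg, (f.q_neg x).trans h.2⟩

variable (f K c) in
/-- A full subspace from which the whole space can be reached. -/
def St : Prop := ∃ Z : Submodule F V, (f.restrict Z).Nondeg ∧ f.Full K Z ∧ (∃ y ∈ Z, f.Rc K c y) ∧
  (4 ≤ finrank F Z ∨ finrank F Z = 3 ∧ 4 ≤ Nat.card F)

theorem St.exists_split (h : f.St K c) (h2 : (2 : F) ≠ 0) (hf : f.Nondeg)
    (hs : Submodule.span F {y | f.Rc K c y} = ⊤) : ∃ Z : Submodule F V, (f.restrict Z).Nondeg ∧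
      f.Full K Z ∧ f.Good Z ∧ 3 ≤ finrank F Z ∧ (∀ y ∈ Z, f.q y = c → f.Rc K c y) ∧
      (∃ y ∈ Z, f.Rc K c y) ∧ ∀ y, f.Rc K c y → y ∈ Z ∨ y ∈ f.perp Z := by
  obtain ⟨Z₀, h0, h1, ⟨y, hy, ry⟩, hd⟩ := h
  obtain ⟨x, hx, w, hw, qx, qw, xw⟩ := quad_exists_hyp h0 (by omega)
  have h3 := three_le_card h2
  have k : ∀ Z, Z₀ ≤ Z → 4 ≤ finrank F Z ∨ finrank F Z = 3 ∧ 4 ≤ Nat.card F := fun Z hZ => by
    have := Submodule.finrank_mono hZ
    omega
  have k' : ∀ Z, Z₀ ≤ Z → (f.restrict Z).Nondeg → f.Full K Z → ∀ b ∈ Z, f.q b = c → f.Rf K b :=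
    fun Z hZ nd fu b hb e => fu.rf_of_q_eq nd (by have := k Z hZ; omega) (hZ hy) hb ry.1
      (e.trans ry.2.symm)
  obtain ⟨Z, hZ, nd, fu, sp⟩ := Form.exists_split (R := {y | f.Rc K c y}) (fun y r => r.1.rk) hf hs
    h0 h1 hx hw qx qw (by simp [xw]) fun Z hZ nd fu z hz hz0 t ht r => by
      rcases k Z hZ with h4 | h4
      · by_cases hq : f.q z = 0
        · exact fu.mem_SZ_of_rf_sing nd (Or.inr (Or.inl ⟨h4, h3⟩)) hz hz0 hq ht r.1
        · exact fu.mem_SZ_of_rf_four nd h4 hz hq ht r.1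
      · exact fu.mem_SZ_three nd h2 h4.1 h4.2 hz hz0 ht r.1 fun b hb e =>
          k' Z hZ nd fu b hb (e.trans r.2)
  have := k Z hZ
  exact ⟨Z, nd, fu, by unfold Good; omega, by omega, fun b hb e => ⟨k' Z hZ nd fu b hb e, e⟩,
    ⟨y, hZ hy, ry⟩, sp⟩

variable (f K e c) in
/-- `K` contains the frame stabiliser and the reflections in the frame. -/
structure OF : Prop extends f.Fr e (2 * c) where
  le : dstab (ln F e) ⊓ f.E ≤ K
  rf : ∀ i, f.rf (e i) ∈ K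
  h7 : 7 ≤ Fintype.card ι
  hp : (Nat.card F).Prime

variable (f e c) in
/-- Vectors whose reflections are monomial. -/
def Sh (x : V) : Prop := ∃ s r, s ≠ r ∧ (∀ j, j ≠ s → j ≠ r → ⟪e j, x⟫ = 0) ∧
  (⟪e r, x⟫ = 0 ∨ 2 * ⟪e s, x⟫ ^ 2 = 1)

/-- The values of `τ` for elements of order `2, 3, 4, 5`. -/
def Lt {F : Type*} [Field F] (t : F) : Prop := t = 0 ∨ t = 1 ∨ t = 2 ∨ t ^ 2 - 3 * t + 1 = 0

theorem four_ne {F : Type*} [Field F] (h2 : (2 : F) ≠ 0) : (4 : F) ≠ 0 := fun e =>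
  mul_ne_zero h2 h2 (by linear_combination e)

theorem Lt.rule {F : Type*} [Field F] (h2 : (2 : F) ≠ 0) (h3 : (3 : F) ≠ 0) {s t : F} (hs : Lt s)
    (ht : Lt t) (hst : Lt (s * t)) (s0 : s ≠ 0) (t0 : t ≠ 0) (s4 : s ≠ 4) (t4 : t ≠ 4)
    (h4 : s + t ≠ 4) : s = 1 ∨ t = 1 ∨ s + t = 3 := by
  by_contra! H
  obtain ⟨s1, t1, h5⟩ := H
  have k : ∀ t : F, t ≠ 0 → t ≠ 1 → t ^ 2 - 3 * t + 1 = 0 → ¬ Lt (2 * t) := fun t t0 t1 h h' => by
    have k : 2 * t ≠ 1 := fun e => one_ne_zero (α := F)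
      (by linear_combination (2 * t - 5) * e - 4 * h)
    rcases h' with e | e | e | e
    · exact mul_ne_zero h2 t0 e
    · exact k e
    · exact t1 (mul_left_cancel₀ h2 (by linear_combination e))
    · exact k (mul_left_cancel₀ h3 (by linear_combination e - 4 * h))
  rcases (hs.resolve_left s0).resolve_left s1 with rfl | hs <;>
    rcases (ht.resolve_left t0).resolve_left t1 with rfl | ht
  · exact h4 (by norm_num)
  · exact k t t0 t1 ht hst
  · exact k s s0 s1 hs (mul_comm s 2 ▸ hst)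
  obtain rfl : s = t := mul_right_cancel₀ (sub_ne_zero.2 h5) (by linear_combination hs - ht)
  rcases hst with e | e | e | e
  · exact mul_ne_zero s0 s0 e
  · have : s = -1 := mul_left_cancel₀ (sub_ne_zero.2 s1) (by linear_combination e)
    exact s4 (by linear_combination (s - 3) * this - hs)
  · exact s1 (mul_left_cancel₀ h3 (by linear_combination e - hs))
  · refine s1 (mul_left_cancel₀ (mul_ne_zero (mul_ne_zero (four_ne h2) s0) (sub_ne_zero.2 s1)) ?_)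
    linear_combination e - hs - (s ^ 2 - s) * hs

theorem Lt.quarter {F : Type*} [Field F] (h2 : (2 : F) ≠ 0) (h3 : (3 : F) ≠ 0) {a : F}
    (h : 4 * a = 1) (h' : Lt (4 * a ^ 2)) : a = -1 ∨ 1 - a = -1 := by
  have h4 := four_ne h2
  rcases h' with e | e | e | e
  · exact absurd (by linear_combination 4 * e - (4 * a + 1) * h) (one_ne_zero (α := F))
  · exact absurd (by linear_combination -4 * e + (4 * a + 1) * h) h3
  · exact Or.inr (mul_left_cancel₀ h4 (by linear_combination -4 * e + 4 * a * h))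
  · refine Or.inl (mul_left_cancel₀ h4 ?_)
    linear_combination 16 * e + (1 - (64 * a ^ 3 + 16 * a ^ 2 - 44 * a - 11)) * h

theorem Lt.half {F : Type*} [Field F] (h3 : (3 : F) ≠ 0) {a : F}
    (h : 2 * a = 1) (h' : Lt a) : False := by
  rcases h' with e | e | e | e
  · exact one_ne_zero (α := F) (by linear_combination 2 * e - h)
  · exact one_ne_zero (α := F) (by linear_combination h - 2 * e)
  · exact h3 (by linear_combination h - 2 * e)
  · exact one_ne_zero (α := F) (by linear_combination (2 * a - 5) * h - 4 * e)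

theorem Lt.two {F : Type*} [Field F] (h2 : (2 : F) ≠ 0) {s t : F} (hs : Lt s)
    (ht : Lt t) (s0 : s ≠ 0) (t0 : t ≠ 0) (s2 : s ≠ 2) (h4 : s + t = 4) : False := by
  unfold Lt at *
  grind

theorem Lt.three {F : Type*} [Field F] (h2 : (2 : F) ≠ 0) {s t r : F} (hs : Lt s)
    (s0 : s ≠ 0) (s1 : s ≠ 1) (s4 : s ≠ 4) (h1 : s + t = 3) (h3 : s + r = 3) (h4 : t + r = 3) :
    False := by
  unfold Lt at *
  grind

namespace OF

variable (h : f.OF K e c)
include h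

theorem rc (i : ι) : f.Rc K c (e i) := ⟨⟨by rw [h.q_e]; exact h.c_ne, h.rf i⟩, h.q_e i⟩

theorem ex (l : List ι) (hl : l.length < 7) : ∃ a, a ∉ l :=
  exists_notMem_of_lt l (by rw [Nat.card_eq_fintype_card]; exact hl.trans_le h.h7)

theorem cyc {i j k : ι} (hij : i ≠ j) (hjk : j ≠ k) (hik : i ≠ k) :
    ∃ u ∈ K, u ∈ f.O ∧ f.IsCyc (2 * c) u (e i) (e j) (e k) := by
  obtain ⟨u, hu, hu'⟩ := h.exists_cyc (by have := h.h7; omega) hij hjk hik
  exact ⟨u, h.le hu, E_le_O hu.2, hu'⟩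

theorem move {x : V} (hx : f.Rc K c x) {i j k : ι} (hij : i ≠ j) (hjk : j ≠ k) (hik : i ≠ k)
    (hj : ⟪e j, x⟫ = 0) (hk : ⟪e k, x⟫ = 0) : f.Rc K c (x + ⟪e i, x⟫ • (e j - e i)) := by
  obtain ⟨u, hu, hO, hu'⟩ := h.cyc hij hjk hik
  simpa [hu' x, hj, hk] using hx.map hu hO

theorem finish (hS : f.St K c) : f.E ≤ K := by
  obtain ⟨Z, nd, fu, hG, h3, hc, ⟨y, hy, ry⟩, sp⟩ := hS.exists_split h.two_ne h.sdec.nondeg'
    (top_le_iff.1 (h.top ▸ Submodule.span_mono (by rintro _ ⟨i, rfl⟩; exact h.rc i)))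
  obtain ⟨i, hi⟩ := h.exists_co_ne ry.1.ne_zero
  by_cases H : ∃ b ∈ Z, f.q b = c ∧ ⟪e i, b⟫ ≠ 0 ∧ ∃ j, j ≠ i ∧ ⟪e j, b⟫ ≠ 0
  · obtain ⟨b, hb, qb, h1, j, hj, h2⟩ := H
    refine Full.E_le (h.eq_top_of_split (by have := h.h7; omega) h.rc (fun i j k h3 h4 h5 => ?_) sp
      hb (hc b hb qb) hj h2 h1 ▸ fu)
    obtain ⟨u, hu, hO, hu'⟩ := h.cyc h3 h4 h5
    exact ⟨u, hu', fun v hv => hv.map hu hO⟩
  push Not at H
  rcases hG.conn nd h.c_ne (F ∙ e i) _ le_rfl fun v hv qv => by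
    by_cases h1 : ⟪e i, v⟫ = 0
    · exact Or.inr (f.mem_perp_span_singleton.2 (h.co_eq_zero.1 h1))
    · exact Or.inl (Submodule.mem_span_singleton.2 ⟨_, (h.eq_smul (H v hv qv h1)).symm⟩)
    with h1 | h1
  · have := Submodule.finrank_mono h1
    rw [finrank_span_singleton (h.ne_zero i)] at this
    omega
  · exact absurd (h.co_eq_zero.2 (f.mem_perp_span_singleton.1 (h1 hy))) hi

theorem st_three (h3 : Nat.card F = 3) {x : V} (hx : f.Rc K c x) (hn : ¬ f.Sh e c x) :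
    f.St K c := by
  have sq : ∀ a : F, a ≠ 0 → a * a = 1 := fun a ha => by
    have := Fintype.ofFinite F
    have h1 := FiniteField.pow_card_sub_one_eq_one a ha
    rwa [Fintype.card_eq_nat_card, h3, pow_two] at h1
  have c3 : (3 : F) = 0 := by linear_combination sq 2 h.two_ne
  have hxx := h.co_self' hx.2
  obtain ⟨i, hi⟩ := h.exists_co_ne hx.1.ne_zero
  have H : ∀ s r, s ≠ r → ∃ j, j ≠ s ∧ j ≠ r ∧ ⟪e j, x⟫ ≠ 0 := fun s r hsr => by
    by_contra! H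
    have h1 : ⟪e r, x⟫ ≠ 0 := fun h1 => hn ⟨s, r, hsr, H, Or.inl h1⟩
    have h2 : ⟪e s, x⟫ ≠ 0 := fun h1 => hn ⟨r, s, hsr.symm, fun j a b => H j b a, Or.inl h1⟩
    nth_rw 2 [h.eq_two hsr H] at hxx
    simp only [map_add, map_smul, co_e x, smul_eq_mul, sq _ h1, sq _ h2] at hxx
    exact one_ne_zero (α := F) (by linear_combination hxx)
  obtain ⟨o, ho⟩ := h.ex [i] (by simp)
  obtain ⟨j, hji, -, hj⟩ := H i o (by grind)
  obtain ⟨k, hki, hkj, hk⟩ := H i j hji.symm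
  set u := ⟪e i, x⟫ • e i + ⟪e j, x⟫ • e j + ⟪e k, x⟫ • e k with hu
  have hux : ⟪x, u⟫ = 0 := by
    simp only [hu, map_add, map_smul, co_e x, smul_eq_mul, sq _ hi, sq _ hj, sq _ hk]
    linear_combination c3
  have c1 : ∀ l, l ≠ i → l ≠ j → l ≠ k → ⟪e l, u⟫ = 0 := fun l h1 h2 h3 => by
    simp [hu, h.co_ne h1, h.co_ne h2, h.co_ne h3]
  have c2 : ⟪e i, u⟫ = ⟪e i, x⟫ ∧ ⟪e j, u⟫ = ⟪e j, x⟫ ∧ ⟪e k, u⟫ = ⟪e k, x⟫ := by
    simp [hu, h.co_self, h.co_ne, hji, hki, hkj, hji.symm, hki.symm, hkj.symm]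
  have qu : f.q u = 0 := by
    rw [h.q_eq]
    nth_rw 2 [hu]
    simp only [map_add, map_smul, co_e u, c2, smul_eq_mul, sq _ hi, sq _ hj, sq _ hk]
    linear_combination c * c3
  obtain ⟨l, hl⟩ := h.exists_co_ne (v := x - u) fun e0 => by
    rw [← sub_eq_zero.1 e0, hxx] at hux
    exact one_ne_zero hux
  have hli : l ≠ i := by rintro rfl; simp [c2.1] at hl
  have hlj : l ≠ j := by rintro rfl; simp [c2.2.1] at hl
  have hlk : l ≠ k := by rintro rfl; simp [c2.2.2] at hl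
  rw [map_sub, c1 l hli hlj hlk, sub_zero] at hl
  have r1 : f.Rc K c (x + u) := by
    have := (h.rc i).rf ((h.rc j).rf ((h.rc k).rf hx))
    rw [h.rf_e, h.rf_e, h.rf_e] at this
    simp only [map_sub, map_smul, h.co_ne hji.symm, h.co_ne hki.symm, h.co_ne hkj.symm, smul_zero,
      sub_zero] at this
    convert this using 1
    linear_combination (norm := module) c3 • u + (-2 : F) • hu
  have e1 := hx.1.step r1.1 qu (h.co_eq_zero.1 (h.co_symm hux))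
  have e2 := e1.sub (e1.map_fix (h.rf l) (rf_mem_O _)
    (rf_of_perp (h.co_eq_zero.1 (c1 l hli hlj hlk))))
  have e3 : ∀ a : F, f.Es K u (a • e l) := fun a => by
    have := e2.smul_prime h.hp (a * (2 * ((f.q x)⁻¹ * ⟪e l, x⟫))⁻¹)
    rwa [h.rf_e, sub_sub_cancel, map_smul, smul_smul, smul_eq_mul,
      inv_mul_cancel_right₀ (by simp [h.two_ne, hx.1.1, hl])] at this
  obtain ⟨l', n1⟩ := h.ex [i, j, k, l] (by simp)
  obtain ⟨l'', n2⟩ := h.ex [i, j, k, l, l'] (by simp)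
  simp only [List.mem_cons, List.not_mem_nil, or_false, not_or] at n1 n2
  obtain ⟨g, hg, hO, hg'⟩ := h.cyc (Ne.symm n1.2.2.2) (Ne.symm n2.2.2.2.2) (Ne.symm n2.2.2.2.1)
  have e4 : ∀ a : F, f.Es K u (a • e l') := fun a => by
    simpa [hg' _, h.co_self, h.co_ne n1.2.2.2, h.co_ne n2.2.2.2.1, smul_sub] using
      (e3 a).map_fix hg hO (by rw [hg']; simp [c1, hli, hlj, hlk, n1, n2])
  have hW : f.B (e l) (e l) * f.B (e l') (e l') ≠ f.B (e l) (e l') * f.B (e l') (e l) := by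
    simp [h.self, h.ne _ _ n1.2.2.2, h.c0]
  obtain ⟨Z, nd, fu, hd, hle, -⟩ := exists_full ⟨qu, quad_tv⟩ (h.rc i).1.rk
    (mt (fun h1 => h.co_symm (h.co_eq_zero.2 h1)) (c2.1 ▸ hi)) (restrict_nondeg_span_pair hW)
    (f.mem_perp_span_pair.2 ⟨h.co_eq_zero.1 (c1 l hli hlj hlk),
      h.co_eq_zero.1 (c1 l' n1.1 n1.2.1 n1.2.2.1)⟩) fun w hw => by
      obtain ⟨a, b, rfl⟩ := Submodule.mem_span_pair.1 hw
      exact (e3 a).add (e4 b)
  rw [finrank_span_pair_of (h.ne_zero l') (not_mem_span_of_co (c := 2 * c) (d := e l)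
    (by simp [h.co_self]) (h.co_ne (Ne.symm n1.2.2.2)))] at hd
  exact ⟨Z, nd, fu, ⟨_, hle (Submodule.subset_span (by simp)), h.rc l⟩, Or.inl (by omega)⟩

section five

variable (h4 : 4 ≤ Nat.card F) (hS : ¬ f.St K c)
include h4 hS

theorem level {x y : V} (hx : f.Rc K c x) (hy : f.Rc K c y) (hxy : ⟪x, y⟫ = 1) : y = x := by
  by_contra hn
  obtain ⟨i, hi⟩ := h.exists_co_ne (sub_ne_zero.2 hn)
  have h1 : f.B x (y - x) = 0 := by rw [h.B_eq, map_sub, hxy, h.co_self' hx.2, sub_self, mul_zero]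
  have qu : f.q (y - x) = 0 := by
    rw [q_sub, hx.2, hy.2, h.B_eq, co_comm, hxy]; simp [FormType.quad, two_mul]
  have e1 := hx.1.step (by simpa using hy.1) qu (f.B_eq_zero_symm h1)
  obtain ⟨Z, nd, fu, hd, hle, -⟩ := exists_full ⟨qu, quad_tv⟩ (h.rc i).1.rk
    (mt (fun h1 => h.co_symm (h.co_eq_zero.2 h1)) hi) (restrict_nondeg_span_singleton (t := x)
      (by rw [qB_self, hx.2]; exact h.c0)) (f.mem_perp_span_singleton.2 h1) fun w hw => by
      obtain ⟨a, rfl⟩ := Submodule.mem_span_singleton.1 hw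
      simpa [smul_smul, hx.1.1] using e1.smul_prime h.hp (a * f.q x)
  rw [finrank_span_singleton hx.1.ne_zero] at hd
  exact hS ⟨Z, nd, fu, ⟨x, hle (Submodule.mem_span_singleton_self x), hx⟩, Or.inr ⟨hd.symm, h4⟩⟩

theorem tri {a b d : V} (ra : f.Rc K c a) (rb : f.Rc K c b) (rd : f.Rc K c d) (hab : ⟪a, b⟫ ≠ 0)
    (hbd : ⟪b, d⟫ ≠ 0)
    (hg : 1 + 2 * ⟪a, b⟫ * ⟪b, d⟫ * ⟪a, d⟫ - ⟪b, d⟫ ^ 2 - ⟪a, d⟫ ^ 2 - ⟪a, b⟫ ^ 2 ≠ 0) {y y' : V}
    (hy : y ∈ Submodule.span F {a, b, d}) (hy' : y' ∈ Submodule.span F {a, b, d})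
    (ry : f.Rc K c y) (ry' : f.Rc K c y') (hn : y ∉ F ∙ y') : Lt (4 * ⟪y, y'⟫ ^ 2) := by
  have hc := h.c_ne
  have hg' : f.gram a b d ≠ 0 := fun e0 => mul_ne_zero (mul_ne_zero (pow_ne_zero 2 h.c0) hc) hg (by
    rw [gram, ra.2, rb.2, rd.2, h.B_eq, h.B_eq, h.B_eq] at e0
    linear_combination e0)
  obtain ⟨nd, hd⟩ := nondeg_of_gram h.two_ne hg'
  rcases dk3_prime h.two_ne h.hp ra.1 rb.1 rd.1 (mt h.co_eq_zero.2 hab) (mt h.co_eq_zero.2 hbd) hg'
    with fu | sm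
  · exact (hS ⟨_, nd, fu, ⟨a, Submodule.subset_span (by simp), ra⟩, Or.inr ⟨hd, h4⟩⟩).elim
  obtain ⟨g, g1, g5, hg⟩ := sm.1 y hy y' hy' ry.1 ry'.1 hn
  rw [ry.2, ry'.2, h.B_eq] at hg
  rw [show 4 * ⟪y, y'⟫ ^ 2 = Dk.tau g from mul_right_cancel₀ (mul_ne_zero hc hc)
    (by linear_combination -hg)]
  exact Dk.tau_of_le_five g1 g5

theorem sh_of_two {x : V} (hx : f.Rc K c x) {s r : ι} (hsr : s ≠ r)
    (H : ∀ j, j ≠ s → j ≠ r → ⟪e j, x⟫ = 0) : f.Sh e c x := by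
  by_contra hn
  have key : ∀ s r, s ≠ r → (∀ j, j ≠ s → j ≠ r → ⟪e j, x⟫ = 0) → ⟪e r, x⟫ ≠ 0 ∧
      ⟪e s, x⟫ ^ 2 + ⟪e r, x⟫ ^ 2 = 1 ∧ Lt (4 * ⟪e s, x⟫ ^ 2) := fun s r hsr H => by
    have h1 : ⟪e r, x⟫ ≠ 0 := fun h1 => hn ⟨s, r, hsr, H, Or.inl h1⟩
    have h2 : ⟪e s, x⟫ ≠ 0 := fun h1 => hn ⟨r, s, hsr.symm, fun j a b => H j b a, Or.inl h1⟩
    have h3 := h.co_self' hx.2
    nth_rw 2 [h.eq_two hsr H] at h3
    simp only [map_add, map_smul, co_e x, smul_eq_mul, ← pow_two] at h3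
    obtain ⟨o, n1⟩ := h.ex [s, r] (by simp)
    obtain ⟨o', n2⟩ := h.ex [s, r, o] (by simp)
    simp only [List.mem_cons, List.not_mem_nil, or_false, not_or] at n1 n2
    have h5 := h.move hx (Ne.symm n1.2) (Ne.symm n2.2.2) (Ne.symm n2.2.1) (H o n1.1 n1.2)
      (H o' n2.1 n2.2.1)
    refine ⟨h1, h3, h.tri h4 hS hx (h.rc s) h5 (by rwa [co_e]) ?_ (fun e0 => pow_ne_zero 4 h1 ?_)
      (Submodule.subset_span (by simp)) (Submodule.subset_span (by simp)) (h.rc s) hx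
      (not_mem_span_comm (h.ne_zero s) (not_mem_span_of_co h1 (h.co_ne hsr.symm)))⟩
    · simpa [h.co_ne hsr, h.co_ne (Ne.symm n1.1)] using h2
    · simp only [map_add, map_smul, map_sub, h.co_ne hsr, h.co_ne (Ne.symm n1.1), co_e x,
        H o n1.1 n1.2, h.co_self' hx.2, smul_eq_mul] at e0
      linear_combination e0 + 2 * ⟪e r, x⟫ ^ 2 * h3
  obtain ⟨h1, h2, h3⟩ := key s r hsr H
  obtain ⟨h5, -, h6⟩ := key r s hsr.symm fun j a b => H j b a
  have h7 := four_ne h.two_ne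
  exact Lt.two h.two_ne h3 h6 (by simp [h7, h5]) (by simp [h7, h1]) (fun e0 => hn ⟨s, r, hsr, H,
    Or.inr (mul_left_cancel₀ h.two_ne (by linear_combination e0))⟩) (by linear_combination 4 * h2)

theorem not_four {x : V} (hx : f.Rc K c x) {i : ι} (hi : 4 * ⟪e i, x⟫ ^ 2 = 1) {S : Finset ι}
    (hS4 : S.card ≤ 4) (H : ∀ j, j ∉ S → ⟪e j, x⟫ = 0) : False := by
  classical
  have h3 := three_ne_zero_of_prime h.hp h4
  have h2 := h.two_ne
  have hi0 : ⟪e i, x⟫ ≠ 0 := fun e0 => by simp [e0] at hi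
  obtain ⟨S', h5, -, h6⟩ := Finset.exists_subsuperset_card_eq (Finset.subset_univ S) hS4
    (by have := h.h7; rw [Finset.card_univ]; omega)
  obtain ⟨s₁, s₂, s₃, n1, n2, n3, h7⟩ := Finset.card_eq_three.1 (show (S'.erase i).card = 3 by
    rw [Finset.card_erase_of_mem (h5 (by_contra fun h7 => hi0 (H i h7))), h6])
  have h8 : ∀ j, j ∉ [i, s₁, s₂, s₃] → ⟪e j, x⟫ = 0 := fun j hj => H j fun h8 => by
    have := Finset.ext_iff.1 h7 j
    have := h5 h8
    grind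
  have n4 : i ≠ s₁ ∧ i ≠ s₂ ∧ i ≠ s₃ := by
    have := Finset.ext_iff.1 h7 i
    grind
  obtain ⟨o₁, m1⟩ := h.ex [i, s₁, s₂, s₃] (by simp)
  obtain ⟨o₂, m2⟩ := h.ex [i, s₁, s₂, s₃, o₁] (by simp)
  obtain ⟨o₃, m3⟩ := h.ex [i, s₁, s₂, s₃, o₁, o₂] (by simp)
  have z1 := h8 o₁ m1
  have z2 := h8 o₂ (by grind)
  have z3 := h8 o₃ (by grind)
  have hx' : x = ⟪e i, x⟫ • e i + ⟪e s₁, x⟫ • e s₁ + ⟪e s₂, x⟫ • e s₂ + ⟪e s₃, x⟫ • e s₃ :=
    h.ext fun j => by
      by_cases hj : j ∈ [i, s₁, s₂, s₃]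
      · simp only [List.mem_cons, List.not_mem_nil, or_false] at hj
        rcases hj with rfl | rfl | rfl | rfl <;> simp [h.co_self, h.co_ne, n1, n2, n3, n4,
          n1.symm, n2.symm, n3.symm, n4.1.symm, n4.2.1.symm, n4.2.2.symm]
      · rw [h8 j hj]
        simp only [List.mem_cons, List.not_mem_nil, or_false, not_or] at hj
        simp [h.co_ne, hj]
  simp only [List.mem_cons, List.not_mem_nil, or_false, not_or] at m1 m2 m3
  have r1 := h.move hx (Ne.symm m1.2.1) (Ne.symm m2.2.2.2.2) (Ne.symm m2.2.1) z1 z2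
  have r2 := h.move r1 (Ne.symm m2.2.2.1) (Ne.symm m3.2.2.2.2.2) (Ne.symm m3.2.2.1)
    (by simp [z2, h.co_ne, m2]) (by simp [z3, h.co_ne, m3])
  have r3 := h.move r2 (Ne.symm m3.2.2.2.1) m3.2.1 n2.symm (by simp [z3, h.co_ne, m3])
    (by simp [h.co_self, h.co_ne, n1, Ne.symm m1.2.1, Ne.symm m2.2.1])
  simp only [map_add, map_smul, map_sub, h.co_ne n1.symm, h.co_ne n2.symm, h.co_ne n3.symm,
    h.co_ne (Ne.symm m1.2.2.1), h.co_ne (Ne.symm m1.2.2.2), h.co_ne (Ne.symm m2.2.2.2.1), sub_self,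
    smul_zero, add_zero] at r3
  obtain ⟨y, hy⟩ : ∃ y, y = ⟪e i, x⟫ • e i + ⟪e s₁, x⟫ • e o₁ + ⟪e s₂, x⟫ • e o₂ +
    ⟪e s₃, x⟫ • e o₃ := ⟨_, rfl⟩
  have ry : f.Rc K c y := by
    convert r3 using 1
    linear_combination (norm := module) hy - hx'
  have a1 : ⟪x, y⟫ = ⟪e i, x⟫ ^ 2 := by simp [hy, co_e x, z1, z2, z3, pow_two]
  have a2 : ⟪e i, y⟫ = ⟪e i, x⟫ := by
    simp [hy, h.co_self, h.co_ne, Ne.symm m1.1, Ne.symm m2.1, Ne.symm m3.1]
  have a3 : x ∉ F ∙ y := fun e0 => by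
    obtain ⟨a, ha⟩ := Submodule.mem_span_singleton.1 e0
    have e1 := congrArg (f.co (2 * c) (e i)) ha
    simp only [map_smul, a2, smul_eq_mul, mul_eq_right₀ hi0] at e1
    rw [e1, one_smul] at ha
    rw [ha, h.co_self' hx.2] at a1
    exact h3 (by linear_combination hi + 4 * a1)
  have a4 := h.tri h4 hS hx (h.rc i) ry (by rwa [co_e]) (by rwa [a2]) (fun e0 => by
    rw [a1, a2, co_e x] at e0
    exact mul_ne_zero h3 h3 (by linear_combination 16 * e0 - (4 * ⟪e i, x⟫ ^ 2 - 7) * hi)) (Submodule.subset_span (by simp)) (Submodule.subset_span (by simp))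
    hx ry a3
  rw [a1] at a4
  rcases Lt.quarter h2 h3 hi a4 with a5 | a5
  · exact a3 (Submodule.mem_span_singleton.2 ⟨-1, by
      rw [neg_one_smul, h.level h4 hS hx ry.neg (by rw [map_neg, a1, a5, neg_neg])]⟩)
  · have a6 := congrArg (f.co (2 * c) (e o₁)) (h.level h4 hS hx (h.move hx (Ne.symm m1.1) (Ne.symm m2.2.2.2.2)
      (Ne.symm m2.1) z1 z2).neg (by
        simp only [map_neg, map_add, map_smul, map_sub, co_e x, z1, h.co_self' hx.2, smul_eq_mul]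
        linear_combination -a5))
    simp [z1, h.co_self, h.co_ne m1.1, hi0] at a6

theorem sh_of_rc {x : V} (hx : f.Rc K c x) : f.Sh e c x := by
  classical
  have h3 := three_ne_zero_of_prime h.hp h4
  have h2 := h.two_ne
  have h4' := four_ne h2
  induction hN : (Finset.univ.filter fun j => ⟪e j, x⟫ ≠ 0).card using Nat.strong_induction_on
    generalizing x with | _ N ih => ?_
  by_contra hn
  have H : ∀ s r, ∃ j, j ≠ s ∧ j ≠ r ∧ ⟪e j, x⟫ ≠ 0 := fun s r => by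
    by_contra! H
    by_cases hsr : s = r
    · obtain ⟨o, ho⟩ := h.ex [s] (by simp)
      exact hn (h.sh_of_two h4 hS hx (show s ≠ o by grind) fun j a _ => H j a (hsr ▸ a))
    · exact hn (h.sh_of_two h4 hS hx hsr H)
  have hxx := h.co_self' hx.2
  have F0 : ∀ i, 4 * ⟪e i, x⟫ ^ 2 ≠ 4 := fun i e0 => by
    obtain ⟨k, n, -, hk⟩ := H i i
    have := congrArg (f.co (2 * c) (e k)) (h.level h4 hS hx ((h.rc i).rf hx).neg (by
      simp only [h.rf_e, map_neg, map_smul, map_sub, co_e x, hxx, smul_eq_mul]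
      exact mul_left_cancel₀ h2 (by linear_combination e0)))
    simp only [h.rf_e, map_neg, map_smul, map_sub, h.co_ne n, smul_eq_mul] at this
    exact mul_ne_zero h2 hk (by linear_combination -this)
  have F1 : ∀ i j, i ≠ j → 4 * ⟪e i, x⟫ ^ 2 + 4 * ⟪e j, x⟫ ^ 2 ≠ 4 := fun i j hij e0 => by
    obtain ⟨k, n, n', hk⟩ := H i j
    have := congrArg (f.co (2 * c) (e k)) (h.level h4 hS hx ((h.rc i).rf ((h.rc j).rf hx)).neg (by
      simp only [h.rf_e, map_neg, map_smul, map_sub, co_e x, hxx, smul_eq_mul, h.co_ne hij]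
      exact mul_left_cancel₀ h2 (by linear_combination e0)))
    simp only [h.rf_e, map_neg, map_smul, map_sub, h.co_ne n, h.co_ne n', smul_eq_mul] at this
    exact mul_ne_zero h2 hk (by linear_combination -this)
  have F2 : ∀ i j, i ≠ j → ⟪e i, x⟫ ≠ 0 → ⟪e j, x⟫ ≠ 0 → Lt (4 * ⟪e i, x⟫ ^ 2) ∧
      Lt (4 * ⟪e i, x⟫ ^ 2 * (4 * ⟪e j, x⟫ ^ 2)) := fun i j hij hi hj => by
    obtain ⟨k, n, n', hk⟩ := H i j
    have T := fun y y' => h.tri h4 hS (h.rc i) hx (h.rc j) hi (by rwa [co_e]) (fun e0 => by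
      rw [h.co_ne hij, co_e x] at e0
      exact F1 i j hij (by linear_combination -4 * e0)) (y := y) (y' := y')
    refine ⟨T _ _ (Submodule.subset_span (by simp)) (Submodule.subset_span (by simp)) (h.rc i) hx
      (not_mem_span_comm (h.ne_zero i) (not_mem_span_of_co hk (h.co_ne n))), ?_⟩
    have := T _ _ (rf_mem_of_mem (Submodule.subset_span (by simp)) (Submodule.subset_span (by simp)))
      (Submodule.subset_span (by simp)) (hx.rf (h.rc i)) (h.rc j) (not_mem_span_of_co (d := e k)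
        (by simp [h.rf_c hx.2, h.co_ne n, h2, hk, co_e x, hi]) (h.co_ne n'))
    rw [co_e, h.rf_c hx.2] at this
    simp only [map_sub, map_smul, h.co_ne hij.symm, co_e x, smul_eq_mul] at this
    convert this using 1
    ring
  have F3 : ∀ i, ⟪e i, x⟫ ≠ 0 → Lt (4 * ⟪e i, x⟫ ^ 2) := fun i hi => by
    obtain ⟨k, n, -, hk⟩ := H i i
    exact (F2 i k n.symm hi hk).1
  set S := Finset.univ.filter fun j => ⟪e j, x⟫ ≠ 0
  have hS0 : ∀ j, j ∉ S → ⟪e j, x⟫ = 0 := by simp [S]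
  have F4 : (S.filter fun j => ¬ 4 * ⟪e j, x⟫ ^ 2 = 1).card ≤ 2 := by
    by_contra! H2
    obtain ⟨i, j, k, hi, hj, hk, n1, n2, n3⟩ := Finset.two_lt_card_iff.1 H2
    simp only [S, Finset.mem_filter, Finset.mem_univ, true_and] at hi hj hk
    have R : ∀ i j, i ≠ j → ⟪e i, x⟫ ≠ 0 ∧ ¬ 4 * ⟪e i, x⟫ ^ 2 = 1 →
        ⟪e j, x⟫ ≠ 0 ∧ ¬ 4 * ⟪e j, x⟫ ^ 2 = 1 → 4 * ⟪e i, x⟫ ^ 2 + 4 * ⟪e j, x⟫ ^ 2 = 3 :=
      fun i j n hi hj => ((Lt.rule h2 h3 (F3 i hi.1) (F3 j hj.1) (F2 i j n hi.1 hj.1).2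
        (by simp [h4', hi.1]) (by simp [h4', hj.1]) (F0 i) (F0 j) (F1 i j n)).resolve_left
          hi.2).resolve_left hj.2
    exact Lt.three h2 (F3 i hi.1) (by simp [h4', hi.1]) hi.2 (F0 i) (R i j n1 hi hj) (R i k n2 hi hk)
      (R j k n3 hj hk)
  have F5 := Finset.card_filter_add_card_filter_not (s := S) fun j => 4 * ⟪e j, x⟫ ^ 2 = 1
  by_cases F6 : 2 < (S.filter fun j => 4 * ⟪e j, x⟫ ^ 2 = 1).card
  · obtain ⟨i, j, k, hi, hj, hk, n1, n2, n3⟩ := Finset.two_lt_card_iff.1 F6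
    simp only [S, Finset.mem_filter, Finset.mem_univ, true_and] at hi hj hk
    have r := hx.rf ((h.rc i).rf ((h.rc j).rf ((h.rc k).rf hx)))
    have e1 : f.rf x (f.rf (e i) (f.rf (e j) (f.rf (e k) x))) =
        (2 : F) • (x - ⟪e i, x⟫ • e i - ⟪e j, x⟫ • e j - ⟪e k, x⟫ • e k) := by
      rw [h.rf_c hx.2, show 2 * ⟪x, f.rf (e i) (f.rf (e j) (f.rf (e k) x))⟫ = -1 by
        simp only [h.rf_e, map_sub, map_smul, co_e x, hxx, h.co_ne n1, h.co_ne n2, h.co_ne n3,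
          smul_eq_mul]
        linear_combination -hi.2 - hj.2 - hk.2]
      simp only [h.rf_e, map_sub, map_smul, h.co_ne n1, h.co_ne n2, h.co_ne n3, smul_eq_mul]
      module
    rw [e1] at r
    set z := (2 : F) • (x - ⟪e i, x⟫ • e i - ⟪e j, x⟫ • e j - ⟪e k, x⟫ • e k) with hz
    have z1 : ∀ l, l ∉ [i, j, k] → ⟪e l, z⟫ = 2 * ⟪e l, x⟫ := fun l hl => by
      simp only [List.mem_cons, List.not_mem_nil, or_false, not_or] at hl
      simp [hz, h.co_ne, hl]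
    have z2 : ∀ l, l ∈ [i, j, k] → ⟪e l, z⟫ = 0 := fun l hl => by
      simp only [List.mem_cons, List.not_mem_nil, or_false] at hl
      rcases hl with rfl | rfl | rfl <;>
        simp [hz, h.co_self, h.co_ne, n1, n2, n3, n1.symm, n2.symm, n3.symm]
    obtain ⟨s, t, -, h5, h6 | h6⟩ := ih _ (hN ▸ Finset.card_lt_card ⟨fun l hl => by
      by_cases h5 : l ∈ [i, j, k]
      · simp [z2 l h5] at hl
      · simpa [S, z1 l h5, h2] using hl, fun h5 => by
        simpa [z2 i (by simp)] using h5 (show i ∈ S by simp [S, hi.1])⟩) r rfl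
    · refine h.not_four h4 hS hx hi.2 (S := {i, j, k, s}) Finset.card_le_four fun l hl => ?_
      refine (mul_eq_zero.1 ((z1 l (by grind)).symm.trans ?_)).resolve_left h2
      by_cases h7 : l = t
      · exact h7 ▸ h6
      · exact h5 l (by grind) h7
    · by_cases h7 : s ∈ [i, j, k]
      · simp [z2 s h7] at h6
      · rw [z1 s h7] at h6
        exact (F3 s fun e0 => by simp [e0] at h6).half h3 (by linear_combination h6)
  · obtain ⟨i, hi⟩ : (S.filter fun j => 4 * ⟪e j, x⟫ ^ 2 = 1).Nonempty := by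
      obtain ⟨i, hi⟩ := h.exists_co_ne hx.1.ne_zero
      obtain ⟨j, n, -, hj⟩ := H i i
      obtain ⟨k, n1, n2, hk⟩ := H i j
      have : 2 < S.card := Finset.two_lt_card_iff.2 ⟨i, j, k, by simpa [S] using hi,
        by simpa [S] using hj, by simpa [S] using hk, n.symm, n1.symm, n2.symm⟩
      exact Finset.card_pos.1 (by omega)
    exact h.not_four h4 hS hx (Finset.mem_filter.1 hi).2 (by omega) hS0

end five

theorem coord {x : V} (hx : f.q x = c) (hs : f.Sh e c x) (j : ι) :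
    ⟪e j, x⟫ = 0 ∨ ⟪e j, x⟫ ^ 2 = 1 ∨ 2 * ⟪e j, x⟫ ^ 2 = 1 := by
  obtain ⟨s, r, hsr, H, h1⟩ := hs
  have h3 := h.co_self' hx
  nth_rw 2 [h.eq_two hsr H] at h3
  simp only [map_add, map_smul, co_e x, smul_eq_mul, ← pow_two] at h3
  by_cases h4 : j = s
  · exact Or.inr (h4 ▸ h1.imp_left fun h1 => by simpa [h1] using h3)
  by_cases h5 : j = r
  · exact h5 ▸ h1.imp_right fun h1 => Or.inr (by linear_combination 2 * h3 - h1)
  · exact Or.inl (H j h4 h5)

theorem exists_not_sh {m : V ≃ₗ[F] V} (hm : m ∈ K) (hO : m ∈ f.O) (hn : m ∉ dstab (ln F e)) :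
    ∃ x, f.Rc K c x ∧ ¬ f.Sh e c x := by
  by_contra! H
  obtain ⟨k, hk⟩ := not_forall.1 (mt h.mem_dstab_iff.2 hn)
  obtain ⟨s, r, hsr, h1, h2 | h2⟩ := H _ ((h.rc k).map hm hO)
  · refine hk ⟨s, ⟪e s, m (e k)⟫, ?_⟩
    nth_rw 1 [h.eq_two hsr h1, h2, zero_smul, add_zero]
  obtain ⟨s', r', -, h3, -⟩ := H _ ((h.rc s).map (inv_mem hm) (inv_mem hO))
  obtain ⟨l, n⟩ := h.ex [k, s', r'] (by simp)
  simp only [List.mem_cons, List.not_mem_nil, or_false, not_or] at n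
  have h4 := h.co_symm ((co_inv hO _ _).symm.trans (h3 l n.2.1 n.2.2))
  set β := ⟪e s, m (e k)⟫
  have q1 : f.q (β • (e k + e l)) = c := by
    rw [f.q_smul, f.q_add_of_B_eq_zero (h.ne _ _ (Ne.symm n.1)), h.q_e, h.q_e]
    change β * β * _ = _
    linear_combination c * h2
  have d1 : f.rf (β • (e k + e l)) ∈ dstab (ln F e) := h.mem_dstab_iff.2 fun j => by
    rw [h.rf_c q1, co_e]
    by_cases h5 : j = k
    · refine ⟨l, -1, ?_⟩
      simp only [h5, map_smul, map_add, h.co_self, h.co_ne (Ne.symm n.1)]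
      linear_combination (norm := module) -h2 • (e k + e l)
    by_cases h6 : j = l
    · refine ⟨k, -1, ?_⟩
      simp only [h6, map_smul, map_add, h.co_self, h.co_ne n.1]
      linear_combination (norm := module) -h2 • (e k + e l)
    · exact ⟨j, 1, by simp [h.co_ne h5, h.co_ne h6]⟩
  have r1 : f.Rc K c (β • (e k + e l)) := ⟨⟨q1 ▸ h.c_ne, (mul_mem_cancel_right (h.rf k)).1 (h.le
    ⟨mul_mem d1 (h.rf_e_mem k), h.sdec.nondeg'.rf_mul_rf_mem_E (h.card_eq ▸ le_trans (by omega) h.h7)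
      (q1 ▸ h.c_ne) (h.rc k).1.1 (by rw [q1, h.q_e])⟩)⟩, q1⟩
  have h5 := h.coord (r1.map hm hO).2 (H _ (r1.map hm hO)) s
  simp only [map_smul, map_add, h4, add_zero, smul_eq_mul] at h5
  change β * β = 0 ∨ (β * β) ^ 2 = 1 ∨ 2 * (β * β) ^ 2 = 1 at h5
  rcases h5 with h5 | h5 | h5
  · exact one_ne_zero (α := F) (by linear_combination 2 * h5 - h2)
  · have h6 := three_le_card h.two_ne
    by_cases h7 : Nat.card F = 3
    · have := Fintype.ofFinite F
      have h8 := FiniteField.pow_card_sub_one_eq_one β (fun e0 => by simp [e0] at h2)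
      rw [Fintype.card_eq_nat_card, h7] at h8
      exact one_ne_zero (α := F) (by linear_combination h2 - 2 * h8)
    · exact three_ne_zero_of_prime h.hp (by omega)
        (by linear_combination (2 * β ^ 2 + 1) * h2 - 4 * h5)
  · exact one_ne_zero (α := F) (by linear_combination (2 * β ^ 2 + 1) * h2 - 2 * h5)

theorem E_le {m : V ≃ₗ[F] V} (hm : m ∈ K) (hO : m ∈ f.O) (hn : m ∉ dstab (ln F e)) : f.E ≤ K := by
  obtain ⟨x, hx, hx'⟩ := h.exists_not_sh hm hO hn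
  have h6 := three_le_card h.two_ne
  refine h.finish (by_contra fun hS => ?_)
  by_cases h7 : Nat.card F = 3
  · exact hS (h.st_three h7 hx hx')
  · exact hx' (h.sh_of_rc (by omega) hS hx)

end OF

theorem Fr.exists_neg (h : f.Fr e (2 * c)) (h5 : 5 ≤ Fintype.card ι) [DecidableEq ι]
    (s : Finset ι) : ∃ g ∈ dstab (ln F e), (∀ j, g (e j) = if j ∈ s then -e j else e j) ∧
      (Even s.card → g ∈ f.E) ∧ (Odd s.card → ∀ i, g * f.rf (e i) ∈ f.E) := by
  induction s using Finset.induction_on with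
  | empty => exact ⟨1, one_mem _, by simp, fun _ => one_mem _, by simp⟩
  | insert a s ha ih =>
    obtain ⟨g, hg, h1, h2, h3⟩ := ih
    rw [Finset.card_insert_of_notMem ha, Nat.even_add_one, Nat.odd_add_one, Nat.not_even_iff_odd,
      Nat.not_odd_iff_even]
    refine ⟨_, mul_mem hg (h.rf_e_mem a), fun j => ?_, fun h4 => h3 h4 a, fun h4 i =>
      mul_assoc g _ _ ▸ mul_mem (h2 h4) (h.rf_mul_rf_e h5 a i).2⟩
    rw [LinearEquiv.mul_apply]
    by_cases hj : a = j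
    · subst hj
      rw [rf_self (by rw [h.q_e]; exact h.c_ne), map_neg, h1]; simp [ha]
    · simp [rf_of_perp (h.ne a j hj), h1, Ne.symm hj]

theorem Fr.quad_E_le (h : f.Fr e (2 * c)) (hp : (Nat.card F).Prime)
    (hn : 9 ≤ Fintype.card ι ∨ 7 ≤ Fintype.card ι ∧ Odd (Fintype.card ι))
    {M : Subgroup (V ≃ₗ[F] V)} (hM : dstab (ln F e) ⊓ f.E ≤ M) (hO : M ≤ f.O)
    (hM' : ¬ M ≤ dstab (ln F e)) : f.E ≤ M := by
  classical
  have hf := h.sdec.nondeg'
  have h5 : 5 ≤ Fintype.card ι := by omega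
  have h5' : 5 ≤ finrank F V := h.card_eq ▸ h5
  rcases hn with hn | ⟨h7, ho⟩
  · have := Module.finite_of_finite F (M := V)
    obtain ⟨m, hm, hm', i, j, a, ha⟩ := h.exists_not_mono h.two_ne (h.fGen h5 hM) hO hn hM'
    refine E_le_of_ktrick hf h5' hM (by rw [h.q_e]; exact h.c_ne) (h.rf_e_mem i)
      fun K hK hi h1 h2 => OF.E_le ⟨h, hK, fun j => h2 _ (hM (h.rf_mul_rf_e h5 j i)), by omega, hp⟩
        (h1 m hm (hO hm) ?_) (hO hm) hm'
    rw [ha, rf_smul (fun e0 => h.ne_zero i (by simpa [e0] using ha))]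
    exact hM (h.rf_mul_rf_e h5 j i)
  obtain ⟨g, hg, h1, -, h2⟩ := h.exists_neg h5 Finset.univ
  have h3 : ∀ v, g v = -v := fun v => by
    rw [← h.sum_co v]; simp [h1]
  have h4 : g * g = 1 := LinearEquiv.ext fun v => by simp [h3]
  have h6 : ∀ m ∈ M, m ∈ relCore M (Subgroup.zpowers g) ⊔ Subgroup.zpowers g := fun m hm =>
    Subgroup.mem_sup_left (mem_relCore_zpowers h4 hm
      ((LinearEquiv.ext fun v => by simp [h3] : m = g * m * g) ▸ hm))
  obtain ⟨m, hm, hm'⟩ := SetLike.not_le_iff_exists.1 hM'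
  refine le_of_le_relCore_sup (((quad_iso3 f).idx2 hf h5').commutator_E hf h5') (zpowers_comm g)
    (OF.E_le ⟨h, fun n hn => h6 n (hM hn), fun i => ?_, h7, hp⟩ (h6 m hm) (hO hm) hm')
  exact (mul_mem_cancel_left (Subgroup.mem_sup_right (Subgroup.mem_zpowers g))).1
    (h6 _ (hM ⟨mul_mem hg (h.rf_e_mem i), h2 ho i⟩))

end Form

theorem Form.SDec.exists_fr {F : Type*} [Field F] {T : FormType F} {V : Type*} [AddCommGroup V]
    [Module F V] [FiniteDimensional F V] {f : Form T V} {ι : Type*} [Fintype ι] [Nonempty ι]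
    {D : ι → Submodule F V} (h : f.SDec D) (hε : T.ε = 1) (hk : ∀ i, finrank F (D i) = 1)
    (hiso : f.Isom D) : ∃ e c, f.Fr e c ∧ D = Form.ln F e := by
  obtain ⟨i₀⟩ := ‹Nonempty ι›
  obtain ⟨v, hv0, -⟩ := finrank_eq_one_iff'.1 (hk i₀)
  choose φ hφ using hiso i₀
  have h0 : ∀ i, (φ i v : V) ≠ 0 := fun i => by simpa using hv0
  have h1 : ∀ i, Form.ln F (fun i => (φ i v : V)) i = D i := fun i =>
    Submodule.eq_of_le_of_finrank_le ((Submodule.span_singleton_le_iff_mem _ _).2 (φ i v).2)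
      (by rw [hk, Form.ln, finrank_span_singleton (h0 i)])
  have h2 : ∀ i, f.B (φ i v) (φ i v) = f.B v v := fun i => (hφ i).B_eq v v
  refine ⟨_, f.B v v, ⟨hε, fun e0 => h0 i₀ (Form.restrict_nondeg_iff'.1 (h.nondeg i₀) _ (φ i₀ v).2
    (f.perp_anti (h1 i₀).ge (f.mem_perp_span_singleton.2 ((h2 i₀).trans e0)))),
    by rw [f.σ_B, hε, one_mul], h2,
    fun i j hij => f.mem_perp.1 (h.orth i j hij (φ j v).2) _ (φ i v).2, ?_⟩, (funext h1).symm⟩
  rw [Submodule.span_range_eq_iSup, ← h.top]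
  exact iSup_congr h1

end CL.Witt

namespace CL.FGL

open Module Matrix Cfsg Cfsg.Geo CL.Witt CL.Witt.Form CL.Orth

theorem quad_frame_isMaximalIn {F : Type*} [Field F] [Fintype F] {ι : Type} [Fintype ι]
    [DecidableEq ι] (Q : QuadraticForm F (ι → F)) (hf : (ofQuad Q).Nondeg)
    (hp : (Fintype.card F).Prime)
    (hn : 9 ≤ Fintype.card ι ∨ 7 ≤ Fintype.card ι ∧ Odd (Fintype.card ι)) {t : ℕ}
    {D : Fin t → Submodule F (ι → F)} (hD : IsOrthogonalMDecomposition Q 1 D) :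
    IsMaximalIn (omegaGL Q) (decompositionStabilizer D ⊓ omegaGL Q) := by
  have ht := hD.decomp.decomp.two_le
  have : Nonempty (Fin t) := ⟨⟨0, by omega⟩⟩
  have h5 : 5 ≤ Fintype.card ι := by omega
  have hne := quad_not_E_le_dstab Q hf hD.decomp h5
  obtain ⟨e, c, h, rfl⟩ := (sdec_of _ (quad_B_iff Q) hD.decomp).exists_fr rfl
    hD.decomp.decomp.finrank_eq (isom_of Q hD)
  obtain rfl : c = 2 * (ofQuad Q).q (e ⟨0, by omega⟩) := by rw [← qB_self, h.self]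
  refine decomp_isMaximalIn (fun _ => mem_omegaGL_iff_E Q hf h5) hne fun M h1 h2 g hg hg' =>
    h.quad_E_le (by rwa [Nat.card_eq_fintype_card]) (by simpa [h.card_eq] using hn) h1
      (h2.trans E_le_O) fun h3 => hg' (h3 hg)

end CL.FGL
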