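import Mathlib
import Cfsg.Agent.CLAS.Ref8

/-!
Orthogonal frames in dimension at least five.
-/

set_option autoImplicit false
set_option linter.unusedSectionVars false

namespace CL.Witt

open Module

namespace Form

variable {F : Type*} [Field F] [Finite F] {V : Type*} [AddCommGroup V] [Module F V]
  [FiniteDimensional F V] {f : Form (FormType.quad F) V} {K : Subgroup (V ≃ₗ[F] V)}
  {ι : Type*} [Fintype ι] {e : ι → V} {c : F}

local notation "⟪" x ", " y "⟫" => Form.co f (2 * c) x y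

theorem Fr.rf_pair (h : f.Fr e (2 * c)) {i j : ι} (hij : i ≠ j) {α β : F} (hα : α * α = 1)
    (hβ : β * β = 1) : (∀ v, f.rf (α • e i - β • e j) v =
      v - (α * ⟪e i, v⟫ - β * ⟪e j, v⟫) • (α • e i - β • e j)) ∧
      f.q (α • e i - β • e j) = 2 * c ∧ f.rf (α • e i - β • e j) ∈ dstab (ln F e) := by
  have k1 : f.q (α • e i - β • e j) = 2 * c := by
    rw [q_sub, qB_smul_left, B_smul_right, h.ne i j hij, quad_q_smul, quad_q_smul, h.q_e, h.q_e]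
    simp only [mul_zero, map_zero, sub_zero]
    linear_combination c * hα + c * hβ
  have k2 : ∀ v, f.rf (α • e i - β • e j) v =
      v - (α * ⟪e i, v⟫ - β * ⟪e j, v⟫) • (α • e i - β • e j) := fun v => by
    rw [rf_apply, k1, B_sub_left, qB_smul_left, qB_smul_left, co_apply, co_apply]
    congr 2; ring
  refine ⟨k2, k1, h.mem_dstab_iff.2 fun l => ?_⟩
  rw [k2]
  by_cases h5 : l = i
  · refine ⟨j, α * β, ?_⟩
    simp only [h5, h.co_self, h.co_ne hij.symm]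
    linear_combination (norm := module) -hα • e i
  by_cases h6 : l = j
  · refine ⟨i, α * β, ?_⟩
    simp only [h6, h.co_self, h.co_ne hij]
    linear_combination (norm := module) -hβ • e j
  · exact ⟨l, 1, by simp [h.co_ne (Ne.symm h5), h.co_ne (Ne.symm h6)]⟩

variable (f K e c) in
/-- `K` contains the frame stabiliser and the reflections in the frame. -/
structure OF5 : Prop extends f.Fr e (2 * c) where
  le : dstab (ln F e) ⊓ f.E ≤ K
  rf : ∀ i, f.rf (e i) ∈ K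
  h5 : 5 ≤ Fintype.card ι
  hp : (Nat.card F).Prime

namespace OF5

variable (h : f.OF5 K e c)
include h

theorem rc (i : ι) : f.Rc K c (e i) := ⟨⟨by rw [h.q_e]; exact h.c_ne, h.rf i⟩, h.q_e i⟩

theorem ex (l : List ι) (hl : l.length < 5) : ∃ a, a ∉ l :=
  exists_notMem_of_lt l (by rw [Nat.card_eq_fintype_card]; exact hl.trans_le h.h5)

theorem cyc {i j k : ι} (hij : i ≠ j) (hjk : j ≠ k) (hik : i ≠ k) :
    ∃ u ∈ K, u ∈ f.O ∧ f.IsCyc (2 * c) u (e i) (e j) (e k) := by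
  obtain ⟨u, hu, hu'⟩ := h.exists_cyc (by have := h.h5; omega) hij hjk hik
  exact ⟨u, h.le hu, E_le_O hu.2, hu'⟩

theorem move {x : V} (hx : f.Rc K c x) {i j k : ι} (hij : i ≠ j) (hjk : j ≠ k) (hik : i ≠ k)
    (hj : ⟪e j, x⟫ = 0) (hk : ⟪e k, x⟫ = 0) : f.Rc K c (x + ⟪e i, x⟫ • (e j - e i)) := by
  obtain ⟨u, hu, hO, hu'⟩ := h.cyc hij hjk hik
  simpa [hu' x, hj, hk] using hx.map hu hO

theorem finish (hS : f.St K c) : f.E ≤ K := by
  obtain ⟨Z, nd, fu, hG, h3, hc, ⟨y, hy, ry⟩, sp⟩ := hS.exists_split h.two_ne h.sdec.nondeg'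
    (top_le_iff.1 (h.top ▸ Submodule.span_mono (by rintro _ ⟨i, rfl⟩; exact h.rc i)))
  obtain ⟨i, hi⟩ := h.exists_co_ne ry.1.ne_zero
  by_cases H : ∃ b ∈ Z, f.q b = c ∧ ⟪e i, b⟫ ≠ 0 ∧ ∃ j, j ≠ i ∧ ⟪e j, b⟫ ≠ 0
  · obtain ⟨b, hb, qb, h1, j, hj, h2⟩ := H
    refine Full.E_le (h.eq_top_of_split (by have := h.h5; omega) h.rc (fun i j k h3 h4 h5 => ?_) sp
      hb (hc b hb qb) hj h2 h1 ▸ fu)
    obtain ⟨u, hu, hO, hu'⟩ := h.cyc h3 h4 h5
    exact ⟨u, hu', fun v hv => hv.map hu hO⟩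
  push Not at H
  rcases hG.conn nd h.c_ne (F ∙ e i) _ le_rfl fun v hv qv => by
    by_cases h1 : ⟪e i, v⟫ = 0
    · exact Or.inr (f.mem_perp_span_singleton.2 (h.co_eq_zero.1 h1))
    · exact Or.inl (Submodule.mem_span_singleton.2 ⟨_, (h.eq_smul (H v hv qv h1)).symm⟩)
    with h1 | h1
  · have := Submodule.finrank_mono h1
    rw [finrank_span_singleton (h.ne_zero i)] at this
    omega
  · exact absurd (h.co_eq_zero.2 (f.mem_perp_span_singleton.1 (h1 hy))) hi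

theorem st_three (h3 : Nat.card F = 3) {x : V} (hx : f.Rc K c x) (hn : ¬ f.Sh e c x) :
    f.St K c := by
  have sq : ∀ a : F, a ≠ 0 → a * a = 1 := fun a ha => by
    have := Fintype.ofFinite F
    have h1 := FiniteField.pow_card_sub_one_eq_one a ha
    rwa [Fintype.card_eq_nat_card, h3, pow_two] at h1
  have c3 : (3 : F) = 0 := by linear_combination sq 2 h.two_ne
  have hxx := h.co_self' hx.2
  obtain ⟨i, hi⟩ := h.exists_co_ne hx.1.ne_zero
  have H : ∀ s r, s ≠ r → ∃ j, j ≠ s ∧ j ≠ r ∧ ⟪e j, x⟫ ≠ 0 := fun s r hsr => by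
    by_contra! H
    have h1 : ⟪e r, x⟫ ≠ 0 := fun h1 => hn ⟨s, r, hsr, H, Or.inl h1⟩
    have h2 : ⟪e s, x⟫ ≠ 0 := fun h1 => hn ⟨r, s, hsr.symm, fun j a b => H j b a, Or.inl h1⟩
    nth_rw 2 [h.eq_two hsr H] at hxx
    simp only [map_add, map_smul, co_e x, smul_eq_mul, sq _ h1, sq _ h2] at hxx
    exact one_ne_zero (α := F) (by linear_combination hxx)
  obtain ⟨o, ho⟩ := h.ex [i] (by simp)
  obtain ⟨j, hji, -, hj⟩ := H i o (by grind)
  obtain ⟨k, hki, hkj, hk⟩ := H i j hji.symm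
  set u := ⟪e i, x⟫ • e i + ⟪e j, x⟫ • e j + ⟪e k, x⟫ • e k with hu
  have hux : ⟪x, u⟫ = 0 := by
    simp only [hu, map_add, map_smul, co_e x, smul_eq_mul, sq _ hi, sq _ hj, sq _ hk]
    linear_combination c3
  have c1 : ∀ l, l ≠ i → l ≠ j → l ≠ k → ⟪e l, u⟫ = 0 := fun l h1 h2 h3 => by
    simp [hu, h.co_ne h1, h.co_ne h2, h.co_ne h3]
  have c2 : ⟪e i, u⟫ = ⟪e i, x⟫ ∧ ⟪e j, u⟫ = ⟪e j, x⟫ ∧ ⟪e k, u⟫ = ⟪e k, x⟫ := by
    simp [hu, h.co_self, h.co_ne, hji, hki, hkj, hji.symm, hki.symm, hkj.symm]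
  have qu : f.q u = 0 := by
    rw [h.q_eq]
    nth_rw 2 [hu]
    simp only [map_add, map_smul, co_e u, c2, smul_eq_mul, sq _ hi, sq _ hj, sq _ hk]
    linear_combination c * c3
  obtain ⟨l, hl⟩ := h.exists_co_ne (v := x - u) fun e0 => by
    rw [← sub_eq_zero.1 e0, hxx] at hux
    exact one_ne_zero hux
  have hli : l ≠ i := by rintro rfl; simp [c2.1] at hl
  have hlj : l ≠ j := by rintro rfl; simp [c2.2.1] at hl
  have hlk : l ≠ k := by rintro rfl; simp [c2.2.2] at hl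
  rw [map_sub, c1 l hli hlj hlk, sub_zero] at hl
  have r1 : f.Rc K c (x + u) := by
    have := (h.rc i).rf ((h.rc j).rf ((h.rc k).rf hx))
    rw [h.rf_e, h.rf_e, h.rf_e] at this
    simp only [map_sub, map_smul, h.co_ne hji.symm, h.co_ne hki.symm, h.co_ne hkj.symm, smul_zero,
      sub_zero] at this
    convert this using 1
    linear_combination (norm := module) c3 • u + (-2 : F) • hu
  have e1 := hx.1.step r1.1 qu (h.co_eq_zero.1 (h.co_symm hux))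
  have e2 := e1.sub (e1.map_fix (h.rf l) (rf_mem_O _)
    (rf_of_perp (h.co_eq_zero.1 (c1 l hli hlj hlk))))
  have e3 : ∀ a : F, f.Es K u (a • e l) := fun a => by
    have := e2.smul_prime h.hp (a * (2 * ((f.q x)⁻¹ * ⟪e l, x⟫))⁻¹)
    rwa [h.rf_e, sub_sub_cancel, map_smul, smul_smul, smul_eq_mul,
      inv_mul_cancel_right₀ (by simp [h.two_ne, hx.1.1, hl])] at this
  obtain ⟨l', n1⟩ := h.ex [i, j, k, l] (by simp)
  simp only [List.mem_cons, List.not_mem_nil, or_false, not_or] at n1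
  obtain ⟨g1, q1, d1⟩ := h.toFr.rf_pair (Ne.symm n1.2.2.2) (α := 1) (β := 1) (one_mul 1) (one_mul 1)
  obtain ⟨g2, q2, d2⟩ := h.toFr.rf_pair hji.symm (sq _ hi) (sq _ hj)
  have hg := h.le ⟨mul_mem d1 d2, h.sdec.nondeg'.rf_mul_rf_mem_E (h.card_eq ▸ h.h5)
    (by rw [q1]; exact h.c0) (by rw [q2]; exact h.c0) (by rw [q1, q2])⟩
  have e4 : ∀ a : F, f.Es K u (a • e l') := fun a => by
    have := (e3 a).map_fix hg (mul_mem (rf_mem_O _) (rf_mem_O _)) (by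
      rw [LinearEquiv.mul_apply, g2, c2.1, c2.2.1, sq _ hi, sq _ hj, sub_self, zero_smul, sub_zero,
        g1, c1 l hli hlj hlk, c1 l' n1.1 n1.2.1 n1.2.2.1]
      simp)
    rw [LinearEquiv.mul_apply, g2, g1] at this
    simpa [h.co_self, h.co_ne hli.symm, h.co_ne hlj.symm, h.co_ne n1.2.2.2, smul_sub] using this
  have hW : f.B (e l) (e l) * f.B (e l') (e l') ≠ f.B (e l) (e l') * f.B (e l') (e l) := by
    simp [h.self, h.ne _ _ n1.2.2.2, h.c0]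
  obtain ⟨Z, nd, fu, hd, hle, -⟩ := exists_full ⟨qu, quad_tv⟩ (h.rc i).1.rk
    (mt (fun h1 => h.co_symm (h.co_eq_zero.2 h1)) (c2.1 ▸ hi)) (restrict_nondeg_span_pair hW)
    (f.mem_perp_span_pair.2 ⟨h.co_eq_zero.1 (c1 l hli hlj hlk),
      h.co_eq_zero.1 (c1 l' n1.1 n1.2.1 n1.2.2.1)⟩) fun w hw => by
      obtain ⟨a, b, rfl⟩ := Submodule.mem_span_pair.1 hw
      exact (e3 a).add (e4 b)
  rw [finrank_span_pair_of (h.ne_zero l') (not_mem_span_of_co (c := 2 * c) (d := e l)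
    (by simp [h.co_self]) (h.co_ne (Ne.symm n1.2.2.2)))] at hd
  exact ⟨Z, nd, fu, ⟨_, hle (Submodule.subset_span (by simp)), h.rc l⟩, Or.inl (by omega)⟩

section five

variable (h4 : 4 ≤ Nat.card F) (hS : ¬ f.St K c)
include h4 hS

theorem level {x y : V} (hx : f.Rc K c x) (hy : f.Rc K c y) (hxy : ⟪x, y⟫ = 1) : y = x := by
  by_contra hn
  obtain ⟨i, hi⟩ := h.exists_co_ne (sub_ne_zero.2 hn)
  have h1 : f.B x (y - x) = 0 := by rw [h.B_eq, map_sub, hxy, h.co_self' hx.2, sub_self, mul_zero]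
  have qu : f.q (y - x) = 0 := by
    rw [q_sub, hx.2, hy.2, h.B_eq, co_comm, hxy]; simp [FormType.quad, two_mul]
  have e1 := hx.1.step (by simpa using hy.1) qu (f.B_eq_zero_symm h1)
  obtain ⟨Z, nd, fu, hd, hle, -⟩ := exists_full ⟨qu, quad_tv⟩ (h.rc i).1.rk
    (mt (fun h1 => h.co_symm (h.co_eq_zero.2 h1)) hi) (restrict_nondeg_span_singleton (t := x)
      (by rw [qB_self, hx.2]; exact h.c0)) (f.mem_perp_span_singleton.2 h1) fun w hw => by
      obtain ⟨a, rfl⟩ := Submodule.mem_span_singleton.1 hw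
      simpa [smul_smul, hx.1.1] using e1.smul_prime h.hp (a * f.q x)
  rw [finrank_span_singleton hx.1.ne_zero] at hd
  exact hS ⟨Z, nd, fu, ⟨x, hle (Submodule.mem_span_singleton_self x), hx⟩, Or.inr ⟨hd.symm, h4⟩⟩

theorem tri {a b d : V} (ra : f.Rc K c a) (rb : f.Rc K c b) (rd : f.Rc K c d) (hab : ⟪a, b⟫ ≠ 0)
    (hbd : ⟪b, d⟫ ≠ 0)
    (hg : 1 + 2 * ⟪a, b⟫ * ⟪b, d⟫ * ⟪a, d⟫ - ⟪b, d⟫ ^ 2 - ⟪a, d⟫ ^ 2 - ⟪a, b⟫ ^ 2 ≠ 0) {y y' : V}
    (hy : y ∈ Submodule.span F {a, b, d}) (hy' : y' ∈ Submodule.span F {a, b, d})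
    (ry : f.Rc K c y) (ry' : f.Rc K c y') (hn : y ∉ F ∙ y') : Lt (4 * ⟪y, y'⟫ ^ 2) := by
  have hc := h.c_ne
  have hg' : f.gram a b d ≠ 0 := fun e0 => mul_ne_zero (mul_ne_zero (pow_ne_zero 2 h.c0) hc) hg (by
    rw [gram, ra.2, rb.2, rd.2, h.B_eq, h.B_eq, h.B_eq] at e0
    linear_combination e0)
  obtain ⟨nd, hd⟩ := nondeg_of_gram h.two_ne hg'
  rcases dk3_prime h.two_ne h.hp ra.1 rb.1 rd.1 (mt h.co_eq_zero.2 hab) (mt h.co_eq_zero.2 hbd) hg'
    with fu | sm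
  · exact (hS ⟨_, nd, fu, ⟨a, Submodule.subset_span (by simp), ra⟩, Or.inr ⟨hd, h4⟩⟩).elim
  obtain ⟨g, g1, g5, hg⟩ := sm.1 y hy y' hy' ry.1 ry'.1 hn
  rw [ry.2, ry'.2, h.B_eq] at hg
  rw [show 4 * ⟪y, y'⟫ ^ 2 = Dk.tau g from mul_right_cancel₀ (mul_ne_zero hc hc)
    (by linear_combination -hg)]
  exact Dk.tau_of_le_five g1 g5

theorem sh_of_two {x : V} (hx : f.Rc K c x) {s r : ι} (hsr : s ≠ r)
    (H : ∀ j, j ≠ s → j ≠ r → ⟪e j, x⟫ = 0) : f.Sh e c x := by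
  by_contra hn
  have key : ∀ s r, s ≠ r → (∀ j, j ≠ s → j ≠ r → ⟪e j, x⟫ = 0) → ⟪e r, x⟫ ≠ 0 ∧
      ⟪e s, x⟫ ^ 2 + ⟪e r, x⟫ ^ 2 = 1 ∧ Lt (4 * ⟪e s, x⟫ ^ 2) := fun s r hsr H => by
    have h1 : ⟪e r, x⟫ ≠ 0 := fun h1 => hn ⟨s, r, hsr, H, Or.inl h1⟩
    have h2 : ⟪e s, x⟫ ≠ 0 := fun h1 => hn ⟨r, s, hsr.symm, fun j a b => H j b a, Or.inl h1⟩
    have h3 := h.co_self' hx.2
    nth_rw 2 [h.eq_two hsr H] at h3
    simp only [map_add, map_smul, co_e x, smul_eq_mul, ← pow_two] at h3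
    obtain ⟨o, n1⟩ := h.ex [s, r] (by simp)
    obtain ⟨o', n2⟩ := h.ex [s, r, o] (by simp)
    simp only [List.mem_cons, List.not_mem_nil, or_false, not_or] at n1 n2
    have h5 := h.move hx (Ne.symm n1.2) (Ne.symm n2.2.2) (Ne.symm n2.2.1) (H o n1.1 n1.2)
      (H o' n2.1 n2.2.1)
    refine ⟨h1, h3, h.tri h4 hS hx (h.rc s) h5 (by rwa [co_e]) ?_ (fun e0 => pow_ne_zero 4 h1 ?_)
      (Submodule.subset_span (by simp)) (Submodule.subset_span (by simp)) (h.rc s) hx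
      (not_mem_span_comm (h.ne_zero s) (not_mem_span_of_co h1 (h.co_ne hsr.symm)))⟩
    · simpa [h.co_ne hsr, h.co_ne (Ne.symm n1.1)] using h2
    · simp only [map_add, map_smul, map_sub, h.co_ne hsr, h.co_ne (Ne.symm n1.1), co_e x,
        H o n1.1 n1.2, h.co_self' hx.2, smul_eq_mul] at e0
      linear_combination e0 + 2 * ⟪e r, x⟫ ^ 2 * h3
  obtain ⟨h1, h2, h3⟩ := key s r hsr H
  obtain ⟨h5, -, h6⟩ := key r s hsr.symm fun j a b => H j b a
  have h7 := four_ne h.two_ne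
  exact Lt.two h.two_ne h3 h6 (by simp [h7, h5]) (by simp [h7, h1]) (fun e0 => hn ⟨s, r, hsr, H,
    Or.inr (mul_left_cancel₀ h.two_ne (by linear_combination e0))⟩) (by linear_combination 4 * h2)

theorem quarter_false {x y y' : V} (hx : f.Rc K c x) (ry : f.Rc K c y) (ry' : f.Rc K c y') {i : ι}
    (hi : 4 * ⟪e i, x⟫ ^ 2 = 1) (a2 : ⟪e i, y⟫ = ⟪e i, x⟫) (a1 : ⟪x, y⟫ = ⟪e i, x⟫ ^ 2)
    (a7 : ⟪x, y'⟫ = 1 - ⟪e i, x⟫ ^ 2) (a8 : -y' ≠ x) : False := by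
  have h3 := three_ne_zero_of_prime h.hp h4
  have h2 := h.two_ne
  have hi0 : ⟪e i, x⟫ ≠ 0 := fun e0 => by simp [e0] at hi
  have a3 : x ∉ F ∙ y := fun e0 => by
    obtain ⟨a, ha⟩ := Submodule.mem_span_singleton.1 e0
    have e1 := congrArg (f.co (2 * c) (e i)) ha
    simp only [map_smul, a2, smul_eq_mul, mul_eq_right₀ hi0] at e1
    rw [e1, one_smul] at ha
    rw [ha, h.co_self' hx.2] at a1
    exact h3 (by linear_combination hi + 4 * a1)
  have a4 := h.tri h4 hS hx (h.rc i) ry (by rwa [co_e]) (by rwa [a2]) (fun e0 => by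
    rw [a1, a2, co_e x] at e0
    exact mul_ne_zero h3 h3 (by linear_combination 16 * e0 - (4 * ⟪e i, x⟫ ^ 2 - 7) * hi))
    (Submodule.subset_span (by simp)) (Submodule.subset_span (by simp)) hx ry a3
  rw [a1] at a4
  rcases Lt.quarter h2 h3 hi a4 with a5 | a5
  · exact a3 (Submodule.mem_span_singleton.2 ⟨-1, by
      rw [neg_one_smul, h.level h4 hS hx ry.neg (by rw [map_neg, a1, a5, neg_neg])]⟩)
  · exact a8 (h.level h4 hS hx ry'.neg (by rw [map_neg, a7, a5, neg_neg]))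

theorem not_three {x : V} (hx : f.Rc K c x) {i s₁ s₂ : ι} (hi : 4 * ⟪e i, x⟫ ^ 2 = 1)
    (n1 : i ≠ s₁) (n2 : i ≠ s₂) (n3 : s₁ ≠ s₂) (h8 : ∀ j, j ∉ [i, s₁, s₂] → ⟪e j, x⟫ = 0) :
    False := by
  have hi0 : ⟪e i, x⟫ ≠ 0 := fun e0 => by simp [e0] at hi
  obtain ⟨o₁, m1⟩ := h.ex [i, s₁, s₂] (by simp)
  obtain ⟨o₂, m2⟩ := h.ex [i, s₁, s₂, o₁] (by simp)
  have z1 := h8 o₁ m1
  have z2 := h8 o₂ (by grind)
  have hx' : x = ⟪e i, x⟫ • e i + ⟪e s₁, x⟫ • e s₁ + ⟪e s₂, x⟫ • e s₂ :=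
    h.ext fun j => by
      by_cases hj : j ∈ [i, s₁, s₂]
      · simp only [List.mem_cons, List.not_mem_nil, or_false] at hj
        rcases hj with rfl | rfl | rfl <;> simp [h.co_self, h.co_ne, n1, n2, n3,
          n1.symm, n2.symm, n3.symm]
      · rw [h8 j hj]
        simp only [List.mem_cons, List.not_mem_nil, or_false, not_or] at hj
        simp [h.co_ne, hj]
  simp only [List.mem_cons, List.not_mem_nil, or_false, not_or] at m1 m2
  have r1 := h.move hx (Ne.symm m1.2.1) (Ne.symm m2.2.2.2) (Ne.symm m2.2.1) z1 z2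
  have r2 := h.move r1 (Ne.symm m2.2.2.1) m2.2.1 n3.symm (by simp [z2, h.co_ne, m2])
    (by simp [h.co_self, h.co_ne, Ne.symm m1.2.1])
  simp only [map_add, map_smul, map_sub, h.co_ne n3.symm, h.co_ne (Ne.symm m1.2.2), sub_self,
    smul_zero, add_zero] at r2
  obtain ⟨y, hy⟩ : ∃ y, y = ⟪e i, x⟫ • e i + ⟪e s₁, x⟫ • e o₁ + ⟪e s₂, x⟫ • e o₂ := ⟨_, rfl⟩
  have ry : f.Rc K c y := by
    convert r2 using 1
    linear_combination (norm := module) hy - hx'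
  refine h.quarter_false h4 hS hx ry (h.move hx (Ne.symm m1.1) (Ne.symm m2.2.2.2) (Ne.symm m2.1) z1 z2)
    hi ?_ ?_ ?_ fun a6 => ?_
  · simp [hy, h.co_self, h.co_ne, Ne.symm m1.1, Ne.symm m2.1]
  · simp [hy, co_e x, z1, z2, pow_two]
  · simp only [map_add, map_smul, map_sub, co_e x, z1, h.co_self' hx.2, smul_eq_mul]
    ring
  · have := congrArg (f.co (2 * c) (e o₁)) a6
    simp [z1, h.co_self, h.co_ne m1.1, hi0] at this

theorem not_four {x : V} (hx : f.Rc K c x) {i j k s : ι} (hi : 4 * ⟪e i, x⟫ ^ 2 = 1)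
    (hj : 4 * ⟪e j, x⟫ ^ 2 = 1) (hk : 4 * ⟪e k, x⟫ ^ 2 = 1) (n1 : i ≠ j) (n2 : i ≠ k) (n3 : j ≠ k)
    (h8 : ∀ l, l ∉ [i, j, k, s] → ⟪e l, x⟫ = 0) : False := by
  by_cases hs : s ∈ [i, j, k]
  · exact h.not_three h4 hS hx hi n1 n2 n3 fun l hl => h8 l (by grind)
  simp only [List.mem_cons, List.not_mem_nil, or_false, not_or] at hs
  have h2 := h.two_ne
  have h4' := four_ne h2
  have hx' : x = ⟪e i, x⟫ • e i + ⟪e j, x⟫ • e j + ⟪e k, x⟫ • e k + ⟪e s, x⟫ • e s :=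
    h.ext fun l => by
      by_cases hl : l ∈ [i, j, k, s]
      · simp only [List.mem_cons, List.not_mem_nil, or_false] at hl
        rcases hl with rfl | rfl | rfl | rfl <;> simp [h.co_self, h.co_ne, n1, n2, n3, hs,
          n1.symm, n2.symm, n3.symm, Ne.symm hs.1, Ne.symm hs.2.1, Ne.symm hs.2.2]
      · rw [h8 l hl]
        simp only [List.mem_cons, List.not_mem_nil, or_false, not_or] at hl
        simp [h.co_ne, hl]
  have hxx := h.co_self' hx.2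
  have hn : ⟪e i, x⟫ ^ 2 + ⟪e j, x⟫ ^ 2 + ⟪e k, x⟫ ^ 2 + ⟪e s, x⟫ ^ 2 = 1 := by
    nth_rw 2 [hx'] at hxx
    simpa only [map_add, map_smul, co_e x, smul_eq_mul, ← pow_two] using hxx
  have hs' : 4 * ⟪e s, x⟫ ^ 2 = 1 := by linear_combination 4 * hn - hi - hj - hk
  have hs0 : ⟪e s, x⟫ ≠ 0 := fun e0 => by simp [e0] at hs'
  obtain ⟨o, m1⟩ := h.ex [i, j, k, s] (by simp)
  have z1 := h8 o m1
  simp only [List.mem_cons, List.not_mem_nil, or_false, not_or] at m1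
  obtain ⟨u, hu, hO, hu'⟩ := h.cyc (Ne.symm m1.2.2.2) m1.2.2.1 hs.2.2
  have r1 := hx.map hu hO
  have r2 := (h.rc s).rf r1
  have c1 : ⟪e i, u x⟫ = ⟪e i, x⟫ := by
    simp [hu' x, h.co_ne n2, h.co_ne (Ne.symm hs.1), h.co_ne (Ne.symm m1.1)]
  have c2 : ⟪e s, u x⟫ = ⟪e k, x⟫ := by
    simp [hu' x, h.co_self, z1, h.co_ne hs.2.2, h.co_ne (Ne.symm m1.2.2.2)]
  have c3 : ⟪e o, u x⟫ = ⟪e s, x⟫ := by
    simp [hu' x, h.co_self, z1, h.co_ne m1.2.2.1, h.co_ne m1.2.2.2]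
  have c4 : ⟪x, u x⟫ = 1 - ⟪e s, x⟫ ^ 2 - ⟪e k, x⟫ ^ 2 + ⟪e s, x⟫ * ⟪e k, x⟫ := by
    simp only [hu' x, map_add, map_smul, map_sub, co_e x, z1, hxx, smul_eq_mul]
    ring
  have d1 : ⟪e i, f.rf (e s) (u x)⟫ = ⟪e i, x⟫ := by
    rw [h.rf_e, map_sub, map_smul, c1, h.co_ne (Ne.symm hs.1), smul_zero, sub_zero]
  have d3 : ⟪e o, f.rf (e s) (u x)⟫ = ⟪e s, x⟫ := by
    rw [h.rf_e, map_sub, map_smul, c3, h.co_ne m1.2.2.2, smul_zero, sub_zero]
  have d4 : ⟪x, f.rf (e s) (u x)⟫ = 1 - ⟪e s, x⟫ ^ 2 - ⟪e k, x⟫ ^ 2 - ⟪e s, x⟫ * ⟪e k, x⟫ := by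
    rw [h.rf_e, map_sub, map_smul, c4, c2, co_e x, smul_eq_mul]
    ring
  have k1 : ∀ y, ⟪e o, y⟫ = ⟪e s, x⟫ → -y ≠ x := fun y hy e0 => by
    have := congrArg (f.co (2 * c) (e o)) e0
    rw [map_neg, hy, z1, neg_eq_zero] at this
    exact hs0 this
  have k2 : (4 * (⟪e s, x⟫ * ⟪e k, x⟫) - 1) * (4 * (⟪e s, x⟫ * ⟪e k, x⟫) + 1) = 0 := by
    linear_combination (4 * ⟪e k, x⟫ ^ 2) * hs' + hk
  rcases mul_eq_zero.1 k2 with k3 | k3
  · exact h.quarter_false h4 hS hx r2 r1 hi d1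
      (mul_left_cancel₀ h4' (by rw [d4]; linear_combination -k3 - hs' - hk - hi))
      (mul_left_cancel₀ h4' (by rw [c4]; linear_combination k3 - hs' - hk + hi)) (k1 _ c3)
  · exact h.quarter_false h4 hS hx r1 r2 hi c1
      (mul_left_cancel₀ h4' (by rw [c4]; linear_combination k3 - hs' - hk - hi))
      (mul_left_cancel₀ h4' (by rw [d4]; linear_combination -k3 - hs' - hk + hi)) (k1 _ d3)

theorem sh_of_rc {x : V} (hx : f.Rc K c x) : f.Sh e c x := by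
  classical
  have h3 := three_ne_zero_of_prime h.hp h4
  have h2 := h.two_ne
  have h4' := four_ne h2
  induction hN : (Finset.univ.filter fun j => ⟪e j, x⟫ ≠ 0).card using Nat.strong_induction_on
    generalizing x with | _ N ih => ?_
  by_contra hn
  have H : ∀ s r, ∃ j, j ≠ s ∧ j ≠ r ∧ ⟪e j, x⟫ ≠ 0 := fun s r => by
    by_contra! H
    by_cases hsr : s = r
    · obtain ⟨o, ho⟩ := h.ex [s] (by simp)
      exact hn (h.sh_of_two h4 hS hx (show s ≠ o by grind) fun j a _ => H j a (hsr ▸ a))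
    · exact hn (h.sh_of_two h4 hS hx hsr H)
  have hxx := h.co_self' hx.2
  have F0 : ∀ i, 4 * ⟪e i, x⟫ ^ 2 ≠ 4 := fun i e0 => by
    obtain ⟨k, n, -, hk⟩ := H i i
    have := congrArg (f.co (2 * c) (e k)) (h.level h4 hS hx ((h.rc i).rf hx).neg (by
      simp only [h.rf_e, map_neg, map_smul, map_sub, co_e x, hxx, smul_eq_mul]
      exact mul_left_cancel₀ h2 (by linear_combination e0)))
    simp only [h.rf_e, map_neg, map_smul, map_sub, h.co_ne n, smul_eq_mul] at this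
    exact mul_ne_zero h2 hk (by linear_combination -this)
  have F1 : ∀ i j, i ≠ j → 4 * ⟪e i, x⟫ ^ 2 + 4 * ⟪e j, x⟫ ^ 2 ≠ 4 := fun i j hij e0 => by
    obtain ⟨k, n, n', hk⟩ := H i j
    have := congrArg (f.co (2 * c) (e k)) (h.level h4 hS hx ((h.rc i).rf ((h.rc j).rf hx)).neg (by
      simp only [h.rf_e, map_neg, map_smul, map_sub, co_e x, hxx, smul_eq_mul, h.co_ne hij]
      exact mul_left_cancel₀ h2 (by linear_combination e0)))
    simp only [h.rf_e, map_neg, map_smul, map_sub, h.co_ne n, h.co_ne n', smul_eq_mul] at this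
    exact mul_ne_zero h2 hk (by linear_combination -this)
  have F2 : ∀ i j, i ≠ j → ⟪e i, x⟫ ≠ 0 → ⟪e j, x⟫ ≠ 0 → Lt (4 * ⟪e i, x⟫ ^ 2) ∧
      Lt (4 * ⟪e i, x⟫ ^ 2 * (4 * ⟪e j, x⟫ ^ 2)) := fun i j hij hi hj => by
    obtain ⟨k, n, n', hk⟩ := H i j
    have T := fun y y' => h.tri h4 hS (h.rc i) hx (h.rc j) hi (by rwa [co_e]) (fun e0 => by
      rw [h.co_ne hij, co_e x] at e0
      exact F1 i j hij (by linear_combination -4 * e0)) (y := y) (y' := y')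
    refine ⟨T _ _ (Submodule.subset_span (by simp)) (Submodule.subset_span (by simp)) (h.rc i) hx
      (not_mem_span_comm (h.ne_zero i) (not_mem_span_of_co hk (h.co_ne n))), ?_⟩
    have := T _ _ (rf_mem_of_mem (Submodule.subset_span (by simp)) (Submodule.subset_span (by simp)))
      (Submodule.subset_span (by simp)) (hx.rf (h.rc i)) (h.rc j) (not_mem_span_of_co (d := e k)
        (by simp [h.rf_c hx.2, h.co_ne n, h2, hk, co_e x, hi]) (h.co_ne n'))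
    rw [co_e, h.rf_c hx.2] at this
    simp only [map_sub, map_smul, h.co_ne hij.symm, co_e x, smul_eq_mul] at this
    convert this using 1
    ring
  have F3 : ∀ i, ⟪e i, x⟫ ≠ 0 → Lt (4 * ⟪e i, x⟫ ^ 2) := fun i hi => by
    obtain ⟨k, n, -, hk⟩ := H i i
    exact (F2 i k n.symm hi hk).1
  set S := Finset.univ.filter fun j => ⟪e j, x⟫ ≠ 0
  have hS0 : ∀ j, j ∉ S → ⟪e j, x⟫ = 0 := by simp [S]
  have R : ∀ i j, i ≠ j → ⟪e i, x⟫ ≠ 0 ∧ ¬ 4 * ⟪e i, x⟫ ^ 2 = 1 →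
      ⟪e j, x⟫ ≠ 0 ∧ ¬ 4 * ⟪e j, x⟫ ^ 2 = 1 → 4 * ⟪e i, x⟫ ^ 2 + 4 * ⟪e j, x⟫ ^ 2 = 3 :=
    fun i j n hi hj => ((Lt.rule h2 h3 (F3 i hi.1) (F3 j hj.1) (F2 i j n hi.1 hj.1).2
      (by simp [h4', hi.1]) (by simp [h4', hj.1]) (F0 i) (F0 j) (F1 i j n)).resolve_left
        hi.2).resolve_left hj.2
  have F4 : (S.filter fun j => ¬ 4 * ⟪e j, x⟫ ^ 2 = 1).card ≤ 2 := by
    by_contra! H2
    obtain ⟨i, j, k, hi, hj, hk, n1, n2, n3⟩ := Finset.two_lt_card_iff.1 H2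
    simp only [S, Finset.mem_filter, Finset.mem_univ, true_and] at hi hj hk
    exact Lt.three h2 (F3 i hi.1) (by simp [h4', hi.1]) hi.2 (F0 i) (R i j n1 hi hj) (R i k n2 hi hk)
      (R j k n3 hj hk)
  have F5 := Finset.card_filter_add_card_filter_not (s := S) fun j => 4 * ⟪e j, x⟫ ^ 2 = 1
  by_cases F6 : 2 < (S.filter fun j => 4 * ⟪e j, x⟫ ^ 2 = 1).card
  · obtain ⟨i, j, k, hi, hj, hk, n1, n2, n3⟩ := Finset.two_lt_card_iff.1 F6
    simp only [S, Finset.mem_filter, Finset.mem_univ, true_and] at hi hj hk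
    have r := hx.rf ((h.rc i).rf ((h.rc j).rf ((h.rc k).rf hx)))
    have e1 : f.rf x (f.rf (e i) (f.rf (e j) (f.rf (e k) x))) =
        (2 : F) • (x - ⟪e i, x⟫ • e i - ⟪e j, x⟫ • e j - ⟪e k, x⟫ • e k) := by
      rw [h.rf_c hx.2, show 2 * ⟪x, f.rf (e i) (f.rf (e j) (f.rf (e k) x))⟫ = -1 by
        simp only [h.rf_e, map_sub, map_smul, co_e x, hxx, h.co_ne n1, h.co_ne n2, h.co_ne n3,
          smul_eq_mul]
        linear_combination -hi.2 - hj.2 - hk.2]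
      simp only [h.rf_e, map_sub, map_smul, h.co_ne n1, h.co_ne n2, h.co_ne n3, smul_eq_mul]
      module
    rw [e1] at r
    set z := (2 : F) • (x - ⟪e i, x⟫ • e i - ⟪e j, x⟫ • e j - ⟪e k, x⟫ • e k) with hz
    have z1 : ∀ l, l ∉ [i, j, k] → ⟪e l, z⟫ = 2 * ⟪e l, x⟫ := fun l hl => by
      simp only [List.mem_cons, List.not_mem_nil, or_false, not_or] at hl
      simp [hz, h.co_ne, hl]
    have z2 : ∀ l, l ∈ [i, j, k] → ⟪e l, z⟫ = 0 := fun l hl => by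
      simp only [List.mem_cons, List.not_mem_nil, or_false] at hl
      rcases hl with rfl | rfl | rfl <;>
        simp [hz, h.co_self, h.co_ne, n1, n2, n3, n1.symm, n2.symm, n3.symm]
    obtain ⟨s, t, -, h5, h6 | h6⟩ := ih _ (hN ▸ Finset.card_lt_card ⟨fun l hl => by
      by_cases h5 : l ∈ [i, j, k]
      · simp [z2 l h5] at hl
      · simpa [S, z1 l h5, h2] using hl, fun h5 => by
        simpa [z2 i (by simp)] using h5 (show i ∈ S by simp [S, hi.1])⟩) r rfl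
    · refine h.not_four h4 hS hx hi.2 hj.2 hk.2 n1 n2 n3 (s := s) fun l hl => ?_
      refine (mul_eq_zero.1 ((z1 l (by grind)).symm.trans ?_)).resolve_left h2
      by_cases h7 : l = t
      · exact h7 ▸ h6
      · exact h5 l (by grind) h7
    · by_cases h7 : s ∈ [i, j, k]
      · simp [z2 s h7] at h6
      · rw [z1 s h7] at h6
        exact (F3 s fun e0 => by simp [e0] at h6).half h3 (by linear_combination h6)
  · obtain ⟨i, hi⟩ : (S.filter fun j => 4 * ⟪e j, x⟫ ^ 2 = 1).Nonempty := by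
      obtain ⟨i, hi⟩ := h.exists_co_ne hx.1.ne_zero
      obtain ⟨j, n, -, hj⟩ := H i i
      obtain ⟨k, n1, n2, hk⟩ := H i j
      have : 2 < S.card := Finset.two_lt_card_iff.2 ⟨i, j, k, by simpa [S] using hi,
        by simpa [S] using hj, by simpa [S] using hk, n.symm, n1.symm, n2.symm⟩
      exact Finset.card_pos.1 (by omega)
    by_cases F7 : S.card ≤ 3
    · obtain ⟨S', h5, -, h6⟩ := Finset.exists_subsuperset_card_eq (Finset.subset_univ S) F7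
        (by have := h.h5; rw [Finset.card_univ]; omega)
      obtain ⟨s₁, s₂, n1, h7⟩ := Finset.card_eq_two.1 (show (S'.erase i).card = 2 by
        rw [Finset.card_erase_of_mem (h5 (Finset.mem_filter.1 hi).1), h6])
      have n4 : i ≠ s₁ ∧ i ≠ s₂ := by
        have := Finset.ext_iff.1 h7 i
        grind
      exact h.not_three h4 hS hx (Finset.mem_filter.1 hi).2 n4.1 n4.2 n1 fun j hj => hS0 j fun h8 => by
        have := Finset.ext_iff.1 h7 j
        have := h5 h8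
        grind
    obtain ⟨a, b, n1, h7⟩ := Finset.card_eq_two.1
      (show (S.filter fun j => 4 * ⟪e j, x⟫ ^ 2 = 1).card = 2 by omega)
    obtain ⟨s, t, n2, h8⟩ := Finset.card_eq_two.1
      (show (S.filter fun j => ¬ 4 * ⟪e j, x⟫ ^ 2 = 1).card = 2 by omega)
    have ha := Finset.mem_filter.1 (h7.ge (Finset.mem_insert_self a {b}))
    have hb := Finset.mem_filter.1 (h7.ge (Finset.mem_insert_of_mem (Finset.mem_singleton_self b)))
    have hs := Finset.mem_filter.1 (h8.ge (Finset.mem_insert_self s {t}))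
    have ht := Finset.mem_filter.1 (h8.ge (Finset.mem_insert_of_mem (Finset.mem_singleton_self t)))
    have h9 := R s t n2 ⟨(Finset.mem_filter.1 hs.1).2, hs.2⟩ ⟨(Finset.mem_filter.1 ht.1).2, ht.2⟩
    rw [h.co_eq_sum, ← Finset.sum_subset (Finset.subset_univ S) (fun j _ hj => by
      rw [hS0 j hj, mul_zero]), ← Finset.sum_filter_add_sum_filter_not S
      (fun j => 4 * ⟪e j, x⟫ ^ 2 = 1), h7, h8, Finset.sum_pair n1, Finset.sum_pair n2] at hxx
    simp only [co_e x] at hxx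
    exact one_ne_zero (α := F) (by linear_combination 4 * hxx - ha.2 - hb.2 - h9)

end five

theorem coord {x : V} (hx : f.q x = c) (hs : f.Sh e c x) (j : ι) :
    ⟪e j, x⟫ = 0 ∨ ⟪e j, x⟫ ^ 2 = 1 ∨ 2 * ⟪e j, x⟫ ^ 2 = 1 := by
  obtain ⟨s, r, hsr, H, h1⟩ := hs
  have h3 := h.co_self' hx
  nth_rw 2 [h.eq_two hsr H] at h3
  simp only [map_add, map_smul, co_e x, smul_eq_mul, ← pow_two] at h3
  by_cases h4 : j = s
  · exact Or.inr (h4 ▸ h1.imp_left fun h1 => by simpa [h1] using h3)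
  by_cases h5 : j = r
  · exact h5 ▸ h1.imp_right fun h1 => Or.inr (by linear_combination 2 * h3 - h1)
  · exact Or.inl (H j h4 h5)

theorem exists_not_sh {m : V ≃ₗ[F] V} (hm : m ∈ K) (hO : m ∈ f.O) (hn : m ∉ dstab (ln F e)) :
    ∃ x, f.Rc K c x ∧ ¬ f.Sh e c x := by
  by_contra! H
  obtain ⟨k, hk⟩ := not_forall.1 (mt h.mem_dstab_iff.2 hn)
  obtain ⟨s, r, hsr, h1, h2 | h2⟩ := H _ ((h.rc k).map hm hO)
  · refine hk ⟨s, ⟪e s, m (e k)⟫, ?_⟩
    nth_rw 1 [h.eq_two hsr h1, h2, zero_smul, add_zero]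
  obtain ⟨s', r', -, h3, -⟩ := H _ ((h.rc s).map (inv_mem hm) (inv_mem hO))
  obtain ⟨l, n⟩ := h.ex [k, s', r'] (by simp)
  simp only [List.mem_cons, List.not_mem_nil, or_false, not_or] at n
  have h4 := h.co_symm ((co_inv hO _ _).symm.trans (h3 l n.2.1 n.2.2))
  set β := ⟪e s, m (e k)⟫
  have q1 : f.q (β • (e k + e l)) = c := by
    rw [f.q_smul, f.q_add_of_B_eq_zero (h.ne _ _ (Ne.symm n.1)), h.q_e, h.q_e]
    change β * β * _ = _
    linear_combination c * h2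
  have d1 : f.rf (β • (e k + e l)) ∈ dstab (ln F e) := h.mem_dstab_iff.2 fun j => by
    rw [h.rf_c q1, co_e]
    by_cases h5 : j = k
    · refine ⟨l, -1, ?_⟩
      simp only [h5, map_smul, map_add, h.co_self, h.co_ne (Ne.symm n.1)]
      linear_combination (norm := module) -h2 • (e k + e l)
    by_cases h6 : j = l
    · refine ⟨k, -1, ?_⟩
      simp only [h6, map_smul, map_add, h.co_self, h.co_ne n.1]
      linear_combination (norm := module) -h2 • (e k + e l)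
    · exact ⟨j, 1, by simp [h.co_ne h5, h.co_ne h6]⟩
  have r1 : f.Rc K c (β • (e k + e l)) := ⟨⟨q1 ▸ h.c_ne, (mul_mem_cancel_right (h.rf k)).1 (h.le
    ⟨mul_mem d1 (h.rf_e_mem k), h.sdec.nondeg'.rf_mul_rf_mem_E (h.card_eq ▸ le_trans (by omega) h.h5)
      (q1 ▸ h.c_ne) (h.rc k).1.1 (by rw [q1, h.q_e])⟩)⟩, q1⟩
  have h5 := h.coord (r1.map hm hO).2 (H _ (r1.map hm hO)) s
  simp only [map_smul, map_add, h4, add_zero, smul_eq_mul] at h5
  change β * β = 0 ∨ (β * β) ^ 2 = 1 ∨ 2 * (β * β) ^ 2 = 1 at h5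
  rcases h5 with h5 | h5 | h5
  · exact one_ne_zero (α := F) (by linear_combination 2 * h5 - h2)
  · have h6 := three_le_card h.two_ne
    by_cases h7 : Nat.card F = 3
    · have := Fintype.ofFinite F
      have h8 := FiniteField.pow_card_sub_one_eq_one β (fun e0 => by simp [e0] at h2)
      rw [Fintype.card_eq_nat_card, h7] at h8
      exact one_ne_zero (α := F) (by linear_combination h2 - 2 * h8)
    · exact three_ne_zero_of_prime h.hp (by omega)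
        (by linear_combination (2 * β ^ 2 + 1) * h2 - 4 * h5)
  · exact one_ne_zero (α := F) (by linear_combination (2 * β ^ 2 + 1) * h2 - 2 * h5)

theorem E_le {m : V ≃ₗ[F] V} (hm : m ∈ K) (hO : m ∈ f.O) (hn : m ∉ dstab (ln F e)) : f.E ≤ K := by
  obtain ⟨x, hx, hx'⟩ := h.exists_not_sh hm hO hn
  have h6 := three_le_card h.two_ne
  refine h.finish (by_contra fun hS => ?_)
  by_cases h7 : Nat.card F = 3
  · exact hS (h.st_three h7 hx hx')
  · exact hx' (h.sh_of_rc (by omega) hS hx)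

end OF5

theorem Fr.quad_E_le_odd (h : f.Fr e (2 * c)) (hp : (Nat.card F).Prime)
    (h5 : 5 ≤ Fintype.card ι) (ho : Odd (Fintype.card ι))
    {M : Subgroup (V ≃ₗ[F] V)} (hM : dstab (ln F e) ⊓ f.E ≤ M) (hO : M ≤ f.O)
    (hM' : ¬ M ≤ dstab (ln F e)) : f.E ≤ M := by
  classical
  have hf := h.sdec.nondeg'
  have h5' : 5 ≤ finrank F V := h.card_eq ▸ h5
  obtain ⟨g, hg, h1, -, h2⟩ := h.exists_neg h5 Finset.univ
  have h3 : ∀ v, g v = -v := fun v => by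
    rw [← h.sum_co v]; simp [h1]
  have h4 : g * g = 1 := LinearEquiv.ext fun v => by simp [h3]
  have h6 : ∀ m ∈ M, m ∈ relCore M (Subgroup.zpowers g) ⊔ Subgroup.zpowers g := fun m hm =>
    Subgroup.mem_sup_left (mem_relCore_zpowers h4 hm
      ((LinearEquiv.ext fun v => by simp [h3] : m = g * m * g) ▸ hm))
  obtain ⟨m, hm, hm'⟩ := SetLike.not_le_iff_exists.1 hM'
  refine le_of_le_relCore_sup (((quad_iso3 f).idx2 hf h5').commutator_E hf h5') (zpowers_comm g)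
    (OF5.E_le ⟨h, fun n hn => h6 n (hM hn), fun i => ?_, h5, hp⟩ (h6 m hm) (hO hm) hm')
  exact (mul_mem_cancel_left (Subgroup.mem_sup_right (Subgroup.mem_zpowers g))).1
    (h6 _ (hM ⟨mul_mem hg (h.rf_e_mem i), h2 ho i⟩))

theorem Fr.quad_E_le_of_line (h : f.Fr e (2 * c)) (hp : (Nat.card F).Prime)
    (h5 : 5 ≤ Fintype.card ι) {M : Subgroup (V ≃ₗ[F] V)} (hM : dstab (ln F e) ⊓ f.E ≤ M)
    (hO : M ≤ f.O) {m : V ≃ₗ[F] V} (hm : m ∈ M) (hm' : m ∉ dstab (ln F e)) {i j : ι} {a : F}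
    (ha : m (e i) = a • e j) : f.E ≤ M := by
  have hf := h.sdec.nondeg'
  have h5' : 5 ≤ finrank F V := h.card_eq ▸ h5
  refine E_le_of_ktrick hf h5' hM (by rw [h.q_e]; exact h.c_ne) (h.rf_e_mem i)
    fun K hK hi h1 h2 => OF5.E_le ⟨h, hK, fun j => h2 _ (hM (h.rf_mul_rf_e h5 j i)), h5, hp⟩
      (h1 m hm (hO hm) ?_) (hO hm) hm'
  rw [ha, rf_smul (fun e0 => h.ne_zero i (by simpa [e0] using ha))]
  exact hM (h.rf_mul_rf_e h5 j i)

/-- Stabilisers of a non-degenerate `3`-space. -/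
theorem Nondeg.quad_E_le_of_stab3 (hf : f.Nondeg) (h5 : 5 ≤ finrank F V) {Z : Submodule F V}
    (hZ : (f.restrict Z).Nondeg) (h3 : finrank F Z = 3) (h4 : 4 ≤ Nat.card F)
    (hirr : (f.restrict (f.perp Z)).OIrr) {M : Subgroup (V ≃ₗ[F] V)} (hM : Witt.stab Z ⊓ f.E ≤ M)
    {g : V ≃ₗ[F] V} (hg : g ∈ f.O) (hgM : g ∈ M) (h1 : g ∉ Witt.stab Z)
    (h2 : ¬ ∀ z ∈ Z, g z ∈ f.perp Z) : f.E ≤ M := by
  obtain ⟨a, x, ha, hx, haq, hxq, hxa⟩ := exists_rf_pair_stab hf h5 hZ (by unfold Good; omega)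
    h3.ge hM hg hgM h1 h2
  refine E_le_of_ktrick hf h5 hM haq (rf_mem_stab ha) fun K hK hKa _ h6 => ?_
  obtain ⟨z, hz, t, ht, rfl⟩ := exists_add_perp hZ x
  have hy : f.Rf K (z + t) := ⟨hxq ▸ haq, h6 _ hxa⟩
  have hz0 : z ≠ 0 := by rintro rfl; exact hx (Or.inr (by simpa using ht))
  have ht0 : t ≠ 0 := by rintro rfl; exact hx (Or.inl (by simpa using hz))
  obtain ⟨u, hu, w, hw, e1, e2, e3⟩ := quad_exists_hyp hZ h3.ge
  refine E_le_of_mem_SZ hf hZ hK hu hw e1 e2 e3 hirr ((full_of_stab hK).mem_SZ_three hZ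
    (two_ne_zero_of_odd' hZ (by rw [h3]; decide)) h3 h4 hz hz0 ht hy fun b hb e => ?_) ht0
  rw [hxq] at e
  refine ⟨e ▸ haq, ?_⟩
  have := K.mul_mem (hK ⟨mul_mem (rf_mem_stab (Or.inl hb)) (rf_mem_stab ha),
    hf.rf_mul_rf_mem_E h5 (e ▸ haq) haq (by rw [e])⟩) hKa.2
  rwa [mul_assoc, rf_mul_self, mul_one] at this

end Form

end CL.Witt
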