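/-
Groups of symplectic type in dimension four and the elements of odd order normalising them.
-/
import Mathlib
import Cfsg.Prelude.Def_GeometricClasses
import Cfsg.Agent.PLOC.Symplectic

set_option autoImplicit false

namespace CL.Pauli

open Matrix Subgroup Cfsg.Geo Module
open scoped MatrixGroups commutatorElement

theorem two_mul_card_le {G : Type*} [Group G] [Finite G] {H K : Subgroup G} (h : H < K) :
    2 * Nat.card H ≤ Nat.card K := by
  obtain ⟨k, hk⟩ := card_dvd_of_le h.le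
  have h1 : k ≠ 1 := fun h1 => h.ne (eq_of_le_of_card_ge h.le (by simp [hk, h1]))
  have h2 : k ≠ 0 := fun h2 => Nat.card_pos.ne' (by simpa [h2] using hk : Nat.card K = 0)
  rw [hk, mul_comm]
  exact Nat.mul_le_mul_left _ (by omega)

theorem card_modEq_cent {G : Type*} [Group G] [Finite G] {r : ℕ} [Fact r.Prime] {x : G}
    {D : Subgroup G} (h : ∀ d ∈ D, x * d * x⁻¹ ∈ D) (hr : ∀ d, x ^ r * d = d * x ^ r) :
    Nat.card D ≡ Nat.card (D ⊓ centralizer {x} : Subgroup G) [MOD r] := by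
  classical
  have := Fintype.ofFinite D
  let φ : Function.End D := fun d => ⟨_, h d d.2⟩
  have h1 : ∀ (k : ℕ) (d : D), ((φ ^ k) d : G) = x ^ k * d * (x ^ k)⁻¹ := fun k => by
    induction k with
    | zero => intro d; simp; rfl
    | succ k ih => intro d; rw [pow_succ]; exact (ih (φ d)).trans (by simp only [φ]; group)
  have h2 := Equiv.Perm.card_fixedPoints_modEq (f := φ) (p := r) (n := 1)
    (funext fun d => Subtype.ext (by rw [h1, pow_one, hr, mul_inv_cancel_right]; rfl))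
  rw [← Nat.card_eq_fintype_card, ← Nat.card_eq_fintype_card] at h2
  convert h2 using 1
  refine Nat.card_congr ⟨fun d => ⟨⟨d, d.2.1⟩, Subtype.ext ?_⟩, fun d => ⟨d.1, d.1.2, ?_⟩,
    fun _ => rfl, fun _ => rfl⟩
  · exact mul_inv_eq_iff_eq_mul.2 (mem_centralizer_singleton_iff.1 d.2.2).symm
  · exact mem_centralizer_singleton_iff.2
      (mul_inv_eq_iff_eq_mul.1 (congrArg Subtype.val d.2)).symm

variable {F : Type*} [Field F] {ι : Type} [Fintype ι] [DecidableEq ι]

/-- `x` is a scalar matrix. -/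
def Sc (x : GL ι F) : Prop := ∃ c : F, (x : Matrix ι ι F) = c • 1

theorem Sc.comm {x : GL ι F} (h : Sc x) (y : GL ι F) : x * y = y * x :=
  let ⟨c, h⟩ := h; Units.ext (by simp [h])

theorem sc_one : Sc (1 : GL ι F) := ⟨1, by simp⟩

theorem Sc.neg {x : GL ι F} (h : Sc x) : Sc (-x) := let ⟨c, h⟩ := h; ⟨-c, by simp [h]⟩

theorem Sc.mul {x y : GL ι F} (h : Sc x) (h' : Sc y) : Sc (x * y) :=
  let ⟨c, h⟩ := h; let ⟨d, h'⟩ := h'; ⟨c * d, by simp [h, h', smul_smul, mul_comm]⟩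

theorem Sc.pow {x : GL ι F} (h : Sc x) (k : ℕ) : Sc (x ^ k) :=
  let ⟨c, h⟩ := h; ⟨c ^ k, by simp [h, smul_pow]⟩

/-- The centre, as a subgroup of the general linear group. -/
abbrev Zc (R : Subgroup (GL ι F)) : Subgroup (GL ι F) := R ⊓ centralizer R

/-- A group of symplectic type acting absolutely irreducibly in dimension four. -/
structure Pau (R : Subgroup (GL ι F)) : Prop where
  two : (2 : F) ≠ 0
  card : Fintype.card ι = 4
  sc : ∀ M : Matrix ι ι F, (∀ s ∈ R, M * s = s * M) → ∃ c : F, M = c • 1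
  pm : ∀ s ∈ R, ∀ t ∈ R, s * t = t * s ∨ s * t = -(t * s)
  pow4 : ∀ s ∈ R, s ^ 4 = 1
  idx : Nat.card R = 16 * Nat.card (Zc R)

variable {R : Subgroup (GL ι F)} {s t u x : GL ι F}

theorem card_center_eq : Nat.card (center R) = Nat.card (Zc R) :=
  Nat.card_congr ⟨fun z => ⟨z.1, z.1.2, fun g hg => congrArg Subtype.val
      (mem_center_iff.1 z.2 ⟨g, hg⟩)⟩,
    fun z => ⟨⟨z, z.2.1⟩, mem_center_iff.2 fun g => Subtype.ext (z.2.2 g g.2)⟩,
    fun _ => rfl, fun _ => rfl⟩

theorem smul_one_inj' [Nonempty ι] {c d : F} (h : c • (1 : Matrix ι ι F) = d • 1) : c = d := by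
  simpa using congrFun₂ h (Classical.arbitrary ι) (Classical.arbitrary ι)

theorem pau_of [Finite F] (h2 : (2 : F) ≠ 0) (hc : Fintype.card ι = 4)
    (hs : IsSymplecticTypeGroup 2 R) (hi : ActsAbsolutelyIrreducibly (matrixSet R))
    (hR : Nat.card R = 16 * Nat.card (center R)) : Pau R := by
  have : Nonempty ι := Fintype.card_pos_iff.1 (by omega)
  have hsc : ∀ M : Matrix ι ι F, (∀ s ∈ R, M * s = s * M) → ∃ c : F, M = c • 1 := fun M h =>
    hi.2 M (by rintro _ ⟨s, hs, rfl⟩; exact h s hs)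
  have h4 : ∀ s : R, s ^ 4 = 1 := fun s => by
    have := Monoid.pow_exponent_eq_one s
    rwa [hs.exponent_eq] at this
  have : Nontrivial R := Finite.one_lt_card_iff_nontrivial.1 (by
    have : 0 < Nat.card (center R) := Nat.card_pos
    omega)
  refine ⟨h2, hc, hsc, fun s hs' t ht => ?_, fun s hs => congrArg Subtype.val (h4 ⟨s, hs⟩),
    card_center_eq (R := R) ▸ hR⟩
  obtain ⟨z, E, h1, h3, -, h5, -, -, h6, h7 | ⟨-, n, a, b, h7, h8⟩⟩ :=
    ES.exists_symplectic_decomp hs.pGroup hs.cyclic_of_characteristic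
  · obtain ⟨c, hc⟩ := hsc z.1 fun g hg => congrArg (fun x : R => (x.1 : Matrix ι ι F))
      (mem_center_iff.1 h3 ⟨g, hg⟩).symm
    have h8 : z.1 = -1 := by
      have h9 : c ^ 2 = 1 := smul_one_inj' (ι := ι) (by
        have := congrArg (fun x : R => (x.1 : Matrix ι ι F)) (h1 ▸ pow_orderOf_eq_one z)
        simp only [coe_pow, Units.val_pow_eq_pow_val, hc] at this
        simpa [smul_pow] using this)
      rcases sq_eq_one_iff.1 h9 with rfl | rfl
      · rw [show z = 1 from Subtype.ext (Units.ext (by simpa using hc))] at h1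
        simp at h1
      · exact Units.ext (by simpa using hc)
    obtain ⟨e, he, d, hd, h9⟩ := h6 ⟨t, ht⟩
    obtain ⟨e', he', d', hd', h10⟩ := h6 ⟨s, hs'⟩
    have h11 : (⟨s, hs'⟩ : R) * d = d * ⟨s, hs'⟩ := by
      have h12 : d' * d = d * d' := congrArg Subtype.val
        (h7.isMulCommutative.is_comm.comm (⟨d', hd'⟩ : centralizer (E : Set R)) ⟨d, hd⟩)
      rw [h10, mul_assoc, h12, ← mul_assoc, hd e' he', mul_assoc]
    have h12 : (⟨s, hs'⟩ : R) * ⟨t, ht⟩ = ⁅(⟨s, hs'⟩ : R), e⁆ * (⟨t, ht⟩ * ⟨s, hs'⟩) := by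
      rw [h9, mul_assoc e, ← h11, commutatorElement_def]; group
    obtain ⟨k, hk⟩ := h5 ⟨s, hs'⟩ e he
    have h13 := congrArg Subtype.val h12
    rw [← hk] at h13
    simp only [coe_mul, coe_zpow, h8] at h13
    rcases Int.even_or_odd k with h | h
    · exact Or.inl (by simpa [h.neg_one_zpow] using h13)
    · exact Or.inr (by simpa [h.neg_one_zpow] using h13)
  · have h9 := orderOf_dvd_of_pow_eq_one (show a ^ 4 = 1 from Subtype.ext (h4 a))
    have := Nat.pow_le_pow_right two_pos h7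
    have := Nat.le_of_dvd four_pos (h8.orderOf_eq ▸ h9)
    omega

namespace Pau

variable (h : Pau R)
include h

theorem nonempty : Nonempty ι := Fintype.card_pos_iff.1 (by rw [h.card]; omega)

theorem four : (4 : F) ≠ 0 := by
  rw [show (4 : F) = 2 * 2 by norm_num]; exact mul_ne_zero h.two h.two

theorem ne_neg (x : GL ι F) : x ≠ -x := fun h1 => by
  have := h.nonempty
  have h2 : (1 : GL ι F) = -1 := mul_left_cancel (a := x) (by simpa using h1)
  exact h.two (by linear_combination smul_one_inj' (ι := ι) (c := (1 : F)) (d := -1) (by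
    simpa using congrArg Units.val h2))

theorem not_comm (h1 : s * t = -(t * s)) : s * t ≠ t * s := fun h2 => h.ne_neg _ (h2.symm.trans h1)

theorem sc_of (h1 : ∀ s ∈ R, x * s = s * x) : Sc x :=
  h.sc x fun s hs => congrArg Units.val (h1 s hs)

theorem mem_Zc : s ∈ Zc R ↔ s ∈ R ∧ Sc s :=
  and_congr_right fun _ => ⟨fun h1 => h.sc_of fun t ht => (h1 t ht).symm,
    fun h1 t _ => (h1.comm t).symm⟩

theorem exists_anti (hs : s ∈ R) (h1 : ¬ Sc s) : ∃ t ∈ R, s * t = -(t * s) := by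
  by_contra h2
  exact h1 (h.sc_of fun t ht => (h.pm s hs t ht).resolve_right fun h3 => h2 ⟨t, ht, h3⟩)

theorem not_sc (h1 : s * t = -(t * s)) : ¬ Sc s := fun h2 => h.not_comm h1 (h2.comm t)

theorem trace_eq_zero_of {M : Matrix ι ι F} (h1 : M * t = -(t * M)) : trace M = 0 := by
  have h2 : trace M = -trace M := by
    conv_lhs => rw [← Units.mul_inv_cancel_right M t, h1, neg_mul, trace_neg, trace_units_conj]
  exact (mul_eq_zero.1 (by linear_combination h2 : 2 * trace M = 0)).resolve_left h.two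

theorem trace_eq_zero (hs : s ∈ R) (h1 : ¬ Sc s) : trace (s : Matrix ι ι F) = 0 :=
  let ⟨_, _, h2⟩ := h.exists_anti hs h1; h.trace_eq_zero_of (congrArg Units.val h2)

theorem comm_mul_iff (hs : s ∈ R) (ht : t ∈ R) (hu : u ∈ R) :
    s * t * u = u * (s * t) ↔ (s * u = u * s ↔ t * u = u * t) := by
  rcases h.pm s hs u hu with h1 | h1 <;> rcases h.pm t ht u hu with h2 | h2
  · simp [h1, h2, mul_assoc, ← mul_assoc s]
  · refine iff_of_false (h.not_comm ?_) (by simp [h1, h.not_comm h2])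
    rw [mul_assoc, h2, mul_neg, ← mul_assoc, h1, mul_assoc]
  · refine iff_of_false (h.not_comm ?_) (by simp [h2, h.not_comm h1])
    rw [mul_assoc, h2, ← mul_assoc, h1, neg_mul, mul_assoc]
  · refine iff_of_true ?_ (by simp [h.not_comm h1, h.not_comm h2])
    rw [mul_assoc, h2, mul_neg, ← mul_assoc, h1, neg_mul, neg_neg, mul_assoc]

theorem anti_of (hs : s ∈ R) (ht : t ∈ R) (h1 : s * t ≠ t * s) : s * t = -(t * s) :=
  (h.pm s hs t ht).resolve_left h1

theorem sq (hs : s ∈ R) : s * s = 1 ∨ s * s = -1 := by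
  have := h.nonempty
  obtain ⟨c, hc⟩ := h.sc_of (x := s * s) fun t ht => (h.comm_mul_iff hs hs ht).2 Iff.rfl
  have h1 : c ^ 2 = 1 := smul_one_inj' (ι := ι) (by
    have := congrArg Units.val (h.pow4 s hs)
    rw [show s ^ 4 = (s * s) ^ 2 by rw [← pow_two, ← pow_mul], Units.val_pow_eq_pow_val, hc] at this
    simpa [smul_pow] using this)
  rcases sq_eq_one_iff.1 h1 with rfl | rfl
  exacts [Or.inl (Units.ext (by simpa using hc)), Or.inr (Units.ext (by simpa using hc))]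

theorem comm_inv_iff : s⁻¹ * u = u * s⁻¹ ↔ s * u = u * s := Commute.inv_left_iff

variable [Finite F]

theorem card_le_two_mul {D : Subgroup (GL ι F)} (hD : D ≤ R) (hs : s ∈ R) :
    Nat.card D ≤ 2 * Nat.card (D ⊓ centralizer {s} : Subgroup (GL ι F)) := by
  have h1 : (D ⊓ centralizer {s}).relIndex D ∣ 2 := by
    refine relIindex_dvd_two_iff'.2 ?_
    by_cases h2 : ∀ a ∈ D, a * s = s * a
    · exact ⟨1, D.one_mem, fun b hb => Or.inr ⟨hb, mem_centralizer_singleton_iff.2 (h2 b hb)⟩⟩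
    · obtain ⟨a, ha, h3⟩ := by simpa only [not_forall] using h2
      refine ⟨a, ha, fun b hb => or_iff_not_imp_right.2 fun h4 => ⟨D.mul_mem ha hb, ?_⟩⟩
      exact mem_centralizer_singleton_iff.2 ((h.comm_mul_iff (hD ha) (hD hb) hs).2
        (iff_of_false h3 fun h5 => h4 ⟨hb, mem_centralizer_singleton_iff.2 h5⟩))
  rw [← Nat.card_congr (subgroupOfEquivOfLe (inf_le_left (a := D) (b := centralizer {s}))).toEquiv,
    ← ((D ⊓ centralizer {s}).subgroupOf D).index_mul_card]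
  exact Nat.mul_le_mul_right _ (Nat.le_of_dvd two_pos h1)

theorem exists_not_sc {D : Subgroup (GL ι F)} (hD : D ≤ R) (h1 : Nat.card R ≤ 8 * Nat.card D) :
    ∃ s ∈ D, ¬ Sc s := by
  by_contra h2
  have h3 := card_le_of_le (show D ≤ Zc R from fun s hs => h.mem_Zc.2 ⟨hD hs, by
    by_contra h3; exact h2 ⟨s, hs, h3⟩⟩)
  have h4 := h.idx
  have : 0 < Nat.card (Zc R) := Nat.card_pos
  omega

theorem neg_one_mem : -1 ∈ R := by
  obtain ⟨s, hs, h1⟩ := h.exists_not_sc le_rfl (by omega)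
  obtain ⟨t, ht, h2⟩ := h.exists_anti hs h1
  have := R.mul_mem (R.mul_mem hs ht) (R.inv_mem (R.mul_mem ht hs))
  rwa [h2, neg_mul, mul_inv_cancel] at this

theorem neg_mem (hs : s ∈ R) : -s ∈ R := by simpa using R.mul_mem h.neg_one_mem hs

theorem exists_card_Zc : ∃ k, Nat.card (Zc R) = 2 ^ k :=
  IsPGroup.iff_card.1 fun s => ⟨2, Subtype.ext (h.pow4 _ s.2.1)⟩

theorem card_Zc_ne : (Nat.card (Zc R) : F) ≠ 0 := by
  obtain ⟨k, hk⟩ := h.exists_card_Zc
  rw [hk, Nat.cast_pow]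
  exact pow_ne_zero _ h.two

variable (hx : x ∈ normalizer (R : Set (GL ι F))) {r : ℕ} (hr : Odd r) (hxr : Sc (x ^ r))
include hx hr hxr

omit [Finite F] in
theorem comm_of_sc (hs : s ∈ R) (h1 : Sc (x * s * x⁻¹ * s⁻¹)) : x * s = s * x := by
  have h2 : ∀ k : ℕ, x ^ k * s * (x ^ k)⁻¹ = (x * s * x⁻¹ * s⁻¹) ^ k * s := fun k => by
    induction k with
    | zero => simp
    | succ k ih =>
      calc _ = x * (x ^ k * s * (x ^ k)⁻¹) * x⁻¹ := by group
        _ = _ := by rw [ih, ← mul_assoc, ← (h1.pow k).comm, pow_succ]; group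
  have h3 := h2 r
  rw [hxr.comm, mul_inv_cancel_right, right_eq_mul] at h3
  have h4 := orderOf_eq_one_iff.1 (Nat.eq_one_of_dvd_coprimes
    (hr.coprime_two_right.pow_right 2) (orderOf_dvd_of_pow_eq_one h3)
    (orderOf_dvd_of_pow_eq_one (h.pow4 _ (R.mul_mem ((hx s).1 hs) (R.inv_mem hs)))))
  rwa [mul_inv_eq_one, mul_inv_eq_iff_eq_mul] at h4

theorem card_cent : (Nat.card (R ⊓ centralizer {x} : Subgroup (GL ι F)) : F) =
    Nat.card (Zc R) * (trace (x : Matrix ι ι F) * trace ((x⁻¹ : GL ι F) : Matrix ι ι F)) := by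
  classical
  have := Fintype.ofFinite R
  obtain ⟨c, hc⟩ := h.sc (∑ s : R, ((s.1 * x⁻¹ * s.1⁻¹ : GL ι F) : Matrix ι ι F)) fun t ht => by
    rw [Finset.sum_mul, Finset.mul_sum]
    exact (Fintype.sum_equiv (Equiv.mulLeft (⟨t, ht⟩ : R)) _ _ fun s => congrArg Units.val
      (show t * (s.1 * x⁻¹ * s.1⁻¹) = t * s * x⁻¹ * (t * s)⁻¹ * t by group)).symm
  have h1 := congrArg trace hc
  simp only [trace_sum, Units.val_mul, trace_units_conj, trace_smul, trace_one, h.card,
    Finset.sum_const, Finset.card_univ, ← Nat.card_eq_fintype_card, h.idx] at h1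
  have h2 := congrArg (fun M => trace ((x : Matrix ι ι F) * M)) hc
  have h3 : ∀ s : R, trace ((x : Matrix ι ι F) * ((s.1 * x⁻¹ * s.1⁻¹ : GL ι F) : Matrix ι ι F)) =
      if x * s = s * x then 4 else 0 := fun s => by
    rw [← Units.val_mul, ← mul_assoc, ← mul_assoc]
    split_ifs with h4
    · simp [h4, h.card]
    · exact h.trace_eq_zero (R.mul_mem ((hx s).1 s.2) (R.inv_mem s.2))
        fun h5 => h4 (h.comm_of_sc hx hr hxr s.2 h5)
  simp only [Finset.mul_sum, trace_sum, h3, ← Finset.sum_filter, Finset.sum_const] at h2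
  have h4 : Nat.card (R ⊓ centralizer {x} : Subgroup (GL ι F)) =
      (Finset.univ.filter fun s : R => x * s = s * x).card := by
    rw [← Fintype.card_subtype, ← Nat.card_eq_fintype_card]
    exact Nat.card_congr ⟨fun s => ⟨⟨s, s.2.1⟩, (mem_centralizer_singleton_iff.1 s.2.2).symm⟩,
      fun s => ⟨s.1, s.1.2, mem_centralizer_singleton_iff.2 s.2.symm⟩, fun _ => rfl, fun _ => rfl⟩
  rw [h4]
  simp only [nsmul_eq_mul, smul_eq_mul, Matrix.mul_smul, mul_one, trace_smul] at h1 h2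
  rw [Nat.cast_mul, Nat.cast_ofNat, Nat.cast_ofNat] at h1
  refine mul_left_cancel₀ (mul_ne_zero h.four h.four) ?_
  linear_combination 4 * h2 - trace (x : Matrix ι ι F) * h1

theorem odd_cases [hp : Fact r.Prime] (h1 : ¬ Sc x) :
    ((r = 3 ∨ r = 5) ∧ trace (x : Matrix ι ι F) * trace ((x⁻¹ : GL ι F) : Matrix ι ι F) = 1 ∧
      ∀ s ∈ R, x * s = s * x → Sc s) ∨
    (r = 3 ∧ trace (x : Matrix ι ι F) * trace ((x⁻¹ : GL ι F) : Matrix ι ι F) = 4) := by
  have h0 : 0 < Nat.card (Zc R) := Nat.card_pos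
  have hZ : ∀ {y : GL ι F}, Zc R ≤ centralizer {y} := fun {_} z hz =>
    mem_centralizer_singleton_iff.2 ((h.mem_Zc.1 hz).2.comm _)
  have hc : r.Coprime (Nat.card (Zc R)) := by
    obtain ⟨k, hk⟩ := h.exists_card_Zc
    exact hk ▸ hr.coprime_two_right.pow_right k
  obtain ⟨f, hf⟩ := card_dvd_of_le (le_inf inf_le_left hZ : Zc R ≤ R ⊓ centralizer {x})
  have h2 := h.card_cent hx hr hxr
  rw [hf, Nat.cast_mul, mul_right_inj' h.card_Zc_ne] at h2
  have h3 := card_modEq_cent (r := r) (fun s hs => (hx s).1 hs) hxr.comm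
  have h4 := card_dvd_of_le (inf_le_left : R ⊓ centralizer {x} ≤ R)
  have h5 := two_mul_card_le (show R ⊓ centralizer {x} < R from lt_of_le_of_ne inf_le_left
    fun h5 => h1 (h.sc_of fun s hs => (mem_centralizer_singleton_iff.1 (h5.ge hs).2).symm))
  rw [hf, h.idx, mul_comm 16] at h3 h4 h5
  replace h4 := Nat.dvd_of_mul_dvd_mul_left h0 h4
  replace h5 : f ≤ 8 := by nlinarith
  replace h3 := (Nat.modEq_iff_dvd' (by omega)).1 (h3.cancel_left_of_coprime hc).symm
  have h6 := hp.out.two_le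
  have h7 := Nat.le_of_dvd (by omega) h3
  have h8 := hp.out
  have h9 : f = 1 ∧ (r = 3 ∨ r = 5) ∨ f = 2 ∧ r = 7 ∨ f = 4 ∧ r = 3 := by
    have : f ≠ 0 := by rintro rfl; simp at h4
    have : r < 16 := by omega
    interval_cases f <;> interval_cases r <;> simp_all (config := {decide := true})
  rcases h9 with ⟨rfl, h9⟩ | ⟨rfl, rfl⟩ | ⟨rfl, rfl⟩
  · refine Or.inl ⟨h9, by simpa using h2.symm, fun s hs h10 => (h.mem_Zc.1 ?_).2⟩
    exact (eq_of_le_of_card_ge (le_inf inf_le_left hZ) (by rw [hf, mul_one])).ge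
      ⟨hs, mem_centralizer_singleton_iff.2 h10.symm⟩
  · exfalso
    obtain ⟨s, ⟨hs, h9⟩, h10⟩ := h.exists_not_sc (D := R ⊓ centralizer {x}) inf_le_left
      (by rw [h.idx, hf]; omega)
    obtain ⟨t, ht, h11⟩ := h.exists_anti hs h10
    replace h9 := mem_centralizer_singleton_iff.1 h9
    have h12 := card_modEq_cent (r := 7) (D := R ⊓ centralizer {s}) (fun d hd => ⟨(hx d).1 hd.1,
      mem_centralizer_singleton_iff.2 (Commute.mul_left (Commute.mul_left h9.symm
        (mem_centralizer_singleton_iff.1 hd.2)) (Commute.inv_left h9.symm))⟩) hxr.comm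
    have h13 := h.card_le_two_mul le_rfl hs
    have h14 := two_mul_card_le (show R ⊓ centralizer {s} < R from lt_of_le_of_ne inf_le_left
      fun h5 => h.not_comm h11 (mem_centralizer_singleton_iff.1 (h5.ge ht).2).symm)
    have h15 := two_mul_card_le (show Zc R < R ⊓ centralizer {s} ⊓ centralizer {x} from
      lt_of_le_of_ne (le_inf (le_inf inf_le_left hZ) hZ) fun h5 => h10 (h.mem_Zc.1 (h5.ge
        ⟨⟨hs, mem_centralizer_singleton_iff.2 rfl⟩, mem_centralizer_singleton_iff.2 h9⟩)).2)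
    have h16 := card_le_of_le (inf_le_inf_right (centralizer {x})
      (inf_le_left : R ⊓ centralizer {s} ≤ R))
    rw [show Nat.card (R ⊓ centralizer {s} : Subgroup (GL ι F)) = Nat.card (Zc R) * 8 by
      have := h.idx; omega, show Nat.card (R ⊓ centralizer {s} ⊓ centralizer {x} :
        Subgroup (GL ι F)) = Nat.card (Zc R) * 2 by omega] at h12
    exact absurd (h12.cancel_left_of_coprime hc) (by decide)
  · exact Or.inr ⟨rfl, by simpa using h2.symm⟩

theorem sc_of_rank {c : F} (h1 : 3 ≤ finrank F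
    (LinearMap.ker (toLin' (x : Matrix ι ι F) - algebraMap F _ c))) : Sc x := by
  have hm : ∀ s ∈ R, x⁻¹ * s * x ∈ R := fun s hs => (mem_set_normalizer_iff''.1 hx s).1 hs
  have hm' : ∀ s ∈ R, x⁻¹ * s * x * s⁻¹ ∈ R := fun s hs => R.mul_mem (hm s hs) (R.inv_mem hs)
  have h2 : ∀ s ∈ R, x⁻¹ * s * x * s⁻¹ * (x⁻¹ * s * x * s⁻¹) = 1 := fun s hs => by
    refine (h.sq (hm' s hs)).resolve_right fun h2 => ?_
    set K := LinearMap.ker (toLin' (x : Matrix ι ι F) - algebraMap F _ c)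
    have h3 := Submodule.finrank_sup_add_finrank_inf_eq K (K.map (toLin' (s : Matrix ι ι F)))
    have h4 := Submodule.finrank_le (K ⊔ K.map (toLin' (s : Matrix ι ι F)))
    rw [finrank_fintype_fun_eq_card, h.card] at h4
    rw [show finrank F (K.map (toLin' (s : Matrix ι ι F))) = finrank F K from
      LinearEquiv.finrank_map_eq (toLinearEquiv' _ s.invertible) K] at h3
    obtain ⟨_, ⟨h5, u, h6, rfl⟩, h7⟩ := Submodule.exists_mem_ne_zero_of_ne_bot
      (p := K ⊓ K.map (toLin' (s : Matrix ι ι F))) fun h5 => by rw [h5, finrank_bot] at h3; omega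
    simp only [K, SetLike.mem_coe, LinearMap.mem_ker, LinearMap.sub_apply, toLin'_apply,
      algebraMap_end_apply, sub_eq_zero] at h5 h6 h7
    have h8 : ((x⁻¹ * s * x * s⁻¹ : GL ι F) : Matrix ι ι F) *ᵥ (s : Matrix ι ι F) *ᵥ u =
        (s : Matrix ι ι F) *ᵥ u := by
      rw [mulVec_mulVec, ← Units.val_mul, inv_mul_cancel_right, Units.val_mul, Units.val_mul,
        ← mulVec_mulVec, h6, mulVec_smul, ← mulVec_mulVec, ← mulVec_smul, ← h5, mulVec_mulVec]
      simp
    have h9 := congrArg (fun y : GL ι F => (y : Matrix ι ι F) *ᵥ (s : Matrix ι ι F) *ᵥ u) h2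
    simp only [Units.val_mul (x⁻¹ * s * x * s⁻¹), ← mulVec_mulVec, h8, Units.val_neg,
      Units.val_one, neg_mulVec, one_mulVec] at h9
    exact h7 ((smul_eq_zero.1 (by rw [two_smul]; exact add_eq_zero_iff_eq_neg.2 h9)).resolve_left
      h.two)
  have h3 : ∀ s ∈ R, ∀ u ∈ R, x⁻¹ * s * x * s⁻¹ * (x⁻¹ * u * x * u⁻¹) =
      x⁻¹ * u * x * u⁻¹ * (x⁻¹ * s * x * s⁻¹) := fun s hs u hu => by
    have h3 := h2 _ (R.mul_mem hs hu)
    rw [show x⁻¹ * (s * u) * x * (s * u)⁻¹ =
      x⁻¹ * s * x * s⁻¹ * (s * (x⁻¹ * u * x * u⁻¹) * s⁻¹) by group] at h3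
    have h4 := h2 s hs
    have h5 := h2 u hu
    have h6 := h.pm s hs _ (hm' u hu)
    have h7 := h.pm _ (hm' u hu) _ (hm' s hs)
    generalize x⁻¹ * s * x * s⁻¹ = a at *
    generalize x⁻¹ * u * x * u⁻¹ = b at *
    refine (h7.resolve_right fun h7 => h.ne_neg 1 ?_).symm
    have h8 : a * b * (a * b) = 1 := by rcases h6 with h6 | h6 <;> simpa [h6] using h3
    rw [mul_assoc, ← mul_assoc b, h7, neg_mul, mul_neg, mul_assoc, h5, mul_one, h4] at h8
    exact h8.symm
  have h4 : ∀ s ∈ R, x ^ 2 * s = s * x ^ 2 := fun s hs => by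
    refine h.comm_of_sc (pow_mem hx 2) hr (by rw [← pow_mul, mul_comm, pow_mul]; exact hxr.pow 2) hs
      (h.sc_of fun u hu => ?_)
    have hs' := (hx s).1 hs
    have h4 := h3 _ hs' u hu
    rw [h.comm_mul_iff (hm _ hs') (R.inv_mem hs') (hm' u hu), h.comm_inv_iff, eq_comm,
      h.comm_mul_iff (hm u hu) (R.inv_mem hu) (hm _ hs'), eq_comm (a := x * s * x⁻¹ * _),
      h.comm_mul_iff (hm u hu) (R.inv_mem hu) hs', h.comm_inv_iff, h.comm_inv_iff,
      show x⁻¹ * (x * s * x⁻¹) * x = s by group] at h4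
    have h5 : x⁻¹ * u * x * s = s * (x⁻¹ * u * x) ↔ u * (x * s * x⁻¹) = x * s * x⁻¹ * u := by
      rw [← (MulAut.conj x).injective.eq_iff]; simp [mul_assoc]
    have h6 : x⁻¹ * u * x * (x * s * x⁻¹) = x * s * x⁻¹ * (x⁻¹ * u * x) ↔
        u * (x ^ 2 * s * (x ^ 2)⁻¹) = x ^ 2 * s * (x ^ 2)⁻¹ * u := by
      rw [← (MulAut.conj x).injective.eq_iff]; simp [mul_assoc, pow_two]
    rw [h.comm_mul_iff ((pow_mem hx 2 s).1 hs) (R.inv_mem hs) hu, h.comm_inv_iff, eq_comm,
      eq_comm (a := s * u)]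
    tauto
  obtain ⟨k, rfl⟩ := hr
  refine h.sc_of fun s hs => mul_left_cancel (a := (x ^ 2) ^ k) ?_
  rw [← mul_assoc, ← mul_assoc, (Commute.pow_left (h4 s hs) k).eq, ← pow_mul, ← pow_succ, mul_assoc,
    ← pow_succ, hxr.comm]

end Pau

/-- There is no four-group of non-central involutions. -/
def MT (R : Subgroup (GL ι F)) : Prop :=
  ∀ v ∈ R, ∀ w ∈ R, v * v = 1 → w * w = 1 → v * w = w * v → Sc v ∨ Sc w ∨ Sc (v * w)

/-- Five pairwise anticommuting involutions. -/
structure Fr (R : Subgroup (GL ι F)) (γ : Fin 5 → GL ι F) : Prop where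
  mem : ∀ i, γ i ∈ R
  sq : ∀ i, γ i * γ i = 1
  anti : ∀ i j, i ≠ j → γ i * γ j = -(γ j * γ i)

theorem anti_symm {M : Type*} [Mul M] [InvolutiveNeg M] {a b : M} (h : a * b = -(b * a)) :
    b * a = -(a * b) := by rw [h, neg_neg]

theorem anti_assoc {M : Type*} [Monoid M] [HasDistribNeg M] {a b : M} (h : a * b = -(b * a))
    (c : M) : a * (b * c) = -(b * (a * c)) := by rw [← mul_assoc, h, neg_mul, mul_assoc]

theorem comm_assoc {M : Type*} [Monoid M] {a b : M} (h : a * b = b * a) (c : M) :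
    a * (b * c) = b * (a * c) := by rw [← mul_assoc, h, mul_assoc]

theorem sq_assoc {M : Type*} [Monoid M] {a b : M} (h : a * a = b) (c : M) :
    a * (a * c) = b * c := by rw [← mul_assoc, h]

namespace Pau

variable [Finite F] (h : Pau R)
include h

theorem mt_of (hm : IsOfMinusType 2 R) : MT R := fun v hv w hw h1 h2 h3 => by
  by_contra h4
  simp only [not_or] at h4
  obtain ⟨t', ht', h5⟩ := h.exists_anti hv h4.1
  obtain ⟨t, ht, h6, h7⟩ : ∃ t ∈ R, v * t = t * v ∧ w * t ≠ t * w := by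
    obtain ⟨t₁, ht₁, h6⟩ := h.exists_anti hw h4.2.1
    obtain ⟨t₂, ht₂, h7⟩ := h.exists_anti (R.mul_mem hv hw) h4.2.2
    have h8 := h.not_comm h7
    have h9 := h.comm_mul_iff ht₁ ht₂ hv
    have h10 := h.comm_mul_iff ht₁ ht₂ hw
    have h11 := h.not_comm h6
    rw [Ne, h.comm_mul_iff hv hw ht₂] at h8
    simp only [eq_comm (b := v * _), eq_comm (b := w * _)] at h9 h10
    by_cases h12 : v * t₁ = t₁ * v
    · exact ⟨t₁, ht₁, h12, h11⟩
    by_cases h13 : v * t₂ = t₂ * v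
    exacts [⟨t₂, ht₂, h13, by tauto⟩, ⟨_, R.mul_mem ht₁ ht₂, by tauto, by tauto⟩]
  set A := closure {-1, v, w}
  have hA : A ≤ R := (closure_le _).2 (by
    rintro _ (rfl | rfl | rfl)
    exacts [h.neg_one_mem, hv, hw])
  have hc : IsMulCommutative A := isMulCommutative_closure (by
    rintro _ (rfl | rfl | rfl) _ (rfl | rfl | rfl) <;> simp [h3])
  have h8 := hm (A.subgroupOf R) inferInstance fun x hx => Subtype.ext (by
    have : ∀ y ∈ A, y * y = 1 := fun y hy => by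
      induction hy using closure_induction with
      | mem y hy => rcases hy with rfl | rfl | rfl <;> simp [h1, h2]
      | one => simp
      | mul y z hy hz h9 h10 =>
        rw [mul_assoc, comm_assoc (setLike_mul_comm (s := A) hz hy), h10, mul_one, h9]
      | inv y hy h9 => rw [← _root_.mul_inv_rev, h9, inv_one]
    exact this _ hx)
  rw [Nat.card_congr (subgroupOfEquivOfLe hA).toEquiv] at h8
  have h9 := two_mul_card_le (show A ⊓ centralizer {t} < A from lt_of_le_of_ne inf_le_left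
    fun h9 => h7 (mem_centralizer_singleton_iff.1 (h9.ge (subset_closure (by simp))).2))
  have h10 := two_mul_card_le (show A ⊓ centralizer {t} ⊓ centralizer {t'} < A ⊓ centralizer {t}
    from lt_of_le_of_ne inf_le_left fun h9 => h.not_comm h5 (mem_centralizer_singleton_iff.1
      (h9.ge ⟨subset_closure (by simp), mem_centralizer_singleton_iff.2 h6⟩).2))
  have h11 := two_mul_card_le (show ⊥ < A ⊓ centralizer {t} ⊓ centralizer {t'} from
    bot_lt_iff_ne_bot.2 fun h9 => h.ne_neg 1 (mem_bot.1 (h9.le ⟨⟨subset_closure (by simp),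
      mem_centralizer_singleton_iff.2 (by simp)⟩, mem_centralizer_singleton_iff.2 (by simp)⟩)).symm)
  rw [card_bot] at h11
  omega

theorem exists_comm_not_sc (hs : s ∈ R) (ht : t ∈ R) :
    ∃ c ∈ R, c * s = s * c ∧ c * t = t * c ∧ ¬ Sc c := by
  have h1 := h.card_le_two_mul le_rfl hs
  have h2 := h.card_le_two_mul (D := R ⊓ centralizer {s}) inf_le_left ht
  obtain ⟨c, ⟨⟨h3, h4⟩, h5⟩, h6⟩ := h.exists_not_sc (D := R ⊓ centralizer {s} ⊓ centralizer {t})
    (inf_le_left.trans inf_le_left) (by omega)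
  exact ⟨c, h3, mem_centralizer_singleton_iff.1 h4, mem_centralizer_singleton_iff.1 h5, h6⟩

theorem exists_dihedral : ∃ a ∈ R, ∃ b ∈ R, a * a = 1 ∧ b * b = 1 ∧ a * b = -(b * a) := by
  obtain ⟨a, ha, h1, h2⟩ : ∃ a ∈ R, a * a = 1 ∧ ¬ Sc a := by
    obtain ⟨s, hs, h1⟩ := h.exists_not_sc le_rfl (by omega)
    obtain ⟨t, ht, h2⟩ := h.exists_anti hs h1
    obtain ⟨c, hc, h3, h4, h5⟩ := h.exists_comm_not_sc hs ht
    rcases h.sq hs with h6 | h6
    · exact ⟨s, hs, h6, h1⟩
    rcases h.sq hc with h7 | h7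
    · exact ⟨c, hc, h7, h5⟩
    exact ⟨_, R.mul_mem hs hc, by simp [mul_assoc, comm_assoc h3, h6, h7],
      h.not_sc (t := t) (by simp [mul_assoc, h4, anti_assoc h2])⟩
  obtain ⟨t, ht, h3⟩ := h.exists_anti ha h2
  rcases h.sq ht with h4 | h4
  · exact ⟨a, ha, t, ht, h1, h4, h3⟩
  · exact ⟨a, ha, _, R.mul_mem ha ht, h1, by simp [mul_assoc, anti_assoc (anti_symm h3),
      h1, h4], by simp [mul_assoc, anti_symm h3]⟩

theorem exists_fr (hq : (∃ j ∈ R, Sc j ∧ j * j = -1) ∨ MT R) : ∃ γ, Fr R γ := by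
  obtain ⟨a, ha, b, hb, h1, h2, h3⟩ := h.exists_dihedral
  have key : ∀ c ∈ R, c * a = a * c → c * b = b * c → ¬ Sc c → ∃ z ∈ R, Sc z ∧
      z * c * (z * c) = -1 := fun c hc h4 h5 h6 => by
    rcases h.sq hc with h7 | h7
    · rcases hq with ⟨j, hj, h8, h9⟩ | hq
      · exact ⟨j, hj, h8, by rw [mul_assoc, ← comm_assoc (h8.comm c), h7, mul_one, h9]⟩
      · exact absurd (hq a ha c hc h1 h7 h4.symm) (not_or.2 ⟨h.not_sc h3, not_or.2 ⟨h6,
          h.not_sc (t := b) (by simp [mul_assoc, h5, anti_assoc h3])⟩⟩)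
    · exact ⟨1, R.one_mem, sc_one, by simpa using h7⟩
  obtain ⟨c, hc, h4, h5, h6⟩ := h.exists_comm_not_sc ha hb
  obtain ⟨d, hd, h7, h8, h9⟩ : ∃ d ∈ R, d * a = a * d ∧ d * b = b * d ∧ d * c = -(c * d) := by
    obtain ⟨t, ht, h7⟩ := h.exists_anti hc h6
    have h8 := anti_symm h3
    have h9 := anti_symm h7
    rcases h.pm t ht a ha with h10 | h10 <;> rcases h.pm t ht b hb with h11 | h11
    · exact ⟨t, ht, h10, h11, h9⟩
    · refine ⟨_, R.mul_mem ha ht, ?_, ?_, ?_⟩ <;>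
        simp [mul_assoc, h9, h10, h11, comm_assoc h4, anti_assoc h8]
    · refine ⟨_, R.mul_mem hb ht, ?_, ?_, ?_⟩ <;>
        simp [mul_assoc, h9, h10, h11, comm_assoc h5, anti_assoc h8]
    · refine ⟨_, R.mul_mem ha (R.mul_mem hb ht), ?_, ?_, ?_⟩ <;>
        simp [mul_assoc, h9, h10, h11, comm_assoc h4, comm_assoc h5, anti_assoc h8]
  obtain ⟨z, hz, h10, h11⟩ := key c hc h4 h5 h6
  obtain ⟨w, hw, h12, h13⟩ := key d hd h7 h8 (h.not_sc h9)
  have h14 : ∀ {z c a : GL ι F}, Sc z → c * a = a * c → z * c * a = a * (z * c) := fun h h' => by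
    rw [mul_assoc, h', comm_assoc (h.comm _)]
  have h15 : w * d * (z * c) = -(z * c * (w * d)) := by
    simp only [mul_assoc, ← comm_assoc (h10.comm d), ← comm_assoc (h12.comm c),
      comm_assoc (h12.comm z), h9, mul_neg]
  have := R.mul_mem hz hc
  have := R.mul_mem hw hd
  replace h4 := h14 h10 h4
  replace h5 := h14 h10 h5
  replace h7 := h14 h12 h7
  replace h8 := h14 h12 h8
  generalize z * c = c at *
  generalize w * d = d at *
  replace h3 := anti_symm h3
  refine ⟨![a, b, a * b * c, a * b * d, a * b * c * d], fun i => ?_, fun i => ?_, fun i j hij => ?_⟩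
  · fin_cases i <;> simp <;> apply_rules [R.mul_mem]
  all_goals
    fin_cases i <;> (try fin_cases j) <;> first | exact absurd rfl hij | simp [mul_assoc, h1, h2, h3,
      h4, h5, h7, h8, h11, h13, h15, anti_assoc h3, comm_assoc h4, comm_assoc h5, comm_assoc h7,
      comm_assoc h8, anti_assoc h15, sq_assoc h1, sq_assoc h2, sq_assoc h11, sq_assoc h13]

theorem trace_three (hm : MT R) (hZ : Nat.card (Zc R) = 2)
    (hx : x ∈ normalizer (R : Set (GL ι F))) (hxr : Sc (x ^ 3)) (h1 : ¬ Sc x) :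
    trace (x : Matrix ι ι F) * trace ((x⁻¹ : GL ι F) : Matrix ι ι F) = 4 := by
  have := Fact.mk Nat.prime_three
  rcases h.odd_cases hx (by decide) hxr h1 with ⟨-, -, h2⟩ | h2
  swap; · exact h2.2
  exfalso
  obtain ⟨v, hv, t, ht, h3, -, h4⟩ := h.exists_dihedral
  have hw := (hx v).1 hv
  have hu := (hx _).1 hw
  have h5 : ∀ s ∈ R, Sc (x * s * x⁻¹ * s⁻¹) → Sc s := fun s hs h5 =>
    h2 s hs (h.comm_of_sc hx (by decide) hxr hs h5)
  have h6 : x * (x * (x * v * x⁻¹) * x⁻¹) * x⁻¹ = v := by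
    conv_rhs => rw [← mul_inv_cancel_right v (x ^ 3), ← hxr.comm, pow_three]
    group
  have h7 : ∀ s, s * s = 1 → x * s * x⁻¹ * (x * s * x⁻¹) = 1 := fun s hs => by
    rw [conj_mul, hs, mul_one, mul_inv_cancel]
  have h8 := h7 _ h3
  have h9 := h7 _ h8
  have h10 : ¬ Sc (x * v * x⁻¹) := h.not_sc (t := x * t * x⁻¹) (by
    rw [conj_mul, conj_mul, h4, mul_neg, neg_mul])
  have h11 := h5 v hv
  have h12 := h5 _ (R.mul_mem (R.mul_mem hv hw) hu)
  rw [← conj_mul, ← conj_mul, h6] at h12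
  rw [inv_eq_of_mul_eq_one_right h3] at h11
  generalize x * (x * v * x⁻¹) * x⁻¹ = u at *
  generalize x * v * x⁻¹ = w at *
  have h13 : Sc (v * w * u) := h12 (by
    rcases h.pm _ (R.mul_mem hw hu) v hv with h13 | h13
    · rw [h13, mul_assoc v w, mul_inv_cancel]; exact sc_one
    · rw [h13, mul_assoc v w, neg_mul, mul_inv_cancel]; exact sc_one.neg)
  have h14 : v * w * u * (v * w * u) = 1 := congrArg Subtype.val (show (⟨_, h.mem_Zc.2
    ⟨R.mul_mem (R.mul_mem hv hw) hu, h13⟩⟩ : Zc R) * _ = 1 by rw [← pow_two, ← hZ, pow_card_eq_one'])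
  have h15 : v * w = w * v := by
    by_contra h15
    have h16 := anti_symm (h.anti_of hv hw h15)
    have h17 := (h13.comm u).symm
    rw [← mul_assoc, mul_left_inj] at h17
    rw [mul_assoc _ u, ← mul_assoc u, h17, mul_assoc _ u, h9, mul_one, mul_assoc, anti_assoc h16,
      h8, mul_one, mul_neg, h3] at h14
    exact h.ne_neg 1 h14.symm
  rcases hm v hv w hw h3 h8 h15 with h16 | h16 | h16
  exacts [h.not_sc h4 h16, h10 h16, h.not_sc h4 (h11 (h15 ▸ h16))]

end Pau

end CL.Pauli
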