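import Mathlib
import Cfsg.Agent.CLAS.Four1
import Cfsg.Agent.CLAS.OrthIso6
import Cfsg.Agent.CLAS.OrthOrder
import Cfsg.Agent.CLAS.Pauli1
import Cfsg.Agent.CLAS.AschSp2

/-!
Maximal subgroups of `Sp₄(q)`, `q` odd, through the isomorphism with `Ω₅(q)`.
-/

set_option autoImplicit false
set_option linter.unusedSectionVars false

namespace CL.Four

open Module Matrix Cfsg Cfsg.Geo CL.Witt CL.Witt.Form CL.Orth CL.OrthE

/-- Transfer of maximality along a homomorphism. -/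
theorem transfer {G G' : Type*} [Group G] [Group G'] {L H : Subgroup G} (φ : L →* G')
    {E S : Subgroup G'} (hr : φ.range = E) (hS : ∀ g : L, φ g ∈ S → g.1 ∈ H) (hne : ¬ L ≤ H)
    (h : ∀ M, S ⊓ E ≤ M → M ≤ E → ∀ g ∈ M, g ∉ S → E ≤ M) : IsMaximalIn L (H ⊓ L) := by
  refine ⟨lt_of_le_of_ne inf_le_right fun h1 => hne (h1.ge.trans inf_le_left), fun K h1 h2 => ?_⟩
  by_cases h3 : K ≤ H
  · exact Or.inl (le_antisymm (le_inf h3 h2) h1)
  right
  obtain ⟨k, hk, hk'⟩ := SetLike.not_le_iff_exists.1 h3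
  have := h ((K.subgroupOf L).map φ) (by
      rintro s ⟨hs, hs'⟩
      obtain ⟨g, rfl⟩ := hr.ge hs'
      exact ⟨g, h1 ⟨hS g hs, g.2⟩, rfl⟩) (hr ▸ Subgroup.map_le_range _ _) (φ ⟨k, h2 hk⟩)
    ⟨⟨k, h2 hk⟩, hk, rfl⟩ fun h => hk' (hS _ h)
  refine le_antisymm h2 fun g hg => ?_
  obtain ⟨y, hy, hy'⟩ := this (hr.le ⟨⟨g, hg⟩, rfl⟩)
  have h4 : (y⁻¹ * ⟨g, hg⟩ : L).1 ∈ K := h1 ⟨hS _ (by
    rw [map_mul, map_inv, hy', inv_mul_cancel]; exact S.one_mem), (y⁻¹ * ⟨g, hg⟩ : L).2⟩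
  simpa using K.mul_mem hy h4

theorem range_eq_E {F V H : Type*} [Field F] [Finite F] [AddCommGroup V] [Module F V]
    [FiniteDimensional F V] [Group H] {Q : QuadraticForm F V} (hQ : (ofQuad Q).Nondeg)
    (h5 : 5 ≤ finrank F V) {φ : H →* O Q} (h : φ.range = commutator (O Q)) :
    ((O Q).subtype.comp φ).range = (ofQuad Q).E := by
  rw [← MonoidHom.map_range, h, commutator_def, Subgroup.map_commutator, ← MonoidHom.range_eq_map,
    Subgroup.range_subtype, ← ofQuad_O, ((quad_iso3 _).idx2 hQ h5).commutator_O hQ h5]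

variable {F : Type*} [Field F]

/-- The five-dimensional module of `Sp₄`, as self-adjoint matrices of trace zero. -/
def y5 (F : Type*) [Field F] : (Unit ⊕ (Fin 2 ⊕ Fin 2) → F) →ₗ[F]
    Matrix (Fin 2 ⊕ Fin 2) (Fin 2 ⊕ Fin 2) F where
  toFun v := fromBlocks !![v (.inl ()), v (.inr (.inl 1)); v (.inr (.inr 1)), -v (.inl ())]
    !![0, -v (.inr (.inl 0)); v (.inr (.inl 0)), 0] !![0, v (.inr (.inr 0)); -v (.inr (.inr 0)), 0]
    !![v (.inl ()), v (.inr (.inr 1)); v (.inr (.inl 1)), -v (.inl ())]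
  map_add' u v := by
    ext i j; rcases i with i | i <;> rcases j with j | j <;> fin_cases i <;> fin_cases j <;>
      simp [add_comm]
  map_smul' c v := by
    ext i j; rcases i with i | i <;> rcases j with j | j <;> fin_cases i <;> fin_cases j <;> simp

theorem y5_apply (v : Unit ⊕ (Fin 2 ⊕ Fin 2) → F) : y5 F v =
    fromBlocks !![v (.inl ()), v (.inr (.inl 1)); v (.inr (.inr 1)), -v (.inl ())]
    !![0, -v (.inr (.inl 0)); v (.inr (.inl 0)), 0] !![0, v (.inr (.inr 0)); -v (.inr (.inr 0)), 0]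
    !![v (.inl ()), v (.inr (.inr 1)); v (.inr (.inl 1)), -v (.inl ())] := rfl

theorem reindex_y5 (v : Unit ⊕ (Fin 2 ⊕ Fin 2) → F) :
    reindex (finSumFinEquiv : Fin 2 ⊕ Fin 2 ≃ Fin 4) finSumFinEquiv (y5 F v) =
      klein5 F v * alt4 0 (-1) 0 0 (-1) 0 := by
  ext i j; fin_cases i <;> fin_cases j <;>
    simp [y5_apply, klein5_apply, alt4, finSumFinEquiv, Fin.addCases, Matrix.mul_apply,
      Fin.sum_univ_four]

theorem y5_sq (v : Unit ⊕ (Fin 2 ⊕ Fin 2) → F) : y5 F v * y5 F v = QOdd 2 F v • 1 := by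
  ext i j; rcases i with i | i <;> rcases j with j | j <;> fin_cases i <;> fin_cases j <;>
    simp [y5_apply, QOdd_apply, Matrix.mul_apply, Fin.sum_univ_two] <;> ring

theorem y5_adj (v : Unit ⊕ (Fin 2 ⊕ Fin 2) → F) :
    (y5 F v)ᵀ * J (Fin 2) F = J (Fin 2) F * y5 F v := by
  ext i j; rcases i with i | i <;> rcases j with j | j <;> fin_cases i <;> fin_cases j <;>
    simp [y5_apply, J, Matrix.mul_apply, Fin.sum_univ_two]

theorem y5_trace (v : Unit ⊕ (Fin 2 ⊕ Fin 2) → F) : trace (y5 F v) = 0 := by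
  simp [y5_apply, trace, Fin.sum_univ_two]

theorem y5_inj : Function.Injective (y5 F) := fun u v h => klein5_injective (by
  have h1 := congrArg (fun M => reindex (finSumFinEquiv : Fin 2 ⊕ Fin 2 ≃ Fin 4) finSumFinEquiv M *
    alt4 0 (-1) 0 0 (-1) 0) h
  have h2 : alt4 (0 : F) (-1) 0 0 (-1) 0 * alt4 0 (-1) 0 0 (-1) 0 = -1 := by
    ext i j; fin_cases i <;> fin_cases j <;> simp [alt4, Matrix.mul_apply, Fin.sum_univ_four]
  simpa only [reindex_y5, Matrix.mul_assoc, h2, Matrix.mul_neg, Matrix.mul_one, neg_inj] using h1)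

theorem y5_surj (h2 : (2 : F) ≠ 0) {M : Matrix (Fin 2 ⊕ Fin 2) (Fin 2 ⊕ Fin 2) F}
    (h : Mᵀ * J (Fin 2) F = J (Fin 2) F * M) (ht : trace M = 0) : ∃ v, y5 F v = M := by
  have k := fun i j => congrFun (congrFun h i) j
  simp only [J, Matrix.mul_apply, Fintype.sum_sum_type, Fin.sum_univ_two] at k
  have k1 := k (.inl 0) (.inl 0)
  have k2 := k (.inl 0) (.inl 1)
  have k3 := k (.inl 1) (.inl 1)
  have k4 := k (.inr 0) (.inr 0)
  have k5 := k (.inr 0) (.inr 1)
  have k6 := k (.inr 1) (.inr 1)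
  have k7 := k (.inl 0) (.inr 0)
  have k8 := k (.inl 0) (.inr 1)
  have k9 := k (.inl 1) (.inr 0)
  have k10 := k (.inl 1) (.inr 1)
  simp [trace, Fin.sum_univ_two] at k1 k2 k3 k4 k5 k6 k7 k8 k9 k10 ht
  refine ⟨Sum.elim (fun _ => M (.inl 0) (.inl 0)) (Sum.elim ![M (.inl 1) (.inr 0), M (.inl 0) (.inl 1)]
    ![M (.inr 0) (.inl 1), M (.inl 1) (.inl 0)]), ?_⟩
  ext i j; rcases i with i | i <;> rcases j with j | j <;> fin_cases i <;> fin_cases j <;>
    simp [y5_apply] <;> refine mul_left_cancel₀ h2 ?_ <;>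
    first
      | linear_combination k1 | linear_combination -k1 | linear_combination 2 * k2
      | linear_combination -2 * k2 | linear_combination k3 | linear_combination -k3
      | linear_combination k4 | linear_combination -k4 | linear_combination 2 * k5
      | linear_combination -2 * k5 | linear_combination k6 | linear_combination -k6
      | linear_combination 2 * k7 | linear_combination -2 * k7 | linear_combination 2 * k8
      | linear_combination -2 * k8 | linear_combination 2 * k9 | linear_combination -2 * k9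
      | linear_combination -ht - k7 - k10 | linear_combination -ht + k7 + k10
      | linear_combination -ht + k7 - k10 | linear_combination -ht - k7 + k10

theorem y5_gen (h2 : (2 : F) ≠ 0) {M : Matrix (Fin 2 ⊕ Fin 2) (Fin 2 ⊕ Fin 2) F}
    (h : ∀ v, M * y5 F v = y5 F v * M) : ∃ c : F, M = c • 1 := by
  have k := fun (s : Unit ⊕ (Fin 2 ⊕ Fin 2)) i j => congrFun (congrFun (h (Pi.single s 1)) i) j
  simp only [y5_apply, Matrix.mul_apply, Fintype.sum_sum_type, Fin.sum_univ_two] at k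
  have b01 := k (.inl ()) (.inl 0) (.inl 1)
  have b03 := k (.inl ()) (.inl 0) (.inr 1)
  have b10 := k (.inl ()) (.inl 1) (.inl 0)
  have b12 := k (.inl ()) (.inl 1) (.inr 0)
  have b21 := k (.inl ()) (.inr 0) (.inl 1)
  have b23 := k (.inl ()) (.inr 0) (.inr 1)
  have b30 := k (.inl ()) (.inr 1) (.inl 0)
  have b32 := k (.inl ()) (.inr 1) (.inr 0)
  have c01 := k (.inr (.inl 1)) (.inl 0) (.inl 1)
  have c21 := k (.inr (.inl 1)) (.inr 0) (.inl 1)
  have c12 := k (.inr (.inl 1)) (.inl 1) (.inr 0)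
  have d30 := k (.inr (.inr 1)) (.inr 1) (.inl 0)
  have d03 := k (.inr (.inr 1)) (.inl 0) (.inr 1)
  have a03 := k (.inr (.inl 0)) (.inl 0) (.inr 1)
  have a12 := k (.inr (.inl 0)) (.inl 1) (.inr 0)
  simp [neg_eq_iff_add_eq_zero, eq_neg_iff_add_eq_zero, ← two_mul, h2] at b01 b03 b10 b12
  simp [neg_eq_iff_add_eq_zero, eq_neg_iff_add_eq_zero, ← two_mul, h2] at b21 b23 b30 b32
  simp [b01, b03, b10, b12, b21, b23, b30, b32] at c01 c21 c12 d30 d03 a03 a12
  refine ⟨M (.inl 0) (.inl 0), ?_⟩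
  ext i j; rcases i with i | i <;> rcases j with j | j <;> fin_cases i <;> fin_cases j <;>
    simp [b01, b03, b10, b12, b21, b23, b30, b32, c21, c12, d30, d03, ← a03, ← a12, ← c01]

theorem exists_phi5 [Fintype F] (h2 : (2 : F) ≠ 0) :
    ∃ φ : spGL 2 F →* ((Unit ⊕ (Fin 2 ⊕ Fin 2) → F) ≃ₗ[F] (Unit ⊕ (Fin 2 ⊕ Fin 2) → F)),
      φ.range = (ofQuad (QOdd 2 F)).E ∧ ∀ g v, y5 F (φ g v) * g.1.1 = g.1.1 * y5 F v := by
  obtain ⟨φ, hφ⟩ := exists_hom_QOdd_two (F := F)
  have h3 : 3 ≤ Fintype.card F := by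
    have := three_le_card h2
    rwa [Nat.card_eq_fintype_card] at this
  have hp := Cfsg.Agent.S0269.result (F := F) 2 (Or.inr (Or.inl ⟨rfl, h3⟩))
  let z : symplecticGroup (Fin 2) F := ⟨-1, SymplecticGroup.neg_mem (one_mem _)⟩
  have hz : sp4Coe F z = -1 := by
    rw [sp4Coe_apply]; ext i j; simp [z, one_apply]
  have hr := range_eq_commutator (QOdd_nondeg 2 F h2) (by simp) φ (fun _ => noTwoQuot_of_perfect hp)
    (fun _ => hp) (z := z) (fun h => absurd h h2) (fun g hg => ?_) ?_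
  · refine ⟨((Orth.O _).subtype.comp φ).comp (Sp.spGLEquivSp 2 F).toMonoidHom, ?_, fun g v => ?_⟩
    · rw [← MonoidHom.map_range, MonoidHom.range_eq_top.2 (Sp.spGLEquivSp 2 F).surjective,
        ← MonoidHom.range_eq_map]
      exact range_eq_E ((ofQuad_nondeg_iff _).2 (QOdd_nondeg 2 F h2)) (by simp) hr
    · apply (reindex (finSumFinEquiv : Fin 2 ⊕ Fin 2 ≃ Fin 4) finSumFinEquiv).injective
      have h4 := hφ (Sp.spGLEquivSp 2 F g) v
      have h5 : (sp4Coe F (Sp.spGLEquivSp 2 F g))ᵀ * alt4 0 (-1) 0 0 (-1) 0 *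
          sp4Coe F (Sp.spGLEquivSp 2 F g) = alt4 0 (-1) 0 0 (-1) 0 := by
        rw [← reindex_J, sp4Coe_apply, transpose_reindex, reindex_apply, reindex_apply, reindex_apply,
          submatrix_mul_equiv, submatrix_mul_equiv, SymplecticGroup.mem_iff'.1 (Sp.spGLEquivSp 2 F g).2]
      rw [reindex_apply, reindex_apply, ← submatrix_mul_equiv _ _ _ finSumFinEquiv.symm,
        ← submatrix_mul_equiv _ _ _ finSumFinEquiv.symm, ← reindex_apply, ← reindex_apply,
        ← reindex_apply, reindex_y5, reindex_y5]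
      change klein5 F ((φ (Sp.spGLEquivSp 2 F g)).1 v) * _ * sp4Coe F (Sp.spGLEquivSp 2 F g) =
        sp4Coe F (Sp.spGLEquivSp 2 F g) * _
      rw [h4]
      conv_rhs => rw [← h5]
      simp only [Matrix.mul_assoc]
  · refine (eq_or_of_fix_alt4 (g := sp4Coe F g) fun a b c d e f => ?_).imp
      (fun h => sp4Coe_injective (h.trans (map_one _).symm)) fun h => sp4Coe_injective (h.trans hz.symm)
    have h1 : alt4 a b c d e f = alt4 a ((b - e) / 2) c d (-((b - e) / 2)) f +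
        (-(b + e) / 2) • alt4 0 (-1) 0 0 (-1) 0 := by
      rw [alt4_smul, alt4_add]; congr 1 <;> simp only [smul_eq_mul] <;> field_simp <;> ring
    rw [h1, Matrix.mul_add, Matrix.add_mul, Matrix.mul_smul, Matrix.smul_mul, sp4Coe_J, ← klein5_elim, ← hφ, hg]
    rfl
  · rw [card_O_QOdd rfl h2, Cfsg.Agent.S0245.result rfl, mul_assoc]

theorem y5_anti (u v : Unit ⊕ (Fin 2 ⊕ Fin 2) → F) :
    y5 F u * y5 F v + y5 F v * y5 F u = (ofQuad (QOdd 2 F)).B u v • 1 := by
  have h := y5_sq (u + v)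
  rw [map_add, Matrix.add_mul, Matrix.mul_add, Matrix.mul_add, y5_sq, y5_sq] at h
  rw [ofQuad_B, QuadraticMap.polar, sub_smul, sub_smul, ← h]
  abel

theorem y5_trace_mul (h2 : (2 : F) ≠ 0) (u v : Unit ⊕ (Fin 2 ⊕ Fin 2) → F) :
    trace (y5 F u * y5 F v) = 2 * (ofQuad (QOdd 2 F)).B u v := by
  have h := congrArg trace (y5_anti u v)
  rw [trace_add, trace_mul_comm (y5 F v), trace_smul, trace_one] at h
  simp only [Fintype.card_sum, Fintype.card_fin, smul_eq_mul] at h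
  exact mul_left_cancel₀ h2 (by push_cast at h; linear_combination h)

section skew

variable (h2 : (2 : F) ≠ 0) {j : Matrix (Fin 2 ⊕ Fin 2) (Fin 2 ⊕ Fin 2) F}
  (hj : jᵀ * J (Fin 2) F = -(J (Fin 2) F * j)) {d : F} (hd : j * j = d • 1) (d0 : d ≠ 0)
include h2 hj hd d0

omit hd d0 in
theorem exists_y5_mul {x : Unit ⊕ (Fin 2 ⊕ Fin 2) → F} (hx : y5 F x * j = -(j * y5 F x)) :
    ∃ w, y5 F w = j * y5 F x := by
  refine y5_surj h2 ?_ ?_
  · rw [transpose_mul, Matrix.mul_assoc, hj, Matrix.mul_neg, ← Matrix.mul_assoc, y5_adj,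
      Matrix.mul_assoc, hx, Matrix.mul_neg, neg_neg]
  · have := congrArg trace hx
    rw [trace_neg, trace_mul_comm] at this
    exact mul_left_cancel₀ h2 (by linear_combination this)

theorem exists_anti : ∃ x, QOdd 2 F x ≠ 0 ∧ y5 F x * j = -(j * y5 F x) := by
  have T : ∀ v, ∃ w, y5 F w = j * y5 F v - y5 F v * j ∧ y5 F w * j = -(j * y5 F w) := fun v => by
    obtain ⟨w, hw⟩ := y5_surj h2 (M := j * y5 F v - y5 F v * j) (by
      rw [transpose_sub, transpose_mul, transpose_mul, Matrix.sub_mul, Matrix.mul_assoc, hj,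
        Matrix.mul_assoc, y5_adj, Matrix.mul_neg, ← Matrix.mul_assoc, y5_adj, ← Matrix.mul_assoc, hj,
        Matrix.mul_sub, Matrix.neg_mul, Matrix.mul_assoc, Matrix.mul_assoc]
      abel) (by rw [trace_sub, trace_mul_comm, sub_self])
    refine ⟨w, hw, ?_⟩
    rw [hw, Matrix.sub_mul, Matrix.mul_sub, Matrix.mul_assoc (y5 F v), hd, ← Matrix.mul_assoc j j, hd,
      Matrix.mul_assoc]
    simp
  by_contra! H
  have H' : ∀ x, y5 F x * j = -(j * y5 F x) → QOdd 2 F x = 0 := fun x hx => by_contra fun h => H x h hx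
  obtain ⟨c, rfl⟩ := y5_gen h2 (M := j) fun v => by
    obtain ⟨y, hy, hy'⟩ := T v
    obtain ⟨w, hw⟩ := exists_y5_mul h2 hj hy'
    have h0 : w = 0 := (ofQuad_nondeg_iff _).2 (QOdd_nondeg 2 F h2) w fun x => by
      obtain ⟨z, hz, hz'⟩ := T x
      have h1 : (ofQuad (QOdd 2 F)).B z y = 0 := by
        rw [ofQuad_B, QuadraticMap.polar, H' z hz', H' y hy', H' (z + y) (by
          rw [map_add, Matrix.add_mul, Matrix.mul_add, hz', hy', neg_add]), sub_zero, sub_zero]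
      have h3 := y5_trace_mul h2 z y
      rw [h1, hz, Matrix.sub_mul, trace_sub, Matrix.mul_assoc, trace_mul_comm, Matrix.mul_assoc,
        hy', Matrix.mul_assoc, ← hw, Matrix.mul_neg, trace_neg, trace_mul_comm,
        y5_trace_mul h2] at h3
      exact mul_left_cancel₀ (mul_ne_zero h2 h2) (by linear_combination -h3)
    have h1 := congrArg (j * ·) hw
    simp only [h0, map_zero, Matrix.mul_zero, ← Matrix.mul_assoc, hd, Matrix.smul_mul,
      Matrix.one_mul] at h1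
    rw [← sub_eq_zero, ← hy]
    exact (smul_eq_zero.1 h1.symm).resolve_left d0
  have h1 := congrFun (congrFun hj (.inr 0)) (.inl 0)
  have h3 := congrFun (congrFun hd (.inl 0)) (.inl 0)
  simp [J] at h1 h3
  have h4 : c = 0 := mul_left_cancel₀ h2 (by linear_combination h1)
  exact d0 (by rw [← h3, h4, mul_zero])

theorem skew_maximal [Fintype F] (h4 : 4 ≤ Fintype.card F) {H : Subgroup (GL (Fin 2 ⊕ Fin 2) F)}
    (hH : ∀ g ∈ spGL 2 F, g.1 * j = j * g.1 ∨ g.1 * j = -(j * g.1) → g ∈ H)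
    (hne : ¬ spGL 2 F ≤ H) : IsMaximalIn (spGL 2 F) (H ⊓ spGL 2 F) := by
  obtain ⟨φ, hφ, hφ'⟩ := exists_phi5 h2
  have hf : (ofQuad (QOdd 2 F)).Nondeg := (ofQuad_nondeg_iff _).2 (QOdd_nondeg 2 F h2)
  obtain ⟨x, qx, hx⟩ := exists_anti h2 hj hd d0
  obtain ⟨y, hy⟩ := exists_y5_mul h2 hj hx
  have r1 : ∀ M : Matrix (Fin 2 ⊕ Fin 2) (Fin 2 ⊕ Fin 2) F, y5 F x * (j * M) = -(j * (y5 F x * M)) :=
    fun M => by rw [← Matrix.mul_assoc, hx, Matrix.neg_mul, Matrix.mul_assoc]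
  have r2 : ∀ M : Matrix (Fin 2 ⊕ Fin 2) (Fin 2 ⊕ Fin 2) F, j * (j * M) = d • M :=
    fun M => by rw [← Matrix.mul_assoc, hd, Matrix.smul_mul, Matrix.one_mul]
  have one_ne : ∀ a : F, a • (1 : Matrix (Fin 2 ⊕ Fin 2) (Fin 2 ⊕ Fin 2) F) = 0 → a = 0 :=
    fun a ha => (smul_eq_zero.1 ha).resolve_right one_ne_zero
  have qy : QOdd 2 F y = -(d * QOdd 2 F x) := by
    have := y5_sq y
    rw [hy, Matrix.mul_assoc, r1, y5_sq, Matrix.mul_neg, r2, smul_smul, ← neg_smul, ← sub_eq_zero,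
      ← sub_smul] at this
    exact (sub_eq_zero.1 (one_ne _ this)).symm
  have bxy : (ofQuad (QOdd 2 F)).B x y = 0 := one_ne _ (by
    rw [← y5_anti, hy, r1, Matrix.mul_assoc, neg_add_cancel])
  have hP : ((ofQuad (QOdd 2 F)).restrict (Submodule.span F {x, y})).Nondeg :=
    restrict_nondeg_span_pair (by
      rw [bxy, zero_mul, qB_self, qB_self, ofQuad_q, ofQuad_q, qy]
      simp [h2, qx, d0])
  have hP2 : finrank F (Submodule.span F {x, y}) = 2 := finrank_span_pair_of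
    (by rintro rfl; simp [qx, d0] at qy) (not_mem_span_of_B (f := ofQuad (QOdd 2 F)) (d := x)
      (by rw [qB_self, ofQuad_q]; simp [h2, qx]) bxy)
  have hZ := hf.restrict_perp hP
  have hZ3 := hf.finrank_add_finrank_perp (Submodule.span F {x, y})
  rw [hP2, Module.finrank_fintype_fun_eq_card] at hZ3
  simp only [Fintype.card_sum, Fintype.card_fin, Fintype.card_unit] at hZ3
  refine transfer φ hφ (S := Witt.stab ((ofQuad (QOdd 2 F)).perp (Submodule.span F {x, y})))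
    (fun g hg => hH g g.2 ?_) hne fun M h5 h6 g hg hg' => hf.quad_E_le_of_stab3 (by simp) hZ
      (by omega) (by rwa [Nat.card_eq_fintype_card]) (quad_oIrr' (hf.restrict_perp hZ)
        (Or.inr (Or.inl (by rwa [Nat.card_eq_fintype_card])))) h5 (E_le_O (h6 hg)) hg hg' fun h7 => ?_
  · have hO : φ g ∈ (ofQuad (QOdd 2 F)).O := E_le_O (hφ.le ⟨g, rfl⟩)
    have h5 := mem_stab_perp hO hg
    rw [hf.perp_perp] at h5
    obtain ⟨a, b, h6⟩ := Submodule.mem_span_pair.1 ((h5 x).1 (Submodule.subset_span (by simp)))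
    obtain ⟨c, e, h7⟩ := Submodule.mem_span_pair.1 ((h5 y).1 (Submodule.subset_span (by simp)))
    have h8 := mem_O_B hO x y
    rw [← h6, ← h7, bxy] at h8
    simp only [B_add_left, B_add_right, qB_smul_left, B_smul_right, qB_comm y x, bxy, qB_self,
      ofQuad_q, qy] at h8
    have h9 : a * c = b * e * d := mul_left_cancel₀ (mul_ne_zero h2 qx) (by linear_combination h8)
    have h10 : y5 F (φ g x) * (y5 F (φ g y) * g.1.1) = g.1.1 * (y5 F x * y5 F y) := by
      rw [hφ', ← Matrix.mul_assoc, hφ', Matrix.mul_assoc]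
    rw [← h6, ← h7, ← Matrix.mul_assoc, hy, r1, y5_sq] at h10
    simp only [map_add, map_smul, hy, Matrix.add_mul, Matrix.mul_add, Matrix.smul_mul,
      Matrix.mul_smul, Matrix.mul_assoc, r1, r2, Matrix.mul_neg, Matrix.mul_one,
      ← Matrix.mul_assoc (y5 F x) (y5 F x), y5_sq, Matrix.one_mul, Matrix.neg_mul, hd] at h10
    have h11 : g.1.1 * j = (a * e - b * c) • (j * g.1.1) := smul_right_injective _ qx (by
      simp only
      linear_combination (norm := module) h10 - (QOdd 2 F x * h9) • g.1.1)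
    have h12 : (a * e - b * c) * (a * e - b * c) = 1 := by
      have h13 : g.1.1 * j * j = ((a * e - b * c) * (a * e - b * c) * d) • g.1.1 := by
        rw [h11, Matrix.smul_mul, Matrix.mul_assoc, h11, Matrix.mul_smul, r2, smul_smul, smul_smul]
      rw [Matrix.mul_assoc, hd, Matrix.mul_smul, Matrix.mul_one] at h13
      exact mul_right_cancel₀ d0 ((smul_left_injective F g.1.ne_zero h13).symm.trans (one_mul d).symm)
    rcases mul_self_eq_one_iff.1 h12 with h13 | h13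
    · exact Or.inl (by rw [h11, h13, one_smul])
    · exact Or.inr (by rw [h11, h13, neg_one_smul])
  · rw [hf.perp_perp] at h7
    have := Submodule.finrank_mono (show ((ofQuad (QOdd 2 F)).perp (Submodule.span F {x, y})).map
      (g : _ →ₗ[F] _) ≤ _ by rintro _ ⟨v, hv, rfl⟩; exact h7 v hv)
    rw [LinearEquiv.finrank_map_eq] at this
    omega

end skew

section pauli

open CL.Pauli

variable {ι : Type} [Fintype ι] [DecidableEq ι] [Finite F] {R : Subgroup (GL ι F)} (h : Pau R)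
  {γ : Fin 5 → GL ι F} (hγ : Pauli.Fr R γ)
include h hγ

theorem le_of_fr {N : Subgroup (GL ι F)} (h1 : ∀ i, γ i ∈ N) (h2 : ∀ z ∈ R, Sc z → z ∈ N) :
    R ≤ N := by
  have : Finite (GL ι F) := inferInstance
  have k0 : ∀ i j k, i ≠ k → j ≠ k → γ i * γ j * γ k = γ k * (γ i * γ j) := fun i j k a b => by
    rw [mul_assoc, hγ.anti j k b, mul_neg, ← mul_assoc, hγ.anti i k a, neg_mul, neg_neg, mul_assoc]
  have k1 : ∀ i k, i ≠ k → γ i * γ k * γ k ≠ γ k * (γ i * γ k) := fun i k a e => by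
    rw [← mul_assoc, mul_left_inj] at e
    exact h.not_comm (hγ.anti i k a) e
  have step : ∀ (D : Subgroup (GL ι F)) (k : Fin 5), D ≤ R → k ≠ 4 → γ 4 * γ k ∈ D →
      2 * Nat.card (D ⊓ Subgroup.centralizer {γ k} : Subgroup (GL ι F)) ≤ Nat.card D ∧
      (D ⊓ Subgroup.centralizer {γ k} ≤ N → D ≤ N) := fun D k hD hk hw => by
    refine ⟨two_mul_card_le (lt_of_le_of_ne inf_le_left fun e => k1 4 k hk.symm
      (Subgroup.mem_centralizer_singleton_iff.1 (e.ge hw).2)), fun hN r hr => ?_⟩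
    by_cases hc : r * γ k = γ k * r
    · exact hN ⟨hr, Subgroup.mem_centralizer_singleton_iff.2 hc⟩
    · have := hN ⟨D.mul_mem hr hw, Subgroup.mem_centralizer_singleton_iff.2
        ((h.comm_mul_iff (hD hr) (hD hw) (hγ.mem k)).2 (iff_of_false hc (k1 4 k hk.symm)))⟩
      exact (N.mul_mem_cancel_right (N.mul_mem (h1 4) (h1 k))).1 this
  have m : ∀ k, γ 4 * γ k ∈ R := fun k => R.mul_mem (hγ.mem 4) (hγ.mem k)
  have c : ∀ k l : Fin 5, 4 ≠ l → k ≠ l → γ 4 * γ k ∈ Subgroup.centralizer {γ l} :=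
    fun k l a b => Subgroup.mem_centralizer_singleton_iff.2 (k0 4 k l a b)
  obtain ⟨a0, b0⟩ := step R 0 le_rfl (by decide) (m 0)
  obtain ⟨a1, b1⟩ := step _ 1 inf_le_left (by decide) ⟨m 1, c 1 0 (by decide) (by decide)⟩
  obtain ⟨a2, b2⟩ := step _ 2 (inf_le_left.trans inf_le_left) (by decide)
    ⟨⟨m 2, c 2 0 (by decide) (by decide)⟩, c 2 1 (by decide) (by decide)⟩
  obtain ⟨a3, b3⟩ := step _ 3 (inf_le_left.trans (inf_le_left.trans inf_le_left)) (by decide)
    ⟨⟨⟨m 3, c 3 0 (by decide) (by decide)⟩, c 3 1 (by decide) (by decide)⟩,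
      c 3 2 (by decide) (by decide)⟩
  refine b0 (b1 (b2 (b3 ?_)))
  have h3 := h.idx
  refine (Subgroup.eq_of_le_of_card_ge (H := Zc R) (fun z hz => ?_) (by omega)).ge.trans
    fun z hz => h2 z (h.mem_Zc.1 hz).1 (h.mem_Zc.1 hz).2
  have := fun k => Subgroup.mem_centralizer_singleton_iff.2 ((h.mem_Zc.1 hz).2.comm (γ k))
  exact ⟨⟨⟨⟨(h.mem_Zc.1 hz).1, this 0⟩, this 1⟩, this 2⟩, this 3⟩

theorem mem_normalizer_of_fr {g : GL ι F} (h1 : ∀ i, g * γ i * g⁻¹ ∈ R) :
    g ∈ subgroupNormalizer R :=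
  Subgroup.mem_normalizer_fintype fun _ hn => le_of_fr h hγ (N := R.comap (MulAut.conj g).toMonoidHom)
    h1 (fun z hz hz' => by
      change g * z * g⁻¹ ∈ R
      rwa [← hz'.comm, mul_inv_cancel_right]) hn

omit hγ in
theorem commutator_le_scalars : ⁅R, R⁆ ≤ scalars ι F := Subgroup.commutator_le.2 fun a ha b hb => by
  rw [mem_scalars_iff, commutatorElement_def]
  rcases h.pm a ha b hb with e | e
  · exact ⟨1, by rw [e]; simp⟩
  · exact ⟨-1, by rw [e]; simp⟩

theorem not_le_scalars : ¬ R ≤ scalars ι F := fun e => by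
  obtain ⟨c, hc⟩ := (mem_scalars_iff _).1 (e (hγ.mem 0))
  exact h.not_sc (hγ.anti 0 1 (by decide)) ⟨c, hc⟩

end pauli

theorem fr_of_orth {T : FormType F} {V : Type*} [AddCommGroup V] [Module F V] [FiniteDimensional F V]
    {f : Form T V} {ι : Type*} [Fintype ι] [Nonempty ι] {e : ι → V} {c : F} (h1 : T.ε = 1)
    (h2 : c ≠ 0) (h3 : T.σ c = c) (h4 : ∀ i, f.B (e i) (e i) = c)
    (h5 : ∀ i j, i ≠ j → f.B (e i) (e j) = 0) (h6 : Fintype.card ι = finrank F V) : f.Fr e c := by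
  refine ⟨h1, h2, h3, h4, h5, LinearIndependent.span_eq_top_of_card_eq_finrank
    (Fintype.linearIndependent_iff.2 fun g hg i => ?_) h6⟩
  have := congrArg (f.B (e i)) hg
  rw [map_sum, Finset.sum_eq_single i (fun j _ hj => by simp [h5 i j hj.symm]) (by simp),
    map_smul, h4, map_zero, smul_eq_mul] at this
  exact (mul_eq_zero.1 this).resolve_right h2

variable [Fintype F]

theorem sp4_c6 (hp : (Fintype.card F).Prime) (ho : Odd (Fintype.card F))
    {R : Subgroup (GL (Fin 2 ⊕ Fin 2) F)} (hs : IsSymplecticTypeGroup 2 R)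
    (hi : ActsAbsolutelyIrreducibly (matrixSet R)) (hR : R ≤ spGL 2 F) (hc : Nat.card R = 32)
    (hZ : Nat.card (Subgroup.center R) = 2) (hm : IsOfMinusType 2 R) :
    IsMaximalIn (spGL 2 F) (subgroupNormalizer R ⊓ spGL 2 F) := by
  have h2 := FGL.two_ne_zero_of_odd ho
  have h := Pauli.pau_of h2 (by simp) hs hi (by rw [hc, hZ])
  obtain ⟨γ, hγ⟩ := h.exists_fr (Or.inr (h.mt_of hm))
  obtain ⟨φ, hφ, hφ'⟩ := exists_phi5 h2
  have hsq : ∀ i, (γ i).1 * (γ i).1 = 1 := fun i => congrArg Units.val (hγ.sq i)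
  choose v hv using fun i => y5_surj h2 (M := (γ i).1) (by
    have := SymplecticGroup.mem_iff'.1 (Sp.mem_spGL_iff.1 (hR (hγ.mem i)))
    conv_rhs => rw [← this, Matrix.mul_assoc, hsq, Matrix.mul_one])
    (h.trace_eq_zero (hγ.mem i) (by
      obtain ⟨k, hk⟩ := exists_ne i
      exact h.not_sc (hγ.anti i k hk.symm)))
  have one_inj : ∀ a b : F, a • (1 : Matrix (Fin 2 ⊕ Fin 2) (Fin 2 ⊕ Fin 2) F) = b • 1 → a = b :=
    fun a b => Pauli.smul_one_inj'
  have hfr : (ofQuad (QOdd 2 F)).Fr v (2 * 1) := fr_of_orth rfl (by simpa using h2) rfl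
    (fun i => one_inj _ _ (by rw [← y5_anti, hv, hsq, mul_one, two_smul]))
    (fun i j hij => one_inj _ _ (by
      rw [← y5_anti, hv, hv, zero_smul, add_eq_zero_iff_eq_neg]
      exact congrArg Units.val (hγ.anti i j hij))) (by simp)
  refine transfer φ hφ (S := dstab (ln F v)) (fun g hg => mem_normalizer_of_fr h hγ fun i => ?_)
    ((Asch.amb_sp le_rfl fun e => by rw [e.2] at ho; exact absurd ho (by decide)).not_le_normalizer
      hR (not_le_scalars h hγ) (commutator_le_scalars h))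
    fun M h5 h6 g hg hg' => hfr.quad_E_le_odd (by rwa [Nat.card_eq_fintype_card]) (by simp)
      (by simp; decide) h5 (h6.trans E_le_O) fun e => hg' (e hg)
  obtain ⟨j, a, ha⟩ := hfr.mem_dstab_iff.1 hg i
  have h3 := mem_O_q (E_le_O (hφ.le ⟨g, rfl⟩)) (v i)
  rw [ha, quad_q_smul, hfr.q_e, hfr.q_e, mul_one, sq, mul_self_eq_one_iff] at h3
  have h4 := hφ' g (v i)
  rw [ha, map_smul, hv, hv] at h4
  rcases h3 with rfl | rfl
  · rw [show g.1 * γ i = γ j * g.1 from Units.ext (by simpa using h4.symm), mul_inv_cancel_right]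
    exact hγ.mem j
  · rw [show g.1 * γ i = -γ j * g.1 from Units.ext (by simpa using h4.symm), mul_inv_cancel_right]
    exact h.neg_mem (hγ.mem j)

theorem sympForm_ext {A B : Matrix (Fin 2 ⊕ Fin 2) (Fin 2 ⊕ Fin 2) F}
    (h : ∀ u v, sympForm 2 F (A *ᵥ u) v = sympForm 2 F u (B *ᵥ v)) :
    Aᵀ * J (Fin 2) F = J (Fin 2) F * B := by
  ext i k
  have := h (Pi.single i 1) (Pi.single k 1)
  rw [sympForm, sympForm, mulVec_mulVec, ← vecMul_transpose, dotProduct_mulVec, vecMul_vecMul,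
    ← dotProduct_mulVec] at this
  simpa using this

theorem sp4_gu (ho : Odd (Fintype.card F)) (h5 : 5 ≤ Fintype.card F)
    {K : Subalgebra F (Matrix (Fin 2 ⊕ Fin 2) (Fin 2 ⊕ Fin 2) F)} (hK : IsFieldSubalgebra 2 K)
    (hc : IsAdjointClosedFor (sympForm 2 F) K) (hn : ¬ IsSelfAdjointFor (sympForm 2 F) K) :
    IsMaximalIn (spGL 2 F) (subalgebraNormalizer K ⊓ spGL 2 F) := by
  have h2 := FGL.two_ne_zero_of_odd ho
  obtain ⟨k, hk, hk'⟩ : ∃ k ∈ K, ¬ ∀ u v, sympForm 2 F (k *ᵥ u) v = sympForm 2 F u (k *ᵥ v) := by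
    by_contra! H; exact hn H
  obtain ⟨k', hk1, hk2⟩ := hc k hk
  have e1 := sympForm_ext hk2
  have e2 : k'ᵀ * J (Fin 2) F = J (Fin 2) F * k := by
    have := congrArg transpose e1
    rw [transpose_mul, transpose_mul, transpose_transpose, J_transpose, Matrix.neg_mul,
      Matrix.mul_neg, neg_inj] at this
    exact this.symm
  have hj : (k - k')ᵀ * J (Fin 2) F = -(J (Fin 2) F * (k - k')) := by
    rw [transpose_sub, Matrix.sub_mul, e1, e2, Matrix.mul_sub, neg_sub]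
  have hj0 : k - k' ≠ 0 := fun e => hk' (by rwa [← sub_eq_zero.1 e] at hk2)
  have hjK := K.sub_mem hk hk1
  generalize k - k' = j at hj hj0 hjK
  have hJ : ∀ M : Matrix (Fin 2 ⊕ Fin 2) (Fin 2 ⊕ Fin 2) F, J (Fin 2) F * M = 0 → M = 0 :=
    fun M hM => by simpa [← Matrix.mul_assoc, J_squared] using congrArg (J (Fin 2) F * ·) hM
  have hsp : ∀ x ∈ K, ∃ a b : F, x = a • 1 + b • j := fun x hx => by
    have h3 := Submodule.eq_top_of_finrank_eq (S := Submodule.span F {(⟨j, hjK⟩ : K), 1}) (by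
      rw [hK.finrank_eq, finrank_span_pair_of (fun e => one_ne_zero (congrArg Subtype.val e))]
      intro e
      obtain ⟨c, hc⟩ := Submodule.mem_span_singleton.1 e
      have h3 : j = c • 1 := (congrArg Subtype.val hc).symm
      refine hj0 (hJ j (smul_right_injective _ h2 ?_))
      rw [h3] at hj ⊢
      simp only [transpose_smul, transpose_one, Matrix.smul_mul, Matrix.one_mul, Matrix.mul_smul,
        Matrix.mul_one, smul_zero] at hj ⊢
      rw [two_smul]
      exact add_eq_zero_iff_eq_neg.2 hj)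
    obtain ⟨a, b, e⟩ := Submodule.mem_span_pair.1 (h3.ge (Submodule.mem_top (x := (⟨x, hx⟩ : K))))
    exact ⟨b, a, by rw [add_comm]; exact (congrArg Subtype.val e).symm⟩
  obtain ⟨d, b, hd⟩ := hsp _ (K.mul_mem hjK hjK)
  have hb : b = 0 := by
    have h3 : (j * j)ᵀ * J (Fin 2) F = J (Fin 2) F * (j * j) := by
      rw [transpose_mul, Matrix.mul_assoc, hj, Matrix.mul_neg, ← Matrix.mul_assoc, hj,
        Matrix.neg_mul, neg_neg, Matrix.mul_assoc]
    rw [hd] at h3
    simp only [transpose_add, transpose_smul, transpose_one, Matrix.add_mul, Matrix.smul_mul,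
      Matrix.one_mul, Matrix.mul_add, Matrix.mul_smul, Matrix.mul_one, hj, add_right_inj] at h3
    by_contra hb
    refine hj0 (hJ j (smul_right_injective _ (mul_ne_zero h2 hb) ?_))
    simp only
    linear_combination (norm := module) -h3
  rw [hb, zero_smul, add_zero] at hd
  refine skew_maximal h2 hj hd (fun d0 => ?_) (by omega) (fun g _ hg => ?_)
    ((Asch.amb_sp le_rfl fun e => by omega).not_le_field hK le_rfl)
  · obtain ⟨y, -, hy⟩ := hK.inv j hjK hj0
    refine hj0 ?_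
    rw [← Matrix.mul_one j, ← hy, ← Matrix.mul_assoc, hd, d0, zero_smul, Matrix.zero_mul]
  · have key : ∀ g : GL (Fin 2 ⊕ Fin 2) F, g.1 * j = j * g.1 ∨ g.1 * j = -(j * g.1) →
        ∀ x ∈ K, g.1 * x * (g⁻¹).1 ∈ K := fun g hg x hx => by
      obtain ⟨a, b, rfl⟩ := hsp x hx
      rcases hg with hg | hg
      · simpa [Matrix.mul_add, Matrix.add_mul, hg, Matrix.mul_assoc] using hx
      · simpa [Matrix.mul_add, Matrix.add_mul, hg, Matrix.mul_assoc] using
          K.add_mem (K.smul_mem K.one_mem a) (K.neg_mem (K.smul_mem hjK b))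
    refine fun x => ⟨key g hg x, fun hx => ?_⟩
    have := key g⁻¹ (hg.imp (fun e => ?_) fun e => ?_) _ hx
    · simpa [Matrix.mul_assoc] using this
    · rw [Units.inv_mul_eq_iff_eq_mul, ← Matrix.mul_assoc, e, Matrix.mul_assoc]; simp
    · rw [Units.inv_mul_eq_iff_eq_mul, Matrix.mul_neg, ← Matrix.mul_assoc, e]; simp

omit [Fintype F] in
theorem exists_invol {ι : Type} [Fintype ι] [DecidableEq ι] (h2 : (2 : F) ≠ 0) {m : ℕ}
    {D : Fin 2 → Submodule F (ι → F)} (hD : IsMDecomposition m D) : ∃ j : Matrix ι ι F,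
      j * j = 1 ∧ (∀ v ∈ D 0, j *ᵥ v = v) ∧ (∀ v ∈ D 1, j *ᵥ v = -v) ∧
      (∀ v, ∃ a ∈ D 0, ∃ b ∈ D 1, v = a + b) ∧
      ∀ g : GL ι F, g.1 * j = j * g.1 ∨ g.1 * j = -(j * g.1) → g ∈ decompositionStabilizer D := by
  have hc : IsCompl (D 0) (D 1) := ⟨hD.indep.pairwiseDisjoint (by decide : (0 : Fin 2) ≠ 1), by
    rw [codisjoint_iff, eq_top_iff, ← hD.iSup_eq_top]
    exact iSup_le (Fin.forall_fin_two.2 ⟨le_sup_left, le_sup_right⟩)⟩
  have hs : ∀ v, ∃ a ∈ D 0, ∃ b ∈ D 1, v = a + b := fun v => by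
    obtain ⟨a, ha, b, hb, e⟩ := Submodule.mem_sup.1 (hc.sup_eq_top.ge (Submodule.mem_top (x := v)))
    exact ⟨a, ha, b, hb, e.symm⟩
  let j := LinearMap.toMatrix' (LinearMap.ofIsCompl hc (D 0).subtype (-(D 1).subtype))
  have e0 : ∀ v ∈ D 0, j *ᵥ v = v := fun v hv => by
    rw [LinearMap.toMatrix'_mulVec]; exact LinearMap.ofIsCompl_apply_left hc ⟨v, hv⟩
  have e1 : ∀ v ∈ D 1, j *ᵥ v = -v := fun v hv => by
    rw [LinearMap.toMatrix'_mulVec]; exact LinearMap.ofIsCompl_apply_right hc ⟨v, hv⟩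
  have f0 : ∀ v, j *ᵥ v = v → v ∈ D 0 := fun v hv => by
    obtain ⟨a, ha, b, hb, rfl⟩ := hs v
    rw [mulVec_add, e0 a ha, e1 b hb, add_right_inj] at hv
    rw [show b = 0 from smul_right_injective _ h2 (by simp only; linear_combination (norm := module) -hv),
      add_zero]
    exact ha
  have f1 : ∀ v, j *ᵥ v = -v → v ∈ D 1 := fun v hv => by
    obtain ⟨a, ha, b, hb, rfl⟩ := hs v
    rw [mulVec_add, e0 a ha, e1 b hb, neg_add, add_left_inj] at hv
    rw [show a = 0 from smul_right_injective _ h2 (by simp only; linear_combination (norm := module) hv),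
      zero_add]
    exact hb
  have m1 : ∀ (g : GL ι F) i k, (∀ v ∈ D i, g.1 *ᵥ v ∈ D k) → (D i).map (toLin' g.1) = D k :=
    fun g i k hg => Submodule.eq_of_le_of_finrank_le (by rintro _ ⟨v, hv, rfl⟩; exact hg v hv) (by
      rw [show toLin' g.1 = (glEquiv ι F g : (ι → F) →ₗ[F] (ι → F)) from LinearMap.ext fun _ => rfl,
        LinearEquiv.finrank_map_eq, hD.finrank_eq, hD.finrank_eq])
  refine ⟨j, toLin'.injective (LinearMap.ext fun v => ?_), e0, e1, hs, fun g hg => ?_⟩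
  · obtain ⟨a, ha, b, hb, rfl⟩ := hs v
    rw [toLin'_apply, ← mulVec_mulVec, mulVec_add, e0 a ha, e1 b hb, mulVec_add, mulVec_neg, e0 a ha,
      e1 b hb, neg_neg, toLin'_apply, one_mulVec]
  rcases hg with hg | hg
  · refine ⟨1, Fin.forall_fin_two.2 ⟨m1 g 0 0 fun v hv => f0 _ ?_, m1 g 1 1 fun v hv => f1 _ ?_⟩⟩
    · rw [mulVec_mulVec, ← hg, ← mulVec_mulVec, e0 v hv]
    · rw [mulVec_mulVec, ← hg, ← mulVec_mulVec, e1 v hv, mulVec_neg]
  · refine ⟨Equiv.swap 0 1, Fin.forall_fin_two.2 ⟨m1 g 0 1 fun v hv => f1 _ ?_,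
      m1 g 1 0 fun v hv => f0 _ ?_⟩⟩
    · rw [mulVec_mulVec, ← neg_neg (j * g.1), ← hg, neg_mulVec, ← mulVec_mulVec, e0 v hv]
    · rw [mulVec_mulVec, ← neg_neg (j * g.1), ← hg, neg_mulVec, ← mulVec_mulVec, e1 v hv,
        mulVec_neg, neg_neg]

theorem sp4_pair (ho : Odd (Fintype.card F)) (h5 : 5 ≤ Fintype.card F)
    {D : Fin 2 → Submodule F (Fin 2 ⊕ Fin 2 → F)} (hD : IsMDecomposition 2 D)
    (ht : ∀ i, IsTotallySingularFor (sympForm 2 F) (D i)) :
    IsMaximalIn (spGL 2 F) (decompositionStabilizer D ⊓ spGL 2 F) := by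
  have h2 := FGL.two_ne_zero_of_odd ho
  obtain ⟨j, h1, e0, e1, hs, h3⟩ := exists_invol h2 hD
  refine skew_maximal h2 (j := j) ?_ (by rw [h1, one_smul]) one_ne_zero (by omega)
    (fun g _ => h3 g) ((Asch.amb_sp le_rfl fun e => by omega).not_le_pair hD)
  rw [← Matrix.mul_neg]
  refine sympForm_ext fun u v => ?_
  obtain ⟨a, ha, b, hb, rfl⟩ := hs u
  obtain ⟨c, hc, d, hd, rfl⟩ := hs v
  have k1 := ht 0 a ha c hc
  have k2 := ht 1 b hb d hd
  rw [neg_mulVec, mulVec_add, mulVec_add, e0 a ha, e0 c hc, e1 b hb, e1 d hd]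
  simp only [sympForm, mulVec_add, mulVec_neg, dotProduct_add, add_dotProduct, neg_dotProduct,
    dotProduct_neg] at k1 k2 ⊢
  linear_combination 2 * k1 - 2 * k2

end CL.Four
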