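import Mathlib

/-!
Two abstract lemmas on involutions used for the stabiliser of an orthonormal frame.
-/

set_option autoImplicit false

namespace CL.Asch

theorem sf_dihedral {G : Type*} [Group G] {a t : G} (ha : a * a = 1) (ht : t * t = 1) (r : ℕ) :
    (a * t) ^ r * t * ((a * t) ^ r)⁻¹ = (a * t) ^ (2 * r) * t := by
  have h : SemiconjBy t (a * t)⁻¹ (a * t) := by
    rw [SemiconjBy, mul_inv_rev, inv_eq_of_mul_eq_one_right ha, inv_eq_of_mul_eq_one_right ht,
      ← mul_assoc, ht, mul_assoc, ht, one_mul, mul_one]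
  rw [← inv_pow, mul_assoc, (h.pow_right r).eq, two_mul, pow_add, mul_assoc]

theorem sf_dihedral' {G : Type*} [Group G] {a t : G} (ha : a * a = 1) (ht : t * t = 1) (r : ℕ) :
    (a * t) ^ r * a * ((a * t) ^ r)⁻¹ = (a * t) ^ (2 * r + 1) * t := by
  rw [pow_succ', mul_assoc (a * t), ← sf_dihedral ha ht, ← mul_assoc, ← mul_assoc, ← pow_succ',
    pow_succ, mul_assoc _ _ t, mul_assoc a, ht, mul_one]

theorem sf_exists_pow {G : Type*} [Group G] [Finite G] {M H : Subgroup G} {δ t τ : G}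
    (hδ : δ ∈ M) (ht : t ∈ M) (hτ : τ ∈ M) (htt : t * t = 1) (hττ : τ * τ = 1) (htH : t ∈ H)
    (D1 : ∀ m ∈ M, m * t * m⁻¹ ∈ H → m ∈ H) (D2 : ∀ m ∈ M, m * τ * m⁻¹ ∈ H → m ∈ H) :
    ∃ r : ℕ, (δ * τ * δ⁻¹ * t) ^ r * δ ∈ H := by
  obtain ⟨a, ha⟩ : ∃ a, a = δ * τ * δ⁻¹ := ⟨_, rfl⟩
  rw [← ha]
  have haa : a * a = 1 := by
    rw [ha, show δ * τ * δ⁻¹ * (δ * τ * δ⁻¹) = δ * (τ * τ) * δ⁻¹ by group, hττ]
    group
  have hρ : a * t ∈ M := M.mul_mem (ha ▸ M.mul_mem (M.mul_mem hδ hτ) (M.inv_mem hδ)) ht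
  have key : ∀ N : ℕ, 0 < N → (a * t) ^ N ∈ H → ∃ r : ℕ, (a * t) ^ r * δ ∈ H := fun N => by
    induction N using Nat.strong_induction_on with | _ N ih => ?_
    intro hN hN'
    rcases Nat.even_or_odd' N with ⟨r, rfl | rfl⟩
    · exact ih r (by omega) (by omega) (D1 _ (M.pow_mem hρ r)
        (sf_dihedral haa htt r ▸ mul_mem hN' htH))
    · refine ⟨r, D2 _ (M.mul_mem (M.pow_mem hρ r) hδ) ?_⟩
      have h4 : (a * t) ^ r * δ * τ * ((a * t) ^ r * δ)⁻¹ = (a * t) ^ (2 * r + 1) * t := by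
        rw [← sf_dihedral' haa htt, ha]; group
      exact h4 ▸ mul_mem hN' htH
  exact key _ (orderOf_pos (a * t)) (by rw [pow_orderOf_eq_one]; exact one_mem _)

/-- A sharply two-homogeneous set of injections forces odd degree. -/
theorem sf_odd_card {ι W : Type*} [Fintype ι] [Finite W] (φ : W → ι → ι)
    (hφ : ∀ w, Function.Injective (φ w))
    (hex : ∀ i j k l, i ≠ j → k ≠ l → ∃! w, φ w i = k ∧ φ w j = l ∨ φ w i = l ∧ φ w j = k)
    (h3 : 3 ≤ Fintype.card ι) : Odd (Fintype.card ι) := by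
  classical
  have := Fintype.ofFinite W
  obtain ⟨i, j, l, hij, hil, hjl⟩ := Fintype.two_lt_card_iff.1 (show 2 < Fintype.card ι by omega)
  have key : ∀ a b, a ≠ b → (Finset.univ.filter fun w => φ w a = i).card +
      (Finset.univ.filter fun w => φ w b = i).card = Fintype.card ι - 1 := fun a b hab => by
    rw [← Finset.card_union_of_disjoint (Finset.disjoint_filter.2 fun w _ h1 h2 =>
      hab (hφ w (h1.trans h2.symm))), ← Finset.filter_or, ← Finset.card_univ,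
      ← Finset.card_erase_of_mem (Finset.mem_univ i)]
    refine Finset.card_bij (fun w _ => if φ w a = i then φ w b else φ w a) (fun w hw => ?_)
      (fun w hw w' hw' e => ?_) fun k hk => ?_
    · rw [Finset.mem_erase]
      refine ⟨?_, Finset.mem_univ _⟩
      split_ifs with h
      · exact fun e => hab (hφ w (h.trans e.symm))
      · exact h
    · simp only [Finset.mem_filter, Finset.mem_univ, true_and] at hw hw'
      obtain ⟨k, hk⟩ : ∃ k, k = if φ w a = i then φ w b else φ w a := ⟨_, rfl⟩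
      have hik : i ≠ k := by
        rw [hk]
        split_ifs with h
        · exact fun e => hab (hφ w (h.trans e))
        · exact Ne.symm h
      refine (hex a b i k hab hik).unique ?_ ?_
      · by_cases h : φ w a = i
        · exact Or.inl ⟨h, by rw [hk, if_pos h]⟩
        · exact Or.inr ⟨by rw [hk, if_neg h], hw.resolve_left h⟩
      · rw [← hk] at e
        by_cases h : φ w' a = i
        · exact Or.inl ⟨h, by rw [e, if_pos h]⟩
        · exact Or.inr ⟨by rw [e, if_neg h], hw'.resolve_left h⟩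
    · obtain ⟨w, hw, -⟩ := hex a b i k hab (Finset.mem_erase.1 hk).1.symm
      refine ⟨w, Finset.mem_filter.2 ⟨Finset.mem_univ _, hw.imp (·.1) (·.2)⟩, ?_⟩
      rcases hw with h | h
      · rw [if_pos h.1, h.2]
      · rw [if_neg (h.1 ▸ (Finset.mem_erase.1 hk).1), h.1]
  have h1 := key i j hij
  have h2 := key i l hil
  have h4 := key j l hjl
  exact ⟨(Finset.univ.filter fun w => φ w i = i).card, by omega⟩

/-- Even sign changes whose centralisers lie in `H` force `M ≤ H` in even degree. -/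
theorem sf_le_of_even {G ι : Type*} [Group G] [Finite G] [Fintype ι] {M H : Subgroup G}
    {t : ι → ι → G} (hM : ∀ i j, i ≠ j → t i j ∈ M) (hH : ∀ i j, i ≠ j → t i j ∈ H)
    (hsq : ∀ i j, i ≠ j → t i j * t i j = 1) (hsymm : ∀ i j, i ≠ j → t i j = t j i)
    (hconj : ∀ ν ∈ M, ν ∈ H → ∃ π : ι → ι, Function.Injective π ∧
      ∀ i j, i ≠ j → ν * t i j * ν⁻¹ = t (π i) (π j))
    (hinj : ∀ i j k l, i ≠ j → k ≠ l → t i j = t k l → i = k ∧ j = l ∨ i = l ∧ j = k)
    (M1 : ∀ m ∈ M, ∀ i j, i ≠ j → m * t i j * m⁻¹ ∈ H → m ∈ H)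
    (M2 : ∀ m ∈ M, ∀ i j k l, i ≠ j → k ≠ l → t i j ≠ t k l →
      m * (t i j * t k l) * m⁻¹ ∈ H → m ∈ H)
    (h3 : 3 ≤ Fintype.card ι) (he : Even (Fintype.card ι)) : M ≤ H := fun g hg => by
  by_contra hn
  let D : G → Prop := fun d => ∃ m ∈ M, ∃ i j, i ≠ j ∧ d = m * t i j * m⁻¹
  have DM : ∀ d, D d → d ∈ M := by
    rintro _ ⟨m, hm, i, j, hij, rfl⟩
    exact M.mul_mem (M.mul_mem hm (hM i j hij)) (M.inv_mem hm)
  have Dsq : ∀ d, D d → d * d = 1 := by
    rintro _ ⟨m, hm, i, j, hij, rfl⟩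
    rw [show m * t i j * m⁻¹ * (m * t i j * m⁻¹) = m * (t i j * t i j) * m⁻¹ by group, hsq i j hij]
    group
  have Dconj : ∀ d, D d → ∀ m ∈ M, D (m * d * m⁻¹) := by
    rintro _ ⟨m, hm, i, j, hij, rfl⟩ k hk
    exact ⟨k * m, M.mul_mem hk hm, i, j, hij, by group⟩
  have DH : ∀ d, D d → d ∈ H → ∃ i j, i ≠ j ∧ d = t i j := by
    rintro _ ⟨m, hm, i, j, hij, rfl⟩ h
    obtain ⟨π, hπ, e⟩ := hconj m hm (M1 m hm i j hij h)
    exact ⟨_, _, hπ.ne hij, e i j hij⟩
  have Dt : ∀ i j, i ≠ j → D (t i j) := fun i j hij => ⟨1, M.one_mem, i, j, hij, by group⟩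
  have Dpow : ∀ a s, D a → D s → ∀ r : ℕ, D ((a * s) ^ r * s) := fun a s ha hs r => by
    have hρ := fun r : ℕ => M.pow_mem (M.mul_mem (DM a ha) (DM s hs)) r
    rcases Nat.even_or_odd' r with ⟨r, rfl | rfl⟩
    · exact sf_dihedral (Dsq a ha) (Dsq s hs) r ▸ Dconj s hs _ (hρ r)
    · exact sf_dihedral' (Dsq a ha) (Dsq s hs) r ▸ Dconj a ha _ (hρ r)
  have odd : ∀ a i j, i ≠ j → D a → a ∉ H → Odd (orderOf (a * t i j)) := by
    intro a i j hij ha haH
    refine Nat.not_even_iff_odd.1 fun ⟨r, hr⟩ => ?_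
    have hρ := M.pow_mem (M.mul_mem (DM a ha) (hM i j hij)) r
    have r0 : 0 < r := by have := orderOf_pos (a * t i j); omega
    have h1 : (a * t i j) ^ (2 * r) = 1 := by rw [two_mul, ← hr, pow_orderOf_eq_one]
    have h2 := sf_dihedral (Dsq a ha) (hsq i j hij) r
    have h4 := sf_dihedral' (Dsq a ha) (hsq i j hij) r
    rw [h1, one_mul] at h2
    rw [pow_succ, h1, one_mul, mul_assoc a, hsq i j hij, mul_one] at h4
    have z1 := M1 _ hρ i j hij (h2.symm ▸ hH i j hij)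
    obtain ⟨k, l, hkl, e⟩ := DH _ (Dpow a _ ha (Dt i j hij) r) (H.mul_mem z1 (hH i j hij))
    have e1 : (a * t i j) ^ r = t k l * t i j := by rw [← e, mul_assoc, hsq i j hij, mul_one]
    obtain ⟨m, hm, p, q, hpq, rfl⟩ := ha
    have z2 := M1 (m⁻¹ * (m * t p q * m⁻¹ * t i j) ^ r * m)
      (M.mul_mem (M.mul_mem (M.inv_mem hm) hρ) hm) p q hpq (by
        convert hH p q hpq using 1
        generalize (m * t p q * m⁻¹ * t i j) ^ r = z at h4 ⊢
        rw [← mul_left_cancel_iff (a := m), ← mul_right_cancel_iff (a := m⁻¹), ← h4]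
        group)
    rw [e1] at z2
    refine haH ?_
    have := H.inv_mem_iff.1 (M2 m⁻¹ (M.inv_mem hm) k l i j hkl hij (fun e2 => ?_)
      (by rwa [inv_inv]))
    · exact H.mul_mem (H.mul_mem this (hH p q hpq)) (H.inv_mem this)
    · rw [e2, hsq i j hij] at e1
      exact absurd (Nat.le_of_dvd r0 (orderOf_dvd_of_pow_eq_one e1)) (by omega)
  have comm : ∀ a b, D a → D b → a * b = b * a → a * b ∈ H → a = b ∨ a ∈ H := by
    rintro _ b ⟨m, hm, i, j, hij, rfl⟩ hb hc hab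
    have hb' := Dconj b hb _ (M.inv_mem hm)
    by_cases h : m⁻¹ * b * m⁻¹⁻¹ ∈ H
    · obtain ⟨k, l, hkl, e⟩ := DH _ hb' h
      have e1 : b = m * t k l * m⁻¹ := by rw [← e]; group
      by_cases e2 : t i j = t k l
      · exact Or.inl (by rw [e1, e2])
      have := M2 m hm i j k l hij hkl e2 (by convert hab using 1; rw [e1]; group)
      exact Or.inr (H.mul_mem (H.mul_mem this (hH i j hij)) (H.inv_mem this))
    · left
      have h1 := odd _ i j hij hb' h
      have h2 : (m⁻¹ * b * m⁻¹⁻¹ * t i j) ^ 2 = 1 := by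
        have : m⁻¹ * b * m⁻¹⁻¹ * t i j = m⁻¹ * (b * (m * t i j * m⁻¹)) * m := by group
        rw [this, pow_two, show m⁻¹ * (b * (m * t i j * m⁻¹)) * m *
          (m⁻¹ * (b * (m * t i j * m⁻¹)) * m) =
          m⁻¹ * (b * (m * t i j * m⁻¹ * b) * (m * t i j * m⁻¹)) * m by group, hc, ← mul_assoc b b,
          Dsq b hb, one_mul, Dsq _ (Dconj _ (Dt i j hij) m hm)]
        group
      have h4 : orderOf (m⁻¹ * b * m⁻¹⁻¹ * t i j) = 1 :=
        ((Nat.dvd_prime Nat.prime_two).1 (orderOf_dvd_of_pow_eq_one h2)).resolve_right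
          fun e => by rw [e] at h1; exact absurd h1 (by decide)
      rw [orderOf_eq_one_iff, mul_eq_one_iff_eq_inv, inv_eq_of_mul_eq_one_right (hsq i j hij)] at h4
      rw [← h4]; group
  let W := {w : G // D w ∧ g⁻¹ * w ∈ H}
  have hW : ∀ w : W, ∃ π : ι → ι, Function.Injective π ∧
      ∀ i j, i ≠ j → g⁻¹ * w * t i j * (g⁻¹ * w)⁻¹ = t (π i) (π j) :=
    fun w => hconj _ (M.mul_mem (M.inv_mem hg) (DM _ w.2.1)) w.2.2
  choose φ hφ hφ' using hW
  refine Nat.not_odd_iff_even.2 he (sf_odd_card φ hφ (fun i j k l hij hkl => ?_) h3)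
  have key : ∀ w : W, (φ w i = k ∧ φ w j = l ∨ φ w i = l ∧ φ w j = k) ↔
      w * t i j * (w : G)⁻¹ = g * t k l * g⁻¹ := fun w => by
    have e := hφ' w i j hij
    constructor
    · intro h
      have : t (φ w i) (φ w j) = t k l := by
        rcases h with h | h
        · rw [h.1, h.2]
        · rw [h.1, h.2, hsymm k l hkl]
      rw [← this, ← e]; group
    · intro h
      refine hinj _ _ _ _ ((hφ w).ne hij) hkl ?_
      rw [← e, ← mul_left_cancel_iff (a := g), ← mul_right_cancel_iff (a := g⁻¹), ← h]; group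
  simp only [key]
  obtain ⟨a, ha⟩ : ∃ a, a = g * t k l * g⁻¹ := ⟨_, rfl⟩
  have Da : D a := ⟨g, hg, k, l, hkl, ha⟩
  have aH : a ∉ H := fun h => hn (M1 g hg k l hkl (ha ▸ h))
  obtain ⟨r, hr⟩ := odd a i j hij Da aH
  have h1 : (a * t i j) ^ (2 * r + 1) = 1 := by rw [← hr, pow_orderOf_eq_one]
  obtain ⟨w, hw⟩ : ∃ w, w = (a * t i j) ^ (r + 1) * t i j := ⟨_, rfl⟩
  have Dw : D w := hw ▸ Dpow a _ Da (Dt i j hij) _
  have w1 : w * t i j * w⁻¹ = a := by
    rw [hw, show (a * t i j) ^ (r + 1) * t i j * t i j * ((a * t i j) ^ (r + 1) * t i j)⁻¹ =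
      (a * t i j) ^ (r + 1) * (t i j * t i j) * (t i j)⁻¹ * ((a * t i j) ^ (r + 1))⁻¹ by group,
      hsq i j hij, mul_one, inv_eq_of_mul_eq_one_right (hsq i j hij),
      sf_dihedral (Dsq a Da) (hsq i j hij), show 2 * (r + 1) = 2 * r + 1 + 1 by ring, pow_succ, h1,
      one_mul, mul_assoc, hsq i j hij, mul_one]
  have mem : ∀ w, D w → w * t i j * w⁻¹ = a → g⁻¹ * w ∈ H := fun w hw e =>
    M1 _ (M.mul_mem (M.inv_mem hg) (DM w hw)) i j hij (by
      convert hH k l hkl using 1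
      rw [← mul_left_cancel_iff (a := g), ← mul_right_cancel_iff (a := g⁻¹), ← ha, ← e]; group)
  refine ⟨⟨w, Dw, mem w Dw w1⟩, ha ▸ w1, fun w' hw' => Subtype.ext ?_⟩
  rw [← ha] at hw'
  obtain ⟨w', Dw', hh⟩ := w'
  simp only at hw' ⊢
  have i1 := inv_eq_of_mul_eq_one_right (Dsq w Dw)
  have i2 := inv_eq_of_mul_eq_one_right (Dsq w' Dw')
  have s1 : ∀ v, v⁻¹ = v → v * t i j * v⁻¹ = a → v * a * v⁻¹ = t i j := fun v hv e => by
    have h2 : v * v = 1 := by nth_rw 1 [← hv]; exact inv_mul_cancel v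
    rw [← e, hv, ← mul_assoc, ← mul_assoc, h2, one_mul, mul_assoc, h2, mul_one]
  have c1 : Commute (w' * w) (t i j) := by
    have e1 := s1 w' i2 hw'
    rw [Commute, SemiconjBy, ← mul_inv_eq_iff_eq_mul]
    nth_rw 2 [← e1]
    rw [← w1]; group
  have c2 : Commute (w' * w) a := by
    have e1 := s1 w i1 w1
    rw [Commute, SemiconjBy, ← mul_inv_eq_iff_eq_mul]
    nth_rw 2 [← hw']
    rw [← e1]; group
  have c3 : Commute (w' * w) w := by
    nth_rw 2 [hw]
    exact ((c2.mul_right c1).pow_right _).mul_right c1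
  have c4 : w' * w = w * w' := by
    have := c3.eq
    rw [mul_assoc, Dsq w Dw, mul_one] at this
    nth_rw 1 [this]
    rw [mul_assoc, mul_assoc, Dsq w Dw, mul_one]
  refine (comm w' w Dw' Dw c4 (M1 _ (M.mul_mem (DM _ Dw') (DM _ Dw)) i j hij ?_)).resolve_right
    fun h => aH (hw' ▸ H.mul_mem (H.mul_mem h (hH i j hij)) (H.inv_mem h))
  rw [c1.eq, mul_inv_cancel_right]
  exact hH i j hij

end CL.Asch
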