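import Mathlib
import Cfsg.Agent.CLAS.Four1
import Cfsg.Agent.CLAS.SuFr6A

/-!
Orthogonal frames in dimension six.
-/

set_option autoImplicit false
set_option linter.unusedSectionVars false

namespace CL.Witt

open Module

theorem invol6 (π : Fin 6 → Fin 6) (h0 : π 0 = 0) (h1 : π 1 = 1) (h2 : ∀ r, π (π r) = r)
    (h3 : ∀ s t, s ≠ t → ¬ ∀ r, r ≠ s → r ≠ t → π r = r) : (∀ r, r ≠ 0 → r ≠ 1 → π r ≠ r) ∧
      ∃ σ : Equiv.Perm (Fin 6), σ 0 = 0 ∧ σ 1 = 1 ∧ π (σ 2) = σ 3 ∧ π (σ 4) = σ 5 := by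
  have k : ∀ a b c d : Fin 6, (∀ r, ![0, 1, a, b, c, d] (![0, 1, a, b, c, d] r) = r) →
      (∀ s t, s ≠ t → ¬ ∀ r, r ≠ s → r ≠ t → ![0, 1, a, b, c, d] r = r) →
      (∀ r, r ≠ 0 → r ≠ 1 → ![0, 1, a, b, c, d] r ≠ r) ∧
      (a = 3 ∧ c = 5 ∨ a = 4 ∧ b = 5 ∨ a = 5 ∧ c = 3) := by decide +kernel
  have e0 : π = ![0, 1, π 2, π 3, π 4, π 5] := funext fun r => by fin_cases r <;> simp [h0, h1]
  obtain ⟨k1, k2⟩ := k (π 2) (π 3) (π 4) (π 5) (e0 ▸ h2) (e0 ▸ h3)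
  refine ⟨e0 ▸ k1, ?_⟩
  rcases k2 with k | k | k
  exacts [⟨1, rfl, rfl, k⟩, ⟨Equiv.swap 3 4, rfl, rfl, k⟩, ⟨Equiv.swap 3 5, rfl, rfl, k⟩]

namespace Form

variable {F : Type*} [Field F] [Finite F] {V : Type*} [AddCommGroup V] [Module F V]
  [FiniteDimensional F V] {f : Form (FormType.quad F) V} {M : Subgroup (V ≃ₗ[F] V)}
  {e e' : Fin 6 → V} {c : F}

local notation "⟪" x ", " y "⟫" => Form.co f (2 * c) x y

theorem Fr.perm6 (h : f.Fr e (2 * c)) (σ : Equiv.Perm (Fin 6)) :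
    f.Fr (fun i => e (σ i)) (2 * c) ∧ dstab (ln F fun i => e (σ i)) = dstab (ln F e) := by
  have k : f.Fr (fun i => e (σ i)) (2 * c) := ⟨h.ε, h.c0, h.σc, fun i => h.self _,
    fun i j hij => h.ne _ _ (σ.injective.ne hij), by
      rw [← h.top]; exact congrArg _ (σ.surjective.range_comp e)⟩
  refine ⟨k, Subgroup.ext fun g => ?_⟩
  rw [k.mem_dstab_iff, h.mem_dstab_iff]
  refine ⟨fun H i => ?_, fun H i => ?_⟩
  · obtain ⟨j, a, ha⟩ := H (σ.symm i)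
    exact ⟨σ j, a, by simpa using ha⟩
  · obtain ⟨j, a, ha⟩ := H (σ i)
    exact ⟨σ.symm j, a, by simpa using ha⟩

variable (f M c) in
/-- An overgroup of the frame stabiliser whose point stabilisers are monomial. -/
structure O6 (e : Fin 6 → V) : Prop extends f.Fr e (2 * c) where
  le : dstab (ln F e) ⊓ f.E ≤ M
  hO : M ≤ f.O
  hs : ∀ m ∈ M, ∀ i j, ∀ a : F, m (e i) = a • e j → m ∈ dstab (ln F e)

theorem O6.perm (h : f.O6 M c e) (σ : Equiv.Perm (Fin 6)) : f.O6 M c fun i => e (σ i) :=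
  ⟨(h.perm6 σ).1, (h.perm6 σ).2 ▸ h.le, h.hO, fun m hm i j a ha =>
    (h.perm6 σ).2 ▸ h.hs m hm _ _ a ha⟩

theorem O6.conj (h : f.O6 M c e) {m : V ≃ₗ[F] V} (hm : m ∈ M) : f.O6 M c fun i => m (e i) := by
  have k := h.toFr.map (h.hO hm)
  have k1 : ∀ g, g ∈ dstab (ln F fun i => m (e i)) ↔ m⁻¹ * g * m ∈ dstab (ln F e) := fun g => by
    rw [k.mem_dstab_iff, h.mem_dstab_iff]
    refine forall_congr' fun i => exists_congr fun j => exists_congr fun a => ?_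
    rw [← m.injective.eq_iff (a := (m⁻¹ * g * m) (e i)), map_smul]
    simp
  refine ⟨k, fun g hg => ?_, h.hO, fun g hg i j a ha => (k1 g).2 (h.hs _
    (M.mul_mem (M.mul_mem (M.inv_mem hm) hg) hm) i j a (by simp [ha]))⟩
  have := h.le ⟨(k1 g).1 hg.1, by simpa using conj_mem_E (f.O.inv_mem (h.hO hm)) hg.2⟩
  exact (M.mul_mem_cancel_left (M.inv_mem hm)).1 ((M.mul_mem_cancel_right hm).1 this)

variable (f M c) in
/-- Two such frames without a common line. -/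
structure Pr6 (e e' : Fin 6 → V) : Prop where
  l : f.O6 M c e
  r : f.O6 M c e'
  ne : ∀ i j, ∀ a : F, e' i ≠ a • e j

namespace Pr6

variable (h : f.Pr6 M c e e')
include h

theorem symm : f.Pr6 M c e' e := ⟨h.r, h.l, fun i j a ha => h.ne j i a⁻¹ (by
  rw [ha, inv_smul_smul₀ fun e0 => h.l.ne_zero i (by rw [ha, e0, zero_smul])])⟩

theorem perm (σ τ : Equiv.Perm (Fin 6)) : f.Pr6 M c (fun i => e (σ i)) fun i => e' (τ i) :=
  ⟨h.l.perm σ, h.r.perm τ, fun _ _ => h.ne _ _⟩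

theorem mono {k : V ≃ₗ[F] V} (hk : k ∈ dstab (ln F e) ⊓ f.E) {i : Fin 6} (hi : k (e' i) = e' i) :
    k ∈ dstab (ln F e') := h.r.hs k (h.l.le hk) i i 1 (by rw [hi, one_smul])

theorem test {k : V ≃ₗ[F] V} (hk : k ∈ dstab (ln F e) ⊓ f.E) {i : Fin 6} (hi : k (e' i) = e' i)
    (j : Fin 6) : ∃ l, ∃ a : F, a * a = 1 ∧ k (e' j) = a • e' l := by
  obtain ⟨l, a, ha⟩ := h.r.mem_dstab_iff.1 (h.mono hk hi) j
  refine ⟨l, a, ?_, ha⟩
  have := co_map (c := 2 * c) (E_le_O hk.2) (e' j) (e' j)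
  rwa [ha, map_smul, co_comm, map_smul, h.r.co_self, h.r.co_self, smul_eq_mul, smul_eq_mul,
    mul_one] at this

theorem test' {k : V ≃ₗ[F] V} (hk : k ∈ dstab (ln F e) ⊓ f.E) {i : Fin 6} (hi : k (e' i) = e' i)
    (j : Fin 6) : ⟪e' j, k (e' j)⟫ = 0 ∨ ∃ a : F, ∀ s, ⟪e s, k (e' j)⟫ = a * ⟪e s, e' j⟫ := by
  obtain ⟨l, a, -, ha⟩ := h.test hk hi j
  by_cases hl : j = l
  · exact Or.inr ⟨a, fun s => by rw [ha, ← hl, map_smul, smul_eq_mul]⟩
  · exact Or.inl (by rw [ha, map_smul, h.r.co_ne hl, smul_zero])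

theorem pair_mem {i j k l : Fin 6} (hij : i ≠ j) (hkl : k ≠ l) {α β γ δ : F} (hα : α * α = 1)
    (hβ : β * β = 1) (hγ : γ * γ = 1) (hδ : δ * δ = 1) :
    ∃ g ∈ dstab (ln F e) ⊓ f.E, ∀ v w, w = v - (γ * ⟪e k, v⟫ - δ * ⟪e l, v⟫) • (γ • e k - δ • e l) →
      g v = w - (α * ⟪e i, w⟫ - β * ⟪e j, w⟫) • (α • e i - β • e j) := by
  obtain ⟨g1, q1, d1⟩ := h.l.toFr.rf_pair hij hα hβ
  obtain ⟨g2, q2, d2⟩ := h.l.toFr.rf_pair hkl hγ hδ
  exact ⟨_, ⟨mul_mem d1 d2, h.l.sdec.nondeg'.rf_mul_rf_mem_E (h.l.card_eq ▸ by simp)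
    (by rw [q1]; exact h.l.c0) (by rw [q2]; exact h.l.c0) (by rw [q1, q2])⟩, fun v w hw => by
      rw [LinearEquiv.mul_apply, g2, g1, hw]⟩

theorem norm (j : Fin 6) : ⟪e 0, e' j⟫ ^ 2 + ⟪e 1, e' j⟫ ^ 2 + ⟪e 2, e' j⟫ ^ 2 + ⟪e 3, e' j⟫ ^ 2 +
    ⟪e 4, e' j⟫ ^ 2 + ⟪e 5, e' j⟫ ^ 2 = 1 := by
  have := h.l.co_eq_sum (e' j) (e' j)
  simp only [Fin.sum_univ_six, h.r.co_self, co_e (e' j), ← pow_two] at this
  exact this.symm

theorem orth {i j : Fin 6} (hij : i ≠ j) : ⟪e 0, e' i⟫ * ⟪e 0, e' j⟫ + ⟪e 1, e' i⟫ * ⟪e 1, e' j⟫ +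
    ⟪e 2, e' i⟫ * ⟪e 2, e' j⟫ + ⟪e 3, e' i⟫ * ⟪e 3, e' j⟫ + ⟪e 4, e' i⟫ * ⟪e 4, e' j⟫ +
    ⟪e 5, e' i⟫ * ⟪e 5, e' j⟫ = 0 := by
  have := h.l.co_eq_sum (e' i) (e' j)
  simp only [Fin.sum_univ_six, h.r.co_ne hij, co_e (e' i)] at this
  exact this.symm

theorem sg {i s t : Fin 6} (hst : s ≠ t) (hs : ⟪e s, e' i⟫ = 0) (ht : ⟪e t, e' i⟫ = 0) (j : Fin 6) :
    ⟪e s, e' j⟫ = 0 ∧ ⟪e t, e' j⟫ = 0 ∨ (∀ r, r ≠ s → r ≠ t → ⟪e r, e' j⟫ = 0) ∨
      2 * (⟪e s, e' j⟫ ^ 2 + ⟪e t, e' j⟫ ^ 2) = 1 := by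
  have h2 := h.l.two_ne
  have k : ∀ v, (f.rf (e s) * f.rf (e t)) v = v - (2 * ⟪e t, v⟫) • e t - (2 * ⟪e s, v⟫) • e s :=
    fun v => by simp [h.l.rf_e, h.l.co_ne hst]
  rcases h.test' (h.l.rf_mul_rf_e (by simp) s t) (i := i) (by simp [k, hs, ht]) j with h1 | ⟨a, h1⟩
  · simp only [k, map_sub, map_smul, h.r.co_self, co_e (e' j), smul_eq_mul] at h1
    exact Or.inr (Or.inr (by linear_combination -h1))
  by_cases ha : a = 1
  · have h3 := h1 s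
    have h4 := h1 t
    simp only [k, map_sub, map_smul, h.l.co_self, h.l.co_ne hst, h.l.co_ne hst.symm, ha,
      smul_eq_mul] at h3 h4
    exact Or.inl ⟨mul_left_cancel₀ h2 (by linear_combination -h3),
      mul_left_cancel₀ h2 (by linear_combination -h4)⟩
  · refine Or.inr (Or.inl fun r h3 h4 => mul_left_cancel₀ (sub_ne_zero.2 ha) ?_)
    have h5 := h1 r
    simp only [k, map_sub, map_smul, h.l.co_ne h3, h.l.co_ne h4, smul_eq_mul] at h5
    linear_combination -h5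

theorem cyc {i r s t : Fin 6} (hrs : r ≠ s) (hst : s ≠ t) (hrt : r ≠ t) (hr : ⟪e r, e' i⟫ = 0)
    (hs : ⟪e s, e' i⟫ = 0) (ht : ⟪e t, e' i⟫ = 0) {j : Fin 6} (h1 : 2 * ⟪e r, e' j⟫ ^ 2 = 1)
    (h2 : ⟪e s, e' j⟫ = 0) (h3 : ⟪e t, e' j⟫ = 0) : False := by
  obtain ⟨u, hu, hu'⟩ := h.l.exists_cyc (by simp) hrs hst hrt
  rcases h.test' hu (i := i) (by simp [hu' _, hr, hs, ht]) j with h4 | ⟨a, h4⟩
  · simp only [hu' _, map_sub, map_add, map_smul, h.r.co_self, co_e (e' j), smul_eq_mul, h2,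
      h3] at h4
    exact one_ne_zero (α := F) (by linear_combination 2 * h4 + h1)
  · have h5 := h4 s
    simp only [hu' _, map_sub, map_add, map_smul, h.l.co_self, h.l.co_ne hrs.symm, smul_eq_mul, h2,
      h3] at h5
    exact one_ne_zero (α := F) (by linear_combination 2 * ⟪e r, e' j⟫ * h5 - h1)

theorem two {j s t : Fin 6} (H : ∀ r, r ≠ s → r ≠ t → ⟪e r, e' j⟫ = 0) : ⟪e s, e' j⟫ ≠ 0 :=
  fun h0 => h.ne j t _ (h.l.eq_smul fun r hr => by
    by_cases h1 : r = s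
    exacts [h1 ▸ h0, H r h1 hr])

theorem half {i : Fin 6} (H : ∀ r, r ≠ 4 → r ≠ 5 → ⟪e r, e' i⟫ = 0) : ∃ j,
    4 * ⟪e 0, e' j⟫ ^ 2 = 1 ∧ 4 * ⟪e 1, e' j⟫ ^ 2 = 1 ∧ ⟪e 4, e' j⟫ = 0 ∧ ⟪e 5, e' j⟫ = 0 := by
  have h2 := h.l.two_ne
  obtain ⟨j, hj⟩ := h.r.exists_co_ne (h.l.ne_zero 0)
  rw [co_comm] at hj
  have z0 := H 0 (by decide) (by decide)
  have z1 := H 1 (by decide) (by decide)
  have z2 := H 2 (by decide) (by decide)
  have z3 := H 3 (by decide) (by decide)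
  have P : ∀ t u v : Fin 6, 0 ≠ t → 0 ≠ u → t ≠ u → u ≠ v → t ≠ v → 0 ≠ v → ⟪e t, e' i⟫ = 0 →
      ⟪e u, e' i⟫ = 0 → ⟪e v, e' i⟫ = 0 → 2 * (⟪e 0, e' j⟫ ^ 2 + ⟪e t, e' j⟫ ^ 2) = 1 := by
    intro t u v n1 n2 n3 n4 n5 n6 zt zu zv
    rcases h.sg n1 z0 zt j with h1 | h1 | h1
    · exact absurd h1.1 hj
    · have h3 : ⟪e t, e' j⟫ ≠ 0 := h.two fun r a b => h1 r b a
      have h4 := h1 u n2.symm n3.symm
      rcases h.sg n3 zt zu j with h5 | h5 | h5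
      · exact absurd h5.1 h3
      · exact absurd (h5 0 n1 n2) hj
      · exact (h.cyc n3 n4 n5 zt zu zv (by simpa [h4] using h5) h4 (h1 v n6.symm n5.symm)).elim
    · exact h1
  have p1 := P 1 2 3 (by decide) (by decide) (by decide) (by decide) (by decide) (by decide) z1 z2 z3
  have p2 := P 2 3 1 (by decide) (by decide) (by decide) (by decide) (by decide) (by decide) z2 z3 z1
  have p3 := P 3 1 2 (by decide) (by decide) (by decide) (by decide) (by decide) (by decide) z3 z1 z2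
  rcases h.sg (show (1 : Fin 6) ≠ 2 by decide) z1 z2 j with h1 | h1 | h1
  · exact (h.cyc (r := 0) (s := 1) (t := 2) (by decide) (by decide) (by decide) z0 z1 z2
      (by simpa [h1.1] using p1) h1.1 h1.2).elim
  · exact absurd (h1 0 (by decide) (by decide)) hj
  have n1 := h.norm i
  have n2 := h.norm j
  have n3 := h.orth (i := i) (j := j) fun e0 => hj (e0 ▸ z0)
  rw [z0, z1, z2, z3] at n1 n3
  have k : ⟪e 4, e' j⟫ ^ 2 + ⟪e 5, e' j⟫ ^ 2 = 0 :=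
    mul_left_cancel₀ h2 (by linear_combination 2 * n2 - p3 - h1)
  refine ⟨j, by linear_combination p1 + p2 - h1, by linear_combination p1 - p2 + h1,
    pow_eq_zero_iff (n := 2) (by decide) |>.1 ?_, pow_eq_zero_iff (n := 2) (by decide) |>.1 ?_⟩
  · linear_combination (-⟪e 4, e' j⟫ ^ 2) * n1 + ⟪e 5, e' i⟫ ^ 2 * k +
      (⟪e 4, e' i⟫ * ⟪e 4, e' j⟫ - ⟪e 5, e' i⟫ * ⟪e 5, e' j⟫) * n3
  · linear_combination (-⟪e 5, e' j⟫ ^ 2) * n1 + ⟪e 4, e' i⟫ ^ 2 * k +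
      (⟪e 5, e' i⟫ * ⟪e 5, e' j⟫ - ⟪e 4, e' i⟫ * ⟪e 4, e' j⟫) * n3

theorem not_four' {i : Fin 6} (H : ∀ r, r ≠ 4 → r ≠ 5 → ⟪e r, e' i⟫ = 0) : False := by
  have h2 := h.l.two_ne
  obtain ⟨j, a0, a1, a4, a5⟩ := h.half H
  have z0 := H 0 (by decide) (by decide)
  have z1 := H 1 (by decide) (by decide)
  have n1 := h.norm i
  rw [z0, z1, H 2 (by decide) (by decide), H 3 (by decide) (by decide)] at n1
  have h4 : ⟪e 4, e' i⟫ ≠ 0 := h.two H
  have h5 : ⟪e 5, e' i⟫ ≠ 0 := h.two fun r a b => H r b a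
  set α := ⟪e 4, e' i⟫ with hα
  set β := ⟪e 5, e' i⟫ with hβ
  have hαβ : α * α = β * β := by
    obtain ⟨g, hg, hg'⟩ := h.pair_mem (i := 4) (j := 5) (k := 0) (l := 1) (by decide) (by decide)
      (one_mul 1) (one_mul 1) (γ := 2 * ⟪e 0, e' j⟫) (δ := 2 * ⟪e 1, e' j⟫)
      (by linear_combination a0) (by linear_combination a1)
    have e1 := hg' (e' i) (e' i) (by simp [z0, z1])
    rcases h.test' hg (i := j) (by
      rw [hg' (e' j) (e' j) (by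
        rw [show 2 * ⟪e 0, e' j⟫ * ⟪e 0, e' j⟫ - 2 * ⟪e 1, e' j⟫ * ⟪e 1, e' j⟫ = 0 from
          mul_left_cancel₀ h2 (by linear_combination a0 - a1)]; simp)]
      simp [a4, a5]) i with h1 | ⟨a, h1⟩
    · simp only [e1, map_sub, map_smul, h.r.co_self, co_e (e' i), smul_eq_mul, ← hα, ← hβ] at h1
      exact absurd (by linear_combination h1 + n1) (mul_ne_zero h2 (mul_ne_zero h4 h5))
    · have h6 := h1 4
      have h7 := h1 5
      simp [e1, h.l.co_self, h.l.co_ne, ← hα, ← hβ] at h6 h7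
      linear_combination α * h7 - β * h6
  obtain ⟨g1, q1, d1⟩ := h.l.toFr.rf_pair (i := 4) (j := 5) (by decide) (α := 1) (β := β / α)
    (one_mul 1) (by field_simp; linear_combination -hαβ)
  have q2 : f.q (α • ((1 : F) • e 4 - (β / α) • e 5)) = c := by
    rw [quad_q_smul, q1]; linear_combination c * n1 + c * hαβ
  have hg : f.rf ((1 : F) • e 4 - (β / α) • e 5) * f.rf (e 0) ∈ dstab (ln F e) ⊓ f.E :=
    ⟨mul_mem d1 (h.l.rf_e_mem 0), rf_smul h4 ((1 : F) • e 4 - (β / α) • e 5) (f := f) ▸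
      h.l.sdec.nondeg'.rf_mul_rf_mem_E (h.l.card_eq ▸ by simp) (by rw [q2]; exact h.l.c_ne)
      (by rw [h.l.q_e]; exact h.l.c_ne) (by rw [q2, h.l.q_e])⟩
  have e2 : (f.rf ((1 : F) • e 4 - (β / α) • e 5) * f.rf (e 0)) (e' j) =
      e' j - (2 * ⟪e 0, e' j⟫) • e 0 := by
    rw [LinearEquiv.mul_apply, g1, h.l.rf_e]
    simp [a4, a5, h.l.co_ne]
  rcases h.test' hg (i := i) (by
    rw [LinearEquiv.mul_apply, h.l.rf_e, z0, mul_zero, zero_smul, sub_zero, g1, ← hα, ← hβ,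
      show 1 * α - β / α * β = 0 by field_simp; linear_combination hαβ]
    simp) j with h1 | ⟨a, h1⟩
  · simp only [e2, map_sub, map_smul, h.r.co_self, co_e (e' j), smul_eq_mul] at h1
    exact one_ne_zero (α := F) (by linear_combination 2 * h1 + a0)
  · have h6 := h1 0
    have h7 := h1 1
    rw [e2] at h6 h7
    simp only [map_sub, map_smul, h.l.co_self, h.l.co_ne (show (1 : Fin 6) ≠ 0 by decide),
      smul_eq_mul] at h6 h7
    have h8 : a = 1 := by linear_combination (-4 * ⟪e 1, e' j⟫) * h7 - (a - 1) * a1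
    rw [h8] at h6
    exact h2 (by linear_combination (-4 * ⟪e 0, e' j⟫) * h6 - 2 * a0)

theorem not_four {i s t : Fin 6} (hst : s ≠ t) (H : ∀ r, r ≠ s → r ≠ t → ⟪e r, e' i⟫ = 0) :
    False := by
  obtain ⟨σ, hσ⟩ := Equiv.Perm.exists_extending_pair (f := ![(4 : Fin 6), 5]) (g := ![s, t])
    (by decide) (by simp [hst, Function.Injective, hst.symm])
  exact (h.perm σ 1).not_four' (i := i) fun r h1 h2 => H _
    (by simpa [← show σ 4 = s from hσ 0] using h1) (by simpa [← show σ 5 = t from hσ 1] using h2)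

theorem fix {τ : V ≃ₗ[F] V} (hτ : f.IsT (2 * c) τ (e' 0) (e' 1)) {s : Fin 6} {a : F}
    (ha : τ (e s) = a • e s) : ⟪e s, e' 0⟫ = 0 ∧ ⟪e s, e' 1⟫ = 0 := by
  have h2 := h.l.two_ne
  have k := fun r => congrArg (f.co (2 * c) (e' r)) ha
  simp only [hτ _, map_sub, map_add, map_smul, smul_eq_mul] at k
  by_cases h1 : a = 1
  · have k0 := k 0
    have k1 := k 1
    simp only [h.r.co_self, h.r.co_ne (show (0 : Fin 6) ≠ 1 by decide),
      h.r.co_ne (show (1 : Fin 6) ≠ 0 by decide), h1, co_e (e' _)] at k0 k1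
    exact ⟨mul_left_cancel₀ h2 (by linear_combination -k0),
      mul_left_cancel₀ h2 (by linear_combination -k1)⟩
  · refine (h.symm.not_four (i := s) (show (0 : Fin 6) ≠ 1 by decide) fun r h3 h4 =>
      mul_left_cancel₀ (sub_ne_zero.2 h1) ?_).elim
    have k0 := k r
    rw [h.r.co_ne h3, h.r.co_ne h4] at k0
    linear_combination -k0

theorem shape (z0 : ⟪e 0, e' 0⟫ = 0 ∧ ⟪e 0, e' 1⟫ = 0) (z1 : ⟪e 1, e' 0⟫ = 0 ∧ ⟪e 1, e' 1⟫ = 0) :
    (∀ r, r ≠ 0 → r ≠ 1 → ¬ (⟪e r, e' 0⟫ = 0 ∧ ⟪e r, e' 1⟫ = 0)) ∧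
    ∃ σ : Equiv.Perm (Fin 6), σ 0 = 0 ∧ σ 1 = 1 ∧ ∃ a b : F, a * a = 1 ∧ b * b = 1 ∧
      ∀ j, j = 0 ∨ j = 1 → ⟪e (σ 3), e' j⟫ = a * ⟪e (σ 2), e' j⟫ ∧
        ⟪e (σ 5), e' j⟫ = b * ⟪e (σ 4), e' j⟫ := by
  obtain ⟨τ, -, -, hτ⟩ := (h.r.fGen (by simp) h.r.le).t 0 1 (by decide)
  have hτ' : τ = f.rf (e' 0) * f.rf (e' 1) := LinearEquiv.ext fun v => by
    rw [hτ, LinearEquiv.mul_apply, h.r.rf_e, h.r.rf_e]
    simp only [map_sub, map_smul, h.r.co_ne (show (0 : Fin 6) ≠ 1 by decide), smul_zero, sub_zero]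
    module
  have hm : τ ∈ dstab (ln F e') ⊓ f.E := hτ' ▸ h.r.rf_mul_rf_e (by simp) 0 1
  have k0 : ∀ r, ⟪e r, e' 0⟫ = 0 ∧ ⟪e r, e' 1⟫ = 0 → τ (e r) = e r := fun r hr => by
    rw [hτ, co_comm (e' 0), co_comm (e' 1), hr.1, hr.2]; simp
  choose π a ha hπ using h.symm.test hm (k0 0 z0)
  have k1 : ∀ r, π r = r ↔ ⟪e r, e' 0⟫ = 0 ∧ ⟪e r, e' 1⟫ = 0 := fun r =>
    ⟨fun h1 => h.fix hτ (h1 ▸ hπ r), fun h1 => by_contra fun h2 => by
      have := congrArg (f.co (2 * c) (e r)) (hπ r)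
      rw [k0 r h1, map_smul, h.l.co_self, h.l.co_ne (Ne.symm h2), smul_zero] at this
      exact one_ne_zero this⟩
  have k2 : ∀ r, π (π r) = r := fun r => by_contra fun h2 => by
    have := congrArg (fun g : V ≃ₗ[F] V => f.co (2 * c) (e r) (g (e r)))
      (hτ.mul_self h.r.toFr (by decide))
    simp [hπ, h.l.co_self, h.l.co_ne (Ne.symm h2)] at this
  have k3 : ∀ s t, s ≠ t → ¬ ∀ r, r ≠ s → r ≠ t → π r = r := fun s t hst H =>
    h.not_four (i := 0) hst fun r h1 h2 => ((k1 r).1 (H r h1 h2)).1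
  have k4 : ∀ r j, j = 0 ∨ j = 1 → ⟪e (π r), e' j⟫ = -a r * ⟪e r, e' j⟫ := fun r j hj => by
    have h1 := co_map (c := 2 * c) (E_le_O hm.2) (e' j) (e r)
    have h2 : τ (e' j) = -e' j := by
      rw [hτ]
      rcases hj with rfl | rfl <;> simp [h.r.co_self, h.r.co_ne] <;> module
    rw [hπ, map_smul, co_comm, h2, map_neg, co_e (e' j), smul_eq_mul] at h1
    linear_combination (-a r) * h1 - ⟪e (π r), e' j⟫ * ha r
  have k5 := invol6 π ((k1 0).2 z0) ((k1 1).2 z1) k2 k3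
  refine ⟨fun r h1 h2 h3 => k5.1 r h1 h2 ((k1 r).2 h3), ?_⟩
  obtain ⟨σ, s0, s1, s2, s3⟩ := k5.2
  exact ⟨σ, s0, s1, -a (σ 2), -a (σ 4), by simpa using ha _, by simpa using ha _, fun j hj =>
    ⟨s2 ▸ k4 _ j hj, s3 ▸ k4 _ j hj⟩⟩

theorem block' (z0 : ⟪e 0, e' 0⟫ = 0 ∧ ⟪e 0, e' 1⟫ = 0) (z1 : ⟪e 1, e' 0⟫ = 0 ∧ ⟪e 1, e' 1⟫ = 0)
    {a b a' : F} (ha : a * a = 1) (hb : b * b = 1) (ha' : a' * a' = 1)
    (H : ∀ j, j = 0 ∨ j = 1 → ⟪e 3, e' j⟫ = a * ⟪e 2, e' j⟫ ∧ ⟪e 5, e' j⟫ = b * ⟪e 4, e' j⟫)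
    (H' : ⟪e' 3, e 0⟫ = a' * ⟪e' 2, e 0⟫)
    (A : ∀ r, r ≠ 0 → r ≠ 1 → ¬ (⟪e' r, e 0⟫ = 0 ∧ ⟪e' r, e 1⟫ = 0)) : False := by
  have h2 := h.l.two_ne
  obtain ⟨p3, p5⟩ := H 0 (Or.inl rfl)
  obtain ⟨r3, r5⟩ := H 1 (Or.inr rfl)
  have n0 := h.norm 0
  have n1 := h.norm 1
  have n2 := h.orth (show (0 : Fin 6) ≠ 1 by decide)
  rw [z0.1, z1.1, p3, p5] at n0 n2
  rw [z0.2, z1.2, r3, r5] at n1 n2
  have p0 : ⟪e 2, e' 0⟫ ≠ 0 := fun e0 => h.not_four (i := 0) (show (4 : Fin 6) ≠ 5 by decide)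
    fun r _ _ => by fin_cases r <;> simp_all
  have q0 : ⟪e 4, e' 0⟫ ≠ 0 := fun e0 => h.not_four (i := 0) (show (2 : Fin 6) ≠ 3 by decide)
    fun r _ _ => by fin_cases r <;> simp_all
  set p := ⟪e 2, e' 0⟫ with hp
  set q := ⟪e 4, e' 0⟫ with hq
  set r := ⟪e 2, e' 1⟫ with hr
  set s := ⟪e 4, e' 1⟫ with hs
  have m0 : 2 * (p ^ 2 + q ^ 2) = 1 := by linear_combination n0 - p ^ 2 * ha - q ^ 2 * hb
  have m1 : 2 * (r ^ 2 + s ^ 2) = 1 := by linear_combination n1 - r ^ 2 * ha - s ^ 2 * hb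
  have m2 : p * r + q * s = 0 :=
    mul_left_cancel₀ h2 (by linear_combination n2 - p * r * ha - q * s * hb)
  have m3 : p ^ 2 = r ^ 2 := by
    obtain ⟨g, hg, hg'⟩ := h.symm.pair_mem (i := 0) (j := 1) (k := 2) (l := 3) (by decide)
      (by decide) (one_mul 1) (one_mul 1) (one_mul 1) ha'
    obtain ⟨l, d, hd, h1⟩ := h.symm.test hg (i := 0) (by
      rw [hg' (e 0) (e 0) (by
        rw [H', show 1 * ⟪e' 2, e 0⟫ - a' * (a' * ⟪e' 2, e 0⟫) = 0 by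
          linear_combination -⟪e' 2, e 0⟫ * ha']; simp), co_comm (e' 0), co_comm (e' 1), z0.1, z0.2]
      simp) 2
    rw [hg' _ _ rfl] at h1
    have h3 := congrArg (f.co (2 * c) (e' 0)) h1
    have h4 := congrArg (f.co (2 * c) (e' 1)) h1
    simp [h.r.co_self, h.r.co_ne, co_e (e' _), ← hp, ← hr] at h3 h4
    fin_cases l
    · exact absurd (by simpa [z0.2] using h4) p0
    · exact absurd (by simpa [z1.2] using h4) p0
    · simp [← hp, ← hr] at h3 h4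
      linear_combination p * h4 - r * h3
    · simp [p3, r3] at h3 h4
      linear_combination p * h4 - r * h3
    · simp [← hq, ← hs] at h3 h4
      refine absurd (mul_left_cancel₀ (mul_ne_zero h2 q0) ?_) p0
      linear_combination d * m2 + 2 * q * h4 - d * r * h4 - d ^ 2 * s * h3 - d * q * s * hd
    · simp [p5, r5] at h3 h4
      refine absurd (mul_left_cancel₀ (mul_ne_zero h2 q0) ?_) p0
      linear_combination d * b * m2 + 2 * q * h4 - d * b * r * h4 - d ^ 2 * b ^ 2 * s * h3 -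
        d * b * q * s * (b ^ 2 * hd + hb)
  have m4 : 4 * p ^ 2 = 1 := by
    linear_combination 2 * m3 + 4 * (p * r - q * s) * m2 + 2 * s ^ 2 * m0 + (1 - 2 * p ^ 2) * m1
  have m5 : 4 * q ^ 2 = 1 := by linear_combination 2 * m0 - m4
  have r0 : r ≠ 0 := fun e0 => p0 (pow_eq_zero_iff (n := 2) (by decide) |>.1 (by simp [m3, e0]))
  obtain ⟨g, hg, hg'⟩ := h.pair_mem (i := 3) (j := 4) (k := 0) (l := 1) (by decide) (by decide)
    (α := 2 * (a * p)) (β := 2 * q) (by linear_combination m4 + 4 * p ^ 2 * ha)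
    (by linear_combination m5) (one_mul 1) (one_mul 1)
  have e0 : g (e' 0) = e' 0 := by
    rw [hg' (e' 0) (e' 0) (by simp [z0.1, z1.1]), p3, ← hq,
      show 2 * (a * p) * (a * p) - 2 * q * q = 0 from
        mul_left_cancel₀ h2 (by linear_combination m4 - m5 + 4 * p ^ 2 * ha)]
    simp
  obtain ⟨l, d, hd, h1⟩ := h.test hg e0 1
  have l0 : l ≠ 0 := by
    rintro rfl
    have := co_map (c := 2 * c) (E_le_O hg.2) (e' 0) (e' 1)
    rw [e0, h1, map_smul, h.r.co_self, h.r.co_ne (by decide)] at this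
    simp_all
  rw [hg' (e' 1) (e' 1) (by simp [z0.2, z1.2])] at h1
  have k := fun t => congrArg (f.co (2 * c) (e t)) h1
  have d0 : d ≠ 0 := left_ne_zero_of_mul_eq_one hd
  by_cases l1 : l = 1
  · have k2 := k 2
    have k4 := k 4
    simp [l1, h.l.co_self, h.l.co_ne, r3, ← hr, ← hs, r0] at k2 k4
    exact mul_ne_zero (mul_ne_zero h2 (four_ne h2)) (mul_ne_zero p0 (mul_ne_zero q0 r0))
      (by linear_combination k4 + s * k2 - 4 * p * q * r * ha + 4 * q * m2)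
  · have k0 := k 0
    have k1 := k 1
    simp [h.l.co_ne, z0.2, z1.2, d0] at k0 k1
    exact A l l0 l1 ⟨h.l.co_symm k0, h.l.co_symm k1⟩

theorem block {i j s t : Fin 6} (hij : i ≠ j) (hst : s ≠ t)
    (z0 : ⟪e s, e' i⟫ = 0 ∧ ⟪e s, e' j⟫ = 0) (z1 : ⟪e t, e' i⟫ = 0 ∧ ⟪e t, e' j⟫ = 0) : False := by
  obtain ⟨σ, hσ⟩ := Equiv.Perm.exists_extending_pair (f := ![(0 : Fin 6), 1]) (g := ![s, t])
    (by decide) (by simp [hst, Function.Injective, hst.symm])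
  obtain ⟨τ, hτ⟩ := Equiv.Perm.exists_extending_pair (f := ![(0 : Fin 6), 1]) (g := ![i, j])
    (by decide) (by simp [hij, Function.Injective, hij.symm])
  obtain rfl : σ 0 = s := hσ 0
  obtain rfl : σ 1 = t := hσ 1
  obtain rfl : τ 0 = i := hτ 0
  obtain rfl : τ 1 = j := hτ 1
  have k := h.perm σ τ
  obtain ⟨-, σ', s0, s1, a, b, ha, hb, H⟩ := k.shape z0 z1
  obtain ⟨A, τ', t0, t1, a', b', ha', -, H'⟩ := k.symm.shape
    ⟨h.l.co_symm z0.1, h.l.co_symm z1.1⟩ ⟨h.l.co_symm z0.2, h.l.co_symm z1.2⟩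
  refine (k.perm σ' τ').block' (by rwa [s0, t0, t1]) (by rwa [s1, t0, t1]) ha hb ha' ?_
    (by rw [s0]; exact (H' 0 (Or.inl rfl)).1) fun r h0 h1 => ?_
  · rintro j (rfl | rfl)
    · rw [t0]; exact H 0 (Or.inl rfl)
    · rw [t1]; exact H 1 (Or.inr rfl)
  · rw [s0, s1]
    exact A _ (t0 ▸ τ'.injective.ne h0) (t1 ▸ τ'.injective.ne h1)

end Pr6

namespace O6

variable (h : f.O6 M c e)
include h

theorem mono_of_conj {m τ : V ≃ₗ[F] V} (hm : m ∈ M) {i j : Fin 6} (hij : i ≠ j)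
    (hτ : f.IsT (2 * c) τ (e i) (e j)) (h0 : m * τ * m⁻¹ ∈ dstab (ln F e)) :
    m ∈ dstab (ln F e) := by
  classical
  by_contra hn
  have h1 := hτ.conj (h.hO hm)
  have h3 := h.card_le_fixed h0 Finset.univ (m (e i)) (m (e j))
    fun s _ => ⟨_, h1.sub_mem (e s), fun _ _ => rfl⟩
  rw [Finset.card_univ, Fintype.card_fin] at h3
  obtain ⟨s, hs, t, ht, hst⟩ := Finset.one_lt_card.1 (show 1 < (Finset.univ.filter fun s =>
    (m * τ * m⁻¹) (e s) = e s).card by omega)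
  have hy := h.toFr.map (h.hO hm)
  have k : ∀ s, (m * τ * m⁻¹) (e s) = e s → ⟪e s, m (e i)⟫ = 0 ∧ ⟪e s, m (e j)⟫ = 0 := fun s hs => by
    have h4 := congrArg (f.co (2 * c) (m (e i))) hs
    have h5 := congrArg (f.co (2 * c) (m (e j))) hs
    rw [h1] at h4 h5
    simp only [map_sub, map_smul, map_add, hy.co_self, hy.co_ne hij, hy.co_ne hij.symm,
      smul_eq_mul, mul_one, mul_zero, add_zero, zero_add, sub_eq_self, mul_eq_zero, h.two_ne,
      false_or] at h4 h5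
    exact ⟨h.co_symm h4, h.co_symm h5⟩
  exact Pr6.block ⟨h, h.conj hm, fun i j a ha => hn (h.hs m hm i j a ha)⟩ hij hst
    (k s (Finset.mem_filter.1 hs).2) (k t (Finset.mem_filter.1 ht).2)

theorem le_dstab : M ≤ dstab (ln F e) := by
  classical
  have : Finite V := Module.finite_of_finite F
  have : Finite (V ≃ₗ[F] V) := Finite.of_injective (fun g : V ≃ₗ[F] V => (g : V → V))
    DFunLike.coe_injective
  have G := h.fGen (by simp) h.le
  choose! t t1 t2 t3 using G.t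
  have uq : ∀ {τ τ' : V ≃ₗ[F] V} {x y : V}, f.IsT (2 * c) τ x y → f.IsT (2 * c) τ' x y → τ = τ' :=
    fun h1 h3 => LinearEquiv.ext fun v => (h1 v).trans (h3 v).symm
  have sy : ∀ i j, i ≠ j → t i j = t j i := fun i j hij =>
    uq (t3 i j hij) fun v => by rw [t3 j i hij.symm, add_comm]
  have val : ∀ i j, i ≠ j → ∀ s, t i j (e s) = if s = i ∨ s = j then -e s else e s :=
    fun i j hij s => by
      rw [t3 i j hij]
      by_cases h3 : s = i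
      · subst h3; rw [h.co_self, h.co_ne hij.symm, if_pos (Or.inl rfl)]; module
      by_cases h4 : s = j
      · subst h4; rw [h.co_self, h.co_ne hij, if_pos (Or.inr rfl)]; module
      · rw [h.co_ne (Ne.symm h3), h.co_ne (Ne.symm h4), if_neg (not_or.2 ⟨h3, h4⟩)]; module
  have ext : ∀ {a b : V ≃ₗ[F] V}, (∀ s, a (e s) = b (e s)) → a = b := fun H =>
    LinearEquiv.toLinearMap_injective (LinearMap.ext_on_range h.top H)
  have M1 : ∀ m ∈ M, ∀ i j, i ≠ j → m * t i j * m⁻¹ ∈ dstab (ln F e) → m ∈ dstab (ln F e) :=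
    fun m hm i j hij => h.mono_of_conj hm hij (t3 i j hij)
  have hinj : ∀ i j k l, i ≠ j → k ≠ l → t i j = t k l → i = k ∧ j = l ∨ i = l ∧ j = k := by
    intro i j k l hij hkl e0
    have k1 : ∀ s, s = i ∨ s = j → s = k ∨ s = l := fun s hs => by
      by_contra h3
      have := val i j hij s
      rw [e0, val k l hkl, if_pos hs, if_neg h3] at this
      have h4 := congrArg (f.co (2 * c) (e s)) this
      rw [map_neg, h.co_self] at h4
      exact h.two_ne (by linear_combination h4)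
    have := k1 i (Or.inl rfl)
    have := k1 j (Or.inr rfl)
    grind
  refine Asch.sf_le_of_even t1 t2 (fun i j hij => (t3 i j hij).mul_self h.toFr hij) sy
    (fun ν hν hν' => ?_) hinj M1 (fun m hm i j k l hij hkl hne hh => ?_) (by simp) (by decide)
  · choose π a ha using h.mem_dstab_iff.1 hν'
    have a0 : ∀ i j, ⟪e i, e j⟫ = a i * a j * ⟪e (π i), e (π j)⟫ := fun i j => by
      rw [← co_map (h.hO hν), ha, ha, map_smul, co_comm, map_smul, co_comm]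
      simp only [smul_eq_mul]; ring
    have a1 : ∀ i, a i * a i = 1 := fun i => by simpa [h.co_self] using (a0 i i).symm
    have hπ : Function.Injective π := fun i j e0 => by
      by_contra hij
      have := a0 i j
      rw [e0, h.co_self, h.co_ne hij, mul_one] at this
      exact mul_ne_zero (left_ne_zero_of_mul_eq_one (a1 i)) (left_ne_zero_of_mul_eq_one (a1 j))
        this.symm
    refine ⟨π, hπ, fun i j hij => uq ((t3 i j hij).conj (h.hO hν)) fun v => ?_⟩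
    rw [t3 _ _ (hπ.ne hij), ha, ha, co_comm (a i • _), co_comm (a j • _), map_smul, map_smul,
      co_comm v, co_comm v]
    simp only [smul_smul, smul_eq_mul]
    rw [mul_right_comm, a1, mul_right_comm, a1, one_mul, one_mul]
  · have k1 : ∀ i j k, i ≠ j → i ≠ k → j ≠ k → t i j * t i k = t j k := fun i j k h3 h4 h5 =>
      ext fun s => by
        rw [LinearEquiv.mul_apply, val i k h4, val j k h5, apply_ite (t i j), map_neg, val i j h3]
        split_ifs <;> first | rfl | exact neg_neg _ | grind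
    by_cases hd : i ≠ k ∧ i ≠ l ∧ j ≠ k ∧ j ≠ l
    · obtain ⟨r, s, hrs, all⟩ : ∃ r s : Fin 6, r ≠ s ∧ ∀ u, (u = r ∨ u = s) ↔
          ¬ (u = i ∨ u = j ∨ u = k ∨ u = l) := by
        clear hne hh
        revert i j k l
        decide +kernel
      have e1 : t i j * t k l = LinearEquiv.neg F * t r s := ext fun u => by
        rw [LinearEquiv.mul_apply, LinearEquiv.mul_apply, val k l hkl, val r s hrs,
          apply_ite (t i j), map_neg, val i j hij, LinearEquiv.neg_apply]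
        have := all u
        split_ifs <;> first | rfl | exact (neg_neg _).symm | grind
      refine M1 m hm r s hrs ?_
      have e2 : m * t r s * m⁻¹ = LinearEquiv.neg F * (m * (t i j * t k l) * m⁻¹) := by
        rw [e1]; ext v; simp
      rw [e2]
      exact (dstab _).mul_mem (h.mem_dstab_iff.2 fun u => ⟨u, -1, by simp⟩) hh
    · have : i = k ∧ j ≠ l ∨ i = l ∧ j ≠ k ∨ j = k ∧ i ≠ l ∨ j = l ∧ i ≠ k := by
        by_contra! H
        by_cases h3 : i = k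
        · exact hne (by rw [h3, H.1 h3])
        by_cases h4 : i = l
        · exact hne (by rw [h4, H.2.1 h4, sy k l hkl])
        by_cases h5 : j = k
        · exact h4 (H.2.2.1 h5)
        · exact hd ⟨h3, h4, h5, fun h6 => h3 (H.2.2.2 h6)⟩
      rcases this with ⟨rfl, h3⟩ | ⟨rfl, h3⟩ | ⟨rfl, h3⟩ | ⟨rfl, h3⟩
      · exact M1 m hm j l h3 (k1 i j l hij hkl h3 ▸ hh)
      · exact M1 m hm j k h3 (k1 i j k hij hkl.symm h3 ▸ sy k i hkl ▸ hh)
      · exact M1 m hm i l h3 (k1 j i l hij.symm hkl h3 ▸ sy i j hij ▸ hh)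
      · exact M1 m hm i k h3 (k1 j i k hij.symm hkl.symm h3 ▸ sy i j hij ▸ sy k j hkl ▸ hh)

end O6

theorem Fr.quad_E_le_six (h : f.Fr e (2 * c)) (hp : (Nat.card F).Prime)
    (hM : dstab (ln F e) ⊓ f.E ≤ M) (hO : M ≤ f.O) (hM' : ¬ M ≤ dstab (ln F e)) : f.E ≤ M := by
  by_contra H
  exact hM' (O6.le_dstab ⟨h, hM, hO, fun m hm i j a ha => by_contra fun mn =>
    H (h.quad_E_le_of_line hp (by simp) hM hO hm mn ha)⟩)

end Form

end CL.Witt
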