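import Mathlib
import Cfsg.Agent.CLAS.Four2
import Cfsg.Agent.CLAS.Four5
import Cfsg.Agent.CLAS.AschSL
import Cfsg.Agent.CLAS.AschSu2

/-!
The Klein correspondence as a tool for maximal subgroups of `SL₄(q)` and `SU₄(q)`.
-/

set_option autoImplicit false
set_option linter.unusedSectionVars false

namespace CL.Four

open Module Matrix Cfsg Cfsg.Geo CL.Witt CL.Witt.Form CL.Orth CL.OrthE
open scoped MatrixGroups commutatorElement

theorem alg_eq_top4 {F : Type*} [Field F] [Finite F] {ι : Type} [Fintype ι] [DecidableEq ι]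
    [Nonempty ι] {P : Subgroup (GL ι F)} (h : ActsAbsolutelyIrreducibly (matrixSet P)) :
    Asch.alg P = ⊤ := by
  have hI := (Asch.irr_iff P).2 h.1
  obtain ⟨d, hd, φ, hφ⟩ := Asch.exists_algHom_range_eq (Asch.alg P) ⊥
    (fun h hh x hx => by rwa [Subgroup.mem_bot.1 hh, Asch.conjAlgHom_one])
    (fun W hW _ => hI W fun g hg => hW _ (Asch.mem_alg hg))
    fun z _ hz => h.2 z (by rintro _ ⟨x, hx, rfl⟩; exact hz _ (Asch.mem_alg hx))
  have : Nonempty (Fin d) := ⟨⟨0, hd⟩⟩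
  have hi : Function.Injective φ := Asch.algHom_injective φ
  let z : Fin d := ⟨0, hd⟩
  obtain ⟨v, hv⟩ : ∃ v, φ (vecMulVec (Pi.single z 1) (Pi.single z 1)) *ᵥ v ≠ 0 := by
    by_contra! H
    have := hi ((Asch.eq_of_mulVec fun v => (H v).trans (zero_mulVec v).symm).trans (map_zero φ).symm)
    simpa [vecMulVec_apply] using congrFun (congrFun this z) z
  let L : (Fin d → F) →ₗ[F] (ι → F) :=
    { toFun := fun a => φ (vecMulVec a (Pi.single z 1)) *ᵥ v
      map_add' := fun a b => by rw [add_vecMulVec, map_add, add_mulVec]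
      map_smul' := fun c a => by rw [smul_vecMulVec, map_smul, smul_mulVec]; rfl }
  have h1 := (hI (LinearMap.range L) (by
    rintro g hg _ ⟨a, rfl⟩
    obtain ⟨y, hy⟩ := hφ.ge (Asch.mem_alg hg)
    refine ⟨y *ᵥ a, ?_⟩
    change φ _ *ᵥ v = _ *ᵥ (φ _ *ᵥ v)
    rw [mulVec_mulVec, ← mul_vecMulVec, map_mul]
    rw [show φ y = g.1 from hy])).resolve_left fun e => hv (e.le ⟨_, rfl⟩)
  have h2 := LinearMap.finrank_range_le L
  have h3 := LinearMap.finrank_le_finrank_of_injective (f := φ.toLinearMap) hi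
  rw [h1] at h2
  simp only [finrank_top, finrank_fintype_fun_eq_card, Fintype.card_fin, Module.finrank_matrix,
    finrank_self, mul_one] at h2 h3
  rw [← hφ, AlgHom.range_eq_top]
  refine (LinearMap.injective_iff_surjective_of_finrank_eq_finrank (f := φ.toLinearMap) ?_).1 hi
  simp only [Fintype.card_fin, Module.finrank_matrix, finrank_self, mul_one]
  exact le_antisymm h3 (Nat.mul_le_mul h2 h2)

theorem comm_le_scalars {F : Type*} [Field F] [Finite F] {ι : Type} [Fintype ι] [DecidableEq ι]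
    [Nonempty ι] {R : Subgroup (GL ι F)} (hs : IsSymplecticTypeGroup 2 R)
    (hi : ActsAbsolutelyIrreducibly (matrixSet R)) [Nontrivial R] : ⁅R, R⁆ ≤ scalars ι F := by
  have hsc : ∀ M : Matrix ι ι F, (∀ s ∈ R, M * s = s * M) → ∃ c : F, M = c • 1 := fun M h =>
    hi.2 M (by rintro _ ⟨s, hs, rfl⟩; exact h s hs)
  have h4 : ∀ s : R, s ^ 4 = 1 := fun s => by
    have := Monoid.pow_exponent_eq_one s
    rwa [hs.exponent_eq] at this
  refine Subgroup.commutator_le.2 fun s hs' t ht => ?_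
  obtain ⟨z, E, h1, h3, -, h5, -, -, h6, h7 | ⟨-, n, a, b, h7, h8⟩⟩ :=
    ES.exists_symplectic_decomp hs.pGroup hs.cyclic_of_characteristic
  · have hc : z.1 ∈ scalars ι F := Asch.mem_scalars'.2 (hsc z.1 fun g hg =>
      congrArg (fun x : R => (x.1 : Matrix ι ι F)) (Subgroup.mem_center_iff.1 h3 ⟨g, hg⟩).symm)
    obtain ⟨e, he, d, hd, h9⟩ := h6 ⟨t, ht⟩
    obtain ⟨e', he', d', hd', h10⟩ := h6 ⟨s, hs'⟩
    have h11 : (⟨s, hs'⟩ : R) * d = d * ⟨s, hs'⟩ := by
      have h12 : d' * d = d * d' := congrArg Subtype.val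
        (h7.isMulCommutative.is_comm.comm (⟨d', hd'⟩ : Subgroup.centralizer (E : Set R)) ⟨d, hd⟩)
      rw [h10, mul_assoc, h12, ← mul_assoc, hd e' he', mul_assoc]
    have h12 : ⁅(⟨s, hs'⟩ : R), (⟨t, ht⟩ : R)⁆ = ⁅(⟨s, hs'⟩ : R), e⁆ := by
      rw [h9, commutatorElement_def, commutatorElement_def, ← mul_assoc _ e, mul_assoc _ d,
        ← (show Commute _ d from h11).inv_left.eq]
      group
    obtain ⟨k, hk⟩ := h5 ⟨s, hs'⟩ e he
    have h13 := congrArg Subtype.val (hk.trans h12.symm)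
    exact (show z.1 ^ k = ⁅s, t⁆ from h13) ▸ zpow_mem hc k
  · have h9 := orderOf_dvd_of_pow_eq_one (show a ^ 4 = 1 from Subtype.ext (h4 a))
    have := Nat.pow_le_pow_right two_pos h7
    have := Nat.le_of_dvd four_pos (h8.orderOf_eq ▸ h9)
    omega

/-- The data of the Klein correspondence for a subgroup `L` of `GL₄(K)`. -/
structure Kl {F K V : Type*} [Field F] [Field K] [Algebra F K] [AddCommGroup V] [Module F V]
    (Q : QuadraticForm F V) (L : Subgroup (GL (Fin 4) K)) (κ : V →ₗ[F] Matrix (Fin 4) (Fin 4) K)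
    (φ : L →* (V ≃ₗ[F] V)) : Prop where
  nd : (ofQuad Q).Nondeg
  dim : finrank F V = 6
  range : φ.range = (ofQuad Q).E
  act : ∀ g v, κ (φ g v) = g.1.1 * κ v * g.1.1ᵀ
  inj : Function.Injective κ
  span : ∀ a b c d e f, alt4 a b c d e f ∈ Submodule.span K (Set.range κ)

theorem exists_kl_sl (F : Type*) [Field F] [Fintype F] :
    ∃ φ, Kl (QPlus 3 F) (specialLinear (Fin 4) F) (klein F) φ := by
  obtain ⟨φ, hφ⟩ := exists_hom_QPlus_three (F := F)
  have hp : commutator SL(4, F) = ⊤ := CL.SL.commutator_eq_top_of_three_le (by simp)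
  have : Fact (Even (Fintype.card (Fin 4))) := ⟨by decide⟩
  have hr := range_eq_commutator (QPlus_nondeg 3 F) (by simp) φ (fun _ => noTwoQuot_of_perfect hp)
    (fun _ => hp) neg_one_eq_one_SL
    (fun g hg => SL_eq_or_of_coe (eq_or_of_fix_alt4 fun a b c d e f => by
      rw [← klein_elim, ← hφ, hg]; rfl)) (by
      rw [card_O_QPlus rfl 2, card_SL_four rfl]
      simp [Finset.prod_range_succ]; ring)
  let ψ : specialLinear (Fin 4) F →* SL(4, F) :=
    { toFun := fun g => ⟨g.1.1, Units.ext_iff.1 g.2⟩, map_one' := rfl, map_mul' := fun _ _ => rfl }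
  have hψ : Function.Surjective ψ := fun g => ⟨⟨SpecialLinearGroup.toGL g, Units.ext g.2⟩, rfl⟩
  refine ⟨((Orth.O _).subtype.comp φ).comp ψ, (ofQuad_nondeg_iff _).2 (QPlus_nondeg 3 F), by simp,
    ?_, fun g v => hφ (ψ g) v, klein_injective, fun a b c d e f =>
      Submodule.subset_span ⟨_, klein_elim a b c d e f⟩⟩
  rw [← MonoidHom.map_range, MonoidHom.range_eq_top.2 hψ, ← MonoidHom.range_eq_map]
  exact range_eq_E ((ofQuad_nondeg_iff _).2 (QPlus_nondeg 3 F)) (by simp) hr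

section su

variable {K : Type*} [Field K] [Fintype K] {q : ℕ} (hK : Fintype.card K = q ^ 2)

/-- Conjugation as an algebra map over the fixed field. -/
def cjA : K →ₐ[SqField.fixedSubfield hK] K :=
  { (SqField.conj hK : K →+* K) with commutes' := fun c => c.2 }

theorem cjA_apply (x : K) : cjA hK x = x ^ q := rfl

theorem exists_kl_su : ∃ Q φ, (∀ v, (Q v : K) = ∑ i, v i * v i ^ q) ∧
    Kl (F := SqField.fixedSubfield hK) Q (GU 4 K q ⊓ specialLinear (Fin 4) K) (kleinU (cjA hK)) φ := by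
  have := Fintype.ofFinite (SqField.fixedSubfield hK)
  have hF : Fintype.card (SqField.fixedSubfield hK) = q := by
    rw [← Nat.card_eq_fintype_card, SqField.card_fixedSubfield]
  obtain ⟨b, hab⟩ := CL.QuadExt.exists_aniso (F := SqField.fixedSubfield hK)
  have hσ : ∀ x, cjA hK (cjA hK x) = x := CL.SqField.conj_conj hK
  obtain ⟨Q, hQ⟩ := exists_normForm (cjA hK) hσ (fun z hz => ⟨⟨z, hz⟩, rfl⟩) (Fin 3)
  obtain ⟨s, hs⟩ := CL.SqField.exists_trace_eq hK (μ := 1) (one_pow q)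
  have hnd := normForm_nondeg (cjA hK) hσ hs hQ
  have hq := CL.SqField.two_le hK
  have hdim : finrank (SqField.fixedSubfield hK) (Fin 3 → K) = 2 * 3 := by
    have h1 := Module.card_eq_pow_finrank (K := SqField.fixedSubfield hK) (V := K)
    rw [hF, hK] at h1
    rw [Module.finrank_pi_fintype, ← Nat.pow_right_injective hq h1]
    simp
  have hnp : ¬ IsPlus Q := fun hp => by
    obtain ⟨e, he⟩ := exists_isometry_QPlus hnd hdim hp
    have h1 := Cfsg.Agent.S0285.result hK 3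
    have h2 := Cfsg.Agent.S0289.result hF 3 (by norm_num)
    have h3 : Nat.card {v : Fin 3 ⊕ Fin 3 → SqField.fixedSubfield hK //
        Cfsg.quadFormPlus 3 _ v = 0} = Nat.card {v : Fin 3 → K // Cfsg.hermForm 3 K q v v = 0} := by
      refine Nat.card_congr (e.toEquiv.subtypeEquiv fun v => ?_)
      change QPlus 3 _ v = 0 ↔ ∑ i, e v i * cjA hK (e v i) = 0
      rw [← hQ, he, map_eq_zero (algebraMap _ K)]
    rw [h1, h2, if_neg (by decide)] at h3
    have h4 : 1 ≤ q ^ 2 := Nat.one_le_pow _ _ (by omega)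
    have h5 : q ^ 2 < q ^ 3 := Nat.pow_lt_pow_right (by omega) (by norm_num)
    norm_num at h3
    zify [h4, (by omega : q ^ 2 ≤ q ^ 5 + q ^ 3)] at h3 h5
    nlinarith
  obtain ⟨e, he⟩ := exists_isometry_QMinus hnd (m := 2) hdim hnp hab
  obtain ⟨φ, hφ⟩ := exists_hom_normForm (cjA hK) hσ hQ (Cfsg.SU 4 K q)
    fun g hg => transpose_mul_map_of_mem_SU hK hg
  have hp := CL.Uni.commutator_SU hK (n := 4) (by norm_num) (by omega)
  have : Fact (Even (Fintype.card (Fin 4))) := ⟨by decide⟩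
  let z : Cfsg.SU 4 K q := ⟨-1, fun u v => by
    change Cfsg.hermForm 4 K q ((-1 : Matrix _ _ K) *ᵥ u) ((-1 : Matrix _ _ K) *ᵥ v) = _
    simp [Cfsg.hermForm, neg_mulVec, CL.SqField.neg_pow_q hK]⟩
  obtain ⟨ω, hω⟩ := CL.SqField.exists_pow_q_ne hK
  have hr := range_eq_commutator hnd (by omega) φ (fun _ => noTwoQuot_of_perfect hp) (fun _ => hp)
    (z := z) (fun h2 => Subtype.ext (neg_one_eq_one_SL (congrArg Subtype.val h2)))
    (fun g hg => (SL_eq_or_of_coe (eq_or_of_fix_alt4 (fix_alt4_of_fix_kleinU (cjA hK) hω fun v => by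
      rw [← hφ, hg]; rfl))).imp Subtype.ext Subtype.ext) (by
      rw [← card_O_congr e he, card_O_QMinus hF hab 2]
      have h1 := CL.Uni.card_SU hK (n := 4) (by norm_num)
      refine Nat.eq_of_mul_eq_mul_left (Nat.succ_pos q) ?_
      rw [Nat.succ_eq_add_one, mul_left_comm (q + 1) 2, h1, CL.Uni.guOrder]
      simp [Finset.prod_range_succ, Nat.even_iff]; ring)
  let ψ : (GU 4 K q ⊓ specialLinear (Fin 4) K : Subgroup _) →* SU 4 K q :=
    { toFun := fun g => ⟨⟨g.1.1, Units.ext_iff.1 g.2.2⟩, g.2.1⟩, map_one' := rfl,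
      map_mul' := fun _ _ => rfl }
  have hψ : Function.Surjective ψ := fun g =>
    ⟨⟨SpecialLinearGroup.toGL g.1, g.2, Units.ext g.1.2⟩, rfl⟩
  refine ⟨Q, ((Orth.O _).subtype.comp φ).comp ψ, hQ, (ofQuad_nondeg_iff _).2 hnd, hdim,
    ?_, fun g v => hφ (ψ g) v, kleinU_injective _, fun a b c d e f => ?_⟩
  · rw [← MonoidHom.map_range, MonoidHom.range_eq_top.2 hψ, ← MonoidHom.range_eq_map]
    exact range_eq_E ((ofQuad_nondeg_iff _).2 hnd) (by omega) hr
  have h0 : cjA hK ω - ω ≠ 0 := sub_ne_zero.2 hω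
  have key : alt4 a b c d e f =
      ((a * cjA hK ω - f * ω) / (cjA hK ω - ω)) • kleinU (cjA hK) ![1, 0, 0] +
      ((f - a) / (cjA hK ω - ω)) • kleinU (cjA hK) ![ω, 0, 0] +
      ((b * cjA hK ω + e * ω) / (cjA hK ω - ω)) • kleinU (cjA hK) ![0, 1, 0] +
      ((-e - b) / (cjA hK ω - ω)) • kleinU (cjA hK) ![0, ω, 0] +
      ((c * cjA hK ω - d * ω) / (cjA hK ω - ω)) • kleinU (cjA hK) ![0, 0, 1] +
      ((d - c) / (cjA hK ω - ω)) • kleinU (cjA hK) ![0, 0, ω] := by
    simp only [kleinU_apply, alt4_smul, alt4_add]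
    congr 1 <;> simp <;> field_simp <;> ring
  rw [key]
  have k := fun (c : K) v => Submodule.smul_mem _ c
    (Submodule.subset_span (R := K) (s := Set.range (kleinU (cjA hK))) ⟨v, rfl⟩)
  exact add_mem (add_mem (add_mem (add_mem (add_mem (k _ _) (k _ _)) (k _ _)) (k _ _)) (k _ _)) (k _ _)

end su

section c6

open CL.Pauli

variable {K : Type*} [Field K]

/-- The exterior product of two vectors as an alternating matrix. -/
def wdg (x y : Fin 4 → K) : Matrix (Fin 4) (Fin 4) K := vecMulVec x y - vecMulVec y x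

theorem wdg_conj (g : Matrix (Fin 4) (Fin 4) K) (x y : Fin 4 → K) :
    g * wdg x y * gᵀ = wdg (g *ᵥ x) (g *ᵥ y) := by
  simp only [wdg, Matrix.mul_sub, Matrix.sub_mul, mul_vecMulVec, vecMulVec_mul, vecMul_transpose]

theorem wdg_smul (a b : K) (x y : Fin 4 → K) : wdg (a • x) (b • y) = (a * b) • wdg x y := by
  ext i j; simp [wdg, vecMulVec_apply]; ring

theorem wdg_swap (x y : Fin 4 → K) : wdg x y = -wdg y x := by simp [wdg]

theorem wdg_transpose (x y : Fin 4 → K) : (wdg x y)ᵀ = -wdg x y := by simp [wdg]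

theorem eq_alt4 {X : Matrix (Fin 4) (Fin 4) K} (h1 : Xᵀ = -X) (h2 : ∀ i, X i i = 0) :
    X = alt4 (X 0 1) (X 0 2) (X 0 3) (X 1 2) (X 1 3) (X 2 3) := by
  have h3 : ∀ r s, -X r s = X s r := fun r s => (congrFun (congrFun h1 r) s).symm
  ext i j; fin_cases i <;> fin_cases j <;> simp [alt4, h2, h3]

theorem eq_alt4' (h : (2 : K) ≠ 0) {X : Matrix (Fin 4) (Fin 4) K} (h1 : Xᵀ = -X) :
    X = alt4 (X 0 1) (X 0 2) (X 0 3) (X 1 2) (X 1 3) (X 2 3) :=
  eq_alt4 h1 fun i => mul_left_cancel₀ h (by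
    have : X i i = -X i i := congrFun (congrFun h1 i) i
    linear_combination this)

theorem exists_eigen {A B : Matrix (Fin 4) (Fin 4) K} (hA : A * A = 1) (hB : B * B = 1)
    (hAB : A * B = B * A) (h2 : (2 : K) ≠ 0) : ∃ v ≠ 0, ∃ α β : K, α * α = 1 ∧ β * β = 1 ∧
      A *ᵥ v = α • v ∧ B *ᵥ v = β • v := by
  have k : ∀ (C : Matrix (Fin 4) (Fin 4) K) (u : Fin 4 → K), C * C = 1 → u ≠ 0 →
      ∃ γ : K, γ * γ = 1 ∧ u + γ • C *ᵥ u ≠ 0 ∧ C *ᵥ (u + γ • C *ᵥ u) = γ • (u + γ • C *ᵥ u) := by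
    intro C u hC hu
    have k : ∀ γ : K, γ * γ = 1 → C *ᵥ (u + γ • C *ᵥ u) = γ • (u + γ • C *ᵥ u) := fun γ hγ => by
      rw [mulVec_add, mulVec_smul, mulVec_mulVec, hC, one_mulVec, smul_add, smul_smul, hγ, one_smul,
        add_comm]
    by_cases h : u + (1 : K) • C *ᵥ u = 0
    · refine ⟨-1, by simp, fun h' => hu (smul_right_injective _ h2 ?_), k _ (by simp)⟩
      simp only
      linear_combination (norm := module) h + h'
    · exact ⟨1, by simp, h, k _ (by simp)⟩
  obtain ⟨α, hα, h3, h4⟩ := k A (Pi.single 0 1) hA (by simp)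
  obtain ⟨β, hβ, h5, h6⟩ := k B _ hB h3
  refine ⟨_, h5, α, β, hα, hβ, ?_, h6⟩
  rw [mulVec_add, mulVec_smul, mulVec_mulVec, hAB, ← mulVec_mulVec, h4, mulVec_smul, smul_comm,
    ← smul_add]

theorem exists_J4 (h2 : (2 : K) ≠ 0) {i : K} (hi : i * i = -1) {a b c d : Matrix (Fin 4) (Fin 4) K}
    (ha : a * a = 1) (hb : b * b = 1) (hc : c * c = 1) (hd : d * d = 1) (ab : b * a = -(a * b))
    (ac : c * a = -(a * c)) (ad : d * a = -(a * d)) (bc : c * b = -(b * c)) (bd : d * b = -(b * d))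
    (cd : d * c = -(c * d)) : ∃ J : Matrix (Fin 4) (Fin 4) K, J ≠ 0 ∧ Jᵀ = -J ∧ a * J * aᵀ = J ∧
      b * J * bᵀ = J ∧ c * J * cᵀ = J ∧ d * J * dᵀ = J := by
  have sq : ∀ {x : Matrix (Fin 4) (Fin 4) K}, x * x = 1 → ∀ u, x *ᵥ (x *ᵥ u) = u := fun h u => by
    rw [mulVec_mulVec, h, one_mulVec]
  have an : ∀ {x y : Matrix (Fin 4) (Fin 4) K}, x * y = -(y * x) → ∀ u,
      x *ᵥ (y *ᵥ u) = -(y *ᵥ (x *ᵥ u)) := fun h u => by
    rw [mulVec_mulVec, h, neg_mulVec, mulVec_mulVec]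
  obtain ⟨v, v0, α, β, hα, hβ, h3, h4⟩ := exists_eigen (A := i • (a * b)) (B := i • (c * d))
    (by simp [smul_smul, hi, Matrix.mul_assoc, anti_assoc ab, sq_assoc ha, ha, hb])
    (by simp [smul_smul, hi, Matrix.mul_assoc, anti_assoc cd, sq_assoc hc, hc, hd])
    (by simp [Matrix.mul_assoc, anti_assoc ac, anti_assoc ad, anti_assoc bc, bd]) h2
  have h5 : b *ᵥ v = (-α * i) • a *ᵥ v := by
    have := congrArg (fun u => (-i) • a *ᵥ u) h3
    simp only [smul_mulVec, mulVec_smul, ← mulVec_mulVec, sq ha, smul_smul, neg_mul, hi] at this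
    simpa [mul_comm] using this
  have h6 : d *ᵥ v = (-β * i) • c *ᵥ v := by
    have := congrArg (fun u => (-i) • c *ᵥ u) h4
    simp only [smul_mulVec, mulVec_smul, ← mulVec_mulVec, sq hc, smul_smul, neg_mul, hi] at this
    simpa [mul_comm] using this
  have m1 : -α * i * (-α * i) = -1 := by linear_combination hi + i * i * hα
  have m2 : -β * i * (-β * i) = -1 := by linear_combination hi + i * i * hβ
  generalize -α * i = μ at h5 m1
  generalize -β * i = ν at h6 m2
  have ng : ∀ x y : Fin 4 → K, wdg (-x) y = -wdg x y ∧ wdg x (-y) = -wdg x y := fun x y => by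
    simp [wdg, neg_vecMulVec, vecMulVec_neg, add_comm, sub_eq_add_neg]
  have h7 : b *ᵥ (c *ᵥ v) = μ • a *ᵥ (c *ᵥ v) := by
    rw [← neg_neg (b *ᵥ _), ← an bc, h5, mulVec_smul, an ac, smul_neg, neg_neg]
  refine ⟨wdg v (a *ᵥ (c *ᵥ v)) + wdg (a *ᵥ v) (c *ᵥ v), fun e => v0 ?_, by
    simp [wdg_transpose, add_comm], ?_, ?_, ?_, ?_⟩
  · have k1 := congrArg (fun X => (1 - μ • (a * b)) * ((1 - ν • (c * d)) * X)) e
    simp only [wdg, Matrix.mul_add, Matrix.mul_sub, mul_vecMulVec, sub_mulVec, one_mulVec,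
      smul_mulVec, ← mulVec_mulVec, an ac, an ad, an ab, an bc, an bd, an cd, h5, h6, mulVec_smul,
      mulVec_neg, mulVec_sub, sq ha, sq hc, smul_smul, m1, m2, smul_neg, neg_neg, neg_smul, one_smul,
      sub_neg_eq_add, sub_self, mulVec_zero, smul_zero, Matrix.mul_zero, mulVec_add, smul_add] at k1
    simp only [add_zero, zero_vecMulVec, sub_zero, vecMulVec_eq_zero] at k1
    rcases k1 with k1 | k1
    · exact smul_right_injective _ (mul_ne_zero h2 h2) (by
        simp only; linear_combination (norm := module) k1)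
    · rw [← sq hc v, ← sq ha (c *ᵥ v), k1, mulVec_zero, mulVec_zero]
  all_goals simp only [Matrix.mul_add, Matrix.add_mul, wdg_conj, an ac, an ad, an ab, an bc, an bd,
    an cd, h5, h6, h7, mulVec_smul, mulVec_neg, sq ha, sq hc, wdg_smul, m1, m2, smul_neg, neg_neg, ng,
    neg_smul, one_smul]
  · exact add_comm _ _
  · exact add_comm _ _
  · rw [← wdg_swap, ← wdg_swap, add_comm]
  · rw [← wdg_swap, ← wdg_swap, add_comm]

section fr

variable [Finite K] {R : Subgroup (GL (Fin 4) K)} (h : Pau R) {γ : Fin 5 → GL (Fin 4) K}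
  (hγ : Pauli.Fr R γ)
include h hγ

omit hγ in
theorem exists_j4 (hZ : Nat.card (Zc R) = 4) : ∃ j ∈ R, Sc j ∧ j * j = -1 := by
  by_contra h1
  have h2 : Zc R ≤ Subgroup.zpowers (-1) := fun z hz => by
    obtain ⟨h2, c, h3⟩ := h.mem_Zc.1 hz
    have h4 := (h.sq h2).resolve_right fun h4 => h1 ⟨z, h2, ⟨c, h3⟩, h4⟩
    have h5 : c * c = 1 := smul_one_inj' (ι := Fin 4) (by
      simpa [h3, smul_smul] using congrArg Units.val h4)
    rcases mul_self_eq_one_iff.1 h5 with rfl | rfl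
    · rw [show z = 1 from Units.ext (by simpa using h3)]; exact one_mem _
    · rw [show z = -1 from Units.ext (by simpa using h3)]; exact Subgroup.mem_zpowers _
  have h3 := Subgroup.card_le_of_le h2
  have h4 := Nat.le_of_dvd two_pos (orderOf_dvd_of_pow_eq_one (x := (-1 : GL (Fin 4) K)) (by simp))
  rw [Nat.card_zpowers] at h3
  omega

theorem prod_fr : ∃ c : K, c * c = 1 ∧ (γ 0 * γ 1 * γ 2 * γ 3 * γ 4).1 = c • 1 := by
  have a := fun i j (hij : j < i) => hγ.anti i j hij.ne'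
  have b := fun i j (hij : j < i) => anti_assoc (a i j hij)
  have s := fun i => sq_assoc (hγ.sq i)
  obtain ⟨c, hc⟩ := h.sc_of (x := γ 0 * γ 1 * γ 2 * γ 3 * γ 4) fun r hr =>
    (Subgroup.mem_centralizer_singleton_iff.1 (le_of_fr h hγ (fun i =>
      Subgroup.mem_centralizer_singleton_iff.2 (by
        fin_cases i <;> simp [mul_assoc, a, b, s, hγ.sq])) (fun z _ hz =>
      Subgroup.mem_centralizer_singleton_iff.2 (hz.comm _)) hr)).symm
  refine ⟨c, smul_one_inj' (ι := Fin 4) ?_, hc⟩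
  have : γ 0 * γ 1 * γ 2 * γ 3 * γ 4 * (γ 0 * γ 1 * γ 2 * γ 3 * γ 4) = 1 := by
    simp [mul_assoc, a, b, s, hγ.sq]
  have := congrArg Units.val this
  rw [Units.val_mul, hc] at this
  simpa [smul_smul] using this

theorem exists_J5 {i : K} (hi : i * i = -1) : ∃ J : Matrix (Fin 4) (Fin 4) K, J ≠ 0 ∧ Jᵀ = -J ∧
    ∀ b, (γ b).1 * J * (γ b).1ᵀ = J := by
  have s : ∀ i, (γ i).1 * (γ i).1 = 1 := fun i => congrArg Units.val (hγ.sq i)
  have a : ∀ i j, i ≠ j → (γ i).1 * (γ j).1 = -((γ j).1 * (γ i).1) := fun i j hij =>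
    congrArg Units.val (hγ.anti i j hij)
  obtain ⟨J, h0, h1, h2, h3, h4, h5⟩ := exists_J4 h.two hi (s 0) (s 1) (s 2) (s 3)
    (a 1 0 (by decide)) (a 2 0 (by decide)) (a 3 0 (by decide)) (a 2 1 (by decide))
    (a 3 1 (by decide)) (a 3 2 (by decide))
  obtain ⟨c, hc, hz⟩ := prod_fr h hγ
  have h6 : (γ 4).1 = c • ((γ 3).1 * ((γ 2).1 * ((γ 1).1 * (γ 0).1))) := by
    have := congrArg (fun X => (γ 3).1 * ((γ 2).1 * ((γ 1).1 * ((γ 0).1 * X)))) hz
    simpa [Matrix.mul_assoc, sq_assoc (s _)] using this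
  refine ⟨J, h0, h1, fun b => ?_⟩
  fin_cases b
  exacts [h2, h3, h4, h5, by
    simp only [Fin.reduceFinMk, h6, transpose_smul, Matrix.smul_mul, Matrix.mul_smul, smul_smul, hc,
      one_smul, transpose_mul]
    conv_rhs => rw [← h5, ← h4, ← h3, ← h2]
    simp only [Matrix.mul_assoc]]

theorem le_SL_of_fr : R ≤ specialLinear (Fin 4) K := by
  have s : ∀ i, (γ i).1 * (γ i).1 = 1 := fun i => congrArg Units.val (hγ.sq i)
  have a : ∀ i, (γ i).1.det = (γ 0).1.det := fun i => by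
    by_cases hi : i = 0
    · rw [hi]
    have h1 : (γ i).1 * (γ 0).1 = -((γ 0).1 * (γ i).1) := congrArg Units.val (hγ.anti i 0 hi)
    have h2 : ((γ i).1 + (γ 0).1) * ((γ i).1 + (γ 0).1) = (2 : K) • 1 := by
      simp [Matrix.add_mul, Matrix.mul_add, s, h1, two_smul]
    have h3 : ((γ i).1 + (γ 0).1) * (γ i).1 = (γ 0).1 * ((γ i).1 + (γ 0).1) := by
      simp [Matrix.add_mul, Matrix.mul_add, s, add_comm]
    have h4 := congrArg det h2
    have h5 := congrArg det h3
    rw [det_mul, det_smul, det_one, mul_one] at h4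
    rw [det_mul, det_mul, mul_comm (γ 0).1.det] at h5
    exact mul_left_cancel₀ (left_ne_zero_of_mul (h4 ▸ pow_ne_zero _ h.two)) h5
  obtain ⟨c, hc, hz⟩ := prod_fr h hγ
  have h1 := congrArg det hz
  have h2 := congrArg det (s 0)
  simp only [Units.val_mul, det_mul, a 1, a 2, a 3, a 4, det_smul, det_one, Fintype.card_fin] at h1 h2
  refine le_of_fr h hγ (fun i => Asch.mem_specialLinear.2 ?_) fun z hz ⟨d, hd⟩ =>
    Asch.mem_specialLinear.2 ?_
  · rw [a]
    linear_combination h1 - (γ 0).1.det * ((γ 0).1.det ^ 2 + 1) * h2 + (c ^ 2 + 1) * hc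
  · have := congrArg Units.val (h.pow4 z hz)
    rw [Units.val_pow_eq_pow_val, hd, _root_.smul_pow, one_pow] at this
    rw [hd, det_smul, det_one, mul_one, Fintype.card_fin]
    exact smul_one_inj' (ι := Fin 4) (by simpa using this)

end fr

variable {F V : Type*} [Field F] [Algebra F K] [AddCommGroup V] [Module F V]
  {Q : QuadraticForm F V} {L : Subgroup (GL (Fin 4) K)} {κ : V →ₗ[F] Matrix (Fin 4) (Fin 4) K}
  {φ : L →* (V ≃ₗ[F] V)} (h : Kl Q L κ φ)
include h

theorem Kl.ker {g : L} (hg : φ g = 1) : g.1 = 1 ∨ g.1 = -1 := by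
  refine (eq_or_of_fix_alt4 (g := g.1.1) fun a b c d e f => ?_).imp Units.ext Units.ext
  have := h.span a b c d e f
  generalize alt4 a b c d e f = X at this
  induction this using Submodule.span_induction with
  | mem x hx => obtain ⟨v, rfl⟩ := hx; rw [← h.act, hg]; rfl
  | zero => simp
  | add x y _ _ hx hy => rw [Matrix.mul_add, Matrix.add_mul, hx, hy]
  | smul a x _ hx => rw [Matrix.mul_smul, Matrix.smul_mul, hx]

theorem Kl.exists_eig (h2 : (2 : K) ≠ 0) {n : ℕ} {g : Fin n → L}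
    (hc : ∀ a b, φ (g a) * φ (g b) = φ (g b) * φ (g a)) (hs : ∀ a, φ (g a) * φ (g a) = 1)
    {ε : Fin n → F} (hε : ∀ a, ε a * ε a = 1) {X : Matrix (Fin 4) (Fin 4) K} (hX : Xᵀ = -X)
    (X0 : X ≠ 0) (hg : ∀ a, (g a).1.1 * X * (g a).1.1ᵀ = ε a • X) :
    ∃ v ≠ 0, ∀ a, φ (g a) v = ε a • v := by
  have k : ∀ s : Finset (Fin n), X ∈ Submodule.span K (κ '' {v | ∀ a ∈ s, φ (g a) v = ε a • v}) := by
    intro s
    induction s using Finset.induction_on with
    | empty => rw [eq_alt4' h2 hX]; simpa using h.span _ _ _ _ _ _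
    | insert a s ha ih =>
      have k1 : ∀ Y ∈ Submodule.span K (κ '' {v | ∀ a ∈ s, φ (g a) v = ε a • v}),
          Y + ε a • ((g a).1.1 * Y * (g a).1.1ᵀ) ∈
            Submodule.span K (κ '' {v | ∀ b ∈ insert a s, φ (g b) v = ε b • v}) := fun Y hY => by
        induction hY using Submodule.span_induction with
        | mem x hx =>
          obtain ⟨v, hv, rfl⟩ := hx
          refine Submodule.subset_span ⟨v + ε a • φ (g a) v, fun b hb => ?_, by simp [h.act]⟩
          rw [map_add, map_smul, ← LinearEquiv.mul_apply]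
          rcases Finset.mem_insert.1 hb with rfl | hb
          · rw [hs, smul_add, smul_smul, hε, one_smul, add_comm]; rfl
          · rw [hc, LinearEquiv.mul_apply, hv b hb, map_smul, smul_add, smul_comm]
        | zero => simp
        | add x y _ _ hx hy =>
          convert add_mem hx hy using 1
          rw [Matrix.mul_add, Matrix.add_mul, smul_add]; abel
        | smul c x _ hx =>
          convert Submodule.smul_mem _ c hx using 1
          rw [Matrix.mul_smul, Matrix.smul_mul, smul_add, smul_comm]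
      have := k1 X ih
      rw [hg, smul_smul, hε, one_smul, ← two_smul K] at this
      exact (Submodule.smul_mem_iff _ h2).1 this
  by_contra! H
  refine X0 ((Submodule.span_eq_bot.2 ?_).le (k Finset.univ))
  rintro _ ⟨v, hv, rfl⟩
  by_contra h0
  obtain ⟨a, ha⟩ := H v fun e => h0 (by rw [e, map_zero])
  exact ha (hv a (Finset.mem_univ a))

theorem Kl.c6 [Finite F] [Finite K] [FiniteDimensional F V] (hp : (Nat.card F).Prime)
    {R : Subgroup (GL (Fin 4) K)} (hR : Pau R) (hZ : Nat.card (Zc R) = 4) (hRL : R ≤ L)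
    (hne : ¬ L ≤ subgroupNormalizer R) : IsMaximalIn L (subgroupNormalizer R ⊓ L) := by
  obtain ⟨j, hj, ⟨i, hi⟩, hjj⟩ := exists_j4 hR hZ
  obtain ⟨γ, hγ⟩ := hR.exists_fr (Or.inl ⟨j, hj, ⟨i, hi⟩, hjj⟩)
  have hii : i * i = -1 := smul_one_inj' (ι := Fin 4) (by
    simpa [hi, smul_smul] using congrArg Units.val hjj)
  have h2 : (2 : F) ≠ 0 := fun e => hR.two (by rw [← map_ofNat (algebraMap F K), e, map_zero])
  obtain ⟨J, J0, hJ, hJ'⟩ := exists_J5 hR hγ hii
  have s : ∀ i, (γ i).1 * (γ i).1 = 1 := fun i => congrArg Units.val (hγ.sq i)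
  let g : Fin 5 → L := fun b => ⟨γ b, hRL (hγ.mem b)⟩
  let ε : Fin 6 → Fin 5 → F := fun c b => if c = 0 ∨ c = b.succ then 1 else -1
  have hε : ∀ c b, ε c b * ε c b = 1 := fun c b => by simp only [ε]; split_ifs <;> simp
  have hε' : ∀ c d, c ≠ d → ∃ b, ε c b * ε d b = -1 := fun c d hcd => by
    obtain ⟨b, hb⟩ := (by decide : ∀ c d : Fin 6, c ≠ d → ∃ b : Fin 5,
      ¬ ((c = 0 ∨ c = b.succ) ↔ (d = 0 ∨ d = b.succ))) c d hcd
    refine ⟨b, ?_⟩
    simp only [ε]
    split_ifs <;> simp_all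
  have hneg : ∀ v, φ ⟨j, hRL hj⟩ v = -v := fun v => h.inj (by simp [h.act, hi, smul_smul, hii])
  have hT : ∀ a, φ (g a) * φ (g a) = 1 := fun a => by
    rw [← map_mul, ← map_one φ]; exact congrArg φ (Subtype.ext (hγ.sq a))
  have hw : ∀ c, ∃ v ≠ 0, ∀ a, φ (g a) v = ε c a • v := fun c => by
    refine h.exists_eig hR.two (fun a b => LinearEquiv.ext fun v => h.inj ?_) hT (hε c)
      (X := Fin.cases J (fun b => (γ b).1 * J) c) ?_ ?_ fun a => ?_
    · by_cases hab : a = b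
      · rw [hab]
      have h1 : (γ a).1 * (γ b).1 = -((γ b).1 * (γ a).1) := congrArg Units.val (hγ.anti a b hab)
      simp [← map_mul, h.act, g, h1]
    · refine Fin.cases hJ (fun b => ?_) c
      simp only [Fin.cases_succ, transpose_mul, hJ]
      conv_rhs => rw [← hJ' b]
      simp [← Matrix.mul_assoc, s]
    · refine Fin.cases J0 (fun b e => J0 ?_) c
      rw [← Matrix.one_mul J, ← s b, Matrix.mul_assoc, show (γ b).1 * J = 0 from e, Matrix.mul_zero]
    · refine Fin.cases (by simpa [ε] using hJ' a) (fun b => ?_) c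
      by_cases hab : b = a
      · simp [ε, g, hab, Matrix.mul_assoc, ← Matrix.mul_assoc (γ a).1 J, hJ']
      · have h1 : (γ a).1 * (γ b).1 = -((γ b).1 * (γ a).1) :=
          congrArg Units.val (hγ.anti a b (Ne.symm hab))
        simp [ε, g, hab, Matrix.mul_assoc, anti_assoc h1, ← Matrix.mul_assoc (γ a).1 J, hJ']
  choose w w0 hw using hw
  have hE : ∀ g, φ g ∈ (ofQuad Q).E := fun g => h.range.le ⟨g, rfl⟩
  have ho : ∀ c d, c ≠ d → (ofQuad Q).B (w c) (w d) = 0 := fun c d hcd => by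
    obtain ⟨b, hb⟩ := hε' c d hcd
    have := mem_O_B (E_le_O (hE (g b))) (w c) (w d)
    rw [hw, hw, qB_smul_left, B_smul_right, ← mul_assoc, hb] at this
    exact mul_left_cancel₀ h2 (by linear_combination -this)
  have ht : Submodule.span F (Set.range w) = ⊤ := by
    refine LinearIndependent.span_eq_top_of_card_eq_finrank
      (Fintype.linearIndependent_iff.2 fun a ha c => ?_) (by simp [h.dim])
    have k : ∀ s : Finset (Fin 5), ∑ d, (a d * ∏ b ∈ s, (1 + ε c b * ε d b)) • w d = 0 := fun s => by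
      induction s using Finset.induction_on with
      | empty => simpa using ha
      | insert b s hb ih =>
        have := congrArg (fun v => v + ε c b • φ (g b) v) ih
        simp only [map_sum, map_smul, hw, Finset.smul_sum, ← Finset.sum_add_distrib, map_zero,
          smul_zero, add_zero] at this
        rw [← this]
        refine Finset.sum_congr rfl fun d _ => ?_
        rw [Finset.prod_insert hb]
        module
    have := k Finset.univ
    rw [Finset.sum_eq_single c (fun d _ hd => by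
      obtain ⟨b, hb⟩ := hε' c d hd.symm
      rw [Finset.prod_eq_zero (Finset.mem_univ b) (by simp [hb]), mul_zero, zero_smul]) (by simp)]
      at this
    simpa [hε, w0, one_add_one_eq_two, h2] using this
  have hq : ∀ c, (ofQuad Q).q (w c) ≠ 0 := fun c e => w0 c (h.nd _ fun y => by
    have : (ofQuad Q).B (w c) = 0 := LinearMap.ext_on_range ht fun d => by
      by_cases hcd : c = d
      · rw [← hcd, qB_self, e, mul_zero]; rfl
      · exact ho c d hcd
    rw [this]; rfl)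
  have h8 : ∀ b, φ (⟨j, hRL hj⟩ * g b) = (ofQuad Q).rf (w 0) * (ofQuad Q).rf (w b.succ) := fun b => by
    refine LinearEquiv.toLinearMap_injective (LinearMap.ext_on_range ht fun d => ?_)
    rw [map_mul, LinearEquiv.coe_coe, LinearEquiv.coe_coe, LinearEquiv.mul_apply,
      LinearEquiv.mul_apply, hneg, hw]
    by_cases h0 : d = 0
    · simp [ε, h0, rf_of_perp (ho _ _ b.succ_ne_zero), rf_self (hq 0)]
    by_cases h1 : d = b.succ
    · simp [ε, h1, rf_of_perp (ho _ _ b.succ_ne_zero.symm), rf_self (hq _)]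
    · simp [ε, h0, h1, rf_of_perp (ho _ _ (Ne.symm h0)), rf_of_perp (ho _ _ (Ne.symm h1))]
  have hS : ∀ c, (ofQuad Q).rf (w 0) * (ofQuad Q).rf (w c) ∈ (R.subgroupOf L).map φ := fun c =>
    Fin.cases (by rw [rf_mul_self]; exact one_mem _) (fun b => ⟨⟨j, hRL hj⟩ * g b,
      R.mul_mem hj (hγ.mem b), h8 b⟩) c
  have h5 : 5 ≤ finrank F V := by rw [h.dim]; omega
  choose t t0 ht' using fun c => exists_smul_q_eq (hq c) (hq 0) (by
    have hQ := FGL.toQuad_nondeg h.nd
    obtain ⟨x, -, hx⟩ := hS c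
    have := ((h.nd.mem_E_iff_dsign h5 (Orth.refl (ofQuad Q).toQuad (w 0) *
      Orth.refl (ofQuad Q).toQuad (w c))).1 
        (show (ofQuad Q).rf (w 0) * (ofQuad Q).rf (w c) ∈ _ from hx ▸ hE x)).2
    rw [Orth.spin_refl_mul hQ _ (hq 0), Orth.spin_refl hQ (hq c), toQuad_apply, toQuad_apply] at this
    rw [← mul_one (sqSign _), ← this, mul_left_comm, Int.units_mul_self, mul_one])
  have hfr : (ofQuad Q).Fr (fun c => t c • w c) (2 * (ofQuad Q).q (w 0)) :=
    fr_of_orth rfl (mul_ne_zero h2 (hq 0)) rfl (fun c => by rw [qB_self, ht'])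
      (fun c d hcd => by rw [qB_smul_left, B_smul_right, ho c d hcd, mul_zero, mul_zero])
      (by simp [h.dim])
  refine transfer φ h.range (S := dstab (ln F fun c => t c • w c))
    (fun x hx => mem_normalizer_of_fr hR hγ fun b => ?_) hne
    fun M h6 h7 x hx hx' => hfr.quad_E_le_six hp h6 (h7.trans E_le_O) fun e => hx' (e hx)
  have k : ∀ c, ∃ d, φ x * (ofQuad Q).rf (w c) * (φ x)⁻¹ = (ofQuad Q).rf (w d) := fun c => by
    obtain ⟨d, a, ha⟩ := hfr.mem_dstab_iff.1 hx c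
    exact ⟨d, by rw [← rf_smul (t0 c), rf_conj (E_le_O (hE x)), ha,
      rf_smul fun e => hfr.ne_zero c (by simpa [e] using ha), rf_smul (t0 d)]⟩
  obtain ⟨c, hc⟩ := k 0
  obtain ⟨d, hd⟩ := k b.succ
  obtain ⟨y, hy, hy'⟩ := mul_mem (inv_mem (hS c)) (hS d)
  have h9 : φ (y⁻¹ * (x * (⟨j, hRL hj⟩ * g b) * x⁻¹)) = 1 := by
    rw [_root_.mul_inv_rev, rf_inv, rf_inv, mul_assoc, ← mul_assoc ((ofQuad Q).rf (w 0)),
      rf_mul_self, one_mul] at hy'
    rw [map_mul, map_mul, map_mul, h8, map_inv, map_inv, hy', ← hc, ← hd]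
    group
  have h11 : (y⁻¹ * (x * (⟨j, hRL hj⟩ * g b) * x⁻¹)).1 ∈ R :=
    (h.ker h9).elim (fun e => e ▸ R.one_mem) fun e => e ▸ hR.neg_one_mem
  have h10 : x.1 * (j * γ b) * x.1⁻¹ ∈ R := (R.mul_mem_cancel_left (R.inv_mem hy)).1 h11
  rwa [← mul_assoc, ← Sc.comm ⟨i, hi⟩, mul_assoc, mul_assoc, R.mul_mem_cancel_left hj,
    ← mul_assoc] at h10

end c6

theorem sl4_c6 {F : Type*} [Field F] [Fintype F] (hp : (Fintype.card F).Prime)
    (h4 : Fintype.card F % 4 = 1) {R : Subgroup (GL (Fin 4) F)}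
    (hR : IsLinearSymplecticTypeData 2 R) :
    IsMaximalIn (specialLinear (Fin 4) F) (subgroupNormalizer R ⊓ specialLinear (Fin 4) F) := by
  have h2 : (2 : F) ≠ 0 := FGL.two_ne_zero_of_odd (Nat.odd_iff.2 (by omega))
  have hZ : Nat.card (Subgroup.center R) = 4 := by
    obtain ⟨_, _, -, -, h | h | h⟩ := hR.field
    · exact absurd h.1 (by decide)
    · exact h.2.2.1
    · simp at h
  have : Nontrivial R := Finite.one_lt_card_iff_nontrivial.1
    (lt_of_lt_of_le (by omega) (Subgroup.card_le_card_group (Subgroup.center R)))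
  have ht := alg_eq_top4 hR.absIrred
  have hc := comm_le_scalars hR.symplecticType hR.absIrred
  have h := Pauli.pau_of h2 (by simp) hR.symplecticType hR.absIrred (by
    rw [Asch.card_eq_center_mul ht hc, mul_comm]; rfl)
  rw [Pauli.card_center_eq] at hZ
  obtain ⟨γ, hγ⟩ := h.exists_fr (Or.inl (exists_j4 h hZ))
  obtain ⟨φ, hφ⟩ := exists_kl_sl F
  have := hp.two_le
  exact hφ.c6 (by rwa [Nat.card_eq_fintype_card]) h hZ (le_SL_of_fr h hγ)
    (Asch.not_sl_le_normalizer (by simp) (by omega) ht hc)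

theorem su4_c6 {K : Type*} [Field K] [Fintype K] {q : ℕ} (hK : Fintype.card K = q ^ 2)
    (hp : q.Prime) (h4 : q % 4 = 3) {R : Subgroup (GL (Fin 4) K)} (hs : IsSymplecticTypeGroup 2 R)
    (hi : ActsAbsolutelyIrreducibly (matrixSet R)) (hR : R ≤ GU 4 K q) (hc : Nat.card R = 64)
    (hZ : Nat.card (Subgroup.center R) = 4) : IsMaximalIn (GU 4 K q ⊓ specialLinear (Fin 4) K)
      (subgroupNormalizer R ⊓ (GU 4 K q ⊓ specialLinear (Fin 4) K)) := by
  have h2 : (2 : K) ≠ 0 := FGL.two_ne_zero_of_odd (hK ▸ (Nat.odd_iff.2 (by omega)).pow)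
  have h := Pauli.pau_of h2 (by simp) hs hi (by rw [hc, hZ])
  rw [Pauli.card_center_eq] at hZ
  obtain ⟨γ, hγ⟩ := h.exists_fr (Or.inl (exists_j4 h hZ))
  obtain ⟨Q, φ, -, hφ⟩ := exists_kl_su hK
  refine hφ.c6 (by rwa [SqField.card_fixedSubfield]) h hZ (le_inf hR (le_SL_of_fr h hγ)) ?_
  rw [Asch.GU_eq hK] at hR ⊢
  exact (Asch.amb_su hK (fun _ => rfl) (by simp) (by simp) (Asch.herm_sig hK)).not_le_normalizer hR
    (not_le_scalars h hγ) (commutator_le_scalars h)

end CL.Four
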