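/-
Two opposite unipotent subgroups of a subgroup of `PGL₂(F)`, `F` finite (from Dickson's theorem).
-/
import Cfsg.Agent.S0801

set_option autoImplicit false

namespace CL.MH

open CL.Dk CL.PGL2 Matrix
open scoped MatrixGroups

variable {F : Type*} [Field F]

theorem low_mul (a b : F) : low a * low b = low (a + b) := by
  rw [low, low, ofMat_mul, low]
  congr 1
  ext i j; fin_cases i <;> fin_cases j <;> simp [mul_apply, Fin.sum_univ_two, add_comm]

theorem low_eq_one_iff {a : F} : low a = 1 ↔ a = 0 := by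
  rw [low, ofMat_eq_one_iff]; simp

theorem low_zero : low (0 : F) = 1 := low_eq_one_iff.2 rfl

theorem low_inv (a : F) : (low a)⁻¹ = low (-a) := by
  rw [inv_eq_iff_mul_eq_one, low_mul, add_neg_cancel, low_zero]

theorem low_smul_pt_zero (a : F) : low a • pt (0 : F) = pt 0 := by
  rw [low, ofMat_smul_pt_eq_pt]; simp

theorem low_mem_unipAt (a : F) : low a ∈ unipAt (pt (0 : F)) := by
  refine ⟨low_smul_pt_zero a, fun y hy => ?_⟩
  rcases eq_inf_or_pt y with rfl | ⟨t, rfl⟩
  · exact Or.inr (low_eq_one_iff.2 ((low_smul_inf_iff a).1 hy))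
  · rw [low, ofMat_smul_pt_eq_pt] at hy
    simp only [of_apply, cons_val', cons_val_zero, cons_val_one, cons_val_fin_one] at hy
    have : a * t ^ 2 = 0 := by linear_combination -hy
    rcases mul_eq_zero.1 this with h | h
    · exact Or.inr (low_eq_one_iff.2 h)
    · exact Or.inl (by rw [pow_eq_zero_iff two_ne_zero] at h; rw [h])

theorem aff_one_mul (a b : F) : aff 1 a * aff 1 b = aff (1 : Fˣ) (a + b) := by
  rw [aff_mul]; simp [add_comm]

theorem aff_mem_unipAt (a : F) : aff 1 a ∈ unipAt (inf : P1 F) := mem_unipAt_inf.2 ⟨a, rfl⟩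

theorem aff_one_eq_one_iff {a : F} : aff (1 : Fˣ) a = 1 ↔ a = 0 := by
  rw [aff_eq_one_iff]; simp

/-- the fixed points of `x ↦ x ^ 3` in characteristic three -/
def primeThree (F : Type*) [Field F] (h3 : (3 : F) = 0) : Subfield F where
  carrier := {x | x ^ 3 = x}
  mul_mem' {a b} ha hb := by
    simp only [Set.mem_ofPred_eq] at *
    rw [mul_pow, ha, hb]
  one_mem' := by simp
  add_mem' {a b} ha hb := by
    simp only [Set.mem_ofPred_eq] at *
    linear_combination ha + hb + (a ^ 2 * b + a * b ^ 2) * h3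
  zero_mem' := by simp
  neg_mem' {a} ha := by
    simp only [Set.mem_ofPred_eq] at *
    linear_combination -ha
  inv_mem' a ha := by
    simp only [Set.mem_ofPred_eq] at *
    rw [inv_pow, ha]

theorem mem_primeThree {h3 : (3 : F) = 0} {x : F} : x ∈ primeThree F h3 ↔ x ^ 3 = x := Iff.rfl

theorem cube_eq_self_iff {x : F} : x ^ 3 = x ↔ x = 0 ∨ x = 1 ∨ x = -1 := by
  constructor
  · intro h
    have : x * ((x - 1) * (x + 1)) = 0 := by linear_combination h
    rcases mul_eq_zero.1 this with h | h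
    · exact Or.inl h
    · rcases mul_eq_zero.1 h with h | h
      · exact Or.inr (Or.inl (sub_eq_zero.1 h))
      · exact Or.inr (Or.inr (eq_neg_of_add_eq_zero_left h))
  · rintro (rfl | rfl | rfl) <;> ring

/-- an additive family of elements of order three inside a group of order sixty -/
theorem mem_three_of_card {G : Type*} [Group G] {H : Subgroup G} (hH : Nat.card H = 60)
    (h3 : (3 : F) = 0) (f : F → G) (hf : ∀ a b, f a * f b = f (a + b))
    (hf0 : ∀ a, f a = 1 → a = 0) {a b : F} (ha : a ≠ 0) (h1 : f a ∈ H) (h2 : f b ∈ H) :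
    b = 0 ∨ b = a ∨ b = -a := by
  by_contra hb
  push Not at hb
  have f0 : f 0 = 1 := by
    have := hf 0 0
    rw [add_zero] at this
    exact mul_eq_left.1 this
  have fpow : ∀ (c : F) (n : ℕ), f c ^ n = f (n * c) := by
    intro c n
    induction n with
    | zero => simp [f0]
    | succ n ih => rw [pow_succ, ih, hf]; congr 1; push_cast; ring
  let φ : Multiplicative (ZMod 3 × ZMod 3) →* H := MonoidHom.mk'
    (fun x => ⟨f (x.toAdd.1.val * a + x.toAdd.2.val * b), by
      rw [← hf, ← fpow, ← fpow]; exact H.mul_mem (H.pow_mem h1 _) (H.pow_mem h2 _)⟩) (by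
      intro x y
      apply Subtype.ext
      change f _ = f _ * f _
      rw [hf]
      congr 1
      have key : ∀ u v : ZMod 3, (((u + v).val : ℕ) : F) = (u.val : ℕ) + (v.val : ℕ) := by
        intro u v
        rw [ZMod.val_add]
        have e := Nat.mod_add_div (u.val + v.val) 3
        have : (((u.val + v.val) % 3 : ℕ) : F) + 3 * (((u.val + v.val) / 3 : ℕ) : F) =
            (u.val : ℕ) + (v.val : ℕ) := by exact_mod_cast congrArg (Nat.cast : ℕ → F) e
        rw [← this, h3]; ring
      simp only [toAdd_mul, Prod.fst_add, Prod.snd_add, key]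
      ring)
  have hφ : Function.Injective φ := by
    rw [injective_iff_map_eq_one]
    intro x hx
    have h := hf0 _ (congrArg Subtype.val hx)
    obtain ⟨u, v⟩ := x
    change ((u.val : ℕ) : F) * a + ((v.val : ℕ) : F) * b = 0 at h
    have h2' : (2 : F) = -1 := by linear_combination h3
    fin_cases u <;> fin_cases v
    · rfl
    all_goals
      exfalso
      simp only [Fin.reduceFinMk, ZMod.val] at h
      norm_num at h
    · exact hb.1 h
    · rw [h2'] at h; simp [hb.1] at h
    · exact ha h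
    · exact hb.2.2 (by linear_combination h)
    · exact hb.2.1 (by rw [h2'] at h; linear_combination -h)
    · rw [h2'] at h; simp [ha] at h
    · exact hb.2.1 (by rw [h2'] at h; linear_combination h)
    · exact hb.2.2 (by rw [h2'] at h; linear_combination -h)
  have := Subgroup.card_dvd_of_injective φ hφ
  rw [hH] at this
  simp at this

theorem pair_pgl [Finite F] (H : Subgroup PGL(2, F)) (h1 : low 1 ∈ H) {m : F} (hm : m ≠ 0)
    (h2 : aff 1 m ∈ H) :
    (∃ k : Subfield F, (∀ a, aff 1 a ∈ H ↔ a ∈ k) ∧ ∀ b, low b ∈ H ↔ b ∈ k) ∨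
    ((2 : F) = 0 ∧ (∀ a, aff 1 a ∈ H → a = 0 ∨ a = m) ∧ ∀ b, low b ∈ H → b = 0 ∨ b = 1) ∨
    ((3 : F) = 0 ∧ m ^ 2 = -1 ∧ (∀ a, aff 1 a ∈ H → a = 0 ∨ a = m ∨ a = -m) ∧
      ∀ b, low b ∈ H → b = 0 ∨ b = 1 ∨ b = -1) := by
  obtain ⟨p, hp⟩ := CharP.exists F
  have : Fact p.Prime := ⟨CharP.char_is_prime F p⟩
  have hy1 : aff 1 m ≠ 1 := fun e => hm (aff_one_eq_one_iff.1 e)
  have hyp : orderOf (aff 1 m) = p :=
    orderOf_eq_prime (pow_char_eq_one_of_mem_unipAt p (aff_mem_unipAt m)) hy1
  rcases dickson_sub (algebraMap F (AlgebraicClosure F)) p H with ⟨x, hx'⟩ | ⟨x, y, hxy, -, h3⟩ |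
    ⟨-, h⟩ | ⟨e, rfl⟩ | ⟨k, h, -, h3⟩
  · exfalso
    rcases (mem_unipAt.1 (aff_mem_unipAt m)).2 x (hx' h2) with rfl | e
    · exact one_ne_zero ((low_smul_inf_iff 1).1 (hx' h1))
    · exact hy1 e
  · have key : ∀ {z : P1 F} {g : PGL(2, F)}, g ∈ unipAt z →
        g ∈ pairT (mapG (algebraMap F (AlgebraicClosure F))) x y → g = 1 := by
      intro z g hg h4
      by_contra hg1
      have h5 := (mapG_mem_unipAt_iff (algebraMap F (AlgebraicClosure F)) _ _).2 hg
      have h6 : mapG (algebraMap F (AlgebraicClosure F)) g ≠ 1 := fun e =>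
        hg1 (mapG_injective _ (e.trans (map_one _).symm))
      exact hxy ((((mem_unipAt.1 h5).2 x (mem_pairT.1 h4).1).resolve_right h6).trans
        (((mem_unipAt.1 h5).2 y (mem_pairT.1 h4).2).resolve_right h6).symm)
    have key2 : ∀ {z : P1 F} {g g' : PGL(2, F)}, g ∈ unipAt z → g' ∈ unipAt z → g ∈ H → g' ∈ H →
        g ≠ 1 → g' ≠ 1 → g * g' = 1 := by
      intro z g g' hg hg' hH hH' n1 n2
      exact key (mul_mem hg hg') (mul_mem_pairT_of_not_mem (h3 hH) (fun e => n1 (key hg e))
        (h3 hH') (fun e => n2 (key hg' e)))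
    have h20 : (2 : F) = 0 := by
      have := key2 (aff_mem_unipAt m) (aff_mem_unipAt m) h2 h2 hy1 hy1
      rw [aff_one_mul, aff_one_eq_one_iff] at this
      exact (mul_eq_zero.1 (by linear_combination this : (2 : F) * m = 0)).resolve_right hm
    refine Or.inr (Or.inl ⟨h20, fun a ha => ?_, fun b hb => ?_⟩)
    · by_cases h0 : a = 0
      · exact Or.inl h0
      · have := key2 (aff_mem_unipAt a) (aff_mem_unipAt m) ha h2
          (fun e => h0 (aff_one_eq_one_iff.1 e)) hy1
        rw [aff_one_mul, aff_one_eq_one_iff] at this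
        exact Or.inr (by linear_combination this - m * h20)
    · by_cases h0 : b = 0
      · exact Or.inl h0
      · have := key2 (low_mem_unipAt b) (low_mem_unipAt 1) hb h1
          (fun e => h0 (low_eq_one_iff.1 e)) (fun e => one_ne_zero (low_eq_one_iff.1 e))
        rw [low_mul, low_eq_one_iff] at this
        exact Or.inr (by linear_combination this - h20)
  · exact absurd (hyp ▸ Subgroup.orderOf_dvd_natCard H h2) h
  · have h3 : (3 : F) = 0 := by exact_mod_cast CharP.cast_eq_zero F 3
    have hc : Nat.card H = 60 := by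
      obtain ⟨e⟩ := e
      rw [Nat.card_congr e.toEquiv, card_alt_five]
    have hA : ∀ a, aff 1 a ∈ H → a = 0 ∨ a = m ∨ a = -m := fun a ha =>
      mem_three_of_card hc h3 (aff 1) aff_one_mul (fun _ => aff_one_eq_one_iff.1) hm h2 ha
    have hB : ∀ b, low b ∈ H → b = 0 ∨ b = 1 ∨ b = -1 := fun b hb =>
      mem_three_of_card hc h3 low low_mul (fun _ => low_eq_one_iff.1) one_ne_zero h1 hb
    by_cases hl : m ^ 3 = m
    · left
      have hm' : m = 1 ∨ m = -1 := (cube_eq_self_iff.1 hl).resolve_left hm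
      have a1 : aff 1 (1 : F) ∈ H := by
        rcases hm' with rfl | rfl
        · exact h2
        · have := H.inv_mem h2
          rwa [Cfsg.Agent.S0801.aff_one_inv, neg_neg] at this
      refine ⟨primeThree F h3, fun a => ⟨fun ha => ?_, fun ha => ?_⟩,
        fun b => ⟨fun hb => ?_, fun hb => ?_⟩⟩
      · rw [mem_primeThree]
        rcases hA a ha with rfl | rfl | rfl
        · simp
        · exact hl
        · linear_combination -hl
      · rcases cube_eq_self_iff.1 ha with rfl | rfl | rfl
        · rw [aff_one_eq_one_iff.2 rfl]; exact H.one_mem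
        · exact a1
        · rw [← Cfsg.Agent.S0801.aff_one_inv]; exact H.inv_mem a1
      · exact cube_eq_self_iff.2 (hB b hb)
      · rcases cube_eq_self_iff.1 hb with rfl | rfl | rfl
        · rw [low_zero]; exact H.one_mem
        · exact h1
        · rw [← low_inv]; exact H.inv_mem h1
    · have t1 := Cfsg.Agent.S0801.tau_cases e (mul_mem h1 h2)
      have t2 := Cfsg.Agent.S0801.tau_cases e (mul_mem h1 (inv_mem h2))
      rw [Cfsg.Agent.S0801.aff_one_inv] at t2
      rw [tau_low_mul_aff] at t1 t2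
      have key : ∀ μ : F, μ ^ 3 ≠ μ →
          (2 + 1 * μ) ^ 2 = 0 ∨ (2 + 1 * μ) ^ 2 = 1 ∨ ((2 + 1 * μ) ^ 2) ^ 2 = -1 →
          ((2 + 1 * μ) ^ 2) ^ 2 = -1 := by
        rintro μ hμ (h | h | h)
        · exact absurd (by
            rw [pow_eq_zero_iff two_ne_zero] at h
            linear_combination (μ ^ 2 - 2 * μ + 3) * h - 2 * h3) hμ
        · exact absurd (by linear_combination (μ - 4) * h + 4 * (μ + 1) * h3) hμ
        · exact h
      exact Or.inr (Or.inr ⟨h3, Cfsg.Agent.S0801.sq_eq_neg_one (key _ hl t1)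
        (key _ (fun e => hl (by linear_combination -e)) t2), hA, hB⟩)
  · left
    have hk : H ≤ cjs h (pglOf k.subtype) := by
      rcases h3 with h3 | ⟨-, h3⟩ <;> rw [h3]
      exact cjs_mono _ (pslOf_le_pglOf _)
    have hk' : cjs h (pslOf k.subtype) ≤ H := by
      rcases h3 with h3 | ⟨-, h3⟩ <;> rw [h3]
      exact cjs_mono _ (pslOf_le_pglOf _)
    -- fixed points of unipotent elements lie on the subline
    have fx : ∀ {z : P1 F} {g : PGL(2, F)}, g ∈ unipAt z → g ≠ 1 → g ∈ H →
        h⁻¹ • z ∈ Set.range (mapP k.subtype) := by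
      intro z g hg hg1 hH
      obtain ⟨g0, hg0⟩ : h⁻¹ * g * h ∈ pglOf k.subtype := mem_cjs.1 (hk hH)
      have hu : h⁻¹ * g * h ∈ unipAt (h⁻¹ • z) := by
        rw [mem_unipAt_smul]
        convert hg using 1
        group
      have hne : h⁻¹ * g * h ≠ 1 := fun e => hg1 (by
        calc g = h * (h⁻¹ * g * h) * h⁻¹ := by group
          _ = 1 := by rw [e]; group)
      have : CharP k p := inferInstance
      have hp0 : g0 ^ p ^ 1 = 1 := by
        apply mapG_injective k.subtype
        rw [map_pow, map_one, pow_one]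
        change mapG k.subtype g0 ^ p = 1
        rw [hg0]
        exact pow_char_eq_one_of_mem_unipAt p hu
      obtain ⟨w, hw⟩ := exists_fixed_of_pow_char_pow p hp0
      have hw' : (h⁻¹ * g * h) • mapP k.subtype w = mapP k.subtype w := by
        rw [← hg0]
        change mapG k.subtype g0 • _ = _
        rw [mapG_smul_mapP, hw]
      exact ⟨w, ((mem_unipAt.1 hu).2 _ hw').resolve_right hne⟩
    have mv : ∀ {z : P1 F} {g : PGL(2, F)}, g ∈ H → h⁻¹ • z ∈ Set.range (mapP k.subtype) →
        h⁻¹ • g • z ∈ Set.range (mapP k.subtype) := by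
      intro z g hg hz
      have := smul_mem_range_of_mem_pglOf (mem_cjs.1 (hk hg)) hz
      rwa [mul_smul, mul_smul, smul_inv_smul] at this
    have r1 := fx (aff_mem_unipAt m) hy1 h2
    have r2 := fx (low_mem_unipAt 1) (fun e => one_ne_zero (low_eq_one_iff.1 e)) h1
    have r3 := mv h1 r1
    have e3 : low (1 : F) • (inf : P1 F) = pt 1 := by
      rw [low, ofMat_smul_inf_eq_pt]; simp
    rw [e3] at r3
    have hh : h⁻¹ ∈ pglOf k.subtype := mem_pglOf_of_std _ r1 r2 r3
    have hh' : h ∈ pglOf k.subtype := (Subgroup.inv_mem_iff _).1 hh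
    have rng : ∀ {z : P1 F}, h⁻¹ • z ∈ Set.range (mapP k.subtype) →
        z ∈ Set.range (mapP k.subtype) := fun hz => by
      have := smul_mem_range_of_mem_pglOf hh' hz
      rwa [smul_inv_smul] at this
    have sub : ∀ g0 ∈ pslIn k, mapG k.subtype g0 ∈ H := by
      intro g0 hg0
      apply hk'
      rw [mem_cjs]
      obtain ⟨h0, rfl⟩ := hh'
      refine ⟨h0⁻¹ * g0 * h0, ?_, by simp⟩
      have := (pslIn_normal (F := k)).conj_mem g0 hg0 h0⁻¹
      rwa [inv_inv] at this
    refine ⟨k, fun a => ⟨fun ha => ?_, fun ha => ?_⟩, fun b => ⟨fun hb => ?_, fun hb => ?_⟩⟩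
    · have := rng (mv ha r2)
      rw [aff_smul_pt, mem_range_mapP] at this
      rcases this with e | ⟨t, e⟩
      · exact absurd e (pt_ne_inf _)
      · rw [pt_inj] at e
        simp only [mul_zero, zero_add] at e
        rw [e]; exact t.2
    · have := sub (aff 1 ⟨a, ha⟩) (unipAt_le_pslIn _ (aff_mem_unipAt _))
      rwa [mapG_aff, map_one] at this
    · by_cases hb0 : b = 0
      · rw [hb0]; exact k.zero_mem
      have := rng (mv hb r1)
      have e4 : low b • (inf : P1 F) = pt b⁻¹ := by
        rw [low, ofMat_smul_inf_eq_pt]; simp [hb0]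
      rw [e4, mem_range_mapP] at this
      rcases this with e | ⟨t, e⟩
      · exact absurd e (pt_ne_inf _)
      · rw [pt_inj] at e
        rw [← inv_inv b, e]; exact k.inv_mem t.2
    · have := sub (low ⟨b, hb⟩) (unipAt_le_pslIn _ (low_mem_unipAt _))
      rw [low, mapG_ofMat] at this
      convert this using 1
      rw [low]
      congr 1
      ext i j; fin_cases i <;> fin_cases j <;> simp

end CL.MH
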