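/-
Two noncommuting elements of order at least three in a finite subgroup of `PGL₂` without
unipotent elements.
-/
import Cfsg.Agent.CLAS.MHPgl
import Cfsg.Agent.CLAS.PGL2Trace

set_option autoImplicit false

namespace CL.MH

open Matrix CL.Dk CL.PGL2
open scoped MatrixGroups

/-- the orders of products in a polyhedral group; `c` holds in the icosahedral case -/
def PolyFact {H : Type*} [Group H] (c : Prop) (a b : H) : Prop :=
  (a ^ 3 = 1 ∧ (b ^ 3 = 1 → (a * b) ^ 2 = 1 ∨ (a * b⁻¹) ^ 2 = 1 ∨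
    (c ∧ (a * b) ^ 5 = 1 ∧ (a * b⁻¹) ^ 5 = 1))) ∨
  (a ^ 4 = 1 ∧ (b ^ 4 = 1 → (a * b) ^ 3 = 1 ∧ (a * b⁻¹) ^ 3 = 1)) ∨
  (a ^ 5 = 1 ∧ c ∧ (b ^ 5 = 1 →
    ((a * b) ^ 3 = 1 ∧ ((a * b⁻¹) ^ 2 = 1 ∨ (a * b⁻¹) ^ 5 = 1)) ∨
    ((a * b⁻¹) ^ 3 = 1 ∧ ((a * b) ^ 2 = 1 ∨ (a * b) ^ 5 = 1))))

theorem s4_ord : ∀ a : Equiv.Perm (Fin 4), a ^ 2 = 1 ∨ a ^ 3 = 1 ∨ a ^ 4 = 1 := by decide +kernel

theorem s4_three : ∀ a : Equiv.Perm (Fin 4), a ^ 3 = 1 → ∀ b : Equiv.Perm (Fin 4), b ^ 3 = 1 →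
    a * b ≠ b * a → (a * b) ^ 2 = 1 ∨ (a * b⁻¹) ^ 2 = 1 := by decide +kernel

theorem s4_four : ∀ a : Equiv.Perm (Fin 4), a ^ 4 = 1 → a ^ 2 ≠ 1 → ∀ b : Equiv.Perm (Fin 4),
    b ^ 4 = 1 → b ^ 2 ≠ 1 → a * b ≠ b * a → (a * b) ^ 3 = 1 ∧ (a * b⁻¹) ^ 3 = 1 := by
  decide +kernel

theorem a5_ord : ∀ a : Equiv.Perm (Fin 5), Equiv.Perm.sign a = 1 →
    a ^ 2 = 1 ∨ a ^ 3 = 1 ∨ a ^ 5 = 1 := by decide +kernel

theorem a5_three : ∀ a : Equiv.Perm (Fin 5), a ^ 3 = 1 → ∀ b : Equiv.Perm (Fin 5), b ^ 3 = 1 →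
    a * b ≠ b * a → (a * b) ^ 2 = 1 ∨ (a * b⁻¹) ^ 2 = 1 ∨
      ((a * b) ^ 5 = 1 ∧ (a * b⁻¹) ^ 5 = 1) := by decide +kernel

set_option synthInstance.maxSize 2000 in
theorem a5_five : ∀ a : Equiv.Perm (Fin 5), a ^ 5 = 1 → ∀ b : Equiv.Perm (Fin 5), b ^ 5 = 1 →
    a * b ≠ b * a → ((a * b) ^ 3 = 1 ∧ ((a * b⁻¹) ^ 2 = 1 ∨ (a * b⁻¹) ^ 5 = 1)) ∨
      ((a * b⁻¹) ^ 3 = 1 ∧ ((a * b) ^ 2 = 1 ∨ (a * b) ^ 5 = 1)) := by decide +kernel

theorem PolyFact.of_map {H H' : Type*} [Group H] [Group H'] {f : H →* H'}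
    (hf : Function.Injective f) {c : Prop} {a b : H} (h : PolyFact c (f a) (f b)) :
    PolyFact c a b := by
  simpa only [PolyFact, ← map_inv, ← map_mul, ← map_pow, map_eq_one_iff f hf] using h

theorem PolyFact.map {H H' : Type*} [Group H] [Group H'] {f : H →* H'}
    (hf : Function.Injective f) {c : Prop} {a b : H} (h : PolyFact c a b) :
    PolyFact c (f a) (f b) := by
  simpa only [PolyFact, ← map_inv, ← map_mul, ← map_pow, map_eq_one_iff f hf] using h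

theorem polyFact_s4 {c : Prop} {a b : Equiv.Perm (Fin 4)} (ha : a ^ 2 ≠ 1) (hb : b ^ 2 ≠ 1)
    (h : a * b ≠ b * a) : PolyFact c a b := by
  rcases s4_ord a with e | e | e
  · exact absurd e ha
  · exact Or.inl ⟨e, fun e' => (s4_three a e b e' h).imp_right Or.inl⟩
  · exact Or.inr (Or.inl ⟨e, fun e' => s4_four a e ha b e' hb h⟩)

theorem polyFact_a5 {c : Prop} (hc : c) {a b : Equiv.Perm (Fin 5)} (hs : Equiv.Perm.sign a = 1)
    (ha : a ^ 2 ≠ 1) (h : a * b ≠ b * a) : PolyFact c a b := by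
  rcases a5_ord a hs with e | e | e
  · exact absurd e ha
  · exact Or.inl ⟨e, fun e' => (a5_three a e b e' h).imp_right (Or.imp_right fun h => ⟨hc, h⟩)⟩
  · exact Or.inr (Or.inr ⟨e, hc, fun e' => a5_five a e b e' h⟩)

theorem IsPoly.fact {H : Type*} [Group H] (hH : IsPoly H) {c : Prop} (hc : Nat.card H = 60 → c)
    {a b : H} (ha : a ^ 2 ≠ 1) (hb : b ^ 2 ≠ 1) (h : a * b ≠ b * a) : PolyFact c a b := by
  have key : ∀ {H' : Type} [Group H'] (f : H →* H'), Function.Injective f →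
      f a ^ 2 ≠ 1 ∧ f b ^ 2 ≠ 1 ∧ f a * f b ≠ f b * f a := fun f hf => by
    simpa only [← map_mul, ← map_pow, Ne, map_eq_one_iff f hf, hf.eq_iff] using ⟨ha, hb, h⟩
  obtain ⟨⟨e⟩⟩ | ⟨⟨e⟩⟩ | ⟨⟨e⟩⟩ := hH
  · have hf : Function.Injective ((alternatingGroup (Fin 4)).subtype.comp e.toMonoidHom) :=
      Subtype.val_injective.comp e.injective
    obtain ⟨h1, h2, h3⟩ := key _ hf
    exact (polyFact_s4 h1 h2 h3).of_map hf
  · obtain ⟨h1, h2, h3⟩ := key e.toMonoidHom e.injective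
    exact (polyFact_s4 h1 h2 h3).of_map e.injective
  · have hf : Function.Injective ((alternatingGroup (Fin 5)).subtype.comp e.toMonoidHom) :=
      Subtype.val_injective.comp e.injective
    obtain ⟨h1, -, h3⟩ := key _ hf
    refine (polyFact_a5 (hc ?_) (Equiv.Perm.mem_alternatingGroup.1 (e a).2) h1 h3).of_map hf
    rw [Nat.card_congr e.toEquiv, nat_card_alternatingGroup]
    simp [Nat.factorial]

variable {k : Type*} [Field k]

theorem tau_of_mem_unipAt {y : P1 k} {g : PGL(2, k)} (h : g ∈ unipAt y) : tau g = 4 := by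
  obtain ⟨e, rfl⟩ := exists_smul_inf y
  obtain ⟨b, hb⟩ := mem_unipAt_inf.1 (mem_unipAt_smul.1 h)
  rw [← tau_conj' e g, hb, aff, tau_ofMat, trace_fin_two_of, det_fin_two_of]
  norm_num

theorem commutator_mem_unipAt {y : P1 k} {g h : PGL(2, k)} (hg : g • y = y) (hh : h • y = y) :
    g * h * g⁻¹ * h⁻¹ ∈ unipAt y := by
  obtain ⟨e, rfl⟩ := exists_smul_inf y
  have key : ∀ {g : PGL(2, k)}, g • e • (inf : P1 k) = e • inf → ∃ a b, e⁻¹ * g * e = aff a b :=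
    fun {g} hg => exists_aff_of_smul_inf (by rw [mul_smul, mul_smul, hg, inv_smul_smul])
  obtain ⟨a, b, h1⟩ := key hg
  obtain ⟨c, d, h2⟩ := key hh
  rw [mem_unipAt_smul, show e⁻¹ * (g * h * g⁻¹ * h⁻¹) * e = (e⁻¹ * g * e) * (e⁻¹ * h * e) *
    (e⁻¹ * g * e)⁻¹ * (e⁻¹ * h * e)⁻¹ by group, h1, h2, aff_conj, aff_inv, aff_mul, mul_inv_cancel]
  exact aff_mem_unipAt _

theorem cast_ne_zero_of_not_dvd (p : ℕ) [Fact p.Prime] [CharP k p] {n r : ℕ} (h : ¬ p ∣ n)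
    (hr : r ∣ n) : (r : k) ≠ 0 := fun e => h (((CharP.cast_eq_zero_iff k p r).1 e).trans hr)

theorem polyFact_of_nounip [IsAlgClosed k] (p : ℕ) [Fact p.Prime] [CharP k p]
    (H : Subgroup PGL(2, k)) [Finite H] (hu : ∀ g ∈ H, tau g = 4 → g = 1) {a b : PGL(2, k)}
    (ha : a ∈ H) (hb : b ∈ H) (ha2 : a ^ 2 ≠ 1) (hb2 : b ^ 2 ≠ 1) (h : a * b ≠ b * a) :
    PolyFact ((3 : k) ≠ 0 ∧ (5 : k) ≠ 0) a b := by
  have hu' : ∀ x, unp H.subtype x = ⊥ := fun x => eq_bot_iff.2 fun g hg =>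
    Subtype.ext (hu g g.2 (tau_of_mem_unipAt hg))
  obtain ⟨x, hx⟩ | ⟨x, y, hxy, hN, -⟩ | ⟨hP, -⟩ | ⟨-, x, hx⟩ | ⟨x, hx, -⟩ :=
    dickson_pre H.subtype_injective
  · refine absurd ?_ h
    have := hu _ (H.mul_mem (H.mul_mem (H.mul_mem ha hb) (H.inv_mem ha)) (H.inv_mem hb))
      (tau_of_mem_unipAt (commutator_mem_unipAt (y := x)
        (mem_stab.1 (hx ▸ Subgroup.mem_top (⟨a, ha⟩ : H)))
        (mem_stab.1 (hx ▸ Subgroup.mem_top (⟨b, hb⟩ : H)))))
    rwa [mul_inv_eq_one, mul_inv_eq_iff_eq_mul] at this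
  · refine absurd ?_ h
    have key : ∀ {g} (hg : g ∈ H), g ^ 2 ≠ 1 → g • x = x ∧ g • y = y := fun {g} hg h2 =>
      mem_pairT.1 (mem_pairT_of_mul_self_ne_one H.subtype_injective hxy
        (hN ▸ Subgroup.mem_top (⟨g, hg⟩ : H)) fun e => h2 (by
          rw [pow_two]; exact congrArg Subtype.val e))
    exact commute_of_fix_two hxy (key ha ha2).1 (key ha ha2).2 (key hb hb2).1 (key hb hb2).2
  · have hp := not_dvd_card_of_unp_eq_bot p hu'
    exact (IsPoly.fact hP (a := ⟨a, ha⟩) (b := ⟨b, hb⟩) (fun e => ⟨by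
      exact_mod_cast cast_ne_zero_of_not_dvd (k := k) p hp (r := 3) (by rw [e]; norm_num), by
      exact_mod_cast cast_ne_zero_of_not_dvd (k := k) p hp (r := 5) (by rw [e]; norm_num)⟩)
      (fun e => ha2 (congrArg Subtype.val e)) (fun e => hb2 (congrArg Subtype.val e))
      (fun e => h (congrArg Subtype.val e))).map H.subtype_injective
  · rw [hu', Subgroup.card_bot] at hx; omega
  · rw [hu', Subgroup.card_bot] at hx; omega

theorem aux_three (h2 : (2 : k) ≠ 0) {A : k} (h : (A ^ 2) ^ 2 - 3 * A ^ 2 + 1 = 0)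
    (h' : ((1 - A) ^ 2) ^ 2 - 3 * (1 - A) ^ 2 + 1 = 0) : A ^ 2 - A - 1 = 0 := by
  by_contra e
  have e1 : A ^ 2 + A - 1 = 0 := mul_left_cancel₀ e (by linear_combination h)
  have e2 : A ^ 2 - 3 * A + 1 = 0 := mul_left_cancel₀ e (by linear_combination h')
  have e3 : 2 * A = 1 := mul_left_cancel₀ h2 (by linear_combination e1 - e2)
  exact one_ne_zero (α := k) (by linear_combination (-4) * e1 + (2 * A + 3) * e3)

theorem aux_five (h2 : (2 : k) ≠ 0) (h3 : (3 : k) ≠ 0) (h5 : (5 : k) ≠ 0) {s A : k}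
    (hs : s ^ 2 + s - 1 = 0) (h : A ^ 2 = 1) (h' : (2 + s - A) ^ 2 = 0 ∨
      ((2 + s - A) ^ 2) ^ 2 - 3 * (2 + s - A) ^ 2 + 1 = 0) : A = 1 := by
  rcases sq_eq_one_iff.1 h with rfl | rfl
  · rfl
  exfalso
  rcases h' with h' | h'
  · have := (pow_eq_zero_iff two_ne_zero).1 h'
    exact h5 (by linear_combination hs - (s - 2) * this)
  · have : (2 * 3 * (s + 2)) * (2 * (2 * s + 3)) = 0 := by
      linear_combination h' - (s ^ 2 + 11 * s + 17) * hs
    rcases mul_eq_zero.1 this with e | e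
    · have e := (mul_eq_zero.1 e).resolve_left (mul_ne_zero h2 h3)
      exact one_ne_zero (α := k) (by linear_combination hs - (s - 1) * e)
    · have e := (mul_eq_zero.1 e).resolve_left h2
      exact one_ne_zero (α := k) (by linear_combination (-4) * hs + (2 * s - 1) * e)

/-- the possible invariants of two noncommuting homologies of ratio `r` -/
def OkH (r m : k) : Prop :=
  (r ^ 2 + r + 1 = 0 ∧ (3 * m = 1 ∨ 3 * m = 2 ∨ (9 * m ^ 2 - 9 * m + 1 = 0 ∧ (5 : k) ≠ 0))) ∨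
  (r ^ 2 + 1 = 0 ∧ 2 * m = 1) ∨
  (r ^ 4 + r ^ 3 + r ^ 2 + r + 1 = 0 ∧ 5 * m ^ 2 - 5 * m + 1 = 0)

theorem okH_of_pair [IsAlgClosed k] (p : ℕ) [Fact p.Prime] [CharP k p] (h2 : (2 : k) ≠ 0)
    (H : Subgroup PGL(2, k)) [Finite H] (hu : ∀ g ∈ H, tau g = 4 → g = 1) {r s t : k}
    (hr : r ≠ 0) (hr1 : r ≠ 1) (hr2 : r ≠ -1) (hst : ¬ (s = 0 ∧ t = 0))
    {da : (!![r, s; 0, 1] : Matrix (Fin 2) (Fin 2) k).det ≠ 0}
    {db : (!![1, 0; t, r] : Matrix (Fin 2) (Fin 2) k).det ≠ 0}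
    (ha : ofMat _ da ∈ H) (hb : ofMat _ db ∈ H) : OkH r (s * t / (r - 1) ^ 2) := by
  have hc : r - 1 ≠ 0 := sub_ne_zero.2 hr1
  have hc' : r + 1 ≠ 0 := fun e => hr2 (by linear_combination e)
  set a := ofMat _ da with had
  set b := ofMat _ db with hbd
  have a1 : a ≠ 1 := fun e => hr1 (by simpa using ((ofMat_eq_one_iff da).1 e).2.2)
  have b1 : b ≠ 1 := fun e => hr1 (by simpa using ((ofMat_eq_one_iff db).1 e).2.2.symm)
  have ta : tau a = (r + 1) ^ 2 / r := by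
    rw [had, tau_ofMat, trace_fin_two_of, det_fin_two_of]; simp
  have tb : tau b = tau a := by
    rw [ta, hbd, tau_ofMat, trace_fin_two_of, det_fin_two_of]; simp [add_comm]
  have a2 : a ^ 2 ≠ 1 := by
    rw [Ne, sq_eq_one_iff_tau a1, ta]; exact div_ne_zero (pow_ne_zero _ hc') hr
  have b2 : b ^ 2 ≠ 1 := by rw [Ne, sq_eq_one_iff_tau b1, tb, ← sq_eq_one_iff_tau a1]; exact a2
  have hab : a * b ≠ b * a := by
    rw [had, hbd, ofMat_mul, ofMat_mul, Ne, ofMat_eq_iff]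
    rintro ⟨l, hl⟩
    have e00 := congrFun (congrFun hl 0) 0
    have e01 := congrFun (congrFun hl 0) 1
    have e10 := congrFun (congrFun hl 1) 0
    have e11 := congrFun (congrFun hl 1) 1
    simp at e00 e01 e10 e11
    refine hst ?_
    by_cases hs : s = 0
    · refine ⟨hs, ?_⟩
      by_contra ht
      grind
    · grind
  have ab1 : a * b ≠ 1 := fun e => hab (by rw [e, mul_eq_one_comm.1 e])
  have ab2 : a * b⁻¹ ≠ 1 := fun e => hab (by rw [mul_inv_eq_one.1 e])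
  set m := s * t / (r - 1) ^ 2 with hm
  have hst' : s * t = m * (r - 1) ^ 2 := by rw [hm]; field_simp
  set σ := r + r⁻¹ with hσ
  have hσ' : r * σ = r ^ 2 + 1 := by rw [hσ]; field_simp
  have t1 : tau (a * b) = (2 - m * (2 - σ)) ^ 2 := by
    rw [had, hbd, ofMat_mul, tau_ofMat, det_mul, det_fin_two_of, det_fin_two_of]
    simp only [trace_fin_two, mul_apply, Fin.sum_univ_two, of_apply, cons_val', cons_val_zero,
      cons_val_one, cons_val_fin_one, mul_zero, zero_mul, mul_one, one_mul, sub_zero, zero_add]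
    rw [hst', hσ]
    field_simp
    ring
  have t2 : tau (a * b⁻¹) = (σ + m * (2 - σ)) ^ 2 := by
    rw [had, hbd, ofMat_inv db (det_adjugate_ne_zero db), ofMat_mul, tau_ofMat, det_mul,
      adjugate_fin_two_of, det_fin_two_of, det_fin_two_of]
    simp only [trace_fin_two, mul_apply, Fin.sum_univ_two, of_apply, cons_val', cons_val_zero,
      cons_val_one, cons_val_fin_one, mul_zero, zero_mul, mul_one, sub_zero, zero_add, neg_zero]
    rw [mul_neg, hst', hσ]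
    field_simp
    ring
  have ta' : tau a = σ + 2 := by rw [ta, hσ]; field_simp; ring
  obtain ⟨e, h⟩ | ⟨e, h⟩ | ⟨e, ⟨h3, h5⟩, h⟩ := polyFact_of_nounip p H hu ha hb a2 b2 hab
  · have e' := (cube_eq_one_iff_tau a1).1 e
    have := h ((cube_eq_one_iff_tau b1).2 (tb.trans e'))
    rw [sq_eq_one_iff_tau ab1, sq_eq_one_iff_tau ab2, pow_five_eq_one_iff_tau ab1,
      pow_five_eq_one_iff_tau ab2, t1, t2] at this
    have e1 : σ = -1 := by linear_combination e' - ta'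
    rw [e1] at this hσ'
    refine Or.inl ⟨by linear_combination -hσ', ?_⟩
    rcases this with h | h | ⟨⟨-, h5⟩, h, h'⟩
    · exact Or.inr (Or.inl (by linear_combination -(pow_eq_zero_iff two_ne_zero).1 h))
    · exact Or.inl (by linear_combination (pow_eq_zero_iff two_ne_zero).1 h)
    · refine Or.inr (Or.inr ⟨?_, h5⟩)
      have := aux_three h2 h (by
        rwa [show 1 - (2 - m * (2 - -1)) = -1 + m * (2 - -1) by ring])
      linear_combination this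
  · have e' := ((pow_four_eq_one_iff_tau a1).1 e).resolve_left
      fun e => a2 ((sq_eq_one_iff_tau a1).2 e)
    have := h ((pow_four_eq_one_iff_tau b1).2 (Or.inr (tb.trans e')))
    rw [cube_eq_one_iff_tau ab1, cube_eq_one_iff_tau ab2, t1, t2] at this
    have e1 : σ = 0 := by linear_combination e' - ta'
    rw [e1] at this hσ'
    refine Or.inr (Or.inl ⟨by linear_combination -hσ', mul_left_cancel₀ (mul_ne_zero h2 h2) ?_⟩)
    linear_combination this.2 - this.1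
  · have e' := (pow_five_eq_one_iff_tau a1).1 e
    have := h ((pow_five_eq_one_iff_tau b1).2 (by rw [tb]; exact e'))
    rw [sq_eq_one_iff_tau ab1, sq_eq_one_iff_tau ab2, pow_five_eq_one_iff_tau ab1,
      pow_five_eq_one_iff_tau ab2, cube_eq_one_iff_tau ab1, cube_eq_one_iff_tau ab2, t1, t2] at this
    have e1 : σ ^ 2 + σ - 1 = 0 := by rw [ta'] at e'; linear_combination e'
    refine Or.inr (Or.inr ⟨?_, ?_⟩)
    · linear_combination r ^ 2 * e1 - (r * σ + r ^ 2 + 1 + r) * hσ'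
    have ht : (2 - σ) ^ 2 - 5 * (2 - σ) + 5 = 0 := by linear_combination e1
    have ht0 : (2 - σ) ^ 2 ≠ 0 := pow_ne_zero _ fun e => h5 (by rw [e] at ht; simpa using ht)
    refine mul_left_cancel₀ ht0 ?_
    rcases this with ⟨h, h'⟩ | ⟨h, h'⟩
    · have := aux_five h2 h3 h5 e1 h (by
        rwa [show 2 + σ - (2 - m * (2 - σ)) = σ + m * (2 - σ) by ring])
      linear_combination ht - (5 * (m * (2 - σ) + 1) - 5 * (2 - σ)) * this
    · have := aux_five h2 h3 h5 e1 h (by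
        rwa [show 2 + σ - (σ + m * (2 - σ)) = 2 - m * (2 - σ) by ring])
      linear_combination ht + (5 * (m * (2 - σ) + 1 - σ) - 5 * (2 - σ)) * this

end CL.MH
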