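/-
Rank one perturbations of the identity (elations and homologies) in dimension three.
-/
import Cfsg.Agent.CLAS.MHPgl
import Cfsg.Agent.CLAS.AschGrp

set_option autoImplicit false

namespace CL.MH

open Matrix CL.Dk CL.PGL2
open scoped MatrixGroups

abbrev V3 (F : Type*) := Fin 3 → F

variable {F : Type*} [Field F]

theorem dot3 (a b : V3 F) : a ⬝ᵥ b = a 0 * b 0 + a 1 * b 1 + a 2 * b 2 := by
  simp [dotProduct, Fin.sum_univ_three]

omit [Field F] in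
theorem ext3 {a b : V3 F} (h0 : a 0 = b 0) (h1 : a 1 = b 1) (h2 : a 2 = b 2) : a = b := by
  ext i; fin_cases i
  exacts [h0, h1, h2]

/-- cross product -/
def cr (a b : V3 F) : V3 F := ![a 1 * b 2 - a 2 * b 1, a 2 * b 0 - a 0 * b 2, a 0 * b 1 - a 1 * b 0]

@[simp] theorem cr0 (a b : V3 F) : cr a b 0 = a 1 * b 2 - a 2 * b 1 := rfl
@[simp] theorem cr1 (a b : V3 F) : cr a b 1 = a 2 * b 0 - a 0 * b 2 := rfl
@[simp] theorem cr2 (a b : V3 F) : cr a b 2 = a 0 * b 1 - a 1 * b 0 := rfl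

/-- triple product -/
def trip (a b c : V3 F) : F := cr a b ⬝ᵥ c

theorem trip_eq (a b c : V3 F) : trip a b c = (a 1 * b 2 - a 2 * b 1) * c 0 +
    (a 2 * b 0 - a 0 * b 2) * c 1 + (a 0 * b 1 - a 1 * b 0) * c 2 := by
  simp [trip, dot3]

theorem cr_dot_left (a b : V3 F) : cr a b ⬝ᵥ a = 0 := by simp only [dot3, cr0, cr1, cr2]; ring
theorem cr_dot_right (a b : V3 F) : cr a b ⬝ᵥ b = 0 := by simp only [dot3, cr0, cr1, cr2]; ring
theorem dot_cr_left (a b : V3 F) : a ⬝ᵥ cr a b = 0 := by rw [dotProduct_comm, cr_dot_left]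
theorem dot_cr_right (a b : V3 F) : b ⬝ᵥ cr a b = 0 := by rw [dotProduct_comm, cr_dot_right]

theorem cr_dot_cr (a b c d : V3 F) :
    cr a b ⬝ᵥ cr c d = (c ⬝ᵥ a) * (d ⬝ᵥ b) - (d ⬝ᵥ a) * (c ⬝ᵥ b) := by
  simp only [dot3, cr0, cr1, cr2]; ring

theorem cr_cr (a b c : V3 F) : cr a (cr b c) = (a ⬝ᵥ c) • b - (a ⬝ᵥ b) • c := by
  apply ext3 <;> simp [dot3] <;> ring

theorem cr_comm (a b : V3 F) : cr a b = -cr b a := by apply ext3 <;> simp <;> ring

theorem cr_self (a : V3 F) : cr a a = 0 := by apply ext3 <;> simp [mul_comm]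

theorem cr_smul_left (c : F) (a b : V3 F) : cr (c • a) b = c • cr a b := by
  apply ext3 <;> simp <;> ring

theorem cr_smul_right (c : F) (a b : V3 F) : cr a (c • b) = c • cr a b := by
  apply ext3 <;> simp <;> ring

theorem cr_add_left (a a' b : V3 F) : cr (a + a') b = cr a b + cr a' b := by
  apply ext3 <;> simp <;> ring

theorem cr_add_right (a b b' : V3 F) : cr a (b + b') = cr a b + cr a b' := by
  apply ext3 <;> simp <;> ring

theorem cr_zero_left (a : V3 F) : cr 0 a = 0 := by apply ext3 <;> simp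

theorem cr_zero_right (a : V3 F) : cr a 0 = 0 := by apply ext3 <;> simp

theorem cr_eq_zero_comm {a b : V3 F} : cr a b = 0 ↔ cr b a = 0 := by
  rw [cr_comm, neg_eq_zero]

theorem exists_ne_zero3 {a : V3 F} (ha : a ≠ 0) : a 0 ≠ 0 ∨ a 1 ≠ 0 ∨ a 2 ≠ 0 := by
  by_contra h
  push Not at h
  exact ha (ext3 h.1 h.2.1 h.2.2)

theorem exists_smul_of_cr {a b : V3 F} (hb : b ≠ 0) (h : cr a b = 0) : ∃ c : F, a = c • b := by
  have h0 := congrFun h 0
  have h1 := congrFun h 1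
  have h2 := congrFun h 2
  simp only [cr0, cr1, cr2, Pi.zero_apply] at h0 h1 h2
  rcases exists_ne_zero3 hb with e | e | e
  · refine ⟨a 0 / b 0, ext3 ?_ ?_ ?_⟩ <;> simp only [Pi.smul_apply, smul_eq_mul] <;> field_simp
    · linear_combination -h2
    · linear_combination h1
  · refine ⟨a 1 / b 1, ext3 ?_ ?_ ?_⟩ <;> simp only [Pi.smul_apply, smul_eq_mul] <;> field_simp
    · linear_combination h2
    · linear_combination -h0
  · refine ⟨a 2 / b 2, ext3 ?_ ?_ ?_⟩ <;> simp only [Pi.smul_apply, smul_eq_mul] <;> field_simp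
    · linear_combination -h1
    · linear_combination h0

theorem cr_eq_zero_of_smul {a b : V3 F} {c : F} (h : a = c • b) : cr a b = 0 := by
  rw [h, cr_smul_left, cr_self, smul_zero]

/-- parallelism is transitive through a non-zero vector -/
theorem cr_trans {a b c : V3 F} (hb : b ≠ 0) (h1 : cr a b = 0) (h2 : cr c b = 0) : cr a c = 0 := by
  obtain ⟨s, rfl⟩ := exists_smul_of_cr hb h1
  obtain ⟨t, rfl⟩ := exists_smul_of_cr hb h2
  rw [cr_smul_left, cr_smul_right, cr_self, smul_zero, smul_zero]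

theorem cr_cr_eq_zero {φ x y : V3 F} (h1 : φ ⬝ᵥ x = 0) (h2 : φ ⬝ᵥ y = 0) : cr φ (cr x y) = 0 := by
  rw [cr_cr, h1, h2]; simp

/-- two distinct points lie on only one line -/
theorem cr_eq_zero_of_dots {φ θ x y : V3 F} (hxy : cr x y ≠ 0) (h1 : φ ⬝ᵥ x = 0) (h2 : φ ⬝ᵥ y = 0)
    (h3 : θ ⬝ᵥ x = 0) (h4 : θ ⬝ᵥ y = 0) : cr φ θ = 0 :=
  cr_trans hxy (cr_cr_eq_zero h1 h2) (cr_cr_eq_zero h3 h4)

theorem dot_eq_zero_of_cr {φ θ x : V3 F} (hθ : θ ≠ 0) (h : cr φ θ = 0) (hx : θ ⬝ᵥ x = 0) :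
    φ ⬝ᵥ x = 0 := by
  obtain ⟨c, rfl⟩ := exists_smul_of_cr hθ h
  rw [smul_dotProduct, hx, smul_zero]

theorem dot_eq_zero_of_cr' {φ x y : V3 F} (hy : y ≠ 0) (h : cr x y = 0) (hx : φ ⬝ᵥ y = 0) :
    φ ⬝ᵥ x = 0 := by
  rw [dotProduct_comm] at hx ⊢
  exact dot_eq_zero_of_cr hy h hx

theorem cr_ne_zero_of_dot {φ x y : V3 F} (hx0 : x ≠ 0) (hx : φ ⬝ᵥ x = 0) (hy : φ ⬝ᵥ y ≠ 0) :
    cr y x ≠ 0 := fun h => hy (dot_eq_zero_of_cr' hx0 h hx)

theorem cr_ne_zero_of_dot' {φ θ x : V3 F} (h0 : φ ≠ 0) (hx : φ ⬝ᵥ x = 0) (hy : θ ⬝ᵥ x ≠ 0) :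
    cr θ φ ≠ 0 := fun h => hy (dot_eq_zero_of_cr h0 h hx)

theorem ne_zero_of_dot_left {φ x : V3 F} (h : φ ⬝ᵥ x ≠ 0) : φ ≠ 0 := by
  rintro rfl; simp at h

theorem ne_zero_of_dot_right {φ x : V3 F} (h : φ ⬝ᵥ x ≠ 0) : x ≠ 0 := by
  rintro rfl; simp at h

theorem ne_zero_of_cr_left {a b : V3 F} (h : cr a b ≠ 0) : a ≠ 0 := by
  rintro rfl; exact h (cr_zero_left _)

theorem ne_zero_of_cr_right {a b : V3 F} (h : cr a b ≠ 0) : b ≠ 0 := by
  rintro rfl; exact h (cr_zero_right _)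

theorem exists_dot_ne {x : V3 F} (hx : x ≠ 0) : ∃ φ : V3 F, φ ⬝ᵥ x ≠ 0 := by
  rcases exists_ne_zero3 hx with e | e | e
  · exact ⟨![1, 0, 0], by rw [dot3]; simpa using e⟩
  · exact ⟨![0, 1, 0], by rw [dot3]; simpa using e⟩
  · exact ⟨![0, 0, 1], by rw [dot3]; simpa using e⟩

theorem exists_dot_ne' {φ : V3 F} (h : φ ≠ 0) : ∃ x : V3 F, φ ⬝ᵥ x ≠ 0 := by
  obtain ⟨x, hx⟩ := exists_dot_ne h
  exact ⟨x, by rwa [dotProduct_comm]⟩

theorem eq_zero_of_forall_dot {x : V3 F} (h : ∀ φ : V3 F, φ ⬝ᵥ x = 0) : x = 0 := by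
  by_contra hx
  obtain ⟨φ, hφ⟩ := exists_dot_ne hx
  exact hφ (h φ)

theorem cramer3 (a b c v : V3 F) :
    trip a b c • v = trip v b c • a + trip a v c • b + trip a b v • c := by
  apply ext3 <;> simp [trip_eq] <;> ring

theorem exists_coords {a b c : V3 F} (h : trip a b c ≠ 0) (v : V3 F) :
    ∃ r s t : F, v = r • a + s • b + t • c := by
  refine ⟨trip v b c / trip a b c, trip a v c / trip a b c, trip a b v / trip a b c, ?_⟩
  have := cramer3 a b c v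
  calc v = (trip a b c)⁻¹ • trip a b c • v := by rw [smul_smul, inv_mul_cancel₀ h, one_smul]
    _ = _ := by rw [this]; simp only [smul_add, smul_smul, div_eq_inv_mul]

theorem eq_zero_of_dot_basis {a b c φ : V3 F} (h : trip a b c ≠ 0) (ha : φ ⬝ᵥ a = 0)
    (hb : φ ⬝ᵥ b = 0) (hc : φ ⬝ᵥ c = 0) : φ = 0 := by
  apply eq_zero_of_forall_dot
  intro v
  obtain ⟨r, s, t, rfl⟩ := exists_coords h v
  rw [dotProduct_comm]
  simp [dotProduct_add, ha, hb, hc]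

theorem exists_coords2 {a b v : V3 F} (h : cr a b ≠ 0) (hv : trip a b v = 0) :
    ∃ r s : F, v = r • a + s • b := by
  obtain ⟨c, hc⟩ := exists_dot_ne' h
  obtain ⟨r, s, t, rfl⟩ := exists_coords (a := a) (b := b) (c := c) hc v
  refine ⟨r, s, ?_⟩
  have : t * trip a b c = 0 := by
    rw [← hv]
    simp only [trip, dotProduct_add, dotProduct_smul, cr_dot_left, cr_dot_right, smul_eq_mul]
    ring
  rw [(mul_eq_zero.1 this).resolve_right hc]; simp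

theorem coords_eq_zero {a b c : V3 F} (h : trip a b c ≠ 0) {r s t : F}
    (e : r • a + s • b + t • c = 0) : r = 0 ∧ s = 0 ∧ t = 0 := by
  have h0 := congrFun e 0
  have h1 := congrFun e 1
  have h2 := congrFun e 2
  simp only [Pi.add_apply, Pi.smul_apply, smul_eq_mul, Pi.zero_apply] at h0 h1 h2
  rw [trip_eq] at h
  refine ⟨(mul_eq_zero.1 ?_).resolve_right h, (mul_eq_zero.1 ?_).resolve_right h,
    (mul_eq_zero.1 ?_).resolve_right h⟩
  · linear_combination (b 1 * c 2 - b 2 * c 1) * h0 + (b 2 * c 0 - b 0 * c 2) * h1 +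
      (b 0 * c 1 - b 1 * c 0) * h2
  · linear_combination (c 1 * a 2 - c 2 * a 1) * h0 + (c 2 * a 0 - c 0 * a 2) * h1 +
      (c 0 * a 1 - c 1 * a 0) * h2
  · linear_combination (a 1 * b 2 - a 2 * b 1) * h0 + (a 2 * b 0 - a 0 * b 2) * h1 +
      (a 0 * b 1 - a 1 * b 0) * h2

theorem coords2_eq_zero {a b : V3 F} (h : cr a b ≠ 0) {r s : F}
    (e : r • a + s • b = 0) : r = 0 ∧ s = 0 := by
  obtain ⟨c, hc⟩ := exists_dot_ne' h
  have := coords_eq_zero (a := a) (b := b) (c := c) (t := 0) hc (by rw [e]; simp)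
  exact ⟨this.1, this.2.1⟩

/-! ### action of matrices -/

/-- the action of an invertible matrix on vectors -/
abbrev ac (g : GL (Fin 3) F) (v : V3 F) : V3 F := (g : Matrix (Fin 3) (Fin 3) F) *ᵥ v

theorem ac_mul (g h : GL (Fin 3) F) (v : V3 F) : ac (g * h) v = ac g (ac h v) := by
  simp [ac, mulVec_mulVec]

theorem ac_one (v : V3 F) : ac 1 v = v := by simp [ac]

theorem ac_inv_ac (g : GL (Fin 3) F) (v : V3 F) : ac g⁻¹ (ac g v) = v := by
  rw [← ac_mul, inv_mul_cancel, ac_one]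

theorem ac_ac_inv (g : GL (Fin 3) F) (v : V3 F) : ac g (ac g⁻¹ v) = v := by
  rw [← ac_mul, mul_inv_cancel, ac_one]

theorem ac_add (g : GL (Fin 3) F) (v w : V3 F) : ac g (v + w) = ac g v + ac g w := mulVec_add _ _ _

theorem ac_sub (g : GL (Fin 3) F) (v w : V3 F) : ac g (v - w) = ac g v - ac g w := mulVec_sub _ _ _

theorem ac_smul (g : GL (Fin 3) F) (c : F) (v : V3 F) : ac g (c • v) = c • ac g v :=
  mulVec_smul _ _ _

theorem ac_zero (g : GL (Fin 3) F) : ac g 0 = 0 := mulVec_zero _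

theorem ac_injective (g : GL (Fin 3) F) : Function.Injective (ac g) := fun v w h => by
  rw [← ac_inv_ac g v, h, ac_inv_ac]

theorem ac_ne_zero (g : GL (Fin 3) F) {v : V3 F} (hv : v ≠ 0) : ac g v ≠ 0 := fun h =>
  hv (ac_injective g (h.trans (ac_zero g).symm))

theorem ac_inv_eq {g : GL (Fin 3) F} {v w : V3 F} (h : ac g v = w) : ac g⁻¹ w = v := by
  rw [← h, ac_inv_ac]

theorem ext_ac {g h : GL (Fin 3) F} (H : ∀ v, ac g v = ac h v) : g = h :=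
  Units.ext (Matrix.toLin'.injective (LinearMap.ext H))

theorem mat_ext_basis {A B : Matrix (Fin 3) (Fin 3) F} {a b c : V3 F} (h : trip a b c ≠ 0)
    (ha : A *ᵥ a = B *ᵥ a) (hb : A *ᵥ b = B *ᵥ b) (hc : A *ᵥ c = B *ᵥ c) : A = B := by
  apply Matrix.toLin'.injective
  apply LinearMap.ext
  intro v
  obtain ⟨r, s, t, rfl⟩ := exists_coords h v
  simp only [toLin'_apply, mulVec_add, mulVec_smul, ha, hb, hc]

theorem ext_basis {g h : GL (Fin 3) F} {a b c : V3 F} (H : trip a b c ≠ 0)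
    (ha : ac g a = ac h a) (hb : ac g b = ac h b) (hc : ac g c = ac h c) : g = h :=
  Units.ext (mat_ext_basis H ha hb hc)

theorem forall_of_basis {g : GL (Fin 3) F} {a b c x φ : V3 F} (H : trip a b c ≠ 0)
    (ha : ac g a = a + (φ ⬝ᵥ a) • x) (hb : ac g b = b + (φ ⬝ᵥ b) • x)
    (hc : ac g c = c + (φ ⬝ᵥ c) • x) (v : V3 F) : ac g v = v + (φ ⬝ᵥ v) • x := by
  obtain ⟨r, s, t, rfl⟩ := exists_coords H v
  simp only [ac_add, ac_smul, ha, hb, hc, dotProduct_add, dotProduct_smul, smul_eq_mul]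
  module

/-- the dual action on linear forms -/
abbrev dc (g : GL (Fin 3) F) (φ : V3 F) : V3 F := φ ᵥ* ((g⁻¹ : GL (Fin 3) F) : Matrix (Fin 3) (Fin 3) F)

theorem dc_dot (g : GL (Fin 3) F) (φ v : V3 F) : dc g φ ⬝ᵥ v = φ ⬝ᵥ ac g⁻¹ v := by
  rw [dc, ac, dotProduct_mulVec]

theorem dc_dot_ac (g : GL (Fin 3) F) (φ v : V3 F) : dc g φ ⬝ᵥ ac g v = φ ⬝ᵥ v := by
  rw [dc_dot, ac_inv_ac]

theorem dc_ne_zero (g : GL (Fin 3) F) {φ : V3 F} (h : φ ≠ 0) : dc g φ ≠ 0 := by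
  obtain ⟨x, hx⟩ := exists_dot_ne' h
  exact ne_zero_of_dot_left (x := ac g x) (by rwa [dc_dot_ac])

theorem eq_of_forall_dot {φ ψ : V3 F} (h : ∀ v, φ ⬝ᵥ v = ψ ⬝ᵥ v) : φ = ψ := by
  rw [← sub_eq_zero]
  apply eq_zero_of_forall_dot
  intro v
  rw [dotProduct_comm, sub_dotProduct, h, sub_self]

/-! ### rank one elements -/

theorem vmv_mulVec (w φ v : V3 F) : vecMulVec w φ *ᵥ v = (φ ⬝ᵥ v) • w := by
  apply ext3 <;> simp [mulVec, vecMulVec_apply, dot3] <;> ring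


/-- `g` is the map `v ↦ v + φ(v) x` -/
def IsR (g : GL (Fin 3) F) (x φ : V3 F) : Prop := ∀ v, ac g v = v + (φ ⬝ᵥ v) • x

/-- `K` contains the map `v ↦ v + φ(v) x` -/
def HR (K : Subgroup (GL (Fin 3) F)) (x φ : V3 F) : Prop := ∃ g ∈ K, IsR g x φ

namespace IsR
variable {g h : GL (Fin 3) F} {x x' u φ φ' θ : V3 F}

theorem unique (h1 : IsR g x φ) (h2 : IsR h x φ) : g = h := ext_ac fun v => (h1 v).trans (h2 v).symm

theorem smul_iff (c : F) : IsR g (c • x) φ ↔ IsR g x (c • φ) := by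
  simp only [IsR, smul_dotProduct, smul_smul, smul_eq_mul, mul_comm]

theorem conj (h1 : IsR g x φ) (k : GL (Fin 3) F) : IsR (k * g * k⁻¹) (ac k x) (dc k φ) := by
  intro v
  rw [ac_mul, ac_mul, h1, ac_add, ac_ac_inv, ac_smul, dc_dot]

theorem det_ne (h1 : IsR g x φ) : 1 + φ ⬝ᵥ x ≠ 0 := by
  intro e
  have hx : x ≠ 0 := by rintro rfl; simp at e
  apply ac_ne_zero g hx
  rw [h1 x]
  calc x + (φ ⬝ᵥ x) • x = (1 + φ ⬝ᵥ x) • x := by module
    _ = 0 := by rw [e, zero_smul]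

theorem inv (h1 : IsR g x φ) : IsR g⁻¹ x (-(1 + φ ⬝ᵥ x)⁻¹ • φ) := by
  intro v
  apply ac_injective g
  rw [ac_ac_inv, ac_add, ac_smul, h1, h1, smul_dotProduct]
  have := h1.det_ne
  have e : (φ ⬝ᵥ v) • x + (-(1 + φ ⬝ᵥ x)⁻¹ • (φ ⬝ᵥ v)) • (x + (φ ⬝ᵥ x) • x) =
      ((φ ⬝ᵥ v) * (1 - (1 + φ ⬝ᵥ x)⁻¹ * (1 + φ ⬝ᵥ x))) • x := by
    simp only [smul_eq_mul]; module
  rw [add_assoc, e, inv_mul_cancel₀ this]; simp

theorem mul_right (h1 : IsR g x φ) (h2 : IsR h x φ') :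
    IsR (g * h) x (φ + (1 + φ ⬝ᵥ x) • φ') := by
  intro v
  rw [ac_mul, h2, ac_add, ac_smul, h1, h1]
  simp only [add_dotProduct, smul_dotProduct, smul_eq_mul]
  module

theorem mul_left (h1 : IsR g x φ) (h2 : IsR h x' φ) :
    IsR (g * h) (x' + (1 + φ ⬝ᵥ x') • x) φ := by
  intro v
  rw [ac_mul, h2, ac_add, ac_smul, h1, h1]
  module

theorem dc_eq (h1 : IsR g u θ) (φ : V3 F) :
    dc g φ = φ - ((φ ⬝ᵥ u) * (1 + θ ⬝ᵥ u)⁻¹) • θ := by
  apply eq_of_forall_dot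
  intro v
  rw [dc_dot, h1.inv v]
  simp only [dotProduct_add, dotProduct_smul, smul_dotProduct, sub_dotProduct, smul_eq_mul]
  ring

theorem conj' (h1 : IsR g x φ) (h2 : IsR h u θ) :
    IsR (h * g * h⁻¹) (x + (θ ⬝ᵥ x) • u) (φ - ((φ ⬝ᵥ u) * (1 + θ ⬝ᵥ u)⁻¹) • θ) := by
  have := h1.conj h
  rwa [h2 x, h2.dc_eq] at this

theorem eq_one_iff (h1 : IsR g x φ) : g = 1 ↔ x = 0 ∨ φ = 0 := by
  constructor
  · rintro rfl
    by_contra hc
    push Not at hc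
    obtain ⟨v, hv⟩ := exists_dot_ne' hc.2
    have := h1 v
    rw [ac_one, left_eq_add, smul_eq_zero] at this
    exact this.elim hv hc.1
  · intro hc
    apply ext_ac
    intro v
    rw [h1, ac_one]
    rcases hc with rfl | rfl <;> simp

theorem coe_eq (h1 : IsR g x φ) : (g : Matrix (Fin 3) (Fin 3) F) = 1 + vecMulVec x φ := by
  apply Matrix.toLin'.injective
  apply LinearMap.ext
  intro v
  simp only [toLin'_apply]
  rw [add_mulVec, one_mulVec, vmv_mulVec]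
  exact h1 v

theorem det_eq (h1 : IsR g x φ) : (g : Matrix (Fin 3) (Fin 3) F).det = 1 + φ ⬝ᵥ x := by
  rw [h1.coe_eq, det_fin_three]
  simp [vecMulVec_apply, dot3]
  ring

theorem trace_eq (h1 : IsR g x φ) : (g : Matrix (Fin 3) (Fin 3) F).trace = 3 + φ ⬝ᵥ x := by
  rw [h1.coe_eq, trace_fin_three]
  simp [vecMulVec_apply, dot3]
  ring

end IsR

theorem isR_of_coe {g : GL (Fin 3) F} {x φ : V3 F}
    (h : (g : Matrix (Fin 3) (Fin 3) F) = 1 + vecMulVec x φ) : IsR g x φ := by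
  intro v
  rw [ac, h, add_mulVec, one_mulVec, vmv_mulVec]

theorem isR_one (x : V3 F) : IsR 1 x 0 := fun v => by simp [ac_one]

theorem exists_isR {x φ : V3 F} (h : 1 + φ ⬝ᵥ x ≠ 0) : ∃ g, IsR g x φ := by
  have : (1 + vecMulVec x φ : Matrix (Fin 3) (Fin 3) F).det ≠ 0 := by
    convert h using 1
    rw [det_fin_three]
    simp [vecMulVec_apply, dot3]
    ring
  exact ⟨GeneralLinearGroup.mkOfDetNeZero _ this, isR_of_coe rfl⟩

end CL.MH
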