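/-
The action of a subgroup of `GL₃(F)` on a line of the projective plane, and pairs of opposite
elations.
-/
import Cfsg.Agent.CLAS.MHBasic

set_option autoImplicit false

namespace CL.MH

open Matrix CL.Dk CL.PGL2
open scoped MatrixGroups

variable {F : Type*} [Field F]

/-- `g` acts on the span of `x` and `u` by the matrix `m` -/
def Acts (g : GL (Fin 3) F) (x u : V3 F) (m : Matrix (Fin 2) (Fin 2) F) : Prop :=
  ac g x = m 0 0 • x + m 1 0 • u ∧ ac g u = m 0 1 • x + m 1 1 • u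

theorem Acts.mul {g h : GL (Fin 3) F} {x u : V3 F} {m n : Matrix (Fin 2) (Fin 2) F}
    (h1 : Acts g x u m) (h2 : Acts h x u n) : Acts (g * h) x u (m * n) := by
  constructor
  · rw [ac_mul, h2.1, ac_add, ac_smul, ac_smul, h1.1, h1.2]
    simp only [mul_apply, Fin.sum_univ_two]
    module
  · rw [ac_mul, h2.2, ac_add, ac_smul, ac_smul, h1.1, h1.2]
    simp only [mul_apply, Fin.sum_univ_two]
    module

theorem acts_one (x u : V3 F) : Acts 1 x u 1 := by simp [Acts, ac_one]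

theorem Acts.pow {g : GL (Fin 3) F} {x u : V3 F} {m : Matrix (Fin 2) (Fin 2) F}
    (h1 : Acts g x u m) (n : ℕ) : Acts (g ^ n) x u (m ^ n) := by
  induction n with
  | zero => simpa using acts_one x u
  | succ n ih => rw [pow_succ, pow_succ]; exact ih.mul h1

theorem Acts.inv {g : GL (Fin 3) F} {x u : V3 F} {m n : Matrix (Fin 2) (Fin 2) F}
    (h1 : Acts g x u m) (h : m * n = 1) : Acts g⁻¹ x u n := by
  have e : ∀ i j, m i 0 * n 0 j + m i 1 * n 1 j = (1 : Matrix (Fin 2) (Fin 2) F) i j := by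
    intro i j
    rw [← h, mul_apply, Fin.sum_univ_two]
  have e00 := e 0 0
  have e01 := e 0 1
  have e10 := e 1 0
  have e11 := e 1 1
  simp only [one_apply_eq, ne_eq, zero_ne_one, not_false_eq_true, one_apply_ne, one_ne_zero]
    at e00 e01 e10 e11
  constructor <;> apply ac_inv_eq <;> rw [ac_add, ac_smul, ac_smul, h1.1, h1.2]
  · calc _ = (m 0 0 * n 0 0 + m 0 1 * n 1 0) • x + (m 1 0 * n 0 0 + m 1 1 * n 1 0) • u := by module
      _ = x := by rw [e00, e10]; simp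
  · calc _ = (m 0 0 * n 0 1 + m 0 1 * n 1 1) • x + (m 1 0 * n 0 1 + m 1 1 * n 1 1) • u := by module
      _ = u := by rw [e01, e11]; simp

theorem Acts.unique {g : GL (Fin 3) F} {x u : V3 F} {m n : Matrix (Fin 2) (Fin 2) F}
    (hx : cr x u ≠ 0) (h1 : Acts g x u m) (h2 : Acts g x u n) : m = n := by
  have a := coords2_eq_zero hx (r := m 0 0 - n 0 0) (s := m 1 0 - n 1 0) (by
    have := h1.1.symm.trans h2.1
    linear_combination (norm := module) this)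
  have b := coords2_eq_zero hx (r := m 0 1 - n 0 1) (s := m 1 1 - n 1 1) (by
    have := h1.2.symm.trans h2.2
    linear_combination (norm := module) this)
  ext i j
  fin_cases i <;> fin_cases j
  · exact sub_eq_zero.1 a.1
  · exact sub_eq_zero.1 b.1
  · exact sub_eq_zero.1 a.2
  · exact sub_eq_zero.1 b.2

theorem Acts.det_ne {g : GL (Fin 3) F} {x u : V3 F} {m : Matrix (Fin 2) (Fin 2) F}
    (hx : cr x u ≠ 0) (h1 : Acts g x u m) : m.det ≠ 0 := by
  intro h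
  rw [det_fin_two] at h
  have a : ac g (m 1 1 • x - m 1 0 • u) = 0 := by
    rw [ac_sub, ac_smul, ac_smul, h1.1, h1.2]
    calc _ = (m 0 0 * m 1 1 - m 0 1 * m 1 0) • x := by module
      _ = 0 := by rw [h, zero_smul]
  have b : ac g (m 0 1 • x - m 0 0 • u) = 0 := by
    rw [ac_sub, ac_smul, ac_smul, h1.1, h1.2]
    calc _ = (-(m 0 0 * m 1 1 - m 0 1 * m 1 0)) • u := by module
      _ = 0 := by rw [h, neg_zero, zero_smul]
  have a' := ac_injective g (a.trans (ac_zero g).symm)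
  have b' := ac_injective g (b.trans (ac_zero g).symm)
  have a'' := coords2_eq_zero hx (r := m 1 1) (s := -m 1 0) (by rw [← a']; module)
  have b'' := coords2_eq_zero hx (r := m 0 1) (s := -m 0 0) (by rw [← b']; module)
  apply ac_ne_zero g (ne_zero_of_cr_left hx)
  rw [h1.1, neg_eq_zero.1 a''.2, neg_eq_zero.1 b''.2]; simp

/-- the matrices induced by `K` on the span of `x` and `u` -/
def plane (K : Subgroup (GL (Fin 3) F)) (x u : V3 F) : Subgroup (GL (Fin 2) F) where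
  carrier := {m | ∃ g ∈ K, Acts g x u m}
  mul_mem' := by
    rintro m n ⟨g, hg, h1⟩ ⟨h, hh, h2⟩
    exact ⟨g * h, K.mul_mem hg hh, h1.mul h2⟩
  one_mem' := ⟨1, K.one_mem, acts_one x u⟩
  inv_mem' := by
    rintro m ⟨g, hg, h1⟩
    exact ⟨g⁻¹, K.inv_mem hg, h1.inv (Units.mul_inv m)⟩

/-- the projectivities induced by `K` on the line through `x` and `u` -/
def planeP (K : Subgroup (GL (Fin 3) F)) (x u : V3 F) : Subgroup PGL(2, F) :=
  (plane K x u).map ProjGenLinGroup.mk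

theorem ofMat_mem_planeP {K : Subgroup (GL (Fin 3) F)} {x u : V3 F} {g : GL (Fin 3) F} (hg : g ∈ K)
    {m : Matrix (Fin 2) (Fin 2) F} (hm : m.det ≠ 0) (h : Acts g x u m) :
    ofMat m hm ∈ planeP K x u :=
  ⟨GeneralLinearGroup.mkOfDetNeZero m hm, ⟨g, hg, h⟩, rfl⟩

theorem exists_of_mem_planeP {K : Subgroup (GL (Fin 3) F)} {x u : V3 F}
    {m : Matrix (Fin 2) (Fin 2) F} {hm : m.det ≠ 0} (h : ofMat m hm ∈ planeP K x u) :
    ∃ c : F, c ≠ 0 ∧ ∃ g ∈ K, Acts g x u (c • m) := by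
  obtain ⟨n, ⟨g, hg, h1⟩, e⟩ := h
  rw [← ofMat_coe n n.det_ne_zero, eq_comm, ofMat_eq_iff] at e
  obtain ⟨c, hc⟩ := e
  refine ⟨c, ?_, g, hg, hc ▸ h1⟩
  rintro rfl
  apply n.det_ne_zero
  rw [← hc]; simp

theorem exists_mem_planeP {K : Subgroup (GL (Fin 3) F)} {x u : V3 F} {γ : PGL(2, F)}
    (h : γ ∈ planeP K x u) : ∃ g ∈ K, ∃ m, ∃ hm : m.det ≠ 0, Acts g x u m ∧ γ = ofMat m hm := by
  obtain ⟨n, ⟨g, hg, h1⟩, e⟩ := h
  exact ⟨g, hg, n, n.det_ne_zero, h1, by rw [ofMat_coe, e]⟩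

theorem exists_pow_trick [Finite F] {c : F} (hc : c ≠ 0) : ∃ n : ℕ, c ^ n = 1 ∧ (n : F) = 1 := by
  have := Fintype.ofFinite F
  refine ⟨(Fintype.card F - 1) ^ 2, ?_, ?_⟩
  · rw [sq, pow_mul, FiniteField.pow_card_sub_one_eq_one c hc, one_pow]
  · rw [Nat.cast_pow, Nat.cast_sub Fintype.card_pos, FiniteField.cast_card_eq_zero]
    simp

theorem exists_of_aff_mem [Finite F] {K : Subgroup (GL (Fin 3) F)} {x u : V3 F} {a : F}
    (h : aff 1 a ∈ planeP K x u) : ∃ g ∈ K, ac g x = x ∧ ac g u = u + a • x := by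
  obtain ⟨c, hc, g, hg, h1⟩ := exists_of_mem_planeP h
  obtain ⟨n, hn, hn'⟩ := exists_pow_trick hc
  have h2 := h1.pow n
  have e : ∀ k : ℕ, (!![((1 : Fˣ) : F), a; 0, 1] : Matrix (Fin 2) (Fin 2) F) ^ k =
      !![1, k * a; 0, 1] := by
    intro k
    induction k with
    | zero => ext i j; fin_cases i <;> fin_cases j <;> simp
    | succ k ih =>
      rw [pow_succ, ih]
      ext i j; fin_cases i <;> fin_cases j <;> simp [mul_apply, Fin.sum_univ_two]
      ring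
  rw [_root_.smul_pow, hn, one_smul, e, hn'] at h2
  refine ⟨g ^ n, K.pow_mem hg n, by simpa using h2.1, ?_⟩
  rw [h2.2]; simp [add_comm]

theorem exists_of_low_mem [Finite F] {K : Subgroup (GL (Fin 3) F)} {x u : V3 F} {a : F}
    (h : low a ∈ planeP K x u) : ∃ g ∈ K, ac g u = u ∧ ac g x = x + a • u := by
  obtain ⟨c, hc, g, hg, h1⟩ := exists_of_mem_planeP h
  obtain ⟨n, hn, hn'⟩ := exists_pow_trick hc
  have h2 := h1.pow n
  have e : ∀ k : ℕ, (!![1, 0; a, 1] : Matrix (Fin 2) (Fin 2) F) ^ k = !![1, 0; k * a, 1] := by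
    intro k
    induction k with
    | zero => ext i j; fin_cases i <;> fin_cases j <;> simp
    | succ k ih =>
      rw [pow_succ, ih]
      ext i j; fin_cases i <;> fin_cases j <;> simp [mul_apply, Fin.sum_univ_two]
      ring
  rw [_root_.smul_pow, hn, one_smul, e, hn'] at h2
  refine ⟨g ^ n, K.pow_mem hg n, by simpa using h2.2, ?_⟩
  rw [h2.1]; simp

theorem aff_mem_planeP {K : Subgroup (GL (Fin 3) F)} {x u : V3 F} {a : F} {g : GL (Fin 3) F}
    (hg : g ∈ K) (h1 : ac g x = x) (h2 : ac g u = u + a • x) : aff 1 a ∈ planeP K x u :=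
  ofMat_mem_planeP hg _ ⟨by simpa using h1, by rw [h2]; simp [add_comm]⟩

theorem low_mem_planeP {K : Subgroup (GL (Fin 3) F)} {x u : V3 F} {a : F} {g : GL (Fin 3) F}
    (hg : g ∈ K) (h1 : ac g u = u) (h2 : ac g x = x + a • u) : low a ∈ planeP K x u :=
  ofMat_mem_planeP hg _ ⟨by rw [h2]; simp, by simpa using h1⟩

/-- the elements of `K` fixing the vector `w` -/
def fixV (K : Subgroup (GL (Fin 3) F)) (w : V3 F) : Subgroup (GL (Fin 3) F) where
  carrier := {g | g ∈ K ∧ ac g w = w}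
  mul_mem' := by
    rintro g h ⟨h1, h2⟩ ⟨h3, h4⟩
    exact ⟨K.mul_mem h1 h3, by rw [ac_mul, h4, h2]⟩
  one_mem' := ⟨K.one_mem, ac_one w⟩
  inv_mem' := by
    rintro g ⟨h1, h2⟩
    exact ⟨K.inv_mem h1, ac_inv_eq h2⟩

theorem mem_fixV {K : Subgroup (GL (Fin 3) F)} {w : V3 F} {g : GL (Fin 3) F} :
    g ∈ fixV K w ↔ g ∈ K ∧ ac g w = w := Iff.rfl

/-- the elements of `K` fixing the linear form `ψ` -/
def fixD (K : Subgroup (GL (Fin 3) F)) (ψ : V3 F) : Subgroup (GL (Fin 3) F) where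
  carrier := {g | g ∈ K ∧ ∀ v, ψ ⬝ᵥ ac g v = ψ ⬝ᵥ v}
  mul_mem' := by
    rintro g h ⟨h1, h2⟩ ⟨h3, h4⟩
    exact ⟨K.mul_mem h1 h3, fun v => by rw [ac_mul, h2, h4]⟩
  one_mem' := ⟨K.one_mem, fun v => by rw [ac_one]⟩
  inv_mem' := by
    rintro g ⟨h1, h2⟩
    exact ⟨K.inv_mem h1, fun v => by rw [← h2, ac_ac_inv]⟩

theorem mem_fixD {K : Subgroup (GL (Fin 3) F)} {ψ : V3 F} {g : GL (Fin 3) F} :
    g ∈ fixD K ψ ↔ g ∈ K ∧ ∀ v, ψ ⬝ᵥ ac g v = ψ ⬝ᵥ v := Iff.rfl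

/-- `K` contains the transvection `v ↦ v + φ(v) x` -/
def TV (K : Subgroup (GL (Fin 3) F)) (x φ : V3 F) : Prop := φ ⬝ᵥ x = 0 ∧ HR K x φ

theorem trip_cr (x u φ θ : V3 F) :
    trip x u (cr φ θ) = (φ ⬝ᵥ x) * (θ ⬝ᵥ u) - (θ ⬝ᵥ x) * (φ ⬝ᵥ u) := cr_dot_cr _ _ _ _

theorem trip_smul_mid (c : F) (x u w : V3 F) : trip x (c • u) w = c * trip x u w := by
  simp only [trip_eq, Pi.smul_apply, smul_eq_mul]; ring

theorem trip_swap (x u w : V3 F) : trip u x w = -trip x u w := by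
  simp only [trip_eq]; ring

theorem trip_cyc (x u w : V3 F) : trip u w x = trip x u w := by
  simp only [trip_eq]; ring

theorem pair_tv [Finite F] {K : Subgroup (GL (Fin 3) F)} {x φ u θ : V3 F} (h1 : TV K x φ)
    (h2 : TV K u θ) (hm : (φ ⬝ᵥ u) * (θ ⬝ᵥ x) ≠ 0) :
    (∃ k : Subfield F, (φ ⬝ᵥ u) * (θ ⬝ᵥ x) ∈ k ∧ (∀ a : F, TV K x (a • φ) ↔ a ∈ k) ∧
      ∀ b : F, TV K u (b • θ) ↔ b ∈ k) ∨
    ((2 : F) = 0 ∧ (∀ a : F, TV K x (a • φ) → a = 0 ∨ a = 1) ∧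
      ∀ b : F, TV K u (b • θ) → b = 0 ∨ b = 1) ∨
    ((3 : F) = 0 ∧ ((φ ⬝ᵥ u) * (θ ⬝ᵥ x)) ^ 2 = -1 ∧ (∀ a : F, TV K x (a • φ) → a ^ 3 = a) ∧
      ∀ b : F, TV K u (b • θ) → b ^ 3 = b) := by
  set m := (φ ⬝ᵥ u) * (θ ⬝ᵥ x) with hmdef
  set w := cr φ θ
  have hθx : θ ⬝ᵥ x ≠ 0 := right_ne_zero_of_mul hm
  have ht : trip x ((θ ⬝ᵥ x) • u) w ≠ 0 := by
    rw [trip_smul_mid, trip_cr, h1.1, h2.1]
    refine mul_ne_zero hθx ?_
    rw [zero_mul, zero_sub, neg_ne_zero, mul_comm]; exact hm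
  have hφw : φ ⬝ᵥ w = 0 := dot_cr_left _ _
  have hθw : θ ⬝ᵥ w = 0 := dot_cr_right _ _
  let H := planeP (fixV K w) x ((θ ⬝ᵥ x) • u)
  have hA : ∀ a : F, TV K x (a • φ) ↔ aff 1 (a * m) ∈ H := by
    intro a
    constructor
    · rintro ⟨-, g, hg, hr⟩
      refine aff_mem_planeP (g := g) ⟨hg, ?_⟩ ?_ ?_
      · rw [hr]; simp [hφw]
      · rw [hr]; simp [h1.1]
      · rw [hr]; simp only [smul_dotProduct, dotProduct_smul, smul_eq_mul, hmdef]
        congr 2; ring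
    · intro h
      obtain ⟨g, ⟨hg, hw⟩, e1, e2⟩ := exists_of_aff_mem h
      refine ⟨by simp [h1.1], g, hg, forall_of_basis ht ?_ ?_ ?_⟩
      · rw [e1]; simp [h1.1]
      · rw [e2]; simp only [smul_dotProduct, dotProduct_smul, smul_eq_mul, hmdef]
        congr 2; ring
      · rw [hw]; simp [hφw]
  have hB : ∀ b : F, TV K u (b • θ) ↔ low b ∈ H := by
    intro b
    constructor
    · rintro ⟨-, g, hg, hr⟩
      refine low_mem_planeP (g := g) ⟨hg, ?_⟩ ?_ ?_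
      · rw [hr]; simp [hθw]
      · rw [hr]; simp [h2.1]
      · rw [hr]; simp only [smul_dotProduct, smul_eq_mul, smul_smul]
    · intro h
      obtain ⟨g, ⟨hg, hw⟩, e1, e2⟩ := exists_of_low_mem h
      refine ⟨by simp [h2.1], g, hg, forall_of_basis ht ?_ ?_ ?_⟩
      · rw [e2]; simp only [smul_dotProduct, smul_eq_mul, smul_smul]
      · rw [e1]; simp [h2.1]
      · rw [hw]; simp [hθw]
  have a1 : aff 1 m ∈ H := by
    have := (hA 1).1 (by rwa [one_smul])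
    rwa [one_mul] at this
  have b1 : low 1 ∈ H := (hB 1).1 (by rwa [one_smul])
  rcases pair_pgl H b1 hm a1 with ⟨k, k1, k2⟩ | ⟨k0, k1, k2⟩ | ⟨k0, k3, k1, k2⟩
  · have hmk := (k1 m).1 a1
    refine Or.inl ⟨k, hmk, fun a => ?_, fun b => (hB b).trans (k2 b)⟩
    rw [hA, k1]
    refine ⟨fun h => ?_, fun h => k.mul_mem h hmk⟩
    have := k.mul_mem h (k.inv_mem hmk)
    rwa [mul_assoc, mul_inv_cancel₀ hm, mul_one] at this
  · refine Or.inr (Or.inl ⟨k0, fun a ha => ?_, fun b hb => k2 b ((hB b).1 hb)⟩)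
    rcases k1 _ ((hA a).1 ha) with h | h
    · exact Or.inl ((mul_eq_zero.1 h).resolve_right hm)
    · exact Or.inr (mul_right_cancel₀ hm (by rw [h, one_mul]))
  · refine Or.inr (Or.inr ⟨k0, k3, fun a ha => ?_,
      fun b hb => cube_eq_self_iff.2 (k2 b ((hB b).1 hb))⟩)
    rw [cube_eq_self_iff]
    rcases k1 _ ((hA a).1 ha) with h | h | h
    · exact Or.inl ((mul_eq_zero.1 h).resolve_right hm)
    · exact Or.inr (Or.inl (mul_right_cancel₀ hm (by rw [h, one_mul])))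
    · exact Or.inr (Or.inr (mul_right_cancel₀ hm (by rw [h, neg_one_mul])))

end CL.MH
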