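/-
Irreducible systems of transvections in dimension three: the field of definition.
-/
import Cfsg.Agent.CLAS.MHPlane

set_option autoImplicit false

namespace CL.MH

open Matrix

variable {F : Type*} [Field F]

/-- The combinatorial properties of the set of transvections of an irreducible group. -/
structure TS (T : V3 F → V3 F → Prop) : Prop where
  dot : ∀ {x φ}, T x φ → φ ⬝ᵥ x = 0
  smul : ∀ {x φ} (c : F), T (c • x) φ ↔ T x (c • φ)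
  zero : ∀ x, T x 0
  add_right : ∀ {x φ φ'}, T x φ → T x φ' → T x (φ + φ')
  add_left : ∀ {x x' φ}, T x φ → T x' φ → T (x + x') φ
  neg : ∀ {x φ}, T x φ → T x (-φ)
  conj : ∀ {x φ u θ}, T x φ → T u θ → T (x + (θ ⬝ᵥ x) • u) (φ - (φ ⬝ᵥ u) • θ)
  pair : ∀ {x φ u θ}, T x φ → T u θ → (φ ⬝ᵥ u) * (θ ⬝ᵥ x) ≠ 0 →
    (∃ k : Subfield F, (φ ⬝ᵥ u) * (θ ⬝ᵥ x) ∈ k ∧ (∀ a : F, T x (a • φ) ↔ a ∈ k) ∧
      ∀ b : F, T u (b • θ) ↔ b ∈ k) ∨
    ((2 : F) = 0 ∧ (∀ a : F, T x (a • φ) → a = 0 ∨ a = 1) ∧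
      ∀ b : F, T u (b • θ) → b = 0 ∨ b = 1) ∨
    ((3 : F) = 0 ∧ ((φ ⬝ᵥ u) * (θ ⬝ᵥ x)) ^ 2 = -1 ∧ (∀ a : F, T x (a • φ) → a ^ 3 = a) ∧
      ∀ b : F, T u (b • θ) → b ^ 3 = b)
  hP : ∀ v, v ≠ 0 → ∃ x φ, T x φ ∧ x ≠ 0 ∧ φ ⬝ᵥ v ≠ 0
  hL : ∀ ψ, ψ ≠ 0 → ∃ x φ, T x φ ∧ φ ≠ 0 ∧ ψ ⬝ᵥ x ≠ 0

theorem conj_ne_left {x u θ : V3 F} (hx : x ≠ 0) (h : θ ⬝ᵥ u = 0) : x + (θ ⬝ᵥ x) • u ≠ 0 := by
  intro e
  have h1 : θ ⬝ᵥ (x + (θ ⬝ᵥ x) • u) = 0 := by rw [e, dotProduct_zero]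
  rw [dotProduct_add, dotProduct_smul, h, smul_zero, add_zero] at h1
  rw [h1, zero_smul, add_zero] at e
  exact hx e

theorem conj_ne_right {φ u θ : V3 F} (hx : φ ≠ 0) (h : θ ⬝ᵥ u = 0) : φ - (φ ⬝ᵥ u) • θ ≠ 0 := by
  intro e
  have h1 : (φ - (φ ⬝ᵥ u) • θ) ⬝ᵥ u = 0 := by rw [e, zero_dotProduct]
  rw [sub_dotProduct, smul_dotProduct, h, smul_zero, sub_zero] at h1
  rw [h1, zero_smul, sub_zero] at e
  exact hx e

namespace TS

variable {T : V3 F → V3 F → Prop} (S : TS T) {x x' u y φ φ' θ η : V3 F}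
include S

theorem zero_left (φ : V3 F) : T 0 φ := by
  have := (S.smul (x := 0) (φ := φ) 0).2 (by rw [zero_smul]; exact S.zero 0)
  rwa [zero_smul] at this

theorem neg_left (h : T x φ) : T (-x) φ := by
  have := (S.smul (x := x) (φ := φ) (-1)).2 (by rw [neg_one_smul]; exact S.neg h)
  rwa [neg_one_smul] at this

theorem sub_right (h : T x φ) (h' : T x φ') : T x (φ - φ') := by
  rw [sub_eq_add_neg]; exact S.add_right h (S.neg h')

theorem sub_left (h : T x φ) (h' : T x' φ) : T (x - x') φ := by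
  rw [sub_eq_add_neg]; exact S.add_left h (S.neg_left h')

theorem flip : TS (fun φ x => T x φ) where
  dot h := by rw [dotProduct_comm]; exact S.dot h
  smul c := (S.smul c).symm
  zero := S.zero_left
  add_right := S.add_left
  add_left := S.add_right
  neg := S.neg_left
  conj {φ x θ u} h h' := by
    have := S.conj h (S.neg h')
    rw [neg_dotProduct, neg_smul, ← sub_eq_add_neg, smul_neg, sub_neg_eq_add,
      dotProduct_comm θ, dotProduct_comm φ] at this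
    exact this
  pair {φ x θ u} h h' hm := by
    rw [dotProduct_comm x, dotProduct_comm u, mul_comm] at hm ⊢
    simp only [S.smul]
    exact S.pair h h' hm
  hP ψ hψ := by
    obtain ⟨x, φ, h1, h2, h3⟩ := S.hL ψ hψ
    exact ⟨φ, x, h1, h2, by rwa [dotProduct_comm]⟩
  hL v hv := by
    obtain ⟨x, φ, h1, h2, h3⟩ := S.hP v hv
    exact ⟨φ, x, h1, h2, by rwa [dotProduct_comm]⟩

theorem comm_left (h : T x φ) (h' : T u θ) (h0 : φ ⬝ᵥ u = 0) : T u ((θ ⬝ᵥ x) • φ) := by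
  have := S.conj h h'
  rw [h0, zero_smul, sub_zero] at this
  have := S.sub_left this h
  rwa [add_sub_cancel_left, S.smul] at this

theorem comm_right (h : T x φ) (h' : T u θ) (h0 : θ ⬝ᵥ x = 0) : T x ((φ ⬝ᵥ u) • θ) := by
  have := S.conj h h'
  rw [h0, zero_smul, add_zero] at this
  have := S.sub_right h this
  rwa [sub_sub_cancel] at this

theorem exists_opp (h : T x φ) (hx : x ≠ 0) (hφ : φ ≠ 0) :
    ∃ u θ, T u θ ∧ φ ⬝ᵥ u ≠ 0 ∧ θ ⬝ᵥ x ≠ 0 := by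
  obtain ⟨u1, θ1, h1, hu1, e1⟩ := S.hP x hx
  obtain ⟨u2, θ2, h2, hθ2, e2⟩ := S.hL φ hφ
  by_cases a1 : φ ⬝ᵥ u1 = 0
  swap
  · exact ⟨u1, θ1, h1, a1, e1⟩
  by_cases a2 : θ2 ⬝ᵥ x = 0
  swap
  · exact ⟨u2, θ2, h2, e2, a2⟩
  refine ⟨_, _, S.conj h1 h2, ?_, ?_⟩
  · rw [dotProduct_add, dotProduct_smul, a1, zero_add, smul_eq_mul]
    refine mul_ne_zero (fun a3 => e2 ?_) e2
    have hc := cr_ne_zero_of_dot hu1 (S.dot h1) e1
    exact dot_eq_zero_of_cr hθ2 (cr_eq_zero_of_dots hc (S.dot h) a1 a2 a3) (S.dot h2)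
  · rwa [sub_dotProduct, smul_dotProduct, a2, smul_zero, sub_zero]

theorem exists_nontrivial : ∃ x φ, T x φ ∧ x ≠ 0 ∧ φ ≠ 0 := by
  obtain ⟨x, φ, h1, h2, h3⟩ := S.hP ![1, 0, 0] (fun h => by simpa using congrFun h 0)
  exact ⟨x, φ, h1, h2, ne_zero_of_dot_left h3⟩

end TS

/-- the transvection group of the flag `(x, φ)` is `k φ` -/
def Big (T : V3 F → V3 F → Prop) (k : Subfield F) (x φ : V3 F) : Prop :=
  ∀ a : F, T x (a • φ) ↔ a ∈ k

/-- `k` is not the prime field of characteristic two or three -/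
def NS (k : Subfield F) : Prop :=
  ((2 : F) = 0 → ∃ a ∈ k, a ≠ 0 ∧ a ≠ 1) ∧ ((3 : F) = 0 → ∃ a ∈ k, a ^ 3 ≠ a)

theorem NS.mono {k k' : Subfield F} (h : NS k) (hle : k ≤ k') : NS k' :=
  ⟨fun e => let ⟨a, ha, h'⟩ := h.1 e; ⟨a, hle ha, h'⟩,
    fun e => let ⟨a, ha, h'⟩ := h.2 e; ⟨a, hle ha, h'⟩⟩

theorem Big.self {T : V3 F → V3 F → Prop} {k : Subfield F} {x φ : V3 F} (h : Big T k x φ) :
    T x φ := by
  have := (h 1).2 k.one_mem
  rwa [one_smul] at this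

/-- all transvection groups are defined over `k` -/
structure RM (T : V3 F → V3 F → Prop) (k : Subfield F) : Prop where
  big : ∀ {x φ}, T x φ → x ≠ 0 → φ ≠ 0 → Big T k x φ
  mem : ∀ {x φ u θ}, T x φ → T u θ → (φ ⬝ᵥ u) * (θ ⬝ᵥ x) ∈ k

/-- the point `x` is the centre of transvections with two different axes -/
def TwoAx (T : V3 F → V3 F → Prop) (x : V3 F) : Prop := ∃ φ φ', T x φ ∧ T x φ' ∧ cr φ φ' ≠ 0

def CaseA (T : V3 F → V3 F → Prop) : Prop := ∃ x, x ≠ 0 ∧ TwoAx T x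

def Kill (T : V3 F → V3 F → Prop) : Prop :=
  ∀ x u θ, x ≠ 0 → TwoAx T x → T u θ → θ ⬝ᵥ x ≠ 0 → ∃ ψ, ψ ≠ 0 ∧ T x ψ ∧ ψ ⬝ᵥ u = 0

namespace TS

variable {T : V3 F → V3 F → Prop} (S : TS T) {x x' u y φ φ' θ η : V3 F} {k : Subfield F}
include S

theorem big_flip : Big (fun φ x => T x φ) k φ x ↔ Big T k x φ := by
  simp only [Big, S.smul]

theorem big_smul (c : F) : Big T k (c • x) φ ↔ Big T k x (c • φ) := by
  simp only [Big, S.smul, smul_comm c]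

theorem opp_of_sup (hk : NS k) (h : ∀ a ∈ k, T x (a • φ)) (h' : T u θ)
    (hm : (φ ⬝ᵥ u) * (θ ⬝ᵥ x) ≠ 0) :
    ∃ k' : Subfield F, (φ ⬝ᵥ u) * (θ ⬝ᵥ x) ∈ k' ∧ Big T k' x φ ∧ Big T k' u θ := by
  have h1 : T x φ := by simpa using h 1 k.one_mem
  rcases S.pair h1 h' hm with h2 | ⟨h2, h3, -⟩ | ⟨h2, -, h3, -⟩
  · exact h2
  · obtain ⟨a, ha, a0, a1⟩ := hk.1 h2
    exact ((h3 a (h a ha)).elim a0 a1).elim
  · obtain ⟨a, ha, a0⟩ := hk.2 h2
    exact (a0 (h3 a (h a ha))).elim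

theorem big_opp (hk : NS k) (h : Big T k x φ) (h' : T u θ) (hm : (φ ⬝ᵥ u) * (θ ⬝ᵥ x) ≠ 0) :
    Big T k u θ ∧ (φ ⬝ᵥ u) * (θ ⬝ᵥ x) ∈ k := by
  obtain ⟨k', h1, h2, h3⟩ := S.opp_of_sup hk (fun a ha => (h a).2 ha) h' hm
  have : k' = k := SetLike.ext fun a => (h2 a).symm.trans (h a)
  subst this
  exact ⟨h3, h1⟩

theorem sup_centre (hk : NS k) (h : Big T k x φ) (hx : x ≠ 0) (hφ : φ ≠ 0) (h' : T x φ') :
    ∀ a ∈ k, T x (a • φ') := by
  obtain ⟨u, θ, h1, e1, e2⟩ := S.exists_opp h.self hx hφ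
  have hu := (S.big_opp hk h h1 (mul_ne_zero e1 e2)).1
  intro a ha
  by_cases e3 : φ' ⬝ᵥ u = 0
  · have h2 := (S.big_opp hk hu (S.add_right h.self h') (mul_ne_zero e2 (by
      rwa [add_dotProduct, e3, add_zero]))).1
    have := S.sub_right ((h2 a).2 ha) ((h a).2 ha)
    rwa [smul_add, add_sub_cancel_left] at this
  · exact ((S.big_opp hk hu h' (mul_ne_zero e2 e3)).1 a).2 ha

theorem big_centre (hk : NS k) (h : Big T k x φ) (hx : x ≠ 0) (hφ : φ ≠ 0) (h' : T x φ')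
    (hφ' : φ' ≠ 0) : Big T k x φ' := by
  have h1 := S.sup_centre hk h hx hφ h'
  obtain ⟨u, θ, h2, e1, e2⟩ := S.exists_opp h' hx hφ'
  obtain ⟨k', -, h3, -⟩ := S.opp_of_sup hk h1 h2 (mul_ne_zero e1 e2)
  have hle : k ≤ k' := fun a ha => (h3 a).1 (h1 a ha)
  have h4 := S.sup_centre (hk.mono hle) h3 hx hφ' h.self
  have : k' = k := le_antisymm (fun a ha => (h a).1 (h4 a ha)) hle
  exact this ▸ h3

theorem big_centre' (hk : NS k) (h : Big T k x φ) (hx : x ≠ 0) (hφ : φ ≠ 0) (h' : T u θ)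
    (hu : u ≠ 0) (hθ : θ ≠ 0) (hc : cr u x = 0) : Big T k u θ := by
  obtain ⟨c, rfl⟩ := exists_smul_of_cr hx hc
  rw [S.big_smul]
  exact S.big_centre hk h hx hφ ((S.smul c).1 h')
    (smul_ne_zero (fun e => hu (by rw [e, zero_smul])) hθ)

theorem big_axis' (hk : NS k) (h : Big T k x φ) (hx : x ≠ 0) (hφ : φ ≠ 0) (h' : T u θ)
    (hu : u ≠ 0) (hθ : θ ≠ 0) (hc : cr θ φ = 0) : Big T k u θ :=
  S.big_flip.1 (S.flip.big_centre' hk (S.big_flip.2 h) hφ hx h' hθ hu hc)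

theorem big_all (hk : NS k) (h : Big T k x φ) (hx : x ≠ 0) (hφ : φ ≠ 0) (h' : T u θ)
    (hu : u ≠ 0) (hθ : θ ≠ 0) : Big T k u θ := by
  by_cases e1 : φ ⬝ᵥ u = 0 <;> by_cases e2 : θ ⬝ᵥ x = 0
  · by_cases hc : cr u x = 0
    · exact S.big_centre' hk h hx hφ h' hu hθ hc
    · exact S.big_axis' hk h hx hφ h' hu hθ
        (cr_eq_zero_of_dots hc (S.dot h') e2 e1 (S.dot h.self))
  · have h1 := S.comm_left h.self h' e1
    have h2 := smul_ne_zero e2 hφ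
    exact S.big_centre hk (S.big_axis' hk h hx hφ h1 hu h2 (cr_eq_zero_of_smul rfl)) hu h2 h' hθ
  · have h1 := S.comm_right h.self h' e2
    have h2 := smul_ne_zero e1 hθ
    exact S.big_axis' hk (S.big_centre hk h hx hφ h1 h2) hx h2 h' hu hθ
      (cr_eq_zero_comm.1 (cr_eq_zero_of_smul rfl))
  · exact (S.big_opp hk h h' (mul_ne_zero e1 e2)).1

theorem rm_of_big (hk : NS k) (h : Big T k x φ) (hx : x ≠ 0) (hφ : φ ≠ 0) : RM T k where
  big h' hu hθ := S.big_all hk h hx hφ h' hu hθ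
  mem {y η u θ} h1 h2 := by
    by_cases hm : (η ⬝ᵥ u) * (θ ⬝ᵥ y) = 0
    · rw [hm]; exact k.zero_mem
    · exact (S.big_opp hk (S.big_all hk h hx hφ h1 (ne_zero_of_dot_right (right_ne_zero_of_mul hm))
        (ne_zero_of_dot_left (left_ne_zero_of_mul hm))) h2 hm).2

theorem rm_flip (h : RM T k) : RM (fun φ x => T x φ) k where
  big h1 h2 h3 := S.big_flip.2 (h.big h1 h3 h2)
  mem h1 h2 := by
    rw [dotProduct_comm, mul_comm, dotProduct_comm]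
    exact h.mem h1 h2

theorem twoAx_smul {c : F} (hc : c ≠ 0) (h : TwoAx T x) : TwoAx T (c • x) := by
  obtain ⟨φ, φ', h1, h2, h3⟩ := h
  refine ⟨c⁻¹ • φ, c⁻¹ • φ', ?_, ?_, ?_⟩
  · rwa [S.smul, smul_smul, mul_inv_cancel₀ hc, one_smul]
  · rwa [S.smul, smul_smul, mul_inv_cancel₀ hc, one_smul]
  · rw [cr_smul_left, cr_smul_right]
    exact smul_ne_zero (inv_ne_zero hc) (smul_ne_zero (inv_ne_zero hc) h3)

theorem kill_of_rm (h : RM T k) : Kill T := by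
  rintro x u θ hx ⟨φ, φ', h1, h2, h3⟩ h' e
  by_cases e1 : φ ⬝ᵥ u = 0
  · exact ⟨φ, ne_zero_of_cr_left h3, h1, e1⟩
  refine ⟨((φ' ⬝ᵥ u) * (θ ⬝ᵥ x)) • φ - ((φ ⬝ᵥ u) * (θ ⬝ᵥ x)) • φ', fun e2 => ?_,
    S.sub_right ((h.big h1 hx (ne_zero_of_cr_left h3) _).2 (h.mem h2 h'))
      ((h.big h2 hx (ne_zero_of_cr_right h3) _).2 (h.mem h1 h')), ?_⟩
  · rw [sub_eq_add_neg, ← neg_smul] at e2
    exact mul_ne_zero e1 e (neg_eq_zero.1 (coords2_eq_zero h3 e2).2)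
  · simp only [sub_dotProduct, smul_dotProduct, smul_eq_mul]; ring

theorem twoAx_step (hK : Kill T) (hx : x ≠ 0) (h : TwoAx T x) (h' : T u θ) (e : θ ⬝ᵥ x ≠ 0) :
    TwoAx T u := by
  obtain ⟨ψ, h1, h2, h3⟩ := hK x u θ hx h h' e
  refine ⟨θ, _, h', S.comm_left h2 h' h3, ?_⟩
  rw [cr_smul_right]
  exact smul_ne_zero e (cr_ne_zero_of_dot' h1 (S.dot h2) e)

theorem twoAx_all (hK : Kill T) (hA : CaseA T) (h' : T u θ) (hu : u ≠ 0) (hθ : θ ≠ 0) :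
    TwoAx T u := by
  obtain ⟨x, hx, h⟩ := hA
  by_cases e : θ ⬝ᵥ x = 0
  swap
  · exact S.twoAx_step hK hx h h' e
  by_cases hc : cr u x = 0
  · obtain ⟨c, rfl⟩ := exists_smul_of_cr hx hc
    exact S.twoAx_smul (fun e => hu (by rw [e, zero_smul])) h
  obtain ⟨ψ, h1, h2⟩ : ∃ ψ, T x ψ ∧ ψ ⬝ᵥ u ≠ 0 := by
    obtain ⟨φ, φ', h1, h2, h3⟩ := h
    by_contra hn
    push Not at hn
    exact h3 (cr_eq_zero_of_dots hc (hn φ h1) (S.dot h1) (hn φ' h2) (S.dot h2))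
  obtain ⟨y, η, h3, e1, e2⟩ := S.exists_opp (S.comm_right h1 h' e) hx (smul_ne_zero h2 hθ)
  rw [smul_dotProduct, smul_eq_mul] at e1
  exact S.twoAx_step hK (ne_zero_of_dot_right (right_ne_zero_of_mul e1))
    (S.twoAx_step hK hx h h3 e2) h' (right_ne_zero_of_mul e1)

theorem caseA_of_flip (hK : Kill (fun φ x => T x φ)) (hA : CaseA (fun φ x => T x φ)) : CaseA T := by
  obtain ⟨φ, hφ, h⟩ := hA
  obtain ⟨u, θ, h1, hθ, e⟩ := S.hL φ hφ
  obtain ⟨y, hy, h2, h3⟩ := hK φ θ u hφ h h1 (by rwa [dotProduct_comm])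
  rw [dotProduct_comm] at h3
  refine ⟨y, hy, φ, _, h2, S.comm_right h2 h1 h3, ?_⟩
  rw [cr_smul_right]
  exact smul_ne_zero e (cr_ne_zero_of_dot' hθ (S.dot h1) e)

theorem dichB (hA : ¬ CaseA T) (hA' : ¬ CaseA (fun φ x => T x φ)) (h : T x φ) (hx : x ≠ 0)
    (hφ : φ ≠ 0) (h' : T u θ) (hu : u ≠ 0) (hθ : θ ≠ 0) :
    (cr x u = 0 ∧ cr φ θ = 0) ∨ (φ ⬝ᵥ u ≠ 0 ∧ θ ⬝ᵥ x ≠ 0) := by
  by_cases c1 : cr x u = 0
  · refine Or.inl ⟨c1, ?_⟩
    obtain ⟨c, rfl⟩ := exists_smul_of_cr hu c1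
    have hc : c ≠ 0 := fun e => hx (by rw [e, zero_smul])
    by_contra c2
    exact hA ⟨u, hu, c • φ, θ, (S.smul c).1 h, h', by rw [cr_smul_left]; exact smul_ne_zero hc c2⟩
  have c2 : cr φ θ ≠ 0 := by
    intro c2
    obtain ⟨c, rfl⟩ := exists_smul_of_cr hθ c2
    have hc : c ≠ 0 := fun e => hφ (by rw [e, zero_smul])
    exact hA' ⟨θ, hθ, c • x, u, (S.smul c).2 h, h', by rw [cr_smul_left]; exact smul_ne_zero hc c1⟩
  right
  by_cases e1 : φ ⬝ᵥ u = 0 <;> by_cases e2 : θ ⬝ᵥ x = 0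
  · exact (c2 (cr_eq_zero_of_dots c1 (S.dot h) e1 e2 (S.dot h'))).elim
  · exact (hA ⟨u, hu, _, θ, S.comm_left h h' e1, h', by
      rw [cr_smul_left]; exact smul_ne_zero e2 c2⟩).elim
  · exact (hA ⟨x, hx, φ, _, h, S.comm_right h h' e2, by
      rw [cr_smul_right]; exact smul_ne_zero e1 c2⟩).elim
  · exact ⟨e1, e2⟩

end TS

/-! ### The exceptional configuration in characteristic three does not occur -/

theorem nine_aux {i x y d : F} (h3 : (3 : F) = 0) (hi : i ^ 2 = -1) (hx : x ^ 4 = 1)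
    (hy : y ^ 4 = 1) (a1 : (i - x * y + d) ^ 4 = 1) (a2 : (i - x * y - d) ^ 4 = 1)
    (b1 : (x - i * y + d) ^ 4 = 1) (b2 : (x - i * y - d) ^ 4 = 1)
    (c1 : (y - i * x + d) ^ 4 = 1) (c2 : (y - i * x - d) ^ 4 = 1) : d ^ 2 + i * x * y = 0 := by
  have key : ∀ u : F, (u + d) ^ 4 = 1 → (u - d) ^ 4 = 1 →
      d ^ 4 = 1 - (u ^ 2) ^ 2 ∧ u * d * (u ^ 2 + d ^ 2) = 0 := fun u h h' =>
    ⟨by linear_combination -h - h' + (u ^ 4 + 4 * u ^ 2 * d ^ 2 + d ^ 4 - 1) * h3,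
      by linear_combination h' - h + 3 * (u ^ 3 * d + u * d ^ 3) * h3⟩
  obtain ⟨a3, a4⟩ := key _ a1 a2
  obtain ⟨b3, -⟩ := key _ b1 b2
  obtain ⟨c3, -⟩ := key _ c1 c2
  have h10 : (1 : F) ≠ 0 := one_ne_zero
  have hx' : x ^ 2 = 1 ∨ x ^ 2 = -1 := mul_self_eq_one_iff.1 (by rw [← hx]; ring)
  have hy' : y ^ 2 = 1 ∨ y ^ 2 = -1 := mul_self_eq_one_iff.1 (by rw [← hy]; ring)
  have same : (x * y) ^ 2 = 1 → d ^ 2 + i * x * y = 0 := by
    intro h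
    have e1 : (i - x * y) ^ 2 = i * x * y := by
      linear_combination hi + h - (i * x * y) * h3
    have e2 : (i * x * y) ^ 2 = -1 := by linear_combination (x * y) ^ 2 * hi - h
    rw [e1, e2] at a3
    rw [e1] at a4
    rcases mul_eq_zero.1 a4 with h' | h'
    · exfalso
      rcases mul_eq_zero.1 h' with h' | h'
      · rw [h'] at e1
        rw [← e1] at e2
        exact h10 (by linear_combination e2)
      · rw [h'] at a3
        exact h10 (by linear_combination a3 + h3)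
    · linear_combination h'
  have diff : x ^ 2 = -y ^ 2 → False := by
    intro h
    have e0 : (x * y) ^ 2 = -1 := by linear_combination y ^ 2 * h - hy
    have e1 : (i - x * y) ^ 2 = 1 + i * x * y := by
      linear_combination hi + e0 - (1 + i * x * y) * h3
    have e2 : (x - i * y) ^ 2 = -x ^ 2 + i * x * y := by
      linear_combination y ^ 2 * hi - h + (x ^ 2 - i * x * y) * h3
    have e3 : (y - i * x) ^ 2 = x ^ 2 + i * x * y := by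
      linear_combination x ^ 2 * hi + h - (x ^ 2 + i * x * y) * h3
    have e4 : (i * x * y) ^ 2 = 1 := by linear_combination (x * y) ^ 2 * hi - e0
    rw [e2] at b3
    rw [e3] at c3
    have : x ^ 2 * (i * x * y) = 0 := by
      linear_combination c3 - b3 - (x ^ 2 * (i * x * y)) * h3
    rcases mul_eq_zero.1 this with h' | h'
    · rw [pow_eq_zero_iff two_ne_zero] at h'
      rw [h'] at hx
      exact h10 (by linear_combination -hx)
    · rw [h'] at e4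
      exact h10 (by linear_combination -e4)
  rcases hx' with hx' | hx' <;> rcases hy' with hy' | hy'
  · exact same (by rw [mul_pow, hx', hy', one_mul])
  · exact (diff (by rw [hx', hy', neg_neg])).elim
  · exact (diff (by rw [hx', hy'])).elim
  · exact same (by rw [mul_pow, hx', hy']; ring)

theorem trip_mul_trip (x u y φ θ η : V3 F) : trip x u y * trip φ θ η =
    (φ ⬝ᵥ x) * ((θ ⬝ᵥ u) * (η ⬝ᵥ y) - (θ ⬝ᵥ y) * (η ⬝ᵥ u)) -
    (φ ⬝ᵥ u) * ((θ ⬝ᵥ x) * (η ⬝ᵥ y) - (θ ⬝ᵥ y) * (η ⬝ᵥ x)) +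
    (φ ⬝ᵥ y) * ((θ ⬝ᵥ x) * (η ⬝ᵥ u) - (θ ⬝ᵥ u) * (η ⬝ᵥ x)) := by
  simp only [trip_eq, dot3]; ring

theorem cr_ne_left_of_trip {x u y : V3 F} (h : trip x u y ≠ 0) : cr x y ≠ 0 := by
  intro e
  apply h
  rw [← trip_cyc, ← trip_cyc, trip_swap, trip, e]; simp

theorem cr_ne_right_of_trip {x u y : V3 F} (h : trip x u y ≠ 0) : cr u y ≠ 0 := by
  intro e
  apply h
  rw [← trip_cyc, trip, e]; simp

theorem ne_zero_of_trip {x u y : V3 F} (h : trip x u y ≠ 0) : y ≠ 0 := ne_zero_of_dot_right h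

theorem trip_add_left (x u y : V3 F) (c : F) : trip x u (y + c • x) = trip x u y := by
  simp only [trip_eq, Pi.add_apply, Pi.smul_apply, smul_eq_mul]; ring

theorem trip_add_mid (x u y : V3 F) (c : F) : trip x u (y + c • u) = trip x u y := by
  simp only [trip_eq, Pi.add_apply, Pi.smul_apply, smul_eq_mul]; ring

theorem trip_mid_add (x u y : V3 F) (c : F) : trip x u (u + c • y) = c * trip x u y := by
  simp only [trip_eq, Pi.add_apply, Pi.smul_apply, smul_eq_mul]; ring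

/-- all transvection groups have order three -/
def Small3 (T : V3 F → V3 F → Prop) : Prop :=
  ∀ x φ (a : F), T x φ → x ≠ 0 → φ ≠ 0 → T x (a • φ) → a ^ 3 = a

/-- all transvection groups have order two -/
def Small2 (T : V3 F → V3 F → Prop) : Prop :=
  ∀ x φ (a : F), T x φ → x ≠ 0 → φ ≠ 0 → T x (a • φ) → a = 0 ∨ a = 1

namespace TS

variable {T : V3 F → V3 F → Prop} (S : TS T) {x x' u y φ φ' θ η : V3 F} {k : Subfield F}
include S

theorem small3_flip (h : Small3 T) : Small3 (fun φ x => T x φ) :=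
  fun φ x a h1 h2 h3 h4 => h x φ a h1 h3 h2 ((S.smul a).1 h4)

theorem small2_flip (h : Small2 T) : Small2 (fun φ x => T x φ) :=
  fun φ x a h1 h2 h3 h4 => h x φ a h1 h3 h2 ((S.smul a).1 h4)

theorem small3_val (h3 : (3 : F) = 0) (hs : Small3 T) (h : T x φ) (h' : T u θ) :
    ((φ ⬝ᵥ u) * (θ ⬝ᵥ x)) ^ 3 = (φ ⬝ᵥ u) * (θ ⬝ᵥ x) ∨ ((φ ⬝ᵥ u) * (θ ⬝ᵥ x)) ^ 2 = -1 := by
  by_cases hm : (φ ⬝ᵥ u) * (θ ⬝ᵥ x) = 0
  · left; rw [hm]; simp
  rcases S.pair h h' hm with ⟨k, h1, h2, -⟩ | ⟨h2, -⟩ | ⟨-, h2, -⟩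
  · exact Or.inl (hs x φ _ h (ne_zero_of_dot_right (right_ne_zero_of_mul hm))
      (ne_zero_of_dot_left (left_ne_zero_of_mul hm)) ((h2 _).2 h1))
  · exact absurd (by linear_combination h3 - h2 : (1 : F) = 0) one_ne_zero
  · exact Or.inr h2

theorem small3_four (h3 : (3 : F) = 0) (hs : Small3 T) (h : T x φ) (h' : T u θ)
    (hm : (φ ⬝ᵥ u) * (θ ⬝ᵥ x) ≠ 0) : ((φ ⬝ᵥ u) * (θ ⬝ᵥ x)) ^ 4 = 1 := by
  rcases S.small3_val h3 hs h h' with e | e
  · rcases cube_eq_self_iff.1 e with e | e | e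
    · exact absurd e hm
    · rw [e]; ring
    · rw [e]; ring
  · linear_combination (((φ ⬝ᵥ u) * (θ ⬝ᵥ x)) ^ 2 - 1) * e

theorem kill_of_small3 (h3 : (3 : F) = 0) (hs : Small3 T) : Kill T := by
  rintro x u θ hx ⟨φ, φ', h1, h2, hc⟩ h' e
  by_contra hn
  push Not at hn
  have key : ∀ ψ, ψ ≠ 0 → T x ψ → ((ψ ⬝ᵥ u) * (θ ⬝ᵥ x)) ^ 4 = 1 := fun ψ a b =>
    S.small3_four h3 hs b h' (mul_ne_zero (hn ψ a b) e)
  have a1 := key φ (ne_zero_of_cr_left hc) h1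
  have a2 := key φ' (ne_zero_of_cr_right hc) h2
  have a3 := key (φ + φ') (fun e => one_ne_zero
    (coords2_eq_zero hc (r := 1) (s := 1) (by simpa using e)).1) (S.add_right h1 h2)
  have a4 := key (φ - φ') (fun e => one_ne_zero
    (coords2_eq_zero hc (r := 1) (s := -1) (by simpa [sub_eq_add_neg] using e)).1)
    (S.sub_right h1 h2)
  rw [add_dotProduct] at a3
  rw [sub_dotProduct] at a4
  apply one_ne_zero (α := F)
  linear_combination 2 * a1 + 2 * a2 - a3 - a4 +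
    (4 * ((φ ⬝ᵥ u) * (θ ⬝ᵥ x)) ^ 2 * ((φ' ⬝ᵥ u) * (θ ⬝ᵥ x)) ^ 2 + 1) * h3

theorem not_exc_A (h3 : (3 : F) = 0) (hs : Small3 T) (hA : CaseA T) (h : T x φ) (h' : T u θ) :
    ((φ ⬝ᵥ u) * (θ ⬝ᵥ x)) ^ 2 ≠ -1 := by
  intro e
  have hm : (φ ⬝ᵥ u) * (θ ⬝ᵥ x) ≠ 0 := fun e' => by
    rw [e'] at e; exact one_ne_zero (by linear_combination e : (1 : F) = 0)
  have hx := ne_zero_of_dot_right (right_ne_zero_of_mul hm)
  have hK := S.kill_of_small3 h3 hs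
  obtain ⟨ψ, h1, h2, h4⟩ := hK x u θ hx
    (S.twoAx_all hK hA h hx (ne_zero_of_dot_left (left_ne_zero_of_mul hm))) h'
    (right_ne_zero_of_mul hm)
  have h5 := S.comm_left (S.comm_left h2 h' h4) h (by rw [smul_dotProduct, S.dot h2, smul_zero])
  rw [smul_smul] at h5
  have h6 := hs x ψ _ h2 hx h1 h5
  apply hm
  linear_combination h6 - ((φ ⬝ᵥ u) * (θ ⬝ᵥ x)) * e + ((φ ⬝ᵥ u) * (θ ⬝ᵥ x)) * h3

theorem not_exc_B (h3 : (3 : F) = 0) (hs : Small3 T) (hA : ¬ CaseA T)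
    (hA' : ¬ CaseA (fun φ x => T x φ)) (h : T x φ) (h' : T u θ) :
    ((φ ⬝ᵥ u) * (θ ⬝ᵥ x)) ^ 2 ≠ -1 := by
  intro e
  have hm : (φ ⬝ᵥ u) * (θ ⬝ᵥ x) ≠ 0 := fun e' => by
    rw [e'] at e; exact one_ne_zero (by linear_combination e : (1 : F) = 0)
  have hx := ne_zero_of_dot_right (right_ne_zero_of_mul hm)
  have hθ := ne_zero_of_dot_left (right_ne_zero_of_mul hm)
  have hu := ne_zero_of_dot_right (left_ne_zero_of_mul hm)
  have hφ := ne_zero_of_dot_left (left_ne_zero_of_mul hm)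
  have four : ∀ {a α b β : V3 F}, T a α → a ≠ 0 → α ≠ 0 → T b β → b ≠ 0 → β ≠ 0 → cr a b ≠ 0 →
      ((α ⬝ᵥ b) * (β ⬝ᵥ a)) ^ 4 = 1 := fun h1 h2 h4 h5 h6 h7 h8 => by
    have := (S.dichB hA hA' h1 h2 h4 h5 h6 h7).resolve_left (fun e => h8 e.1)
    exact S.small3_four h3 hs h1 h5 (mul_ne_zero this.1 this.2)
  have claim1 : ∀ y η, T y η → η ≠ 0 → trip x u y ≠ 0 → trip φ θ η = 0 := by
    intro y η h1 hη ht
    have hy := ne_zero_of_trip ht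
    have d1 := (S.dichB hA hA' h' hu hθ h1 hy hη).resolve_left
      (fun e => cr_ne_right_of_trip ht e.1)
    have f3 : ∀ {θ'}, T u θ' → _ := fun {θ'} h2 => four h hx hφ (S.conj h1 h2)
      (conj_ne_left hy (S.dot h2)) (conj_ne_right hη (S.dot h2))
      (cr_ne_left_of_trip (u := u) (by rwa [trip_add_mid]))
    have f2 : ∀ {φ'}, T x φ' → _ := fun {φ'} h2 => four h' hu hθ (S.conj h1 h2)
      (conj_ne_left hy (S.dot h2)) (conj_ne_right hη (S.dot h2))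
      (cr_ne_right_of_trip (x := x) (by rwa [trip_add_left]))
    have f1 : ∀ {η'}, T y η' → η' ⬝ᵥ u ≠ 0 → _ := fun {η'} h2 h4 => four h hx hφ (S.conj h' h2)
      (conj_ne_left hu (S.dot h2)) (conj_ne_right hθ (S.dot h2))
      (cr_ne_left_of_trip (u := u) (by rw [trip_mid_add]; exact mul_ne_zero h4 ht))
    have a1 := f1 h1 d1.2
    have a2 := f1 (S.neg h1) (by rw [neg_dotProduct]; exact neg_ne_zero.2 d1.2)
    have b1 := f2 h
    have b2 := f2 (S.neg h)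
    have c1 := f3 h'
    have c2 := f3 (S.neg h')
    have x4 := four h' hu hθ h1 hy hη (cr_ne_right_of_trip ht)
    have y4 := four h hx hφ h1 hy hη (cr_ne_left_of_trip ht)
    simp only [dotProduct_add, dotProduct_smul, sub_dotProduct, smul_dotProduct, smul_eq_mul,
      neg_dotProduct] at a1 a2 b1 b2 c1 c2
    have key := nine_aux (d := (φ ⬝ᵥ u) * (θ ⬝ᵥ y) * (η ⬝ᵥ x) - (φ ⬝ᵥ y) * (η ⬝ᵥ u) * (θ ⬝ᵥ x))
      h3 e x4 y4 (by rw [← a2]; ring) (by rw [← a1]; ring) (by rw [← b2]; ring)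
      (by rw [← b1]; ring) (by rw [← c1]; ring) (by rw [← c2]; ring)
    have h4 := trip_mul_trip x u y φ θ η
    rw [S.dot h, S.dot h', S.dot h1] at h4
    have h5 : (trip x u y * trip φ θ η) ^ 2 = 0 := by
      rw [h4]
      linear_combination key + ((φ ⬝ᵥ u) * (θ ⬝ᵥ y) * (η ⬝ᵥ x) * (φ ⬝ᵥ y) * (η ⬝ᵥ u) *
        (θ ⬝ᵥ x)) * h3
    rw [pow_eq_zero_iff two_ne_zero] at h5
    exact (mul_eq_zero.1 h5).resolve_left ht
  have hW : cr x u ≠ 0 := cr_ne_zero_of_dot hu (S.dot h') (right_ne_zero_of_mul hm)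
  have hw : cr φ θ ≠ 0 := cr_ne_zero_of_dot' hθ (S.dot h') (left_ne_zero_of_mul hm)
  obtain ⟨y, η, h1, hy, e1⟩ := S.hP _ hw
  have hη := ne_zero_of_dot_left e1
  rw [dotProduct_comm] at e1
  have ht : trip x u y = 0 := by
    by_contra ht
    exact e1 (claim1 y η h1 hη ht)
  obtain ⟨z, ζ, h2, hζ, e2⟩ := S.hL _ hW
  have e3 := claim1 z ζ h2 hζ e2
  have d := (S.dichB hA hA' h1 hy hη h2 (ne_zero_of_dot_right e2) hζ).resolve_left (fun e => by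
    obtain ⟨c, hc⟩ := exists_smul_of_cr hy (cr_eq_zero_comm.1 e.1)
    apply e2
    rw [hc, dotProduct_smul]
    exact smul_eq_zero_of_right _ ht)
  have e4 := claim1 _ _ (S.conj h1 h2) (conj_ne_right hη (S.dot h2)) (by
    rw [trip, dotProduct_add, dotProduct_smul]
    rw [trip] at ht
    rw [ht, zero_add]
    exact mul_ne_zero d.2 e2)
  rw [trip, dotProduct_sub, dotProduct_smul] at e4
  rw [trip] at e3
  rw [e3, smul_zero, sub_zero] at e4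
  exact e1 e4

theorem rm_of_small3 (h3 : (3 : F) = 0) (hs : Small3 T) : RM T (primeThree F h3) where
  big {x φ} h hx hφ a := by
    refine ⟨hs x φ a h hx hφ, fun ha => ?_⟩
    rcases cube_eq_self_iff.1 ha with rfl | rfl | rfl
    · rw [zero_smul]; exact S.zero x
    · rwa [one_smul]
    · rw [neg_one_smul]; exact S.neg h
  mem h h' := by
    refine (S.small3_val h3 hs h h').resolve_right ?_
    by_cases hA : CaseA T
    · exact S.not_exc_A h3 hs hA h h'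
    · exact S.not_exc_B h3 hs hA (fun hA' => hA (S.caseA_of_flip
        (S.flip.kill_of_small3 h3 (S.small3_flip hs)) hA')) h h'

theorem rm_or_small2 :
    (∃ k : Subfield F, RM T k ∧ ∃ a ∈ k, a ≠ 0 ∧ a ≠ 1) ∨ ((2 : F) = 0 ∧ Small2 T) := by
  by_cases h2 : (2 : F) = 0
  · by_cases hs : Small2 T
    · exact Or.inr ⟨h2, hs⟩
    left
    simp only [Small2, not_forall, not_or] at hs
    obtain ⟨x, φ, a, h, hx, hφ, ha, a0, a1⟩ := hs
    obtain ⟨u, θ, h', e1, e2⟩ := S.exists_opp h hx hφ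
    have h3 : (3 : F) ≠ 0 := fun h3 => one_ne_zero (by linear_combination h3 - h2 : (1 : F) = 0)
    rcases S.pair h h' (mul_ne_zero e1 e2) with ⟨k, -, h4, -⟩ | ⟨-, h4, -⟩ | ⟨h4, -⟩
    · have := (h4 a).1 ha
      exact ⟨k, S.rm_of_big ⟨fun _ => ⟨a, this, a0, a1⟩, fun e => absurd e h3⟩ h4 hx hφ,
        a, this, a0, a1⟩
    · exact ((h4 a ha).elim a0 a1).elim
    · exact absurd h4 h3
  left
  have m1 : (-1 : F) ≠ 0 ∧ (-1 : F) ≠ 1 :=
    ⟨neg_ne_zero.2 one_ne_zero, fun e => h2 (by linear_combination -e)⟩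
  by_cases h3 : (3 : F) = 0
  · by_cases hs : Small3 T
    · exact ⟨_, S.rm_of_small3 h3 hs, -1, neg_mem (one_mem _), m1⟩
    simp only [Small3, not_forall] at hs
    obtain ⟨x, φ, a, h, hx, hφ, ha, a0⟩ := hs
    obtain ⟨u, θ, h', e1, e2⟩ := S.exists_opp h hx hφ
    rcases S.pair h h' (mul_ne_zero e1 e2) with ⟨k, -, h4, -⟩ | ⟨h4, -⟩ | ⟨-, -, h4, -⟩
    · exact ⟨k, S.rm_of_big ⟨fun e => absurd e h2, fun _ => ⟨a, (h4 a).1 ha, a0⟩⟩ h4 hx hφ,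
        -1, neg_mem (one_mem _), m1⟩
    · exact absurd h4 h2
    · exact absurd (h4 a ha) a0
  obtain ⟨x, φ, h, hx, hφ⟩ := S.exists_nontrivial
  obtain ⟨u, θ, h', e1, e2⟩ := S.exists_opp h hx hφ
  rcases S.pair h h' (mul_ne_zero e1 e2) with ⟨k, -, h4, -⟩ | ⟨h4, -⟩ | ⟨h4, -⟩
  · exact ⟨k, S.rm_of_big ⟨fun e => absurd e h2, fun e => absurd e h3⟩ h4 hx hφ,
      -1, neg_mem (one_mem _), m1⟩
  · exact absurd h4 h2
  · exact absurd h4 h3

end TS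

end CL.MH
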