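/-
Irreducible systems of transvections in dimension three: the linear case.
-/
import Cfsg.Agent.CLAS.MHTs
import Cfsg.Agent.CLAS.Tv

set_option autoImplicit false

namespace CL.MH

open Matrix Cfsg.Geo

variable {F : Type*} [Field F]

/-- `b`, `β` are dual bases -/
def DualB (b β : Fin 3 → V3 F) : Prop := ∀ i j, β i ⬝ᵥ b j = if i = j then 1 else 0

theorem DualB.mul_eq {b β : Fin 3 → V3 F} (h : DualB b β) :
    (Matrix.of β) * (Matrix.of b)ᵀ = 1 := by
  ext i j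
  rw [Matrix.mul_apply, one_apply, ← h i j]
  rfl

theorem DualB.mul_eq' {b β : Fin 3 → V3 F} (h : DualB b β) :
    (Matrix.of b)ᵀ * (Matrix.of β) = 1 := mul_eq_one_comm.1 h.mul_eq

/-- the change of basis matrix -/
def DualB.gl {b β : Fin 3 → V3 F} (h : DualB b β) : GL (Fin 3) F :=
  ⟨(Matrix.of b)ᵀ, Matrix.of β, h.mul_eq', h.mul_eq⟩

theorem DualB.sum_eq {b β : Fin 3 → V3 F} (h : DualB b β) (v : V3 F) :
    v = (β 0 ⬝ᵥ v) • b 0 + (β 1 ⬝ᵥ v) • b 1 + (β 2 ⬝ᵥ v) • b 2 := by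
  have e : ((Matrix.of b)ᵀ * Matrix.of β) *ᵥ v = v := by rw [h.mul_eq', one_mulVec]
  rw [← mulVec_mulVec] at e
  conv_lhs => rw [← e]
  funext i
  simp [mulVec, dotProduct, Fin.sum_univ_three]
  ring

theorem DualB.flip {b β : Fin 3 → V3 F} (h : DualB b β) : DualB β b := fun i j => by
  rw [dotProduct_comm, h j i]
  simp only [eq_comm]

theorem DualB.entry {b β : Fin 3 → V3 F} (h : DualB b β) (A : Matrix (Fin 3) (Fin 3) F)
    (i j : Fin 3) : Asch.conjAlgHom h.gl⁻¹ A i j = β i ⬝ᵥ (A *ᵥ b j) := by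
  rw [Asch.conjAlgHom_apply, inv_inv]
  change (Matrix.of β * A * (Matrix.of b)ᵀ) i j = _
  simp [Matrix.mul_apply, mulVec, dotProduct, Fin.sum_univ_three]
  ring

theorem exists_dualB {a b c : V3 F} (h : trip a b c ≠ 0) : ∃ β, DualB ![a, b, c] β := by
  refine ⟨![(trip a b c)⁻¹ • cr b c, (trip a b c)⁻¹ • cr c a, (trip a b c)⁻¹ • cr a b],
    fun i j => ?_⟩
  have h1 : cr b c ⬝ᵥ a = trip a b c := by rw [← trip_cyc a b c]; rfl
  have h2 : cr c a ⬝ᵥ b = trip a b c := by rw [← trip_cyc a b c, ← trip_cyc b c a]; rfl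
  have h3 : cr a b ⬝ᵥ c = trip a b c := rfl
  fin_cases i <;> fin_cases j <;>
    simp [smul_dotProduct, h1, h2, h3, cr_dot_left, cr_dot_right, inv_mul_cancel₀ h]

/-- the system `T` is defined over no proper subfield -/
def NoRat (T : V3 F → V3 F → Prop) : Prop :=
  ∀ (k : Subfield F) (b β : Fin 3 → V3 F), DualB b β →
    (∀ x φ, T x φ → ∀ i j, (β i ⬝ᵥ x) * (φ ⬝ᵥ b j) ∈ k) → k = ⊤

theorem diag_aux {k : Subfield F} {x1 x2 x3 p1 p2 p3 : F} (h12 : x1 * p2 ∈ k) (h13 : x1 * p3 ∈ k)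
    (h21 : x2 * p1 ∈ k) (h31 : x3 * p1 ∈ k) (h23 : x2 * p3 ∈ k) (h32 : x3 * p2 ∈ k)
    (d2 : x2 * p2 - x1 * p1 ∈ k) (d3 : x3 * p3 - x1 * p1 ∈ k) : x1 * p1 ∈ k := by
  by_cases a : x3 * p2 = 0
  swap
  · have : x1 * p1 = (x1 * p2) * (x3 * p1) / (x3 * p2) := by
      rw [eq_div_iff a]; ring
    rw [this]; exact k.div_mem (k.mul_mem h12 h31) h32
  by_cases b : x2 * p3 = 0
  swap
  · have : x1 * p1 = (x1 * p3) * (x2 * p1) / (x2 * p3) := by
      rw [eq_div_iff b]; ring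
    rw [this]; exact k.div_mem (k.mul_mem h13 h21) h23
  have : (x2 * p2) * (x3 * p3) = 0 := by linear_combination (x2 * p3) * a
  rcases mul_eq_zero.1 this with h | h
  · rw [h, zero_sub] at d2; simpa using k.neg_mem d2
  · rw [h, zero_sub] at d3; simpa using k.neg_mem d3

namespace TS

variable {T : V3 F → V3 F → Prop} (S : TS T) {k : Subfield F}
include S

theorem of_smul (h : RM T k) {x φ : V3 F} {c : F} (hc : c ≠ 0) (hck : c ∈ k) (hx : x ≠ 0)
    (hφ : φ ≠ 0) (h1 : T x (c • φ)) : T x φ := by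
  have := (h.big h1 hx (smul_ne_zero hc hφ) c⁻¹).2 (k.inv_mem hck)
  rwa [smul_smul, inv_mul_cancel₀ hc, one_smul] at this

theorem exists_frame (h : RM T k) (hA : CaseA T) :
    ∃ b β, DualB b β ∧ ∀ i j, i ≠ j → T (b i) (β j) := by
  have hK := S.kill_of_rm h
  have hK' := S.flip.kill_of_rm (S.rm_flip h)
  have hA' : CaseA (fun φ x => T x φ) := S.flip.caseA_of_flip hK hA
  obtain ⟨x, ψ, h1, hx, hψ⟩ := S.exists_nontrivial
  obtain ⟨y, η, h2, e1, e2⟩ := S.exists_opp h1 hx hψ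
  obtain ⟨χ, hχ, h3, e3⟩ := hK x y η hx (S.twoAx_all hK hA h1 hx hψ) h2 e2
  obtain ⟨z, hz, h4, e4⟩ := hK' ψ η y hψ (S.flip.twoAx_all hK' hA' h1 hψ hx) h2
    (by rwa [dotProduct_comm])
  rw [dotProduct_comm] at e4
  have d1 := S.dot h1
  have d2 := S.dot h2
  have d3 := S.dot h3
  have d4 := S.dot h4
  have hxy : cr y x ≠ 0 := cr_ne_zero_of_dot hx d1 e1
  have e5 : χ ⬝ᵥ z ≠ 0 := by
    intro e5
    have c1 : cr z x = 0 := by
      refine cr_eq_zero_of_dots (x := ψ) (y := χ) ?_ ?_ ?_ ?_ ?_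
      · exact cr_ne_zero_of_dot' hχ e3 e1
      all_goals rwa [dotProduct_comm]
    exact e2 (dot_eq_zero_of_cr' hz (cr_eq_zero_comm.1 c1) e4)
  have h5 := S.comm_left h3 h2 e3
  have h6 := S.comm_right h4 h2 e4
  have hm := h.mem h1 h2
  have hm0 := mul_ne_zero e1 e2
  set b1 := (ψ ⬝ᵥ y)⁻¹ • y
  set b2 := (χ ⬝ᵥ z)⁻¹ • z
  set β0 := (η ⬝ᵥ x)⁻¹ • η
  have hy : y = (ψ ⬝ᵥ y) • b1 := by rw [smul_smul, mul_inv_cancel₀ e1, one_smul]
  have hz' : z = (χ ⬝ᵥ z) • b2 := by rw [smul_smul, mul_inv_cancel₀ e5, one_smul]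
  have hη : η = (η ⬝ᵥ x) • β0 := by rw [smul_smul, mul_inv_cancel₀ e2, one_smul]
  have n1 : b1 ≠ 0 := smul_ne_zero (inv_ne_zero e1) (ne_zero_of_dot_right e1)
  have n2 : b2 ≠ 0 := smul_ne_zero (inv_ne_zero e5) hz
  have n0 : β0 ≠ 0 := smul_ne_zero (inv_ne_zero e2) (ne_zero_of_dot_left e2)
  have f1 : ψ ⬝ᵥ b1 = 1 := by rw [dotProduct_smul, smul_eq_mul, inv_mul_cancel₀ e1]
  have f2 : χ ⬝ᵥ b2 = 1 := by rw [dotProduct_smul, smul_eq_mul, inv_mul_cancel₀ e5]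
  have f0 : β0 ⬝ᵥ x = 1 := by rw [smul_dotProduct, smul_eq_mul, inv_mul_cancel₀ e2]
  have t10 : T b1 β0 := by
    refine S.of_smul h hm0 hm n1 n0 ?_
    rw [← smul_smul, ← hη, ← S.smul, ← hy]; exact h2
  have t12 : T b1 χ := by
    refine S.of_smul h hm0 hm n1 hχ ?_
    rw [← smul_smul, ← S.smul, ← hy]; exact h5
  have t21 : T b2 ψ := by
    have t : T b2 ((χ ⬝ᵥ z) • ψ) := by rw [← S.smul, ← hz']; exact h4
    have := h.mem t12 t
    rw [f2, smul_dotProduct, f1, one_mul, smul_eq_mul, mul_one] at this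
    exact S.of_smul h e5 this n2 hψ t
  have t20 : T b2 β0 := by
    have t : T b2 (((χ ⬝ᵥ z) * ((ψ ⬝ᵥ y) * (η ⬝ᵥ x))) • β0) := by
      rw [← smul_smul, ← smul_smul, ← hη, ← S.smul, ← hz']; exact h6
    have := h.mem h3 t
    rw [f2, smul_dotProduct, f0, one_mul, smul_eq_mul, mul_one] at this
    exact S.of_smul h (mul_ne_zero e5 hm0) this n2 n0 t
  refine ⟨![x, b1, b2], ![β0, ψ, χ], fun i j => ?_, fun i j hij => ?_⟩
  · fin_cases i <;> fin_cases j <;>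
      simp [f0, f1, f2, d1, d3, S.dot t10, S.dot t12, S.dot t21, S.dot t20]
  · fin_cases i <;> fin_cases j <;> first | exact absurd rfl hij | assumption

theorem rat_of_frame (h : RM T k) {b β : Fin 3 → V3 F} (hb : DualB b β)
    (ht : ∀ i j, i ≠ j → T (b i) (β j)) {x φ : V3 F} (hx : T x φ) (i j : Fin 3) :
    (β i ⬝ᵥ x) * (φ ⬝ᵥ b j) ∈ k := by
  have off : ∀ i j, i ≠ j → (β i ⬝ᵥ x) * (φ ⬝ᵥ b j) ∈ k := fun i j hij => by
    rw [mul_comm]; exact h.mem hx (ht j i hij.symm)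
  have dif : ∀ i j, i ≠ j → (β j ⬝ᵥ x) * (φ ⬝ᵥ b j) - (β i ⬝ᵥ x) * (φ ⬝ᵥ b i) ∈ k := by
    intro i j hij
    have c := S.conj (ht i j hij) (ht j i hij.symm)
    rw [hb i i, hb j j, if_pos rfl, if_pos rfl, one_smul, one_smul] at c
    have m := h.mem hx c
    rw [dotProduct_add, sub_dotProduct] at m
    have := k.add_mem (k.sub_mem m (off j i hij.symm)) (off i j hij)
    convert this using 1
    ring
  by_cases hij : i = j
  swap
  · exact off i j hij
  subst hij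
  have key : ∀ i j l : Fin 3, i ≠ j → i ≠ l → j ≠ l → (β i ⬝ᵥ x) * (φ ⬝ᵥ b i) ∈ k :=
    fun i j l h1 h2 h3 => diag_aux (off i j h1) (off i l h2) (off j i h1.symm) (off l i h2.symm)
      (off j l h3) (off l j h3.symm) (dif i j h1) (dif i l h2)
  fin_cases i
  · exact key 0 1 2 (by decide) (by decide) (by decide)
  · exact key 1 0 2 (by decide) (by decide) (by decide)
  · exact key 2 0 1 (by decide) (by decide) (by decide)

theorem all_of_caseA (h : RM T k) (hA : CaseA T) (hN : NoRat T) :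
    ∃ b β, DualB b β ∧ ∀ i φ, φ ⬝ᵥ b i = 0 → T (b i) φ := by
  obtain ⟨b, β, hb, ht⟩ := S.exists_frame h hA
  obtain rfl := hN k b β hb fun x φ hx => S.rat_of_frame h hb ht hx
  refine ⟨b, β, hb, fun i φ hφ => ?_⟩
  have key : ∀ j, T (b i) ((b j ⬝ᵥ φ) • β j) := by
    intro j
    by_cases hij : i = j
    · subst hij
      rw [dotProduct_comm, hφ, zero_smul]; exact S.zero _
    · refine (h.big (ht i j hij) ?_ ?_ _).2 trivial
      · exact ne_zero_of_dot_right (φ := β i) (by rw [hb i i, if_pos rfl]; exact one_ne_zero)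
      · exact ne_zero_of_dot_left (x := b j) (by rw [hb j j, if_pos rfl]; exact one_ne_zero)
  rw [hb.flip.sum_eq φ]
  exact S.add_right (S.add_right (key 0) (key 1)) (key 2)

end TS

/-! ### The system of transvections of a group -/

section Grp

variable {K : Subgroup (GL (Fin 3) F)} {x x' u φ φ' θ : V3 F}

theorem TV.conj (h : TV K x φ) {g : GL (Fin 3) F} (hg : g ∈ K) : TV K (ac g x) (dc g φ) := by
  obtain ⟨h0, t, ht, h1⟩ := h
  exact ⟨by rw [dc_dot_ac, h0], _, K.mul_mem (K.mul_mem hg ht) (K.inv_mem hg), h1.conj g⟩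

theorem irr_point (hK : Asch.Irr K) {S : Set (V3 F)} (hS : ∀ g ∈ K, ∀ x ∈ S, ac g x ∈ S)
    (h0 : ∃ x ∈ S, x ≠ 0) {ψ : V3 F} (hψ : ψ ≠ 0) : ∃ x ∈ S, ψ ⬝ᵥ x ≠ 0 := by
  by_contra hn
  push Not at hn
  rcases hK (Submodule.span F S) (fun g hg v hv => by
    induction hv using Submodule.span_induction with
    | mem y hy => exact Submodule.subset_span (hS g hg y hy)
    | zero => rw [mulVec_zero]; exact Submodule.zero_mem _
    | add y z _ _ h1 h2 => rw [mulVec_add]; exact Submodule.add_mem _ h1 h2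
    | smul c y _ h1 => rw [mulVec_smul]; exact Submodule.smul_mem _ c h1) with h | h
  · obtain ⟨x, hx, hx0⟩ := h0
    exact hx0 ((Submodule.eq_bot_iff _).1 h x (Submodule.subset_span hx))
  · obtain ⟨v, hv⟩ := exists_dot_ne' hψ
    have hv' : v ∈ Submodule.span F S := h ▸ Submodule.mem_top
    refine hv ?_
    clear hv
    induction hv' using Submodule.span_induction with
    | mem y hy => exact hn y hy
    | zero => exact dotProduct_zero _
    | add y z _ _ h1 h2 => rw [dotProduct_add, h1, h2, add_zero]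
    | smul c y _ h1 => rw [dotProduct_smul, h1, smul_zero]

theorem irr_line (hK : Asch.Irr K) {S : Set (V3 F)} (hS : ∀ g ∈ K, ∀ φ ∈ S, dc g φ ∈ S)
    (h0 : ∃ φ ∈ S, φ ≠ 0) {v : V3 F} (hv : v ≠ 0) : ∃ φ ∈ S, φ ⬝ᵥ v ≠ 0 := by
  by_contra hn
  push Not at hn
  let W : Submodule F (V3 F) :=
    { carrier := {v | ∀ φ ∈ S, φ ⬝ᵥ v = 0}
      add_mem' := fun {a b} ha hb φ hφ => by rw [dotProduct_add, ha φ hφ, hb φ hφ, add_zero]
      zero_mem' := fun φ _ => dotProduct_zero _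
      smul_mem' := fun c a ha φ hφ => by rw [dotProduct_smul, ha φ hφ, smul_zero] }
  rcases hK W (fun g hg w hw φ hφ => by
    have := hw _ (hS g⁻¹ (K.inv_mem hg) φ hφ)
    rwa [dc_dot, inv_inv] at this) with h | h
  · exact hv ((Submodule.eq_bot_iff _).1 h v hn)
  · obtain ⟨φ, hφ, h0⟩ := h0
    obtain ⟨w, hw⟩ := exists_dot_ne' h0
    exact hw ((h ▸ Submodule.mem_top : w ∈ W) φ hφ)

theorem ts_tv [Finite F] (hK : Asch.Irr K) (h0 : ∃ x φ, TV K x φ ∧ x ≠ 0 ∧ φ ≠ 0) :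
    TS (TV K) where
  dot h := h.1
  smul c := by
    simp only [TV, HR, IsR.smul_iff, dotProduct_smul, smul_dotProduct]
  zero x := ⟨zero_dotProduct x, 1, K.one_mem, isR_one x⟩
  add_right := by
    rintro x φ φ' ⟨h1, g, hg, h2⟩ ⟨h3, g', hg', h4⟩
    refine ⟨by rw [add_dotProduct, h1, h3, add_zero], _, K.mul_mem hg hg', ?_⟩
    simpa [h1] using h2.mul_right h4
  add_left := by
    rintro x x' φ ⟨h1, g, hg, h2⟩ ⟨h3, g', hg', h4⟩
    refine ⟨by rw [dotProduct_add, h1, h3, add_zero], _, K.mul_mem hg' hg, ?_⟩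
    simpa [h1] using h4.mul_left h2
  neg := by
    rintro x φ ⟨h1, g, hg, h2⟩
    refine ⟨by rw [neg_dotProduct, h1, neg_zero], _, K.inv_mem hg, ?_⟩
    simpa [h1] using h2.inv
  conj := by
    rintro x φ u θ h ⟨h3, g', hg', h4⟩
    have := h.conj hg'
    rw [h4 x, h4.dc_eq, h3] at this
    simpa using this
  pair := pair_tv
  hP v hv := by
    obtain ⟨x, φ, h1, hx, hφ⟩ := h0
    obtain ⟨ψ, ⟨y, h2, h3⟩, h4⟩ := irr_line hK (S := {ψ | ∃ y, TV K y ψ ∧ y ≠ 0})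
      (fun g hg ψ ⟨y, h2, h3⟩ => ⟨_, h2.conj hg, ac_ne_zero g h3⟩) ⟨φ, ⟨x, h1, hx⟩, hφ⟩ hv
    exact ⟨y, ψ, h2, h3, h4⟩
  hL ψ hψ := by
    obtain ⟨x, φ, h1, hx, hφ⟩ := h0
    obtain ⟨y, ⟨θ, h2, h3⟩, h4⟩ := irr_point hK (S := {y | ∃ θ, TV K y θ ∧ θ ≠ 0})
      (fun g hg y ⟨θ, h2, h3⟩ => ⟨_, h2.conj hg, dc_ne_zero g h3⟩) ⟨x, ⟨φ, h1, hφ⟩, hx⟩ hψ
    exact ⟨y, θ, h2, h3, h4⟩

/-- `K` is generated by its transvections -/
def GenTv (K : Subgroup (GL (Fin 3) F)) : Prop :=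
  ∀ M : Subgroup (GL (Fin 3) F), (∀ g ∈ K, ∀ x φ, φ ⬝ᵥ x = 0 → IsR g x φ → g ∈ M) → K ≤ M

/-- `K` is realised over no proper subfield -/
def NoSub (K : Subgroup (GL (Fin 3) F)) : Prop :=
  ∀ F₀ : Subfield F, F₀ ≠ ⊤ → ¬ RealisableOver F₀ (matrixSet K)

/-- the invertible matrices which have entries in `k` after conjugation, over a finite field -/
def ratSub [Finite F] (k : Subfield F) (B : GL (Fin 3) F) : Subgroup (GL (Fin 3) F) where
  carrier := {g | ∀ i j, Asch.conjAlgHom B g i j ∈ k}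
  one_mem' := fun i j => by
    rw [Units.val_one, map_one, one_apply]
    split_ifs
    exacts [k.one_mem, k.zero_mem]
  mul_mem' := fun {a b} ha hb i j => by
    rw [Units.val_mul, map_mul, Matrix.mul_apply]
    exact k.sum_mem fun l _ => k.mul_mem (ha i l) (hb l j)
  inv_mem' := fun {a} ha => by
    have key : ∀ n : ℕ, ∀ i j, Asch.conjAlgHom B ((a ^ n : GL (Fin 3) F) : Matrix _ _ F) i j ∈ k := by
      intro n
      induction n with
      | zero =>
        intro i j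
        rw [pow_zero, Units.val_one, map_one, one_apply]
        split_ifs
        exacts [k.one_mem, k.zero_mem]
      | succ n ih =>
        intro i j
        rw [pow_succ, Units.val_mul, map_mul, Matrix.mul_apply]
        exact k.sum_mem fun l _ => k.mul_mem (ih i l) (ha l j)
    have h1 : a⁻¹ = a ^ (orderOf a - 1) := by
      rw [inv_eq_iff_mul_eq_one, ← pow_succ', Nat.sub_add_cancel (orderOf_pos a), pow_orderOf_eq_one]
    intro i j
    rw [h1]; exact key _ i j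

theorem NoSub.eq_top [Finite F] (hN : NoSub K) {k : Subfield F} {B : GL (Fin 3) F}
    (h : K ≤ ratSub k B) : k = ⊤ := by
  by_contra hk
  exact hN k hk ⟨B, by rintro _ ⟨g, hg, rfl⟩ i j; exact h hg i j⟩

theorem noRat_tv [Finite F] (hG : GenTv K) (hN : NoSub K) : NoRat (TV K) := by
  intro k b β hb h
  refine hN.eq_top (B := hb.gl⁻¹) (hG _ fun g hg x φ h0 h1 i j => ?_)
  rw [hb.entry, show (g : Matrix (Fin 3) (Fin 3) F) *ᵥ b j = _ from h1 (b j), dotProduct_add, hb,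
    dotProduct_smul, smul_eq_mul, mul_comm]
  refine k.add_mem ?_ (h x φ ⟨h0, g, hg, h1⟩ i j)
  split_ifs
  exacts [k.one_mem, k.zero_mem]

theorem GenTv.le_SL (hG : GenTv K) : K ≤ specialLinear (Fin 3) F :=
  hG _ fun g _ x φ h0 h1 => Tv.mem_SL_iff.2 (by rw [h1.det_eq, h0, add_zero])

theorem SL_le_of_frame {b β : Fin 3 → V3 F} (hb : DualB b β)
    (h : ∀ i φ, φ ⬝ᵥ b i = 0 → TV K (b i) φ) : specialLinear (Fin 3) F ≤ K := by
  have key : ∀ i, b i ∈ Tv.full K := by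
    intro i φ hφ
    have e : ∀ v, (fun j => φ (Pi.single j 1)) ⬝ᵥ v = φ v := fun v => by
      rw [LinearMap.pi_apply_eq_sum_univ φ v, dotProduct]
      refine Finset.sum_congr rfl fun j _ => ?_
      rw [smul_eq_mul, mul_comm]
      congr 2
      funext l
      rw [Pi.single_apply]
      simp only [eq_comm]
    obtain ⟨-, g, hg, h1⟩ := h i _ ((e _).trans hφ)
    exact ⟨g, hg, fun v => by rw [Tv.act_apply, ← e]; exact h1 v⟩
  refine Tv.SL_le_of_full (eq_top_iff.2 fun v _ => ?_)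
  rw [hb.sum_eq v]
  exact Submodule.add_mem _ (Submodule.add_mem _ (Submodule.smul_mem _ _ (key 0))
    (Submodule.smul_mem _ _ (key 1))) (Submodule.smul_mem _ _ (key 2))

end Grp

end CL.MH
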