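/-
Irreducible systems of transvections in dimension three: the unitary case.
-/
import Cfsg.Agent.CLAS.MHSubA
import Cfsg.Agent.CLAS.UniGen
import Cfsg.Agent.CLAS.PGL2Subfield

set_option autoImplicit false

namespace CL.MH

open Matrix Cfsg.Geo

variable {F : Type*} [Field F]

/-- every two nontrivial transvections are opposite or have the same flag -/
def CaseB (T : V3 F → V3 F → Prop) : Prop := ¬ CaseA T ∧ ¬ CaseA (fun φ x => T x φ)

/-- a nontrivial transvection -/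
def NT (T : V3 F → V3 F → Prop) (x φ : V3 F) : Prop := T x φ ∧ x ≠ 0 ∧ φ ≠ 0

namespace TS

variable {T : V3 F → V3 F → Prop} (S : TS T) {k : Subfield F} {x φ u θ y η : V3 F}
include S

theorem NT_conj (h : NT T x φ) (h' : T u θ) :
    NT T (x + (θ ⬝ᵥ x) • u) (φ - (φ ⬝ᵥ u) • θ) :=
  ⟨S.conj h.1 h', conj_ne_left h.2.1 (S.dot h'), conj_ne_right h.2.2 (S.dot h')⟩

theorem same_of_zero (hB : CaseB T) (h : NT T x φ) (h' : NT T u θ) (e : φ ⬝ᵥ u = 0) :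
    cr x u = 0 ∧ cr φ θ = 0 ∧ θ ⬝ᵥ x = 0 := by
  rcases S.dichB hB.1 hB.2 h.1 h.2.1 h.2.2 h'.1 h'.2.1 h'.2.2 with ⟨a, b⟩ | ⟨a, -⟩
  · exact ⟨a, b, dot_eq_zero_of_cr' h'.2.1 a (S.dot h'.1)⟩
  · exact absurd e a

theorem trip_of_mem (h : RM T k) (hB : CaseB T) (h1 : NT T x φ) (h2 : NT T u θ) (h3 : NT T y η)
    (h0 : (φ ⬝ᵥ u) * (θ ⬝ᵥ y) * (η ⬝ᵥ x) ≠ 0) (hc : (φ ⬝ᵥ u) * (θ ⬝ᵥ y) * (η ⬝ᵥ x) ∈ k) :
    trip x u y = 0 ∧
      (φ ⬝ᵥ u) * (θ ⬝ᵥ y) * (η ⬝ᵥ x) + (φ ⬝ᵥ y) * (η ⬝ᵥ u) * (θ ⬝ᵥ x) = 0 := by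
  set c := (φ ⬝ᵥ u) * (θ ⬝ᵥ y) * (η ⬝ᵥ x) with hcd
  set a := -((φ ⬝ᵥ y) * (η ⬝ᵥ x)) / c with had
  have ha : a ∈ k := k.div_mem (k.neg_mem (h.mem h1.1 h3.1)) hc
  have h4 := S.NT_conj h3 ((h.big h2.1 h2.2.1 h2.2.2 a).2 ha)
  have hη : η ⬝ᵥ x ≠ 0 := right_ne_zero_of_mul h0
  obtain ⟨e1, -, e2⟩ := S.same_of_zero hB h1 h4 (by
    rw [dotProduct_add, dotProduct_smul, smul_dotProduct, smul_eq_mul, smul_eq_mul, had]
    field_simp
    rw [hcd]; ring)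
  constructor
  · obtain ⟨l, hl⟩ := exists_smul_of_cr h1.2.1 (cr_eq_zero_comm.1 e1)
    rw [← trip_add_mid x u y ((a • θ) ⬝ᵥ y), hl, trip, dotProduct_smul, cr_dot_left, smul_zero]
  · rw [sub_dotProduct, smul_dotProduct, smul_dotProduct, smul_eq_mul, smul_eq_mul, had] at e2
    field_simp at e2
    refine mul_left_cancel₀ hη ?_
    linear_combination e2

theorem trip_sigma (h : RM T k) (hB : CaseB T) {σ : F →+* F} (hσ : ∀ a, σ a = a ↔ a ∈ k)
    (h1 : NT T x φ) (h2 : NT T u θ) (h3 : NT T y η) :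
    σ ((φ ⬝ᵥ u) * (θ ⬝ᵥ y) * (η ⬝ᵥ x)) = -((φ ⬝ᵥ y) * (η ⬝ᵥ u) * (θ ⬝ᵥ x)) := by
  by_cases h0 : (φ ⬝ᵥ u) * (θ ⬝ᵥ y) * (η ⬝ᵥ x) = 0
  · rw [h0, map_zero]
    rcases mul_eq_zero.1 h0 with e | e
    · rcases mul_eq_zero.1 e with e | e
      · rw [(S.same_of_zero hB h1 h2 e).2.2, mul_zero, neg_zero]
      · rw [(S.same_of_zero hB h2 h3 e).2.2, mul_zero, zero_mul, neg_zero]
    · rw [(S.same_of_zero hB h3 h1 e).2.2, zero_mul, zero_mul, neg_zero]
  by_cases hc : (φ ⬝ᵥ u) * (θ ⬝ᵥ y) * (η ⬝ᵥ x) ∈ k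
  · rw [(hσ _).2 hc]
    linear_combination (S.trip_of_mem h hB h1 h2 h3 h0 hc).2
  have m1 := h.mem h1.1 h2.1
  have m2 := h.mem h2.1 h3.1
  have m3 := h.mem h1.1 h3.1
  have m4 := h.mem h1.1 (S.conj h3.1 h2.1)
  rw [dotProduct_add, dotProduct_smul, sub_dotProduct, smul_dotProduct, smul_eq_mul,
    smul_eq_mul] at m4
  set c := (φ ⬝ᵥ u) * (θ ⬝ᵥ y) * (η ⬝ᵥ x) with hcd
  set c' := (φ ⬝ᵥ y) * (η ⬝ᵥ u) * (θ ⬝ᵥ x) with hcd'
  have s1 : c - c' ∈ k := by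
    convert k.add_mem (k.sub_mem m4 m3) (k.mul_mem m1 m2) using 1
    rw [hcd, hcd']; ring
  have s2 : c * c' ∈ k := by
    convert k.mul_mem (k.mul_mem m1 m2) m3 using 1
    rw [hcd, hcd']; ring
  have e1 := (hσ _).2 s1
  have e2 := (hσ _).2 s2
  rw [map_sub] at e1
  rw [map_mul] at e2
  have : (σ c - c) * (σ c + c') = 0 := by linear_combination (σ c) * e1 + e2
  rcases mul_eq_zero.1 this with e | e
  · exact absurd ((hσ _).1 (sub_eq_zero.1 e)) hc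
  · linear_combination e

theorem exists_norm (h : RM T k) (hB : CaseB T) (h1 : NT T x φ) (h2 : NT T u θ)
    (e : φ ⬝ᵥ u ≠ 0) : ∃ y η, ∃ a ∈ k, NT T y η ∧ φ ⬝ᵥ y = 1 ∧ η ⬝ᵥ x = -1 ∧
      u = (φ ⬝ᵥ u) • y ∧ (φ ⬝ᵥ u) • θ = a • η := by
  have e' : θ ⬝ᵥ x ≠ 0 := fun e' => e (S.same_of_zero hB h2 h1 e').2.2
  have m := h.mem h1.1 h2.1
  refine ⟨(φ ⬝ᵥ u)⁻¹ • u, (-(θ ⬝ᵥ x)⁻¹) • θ, -((φ ⬝ᵥ u) * (θ ⬝ᵥ x)), k.neg_mem m,
    ⟨?_, smul_ne_zero (inv_ne_zero e) h2.2.1, smul_ne_zero (neg_ne_zero.2 (inv_ne_zero e')) h2.2.2⟩,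
    ?_, ?_, ?_, ?_⟩
  · rw [S.smul, smul_smul]
    refine (h.big h2.1 h2.2.1 h2.2.2 _).2 ?_
    convert k.neg_mem (k.inv_mem m) using 1
    rw [mul_inv]; ring
  · rw [dotProduct_smul, smul_eq_mul, inv_mul_cancel₀ e]
  · rw [smul_dotProduct, smul_eq_mul, neg_mul, inv_mul_cancel₀ e']
  · rw [smul_smul, mul_inv_cancel₀ e, one_smul]
  · rw [smul_smul]
    congr 1
    field_simp

theorem norm_sigma (h : RM T k) (hB : CaseB T) {σ : F →+* F} (hσ : ∀ a, σ a = a ↔ a ∈ k)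
    (h1 : NT T x φ) (h2 : NT T u θ) (h3 : NT T y η) (a1 : φ ⬝ᵥ u = 1) (a2 : θ ⬝ᵥ x = -1)
    (a3 : φ ⬝ᵥ y = 1) (a4 : η ⬝ᵥ x = -1) : σ (θ ⬝ᵥ y) = -(η ⬝ᵥ u) := by
  have := S.trip_sigma h hB hσ h1 h2 h3
  rw [a1, a2, a3, a4, one_mul, mul_neg_one, map_neg] at this
  linear_combination -this

theorem herm_of_caseB (h : RM T k) (hB : CaseB T) {σ : F →+* F} (hσ : ∀ a, σ a = a ↔ a ∈ k)
    (hN : NoRat T) : (∀ a, σ (σ a) = a) ∧ σ ≠ RingHom.id F ∧
      ∃ τ : V3 F →ₛₗ[σ] V3 F, (∀ x y, σ (τ x ⬝ᵥ y) = τ y ⬝ᵥ x) ∧ (∀ x, τ x = 0 → x = 0) ∧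
        (∀ x φ, NT T x φ → ∃ c, c + σ c = 0 ∧ φ = c • τ x) ∧
        ∀ x c, τ x ⬝ᵥ x = 0 → c + σ c = 0 → T x (c • τ x) := by
  obtain ⟨v1, φ1, t1⟩ : ∃ x φ, NT T x φ := S.exists_nontrivial
  obtain ⟨u, θ, t, e1, e2⟩ := S.exists_opp t1.1 t1.2.1 t1.2.2
  obtain ⟨v2, φ2, -, -, t2, p12, p21, -⟩ := S.exists_norm h hB t1
    ⟨t, ne_zero_of_dot_right e1, ne_zero_of_dot_left e2⟩ e1
  clear e1 e2 t u θ
  have p11 := S.dot t1.1
  have p22 := S.dot t2.1
  have c12 : cr v1 v2 ≠ 0 := by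
    rw [Ne, cr_eq_zero_comm]
    exact cr_ne_zero_of_dot t1.2.1 p11 (by rw [p12]; exact one_ne_zero)
  obtain ⟨u, θ, t, hθ, e⟩ := S.hL _ c12
  have t' : NT T u θ := ⟨t, ne_zero_of_dot_right e, hθ⟩
  have e1 : φ1 ⬝ᵥ u ≠ 0 := fun e1 => e (dot_eq_zero_of_cr' t1.2.1
    (cr_eq_zero_comm.1 (S.same_of_zero hB t1 t' e1).1) (cr_dot_left _ _))
  obtain ⟨v3, φ3, -, -, t3, p13, p31, e3, -⟩ := S.exists_norm h hB t1 t' e1
  have tr : trip v1 v2 v3 ≠ 0 := fun h0 => e (by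
    rw [e3, dotProduct_smul]
    exact smul_eq_zero_of_right _ h0)
  clear e3 e1 t' e t hθ u θ
  have p33 := S.dot t3.1
  set γ := φ2 ⬝ᵥ v3 with hγd
  have hγ : γ ∉ k := fun hγ => tr (S.trip_of_mem h hB t1 t2 t3 ?_ ?_).1
  rotate_left
  · rw [p12, p31, one_mul, mul_neg_one, neg_ne_zero]
    intro h0
    have := (S.same_of_zero hB t2 t3 h0).1
    exact cr_ne_right_of_trip tr this
  · rw [p12, p31, one_mul, mul_neg_one]; exact k.neg_mem hγ
  have s1 : σ γ = -(φ3 ⬝ᵥ v2) := S.norm_sigma h hB hσ t1 t2 t3 p12 p21 p13 p31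
  have s2 : σ (φ3 ⬝ᵥ v2) = -γ := S.norm_sigma h hB hσ t1 t3 t2 p13 p31 p12 p21
  have p32 : φ3 ⬝ᵥ v2 = -σ γ := by rw [s1, neg_neg]
  have sγ : σ (σ γ) = γ := by rw [s1, map_neg, s2, neg_neg]
  set d := σ γ - γ with hdd
  have hd : d ≠ 0 := fun h0 => hγ ((hσ _).1 (sub_eq_zero.1 h0))
  have sd : σ d = -d := by rw [hdd, map_sub, sγ]; ring
  set w := v3 + γ • v1 - v2 with hwd
  set ω := φ3 + σ γ • φ1 - φ2 with hωd
  have q1 : φ1 ⬝ᵥ w = 0 := by
    rw [hwd, dotProduct_sub, dotProduct_add, dotProduct_smul, p13, p11, p12]; simp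
  have q2 : φ2 ⬝ᵥ w = 0 := by
    rw [hwd, dotProduct_sub, dotProduct_add, dotProduct_smul, p21, p22, ← hγd]; simp
  have q3 : ω ⬝ᵥ v1 = 0 := by
    rw [hωd, sub_dotProduct, add_dotProduct, smul_dotProduct, p31, p11, p21]; simp
  have q4 : ω ⬝ᵥ v2 = 0 := by
    rw [hωd, sub_dotProduct, add_dotProduct, smul_dotProduct, p32, p12, p22]; simp
  have q5 : ω ⬝ᵥ v3 = d := by
    rw [hωd, sub_dotProduct, add_dotProduct, smul_dotProduct, p33, p13, ← hγd, hdd]; simp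
  have q6 : ω ⬝ᵥ w = d := by
    rw [hwd, dotProduct_sub, dotProduct_add, dotProduct_smul, q3, q4, q5]; simp
  have hb : DualB ![v1, v2, w] ![-φ2, φ1, d⁻¹ • ω] := by
    intro i j
    fin_cases i <;> fin_cases j <;>
      simp [p11, p12, p21, p22, q1, q2, q3, q4, q6, inv_mul_cancel₀ hd]
  -- normalised flags
  have good : ∀ x φ, NT T x φ → ∃ (y η : V3 F) (l : F), ∃ a ∈ k, l ≠ 0 ∧ x = l • y ∧ l • φ = a • η ∧
      σ (φ1 ⬝ᵥ y) = -(η ⬝ᵥ v1) ∧ σ (φ2 ⬝ᵥ y) = -(η ⬝ᵥ v2) ∧ σ (ω ⬝ᵥ y) = -(η ⬝ᵥ w) ∧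
      σ (η ⬝ᵥ v1) = -(φ1 ⬝ᵥ y) ∧ σ (η ⬝ᵥ v2) = -(φ2 ⬝ᵥ y) ∧ σ (η ⬝ᵥ w) = -(ω ⬝ᵥ y) := by
    intro x φ hx
    by_cases e : φ1 ⬝ᵥ x = 0
    · obtain ⟨a1, a2, -⟩ := S.same_of_zero hB t1 hx e
      obtain ⟨l, rfl⟩ := exists_smul_of_cr t1.2.1 (cr_eq_zero_comm.1 a1)
      obtain ⟨m, rfl⟩ := exists_smul_of_cr t1.2.2 (cr_eq_zero_comm.1 a2)
      have := hx.1
      rw [S.smul, smul_smul, h.big t1.1 t1.2.1 t1.2.2] at this
      refine ⟨v1, φ1, l, l * m, this, left_ne_zero_of_smul hx.2.1, rfl, smul_smul _ _ _, ?_⟩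
      simp [p11, p12, p21, q1, q3]
    · obtain ⟨y, η, a, ha, hy, b1, b2, b3, b4⟩ := S.exists_norm h hB t1 hx e
      have r1 := S.norm_sigma h hB hσ t1 t2 hy p12 p21 b1 b2
      have r2 := S.norm_sigma h hB hσ t1 t3 hy p13 p31 b1 b2
      have r3 := S.norm_sigma h hB hσ t1 hy t2 b1 b2 p12 p21
      have r4 := S.norm_sigma h hB hσ t1 hy t3 b1 b2 p13 p31
      refine ⟨y, η, _, a, ha, e, b3, b4, by rw [b1, b2, map_one, neg_neg], r1, ?_,
        by rw [b1, b2, map_neg, map_one], r3, ?_⟩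
      · rw [hωd, hwd]
        simp only [sub_dotProduct, add_dotProduct, smul_dotProduct, dotProduct_sub, dotProduct_add,
          dotProduct_smul, smul_eq_mul, map_sub, map_add, map_mul, r1, r2, b1, b2, sγ, map_one]
        ring
      · rw [hωd, hwd]
        simp only [sub_dotProduct, add_dotProduct, smul_dotProduct, dotProduct_sub, dotProduct_add,
          dotProduct_smul, smul_eq_mul, map_sub, map_add, map_mul, r3, r4, b1, b2, map_neg, map_one]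
        ring
  have hσ2 : ∀ a, σ (σ a) = a := by
    have := hN (RingHom.eqLocusField (σ.comp σ) (RingHom.id F)) _ _ hb fun x φ hx i j => ?_
    · intro a
      have ha : a ∈ RingHom.eqLocusField (σ.comp σ) (RingHom.id F) := this ▸ Subfield.mem_top a
      exact ha
    by_cases hx0 : x = 0
    · rw [hx0, dotProduct_zero, zero_mul]; exact Subfield.zero_mem _
    by_cases hφ0 : φ = 0
    · rw [hφ0, zero_dotProduct, mul_zero]; exact Subfield.zero_mem _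
    obtain ⟨y, η, l, a, ha, hl, rfl, b, g1, g2, g3, g4, g5, g6⟩ := good x φ ⟨hx, hx0, hφ0⟩
    have e : ∀ β v : V3 F, (β ⬝ᵥ l • y) * (φ ⬝ᵥ v) = a * (β ⬝ᵥ y) * (η ⬝ᵥ v) := fun β v => by
      have := congrArg (· ⬝ᵥ v) b
      simp only [smul_dotProduct, smul_eq_mul] at this
      rw [dotProduct_smul, smul_eq_mul]
      linear_combination (β ⬝ᵥ y) * this
    rw [e]
    change σ (σ _) = _
    have ha' := (hσ a).2 ha
    fin_cases i <;> fin_cases j <;>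
      simp [ha', g1, g2, g3, g4, g5, g6, sd]
  have hne : σ ≠ RingHom.id F := fun h0 => hγ ((hσ γ).1 (by rw [h0]; rfl))
  refine ⟨hσ2, hne, ?_⟩
  let τ : V3 F →ₛₗ[σ] V3 F :=
    { toFun := fun x => (-(d * σ (φ2 ⬝ᵥ x))) • φ1 + (d * σ (φ1 ⬝ᵥ x)) • φ2 - σ (ω ⬝ᵥ x) • ω
      map_add' := fun x y => by
        simp only [dotProduct_add, map_add]; module
      map_smul' := fun c x => by
        simp only [dotProduct_smul, smul_eq_mul, map_mul]; module }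
  have hτ : ∀ x y, τ x ⬝ᵥ y = -(d * σ (φ2 ⬝ᵥ x) * (φ1 ⬝ᵥ y)) + d * σ (φ1 ⬝ᵥ x) * (φ2 ⬝ᵥ y) -
      σ (ω ⬝ᵥ x) * (ω ⬝ᵥ y) := fun x y => by
    change ((-(d * σ (φ2 ⬝ᵥ x))) • φ1 + (d * σ (φ1 ⬝ᵥ x)) • φ2 - σ (ω ⬝ᵥ x) • ω) ⬝ᵥ y = _
    simp only [sub_dotProduct, add_dotProduct, smul_dotProduct, smul_eq_mul]
    ring
  have hs : ∀ x y, σ (τ x ⬝ᵥ y) = τ y ⬝ᵥ x := fun x y => by
    rw [hτ, hτ]
    simp only [map_sub, map_add, map_neg, map_mul, hσ2, sd]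
    ring
  have ext : ∀ {φ ψ : V3 F}, φ ⬝ᵥ v1 = ψ ⬝ᵥ v1 → φ ⬝ᵥ v2 = ψ ⬝ᵥ v2 → φ ⬝ᵥ w = ψ ⬝ᵥ w → φ = ψ := by
    intro φ ψ a1 a2 a3
    refine eq_of_forall_dot fun v => ?_
    rw [hb.sum_eq v]
    simp [a1, a2, a3]
  have t1' : ∀ x, τ x ⬝ᵥ v1 = -(d * σ (φ1 ⬝ᵥ x)) := fun x => by rw [hτ, p11, p21, q3]; ring
  have t2' : ∀ x, τ x ⬝ᵥ v2 = -(d * σ (φ2 ⬝ᵥ x)) := fun x => by rw [hτ, p12, p22, q4]; ring
  have t3' : ∀ x, τ x ⬝ᵥ w = -(d * σ (ω ⬝ᵥ x)) := fun x => by rw [hτ, q1, q2, q6]; ring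
  have inj : ∀ x, τ x = 0 → x = 0 := by
    intro x hx
    have a1 := t1' x
    have a2 := t2' x
    have a3 := t3' x
    rw [hx, zero_dotProduct, eq_comm, neg_eq_zero, mul_eq_zero, map_eq_zero] at a1 a2 a3
    rw [hb.sum_eq x]
    simp [a1.resolve_left hd, a2.resolve_left hd, a3.resolve_left hd]
  refine ⟨τ, hs, inj, fun x φ hx => ?_, ?_⟩
  · obtain ⟨y, η, l, a, ha, hl, rfl, b, g1, g2, g3, -⟩ := good x φ hx
    have e : τ y = d • η := ext (by rw [t1', g1, smul_dotProduct, smul_eq_mul]; ring)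
      (by rw [t2', g2, smul_dotProduct, smul_eq_mul]; ring)
      (by rw [t3', g3, smul_dotProduct, smul_eq_mul]; ring)
    have hl' : σ l ≠ 0 := (map_ne_zero σ).2 hl
    refine ⟨a / (l * σ l * d), ?_, ?_⟩
    · rw [map_div₀, map_mul, map_mul, hσ2, sd, (hσ a).2 ha]
      field_simp
      ring
    · rw [map_smulₛₗ, e, smul_smul, smul_smul]
      refine smul_right_injective _ hl ?_
      change l • φ = l • _
      rw [b, smul_smul]
      congr 1
      field_simp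
  set C : V3 F → Prop := fun x => T x (d⁻¹ • τ x) with hC
  have up : ∀ {x}, C x → ∀ a ∈ k, T x (a • d⁻¹ • τ x) := by
    intro x hx a ha
    by_cases hx0 : x = 0
    · rw [hx0]; exact S.zero_left _
    · exact (h.big hx hx0 (smul_ne_zero (inv_ne_zero hd) fun e => hx0 (inj x e)) a).2 ha
  have sc : ∀ {x} (l : F), C x → C (l • x) := by
    intro x l hx
    change T _ _
    rw [S.smul, map_smulₛₗ, smul_comm d⁻¹, smul_smul]
    exact up hx _ ((hσ _).1 (by rw [map_mul, hσ2, mul_comm]))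
  have c1 : d⁻¹ • τ v1 = φ1 := ext (by simp [t1', p11]) (by simp [t2', p21, p12, hd])
    (by simp [t3', q3, q1])
  have c2 : d⁻¹ • τ v2 = φ2 := ext (by simp [t1', p12, p21, hd]) (by simp [t2', p22])
    (by simp [t3', q4, q2])
  have c3 : d⁻¹ • τ v3 = φ3 := ext (by simp [t1', p13, p31, hd])
    (by simp [t2', ← hγd, p32, hd]) (by
      rw [smul_dotProduct, t3', q5, sd, hwd, dotProduct_sub, dotProduct_add, dotProduct_smul, p33,
        p31, p32, smul_eq_mul, smul_eq_mul]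
      field_simp
      rw [hdd]; ring)
  set P : F → F → F → Prop := fun s t u => C (s • v1 + t • v2 + u • w) with hP
  have d1 : ∀ s t u : F, φ1 ⬝ᵥ (s • v1 + t • v2 + u • w) = t := fun s t u => by
    simp [p11, p12, q1]
  have d2 : ∀ s t u : F, φ2 ⬝ᵥ (s • v1 + t • v2 + u • w) = -s := fun s t u => by
    simp [p21, p22, q2]
  have d3 : ∀ s t u : F, ω ⬝ᵥ (s • v1 + t • v2 + u • w) = u * d := fun s t u => by
    simp [q3, q4, q6]
  have m1 : ∀ {s t u : F} {a : F}, a ∈ k → P s t u → P (s + a * t) t u := by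
    intro s t u a ha hx
    have := S.conj hx ((h.big t1.1 t1.2.1 t1.2.2 a).2 ha)
    rw [smul_dotProduct, d1, smul_dotProduct, t1', d1] at this
    have e : (s + a * t) • v1 + t • v2 + u • w = s • v1 + t • v2 + u • w + (a • t) • v1 := by
      rw [smul_eq_mul]; module
    change T _ _
    rw [e, map_add τ _ ((a • t) • v1), map_smulₛₗ τ (a • t), smul_add, smul_comm d⁻¹ (σ _), c1]
    convert this using 1
    rw [smul_eq_mul, smul_eq_mul, map_mul, (hσ a).2 ha, smul_smul, sub_eq_add_neg, ← neg_smul]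
    congr 2
    field_simp
  have m2 : ∀ {s t u : F} {a : F}, a ∈ k → P s t u → P s (t - a * s) u := by
    intro s t u a ha hx
    have := S.conj hx ((h.big t2.1 t2.2.1 t2.2.2 a).2 ha)
    rw [smul_dotProduct, d2, smul_dotProduct, t2', d2] at this
    have e : s • v1 + (t - a * s) • v2 + u • w = s • v1 + t • v2 + u • w + (a • -s) • v2 := by
      rw [smul_eq_mul]; module
    change T _ _
    rw [e, map_add τ _ ((a • -s) • v2), map_smulₛₗ τ (a • -s), smul_add, smul_comm d⁻¹ (σ _), c2]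
    convert this using 1
    rw [smul_eq_mul, smul_eq_mul, map_mul, (hσ a).2 ha, smul_smul, sub_eq_add_neg, ← neg_smul]
    congr 2
    field_simp
  have P0 : P (-γ) 1 1 := by
    have : (-γ) • v1 + (1 : F) • v2 + (1 : F) • w = v3 := by rw [hwd]; module
    change C _
    rw [this]
    change T _ _
    rw [c3]; exact t3.1
  have Q1 : ∀ s0 ∈ k, ∀ s1 ∈ k, ∀ t0 ∈ k, ∀ t1 ∈ k, s0 * t1 - s1 * t0 = 1 → t0 ≠ 0 →
      P (s1 - s0 * γ) (t1 - t0 * γ) 1 := by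
    intro s0 hs0 s1 _ t0 ht0 t1 ht1 hdet h0
    have := m1 (k.div_mem (k.sub_mem hs0 k.one_mem) ht0) (m2 (k.neg_mem ht0)
      (m1 (k.div_mem (k.sub_mem ht1 k.one_mem) ht0) P0))
    convert this using 1
    · field_simp
      linear_combination (-1 : F) * hdet
    · field_simp
      ring
  have Q2 : ∀ s t : F, σ s * t - σ t * s + d = 0 → P s t 1 := by
    intro s t hst
    have dec : ∀ z : F, ∃ z0 ∈ k, ∃ z1 ∈ k, z = z1 - z0 * γ := fun z => by
      refine ⟨(z - σ z) / d, (hσ _).1 ?_, z + (z - σ z) / d * γ, (hσ _).1 ?_, by ring⟩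
      · rw [map_div₀, map_sub, hσ2, sd]; field_simp; ring
      · rw [map_add, map_mul, map_div₀, map_sub, hσ2, sd]
        field_simp
        rw [hdd]; ring
    obtain ⟨s0, hs0, s1, hs1, rfl⟩ := dec s
    obtain ⟨t0, ht0, t1, ht1, rfl⟩ := dec t
    simp only [map_sub, map_mul, (hσ _).2 hs0, (hσ _).2 hs1, (hσ _).2 ht0, (hσ _).2 ht1] at hst
    have hdet : s0 * t1 - s1 * t0 = 1 := by
      refine mul_left_cancel₀ hd ?_
      rw [hdd] at hst ⊢
      linear_combination -hst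
    by_cases h0 : t0 = 0
    · have := m2 k.one_mem (Q1 s0 hs0 s1 hs1 _ (k.add_mem ht0 hs0) _ (k.add_mem ht1 hs1)
        (by linear_combination hdet) (by
          rw [h0, zero_add]; rintro rfl; simp [h0] at hdet))
      convert this using 1
      ring
    · exact Q1 s0 hs0 s1 hs1 t0 ht0 t1 ht1 hdet h0
  intro x c hx hc
  have hcd : c * d ∈ k := (hσ _).1 (by rw [map_mul, sd]; linear_combination (-d) * hc)
  suffices C x by
    have := up this _ hcd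
    rwa [smul_smul, mul_assoc, mul_inv_cancel₀ hd, mul_one] at this
  obtain ⟨s, t, u, rfl⟩ : ∃ s t u : F, x = s • v1 + t • v2 + u • w := ⟨_, _, _, hb.sum_eq x⟩
  rw [hτ, d1, d2, d3, map_neg, map_mul, sd] at hx
  have hx' : σ s * t - σ t * s + d * σ u * u = 0 := by
    refine mul_left_cancel₀ hd ?_
    linear_combination hx
  by_cases hu : u = 0
  · subst hu
    by_cases ht : t = 0
    · subst ht
      rw [zero_smul, zero_smul, add_zero, add_zero]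
      refine sc s ?_
      change T _ _
      rw [c1]; exact t1.1
    · have P1 : P 0 1 0 := by
        change C _
        rw [zero_smul, zero_smul, add_zero, zero_add, one_smul]
        change T _ _
        rw [c2]; exact t2.1
      have ht' : σ t ≠ 0 := (map_ne_zero σ).2 ht
      have := sc t (m1 ((hσ (s / t)).1 (by
        rw [map_div₀, div_eq_div_iff ht' ht]; linear_combination hx')) P1)
      convert this using 1
      simp only [smul_add, smul_smul]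
      congr 3
      · field_simp; ring
      · ring
      · ring
  · have hu' : σ u ≠ 0 := (map_ne_zero σ).2 hu
    have := sc u (Q2 (s / u) (t / u) (by
      rw [map_div₀, map_div₀]; field_simp; linear_combination hx'))
    convert this using 1
    simp only [smul_add, smul_smul]
    congr 3
    · field_simp
    · field_simp
    · ring

end TS

/-- Frobenius map fixing exactly a given subfield -/
theorem exists_frob [Finite F] (k : Subfield F) :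
    ∃ σ : F →+* F, (∀ a, σ a = a ^ Nat.card k) ∧ ∀ a, σ a = a ↔ a ∈ k := by
  classical
  have := Fintype.ofFinite F
  obtain ⟨p, hp⟩ := CharP.exists F
  have : Fact p.Prime := ⟨CharP.char_is_prime F p⟩
  obtain ⟨n, -, hn⟩ := FiniteField.card k p
  have e : ∀ a, iterateFrobenius F p n a = a ^ Nat.card k := fun a => by
    rw [iterateFrobenius_def, Nat.card_eq_fintype_card, hn]
  refine ⟨iterateFrobenius F p n, e, fun a => ?_⟩
  obtain ⟨S, hS, hc⟩ := Asch.exists_subfield_of_card (L := F) (Q := Nat.card k)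
    (j := Module.finrank k F) (Module.natCard_eq_pow_finrank (K := k))
  have hle : k ≤ S := fun x hx => (hS x).2 (by
    have := FiniteField.pow_card (⟨x, hx⟩ : k)
    rw [← Nat.card_eq_fintype_card] at this
    exact congrArg Subtype.val this)
  have : k = S := SetLike.coe_injective (Set.eq_of_subset_of_ncard_le hle
    (by rw [← Nat.card_coe_set_eq, ← Nat.card_coe_set_eq]; exact hc.le))
  rw [e, ← hS, ← this]

theorem card_eq_sq [Fintype F] {k : Subfield F} (h2 : ∀ a : F, (a ^ Nat.card k) ^ Nat.card k = a)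
    (hk : k ≠ ⊤) : Fintype.card F = Nat.card k ^ 2 := by
  classical
  have hQ : 1 < Nat.card k := Finite.one_lt_card
  obtain hs | ⟨m, hm, h⟩ := Dk.surjective_or_exists_pow k.subtype
  · exact absurd (eq_top_iff.2 fun x _ => by obtain ⟨y, rfl⟩ := hs x; exact y.2) hk
  have h1 : 1 < Nat.card k ^ 2 := Nat.one_lt_pow two_ne_zero hQ
  have hd : Fintype.card F - 1 ∣ Nat.card k ^ 2 - 1 := by
    refine (FiniteField.forall_pow_eq_one_iff F _).1 fun x => ?_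
    have : x ^ (Nat.card k ^ 2 - 1) * x = 1 * x := by
      rw [← pow_succ, Nat.sub_add_cancel h1.le, one_mul, Units.ext_iff, Units.val_pow_eq_pow_val,
        pow_two, pow_mul, h2]
    exact mul_right_cancel this
  have := Nat.le_of_dvd (by omega) hd
  have h3 := Nat.pow_le_pow_right (by omega : 0 < Nat.card k) hm
  rw [h, Nat.card_eq_fintype_card (α := F)] at h3
  omega

open CL.Uni CL.Witt in
theorem eq_SU_of_herm [Fintype F] {q : ℕ} (hF : Fintype.card F = q ^ 2) (hq : q ≠ 2)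
    {K : Subgroup (GL (Fin 3) F)} (hG : GenTv K) (τ : V3 F →ₛₗ[sig hF] V3 F)
    (hs : ∀ x y, sig hF (τ x ⬝ᵥ y) = τ y ⬝ᵥ x) (inj : ∀ x, τ x = 0 → x = 0)
    (fwd : ∀ x φ, NT (TV K) x φ → ∃ c, c + sig hF c = 0 ∧ φ = c • τ x)
    (bwd : ∀ x c, τ x ⬝ᵥ x = 0 → c + sig hF c = 0 → TV K x (c • τ x)) :
    ∃ X, K = Asch.cj X (Cfsg.GU 3 F q ⊓ specialLinear (Fin 3) F) := by
  let f : Form (HT hF) (V3 F) := Form.ofHerm (sig_ne_id hF) (sig_sig hF)
    (LinearMap.mk₂'ₛₗ (sig hF) (RingHom.id F) (fun x y => τ x ⬝ᵥ y)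
      (fun x x' y => by rw [map_add, add_dotProduct])
      (fun c x y => by rw [map_smulₛₗ, smul_dotProduct])
      (fun x y y' => by rw [dotProduct_add])
      (fun c x y => by rw [dotProduct_smul]; rfl)) ⟨hs⟩
  have hB : ∀ x y, f.B x y = τ x ⬝ᵥ y := fun _ _ => rfl
  have hq' : ∀ x, f.q x = τ x ⬝ᵥ x := fun _ => rfl
  have hf : f.Nondeg := fun x hx => inj x (eq_of_forall_dot fun v => by
    rw [← hB, hx, zero_dotProduct])
  have h3 : Module.finrank F (V3 F) = 3 := by simp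
  have hT := Tv_eq_SO (sig_ne_id hF) hf h3.ge (Or.inr (exists_fixed_ne hF hq))
  have hK : K = f.SO.comap (Orth.glEquiv (Fin 3) F : GL (Fin 3) F →* _) := by
    refine le_antisymm (hG _ fun g hg x φ h0 h1 => ?_) ?_
    · by_cases h : x = 0 ∨ φ = 0
      · rw [h1.eq_one_iff.2 h]; exact one_mem _
      push Not at h
      obtain ⟨c, hc, rfl⟩ := fwd x φ ⟨⟨h0, g, hg, h1⟩, h⟩
      have hx : f.q x = 0 := by
        rw [smul_dotProduct] at h0
        exact (smul_eq_zero.1 h0).resolve_left (left_ne_zero_of_smul h.2)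
      have hπ : (HT hF).π (-c) = 0 := by
        rw [map_neg, HT_π, ← sig_apply hF, hc, neg_zero]
      have : Orth.glEquiv (Fin 3) F g = f.ei x 0 (-c) := LinearEquiv.ext fun v => by
        rw [Form.ei_zero_apply hx hπ, Orth.glEquiv_apply, HT_ε, hB,
          show (g : Matrix (Fin 3) (Fin 3) F) *ᵥ v = _ from h1 v, smul_dotProduct, smul_eq_mul]
        module
      change Orth.glEquiv (Fin 3) F g ∈ f.SO
      rw [this]; exact Form.ei_mem_SO _ x 0 _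
    · have : f.Tv ≤ K.map (Orth.glEquiv (Fin 3) F : GL (Fin 3) F →* _) := by
        refine Form.Tv_le_iff.2 fun u a hu ha => ?_
        obtain ⟨-, g, hg, h1⟩ := bwd u (-a) hu (by
          rw [HT_π, ← sig_apply hF] at ha
          rw [map_neg, ← neg_add, ha, neg_zero])
        refine ⟨g, hg, LinearEquiv.ext fun v => ?_⟩
        rw [Form.ei_zero_apply hu ha, HT_ε, hB]
        change Orth.glEquiv (Fin 3) F g v = _
        rw [Orth.glEquiv_apply, show (g : Matrix (Fin 3) (Fin 3) F) *ᵥ v = _ from h1 v,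
          smul_dotProduct, smul_eq_mul]
        module
      intro g hg
      obtain ⟨g', hg', e⟩ := this (hT.ge hg)
      rwa [← (Orth.glEquiv (Fin 3) F).injective e]
  obtain ⟨e, he⟩ := exists_isIsom_std hf (ι := Fin 3) (by simp)
  refine ⟨((Orth.glEquiv (Fin 3) F).symm e)⁻¹, Subgroup.ext fun g => ?_⟩
  rw [Asch.mem_cj, mem_GU_inf_iff hF, hK, inv_inv, map_mul, map_mul, map_inv,
    MulEquiv.apply_symm_apply]
  change Orth.glEquiv (Fin 3) F g ∈ f.SO ↔ _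
  refine ⟨fun h => (he.SOEquiv ⟨_, h⟩).2, fun h => ?_⟩
  convert (he.SOEquiv.symm ⟨_, h⟩).2 using 1
  refine LinearEquiv.ext fun v => ?_
  change _ = e.symm (e (Orth.glEquiv (Fin 3) F g (e.symm (e v))))
  simp

/-- Irreducible groups generated by transvections in dimension three. -/
theorem tv_cases [Fintype F] {K : Subgroup (GL (Fin 3) F)} (hK : Asch.Irr K) (hG : GenTv K)
    (hN : NoSub K) (h0 : ∃ x φ, NT (TV K) x φ) : K = specialLinear (Fin 3) F ∨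
      (∃ q, Fintype.card F = q ^ 2 ∧ 3 ≤ q ∧
        ∃ X, K = Asch.cj X (Cfsg.GU 3 F q ⊓ specialLinear (Fin 3) F)) ∨
      ((2 : F) = 0 ∧ Small2 (TV K)) := by
  have S := ts_tv hK h0
  have hN' := noRat_tv hG hN
  obtain ⟨k, h, a, ha, ha0, ha1⟩ | h := S.rm_or_small2
  swap
  · exact Or.inr (Or.inr h)
  have hA : CaseA (TV K) → K = specialLinear (Fin 3) F := fun hA => by
    obtain ⟨b, β, hb, h1⟩ := S.all_of_caseA h hA hN'
    exact le_antisymm hG.le_SL (SL_le_of_frame hb h1)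
  by_cases h1 : CaseA (TV K)
  · exact Or.inl (hA h1)
  by_cases h2 : CaseA (fun φ x => TV K x φ)
  · exact Or.inl (hA (S.caseA_of_flip (S.flip.kill_of_rm (S.rm_flip h)) h2))
  obtain ⟨σ, hσ, hσ'⟩ := exists_frob k
  obtain ⟨s1, s2, τ, s3⟩ := S.herm_of_caseB h ⟨h1, h2⟩ hσ' hN'
  have hF : Fintype.card F = Nat.card k ^ 2 := card_eq_sq (fun a => by rw [← hσ, ← hσ, s1])
    (by rintro rfl; exact s2 (RingHom.ext fun a => (hσ' a).2 trivial))
  obtain rfl : σ = Uni.sig hF := RingHom.ext fun a => by rw [hσ, Uni.sig_apply]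
  have hq : Nat.card k ≠ 2 := fun e => by
    have := hσ a
    rw [(hσ' a).2 ha, e, pow_two] at this
    exact ha1 (mul_left_cancel₀ ha0 (by rw [← this, mul_one]))
  have := SqField.two_le hF
  exact Or.inr (Or.inl ⟨_, hF, by omega, eq_SU_of_herm hF hq hG τ s3.1 s3.2.1 s3.2.2.1 s3.2.2.2⟩)

end CL.MH
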