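/-
Projective representations of degree three: lifts, rank one perturbations, involutions.
-/
import Cfsg.Agent.CLAS.MHSubB
import Cfsg.Agent.CLAS.AschSub
import Cfsg.Agent.S0215
import Cfsg.Agent.S0205

set_option autoImplicit false

namespace CL.MH

open Matrix Cfsg.Geo
open scoped MatrixGroups

variable {F : Type*} [Field F] {G : Type*} [Group G]

/-- projection to the projective group -/
abbrev pm : GL (Fin 3) F →* PGL(3, F) := ProjGenLinGroup.mk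

theorem ac_scGL (c : F) (hc : c ≠ 0) (v : V3 F) : ac (Asch.scGL (Fin 3) c hc) v = c • v := by
  rw [ac, Asch.coe_scGL, smul_mulVec, one_mulVec]

theorem pm_scGL (c : F) (hc : c ≠ 0) : pm (Asch.scGL (Fin 3) c hc) = 1 :=
  ProjGenLinGroup.mk_eq_one.2 (Subgroup.mem_center_iff.2 fun g =>
    (Asch.scalars_comm (Asch.scGL_mem c hc) g).symm)

theorem pm_eq_iff {A B : GL (Fin 3) F} :
    pm A = pm B ↔ ∃ c : F, c ≠ 0 ∧ ∀ v, ac A v = c • ac B v := by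
  constructor
  · intro h
    obtain ⟨u, hu⟩ := ProjGenLinGroup.mk_eq_mk_iff.1 h.symm
    refine ⟨u, u.ne_zero, fun v => ?_⟩
    rw [← hu, ac_mul, ← ac_smul]
    congr 1
    simp [ac, scalar_apply]
  · rintro ⟨c, hc, h⟩
    have : A = Asch.scGL (Fin 3) c hc * B := ext_ac fun v => by rw [ac_mul, ac_scGL, h]
    rw [this, map_mul, pm_scGL, one_mul]

theorem pm_eq_one_iff {A : GL (Fin 3) F} : pm A = 1 ↔ ∃ c : F, c ≠ 0 ∧ ∀ v, ac A v = c • v := by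
  rw [← map_one pm, pm_eq_iff]
  simp only [ac_one]

theorem pm_eq_one_iff_scalars {A : GL (Fin 3) F} : pm A = 1 ↔ A ∈ scalars (Fin 3) F := by
  rw [pm_eq_one_iff, mem_scalars_iff]
  constructor
  · rintro ⟨c, hc, h⟩
    exact ⟨Units.mk0 c hc, Asch.eq_of_mulVec fun v => by
      rw [smul_mulVec, one_mulVec]; exact h v⟩
  · rintro ⟨c, hc⟩
    exact ⟨c, c.ne_zero, fun v => by rw [ac, hc, smul_mulVec, one_mulVec]⟩

/-- `A` rescaled by `c` -/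
def sc (c : F) (hc : c ≠ 0) (A : GL (Fin 3) F) : GL (Fin 3) F := Asch.scGL (Fin 3) c hc * A

theorem ac_sc (c : F) (hc : c ≠ 0) (A : GL (Fin 3) F) (v : V3 F) :
    ac (sc c hc A) v = c • ac A v := by rw [sc, ac_mul, ac_scGL]

theorem pm_sc (c : F) (hc : c ≠ 0) (A : GL (Fin 3) F) : pm (sc c hc A) = pm A := by
  rw [sc, map_mul, pm_scGL, one_mul]

theorem coe_sc (c : F) (hc : c ≠ 0) (A : GL (Fin 3) F) :
    (sc c hc A : Matrix (Fin 3) (Fin 3) F) = c • (A : Matrix (Fin 3) (Fin 3) F) := by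
  rw [sc, Units.val_mul, Asch.coe_scGL, smul_mul_assoc, one_mul]

theorem exists_common (φ ψ : V3 F) : ∃ v : V3 F, v ≠ 0 ∧ φ ⬝ᵥ v = 0 ∧ ψ ⬝ᵥ v = 0 := by
  by_cases h : cr φ ψ = 0
  swap
  · exact ⟨_, h, dot_cr_left _ _, dot_cr_right _ _⟩
  have key : ∀ φ : V3 F, ∃ v : V3 F, v ≠ 0 ∧ φ ⬝ᵥ v = 0 := fun φ => by
    by_cases h0 : cr φ ![1, 0, 0] = 0
    · refine ⟨![0, 1, 0], fun e => by simpa using congrFun e 1, ?_⟩
      have := congrFun h0 2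
      rw [dot3]
      simpa using this
    · exact ⟨_, h0, dot_cr_left _ _⟩
  by_cases hψ : ψ = 0
  · obtain ⟨v, h1, h2⟩ := key φ
    exact ⟨v, h1, h2, by rw [hψ, zero_dotProduct]⟩
  · obtain ⟨v, h1, h2⟩ := key ψ
    exact ⟨v, h1, dot_eq_zero_of_cr hψ h h2, h2⟩

theorem exists_trip_ne {x u : V3 F} (h : cr x u ≠ 0) : ∃ w, trip x u w ≠ 0 := exists_dot_ne' h

theorem IsR.eq_of_pm {A B : GL (Fin 3) F} {x φ u θ : V3 F} (h1 : IsR A x φ) (h2 : IsR B u θ)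
    (h : pm A = pm B) : A = B := by
  obtain ⟨c, -, hc⟩ := pm_eq_iff.1 h
  obtain ⟨v, hv, e1, e2⟩ := exists_common φ θ
  have := hc v
  rw [h1, h2, e1, e2, zero_smul, zero_smul, add_zero] at this
  have : c = 1 := smul_left_injective F hv (by simpa using this.symm)
  exact ext_ac fun v => by rw [hc, this, one_smul]

theorem IsR.flag_eq {A : GL (Fin 3) F} {x φ u θ : V3 F} (h1 : IsR A x φ) (h2 : IsR A u θ)
    (hx : x ≠ 0) (hφ : φ ≠ 0) : ∃ l : F, l ≠ 0 ∧ u = l • x ∧ φ = l • θ := by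
  have key : ∀ v, (φ ⬝ᵥ v) • x = (θ ⬝ᵥ v) • u := fun v => add_left_cancel ((h1 v).symm.trans (h2 v))
  obtain ⟨v, hv⟩ := exists_dot_ne' hφ
  have hθ : θ ⬝ᵥ v ≠ 0 := fun e => smul_ne_zero hv hx (by rw [key, e, zero_smul])
  have hu : u = (φ ⬝ᵥ v / θ ⬝ᵥ v) • x := by
    rw [div_eq_inv_mul, ← smul_smul, key, smul_smul, inv_mul_cancel₀ hθ, one_smul]
  refine ⟨_, div_ne_zero hv hθ, hu, eq_of_forall_dot fun w => ?_⟩
  have := key w
  rw [hu, smul_smul] at this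
  rw [smul_left_injective F hx this, smul_dotProduct, smul_eq_mul, mul_comm]

/-- rank at most one -/
def Rk1 (N : Matrix (Fin 3) (Fin 3) F) : Prop := ∃ x φ : V3 F, ∀ w, N *ᵥ w = (φ ⬝ᵥ w) • x

theorem rk1_of_cr {N : Matrix (Fin 3) (Fin 3) F} (h : ∀ v w, cr (N *ᵥ v) (N *ᵥ w) = 0) : Rk1 N := by
  by_cases h0 : ∀ v, N *ᵥ v = 0
  · exact ⟨0, 0, fun w => by rw [h0, smul_zero]⟩
  push Not at h0
  obtain ⟨v, hv⟩ := h0
  obtain ⟨ψ, hψ⟩ := exists_dot_ne hv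
  refine ⟨N *ᵥ v, (ψ ⬝ᵥ N *ᵥ v)⁻¹ • (ψ ᵥ* N), fun w => ?_⟩
  obtain ⟨c, hc⟩ := exists_smul_of_cr hv (h w v)
  rw [smul_dotProduct, ← dotProduct_mulVec, hc, dotProduct_smul, smul_eq_mul, smul_eq_mul,
    mul_comm c, ← mul_assoc, inv_mul_cancel₀ hψ, one_mul]

theorem rk1_of_ker {M : Matrix (Fin 3) (Fin 3) F} {a b : V3 F} (h : cr a b ≠ 0) (ha : M *ᵥ a = 0)
    (hb : M *ᵥ b = 0) : Rk1 M := by
  obtain ⟨u, hu⟩ := exists_trip_ne h
  refine ⟨M *ᵥ u, (trip a b u)⁻¹ • cr a b, fun y => ?_⟩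
  obtain ⟨r, s, t, rfl⟩ := exists_coords hu y
  simp only [mulVec_add, mulVec_smul, ha, hb, smul_zero, zero_add, smul_dotProduct, dotProduct_add,
    dotProduct_smul, cr_dot_left, cr_dot_right, smul_eq_mul, mul_zero]
  rw [show cr a b ⬝ᵥ u = trip a b u from rfl, inv_mul_cancel₀ hu, mul_one]

theorem rk1_or {M N : Matrix (Fin 3) (Fin 3) F} (h : M * N = 0) : Rk1 N ∨ Rk1 M := by
  by_cases h0 : ∀ v w, cr (N *ᵥ v) (N *ᵥ w) = 0
  · exact Or.inl (rk1_of_cr h0)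
  push Not at h0
  obtain ⟨v, w, h0⟩ := h0
  exact Or.inr (rk1_of_ker h0 (by rw [mulVec_mulVec, h, zero_mulVec])
    (by rw [mulVec_mulVec, h, zero_mulVec]))

theorem isR_of_rk1 {A : GL (Fin 3) F} {a : F} (ha : a ≠ 0)
    (h : Rk1 ((A : Matrix (Fin 3) (Fin 3) F) - a • 1)) :
    ∃ x φ, IsR (sc a⁻¹ (inv_ne_zero ha) A) x φ := by
  obtain ⟨x, φ, h⟩ := h
  refine ⟨x, a⁻¹ • φ, fun v => ?_⟩
  have := h v
  rw [sub_mulVec, smul_mulVec, one_mulVec, sub_eq_iff_eq_add] at this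
  rw [ac_sc, ac, this, smul_add, smul_smul, smul_smul, inv_mul_cancel₀ ha, one_smul,
    smul_dotProduct, smul_eq_mul, add_comm]

/-- the full preimage of a projective group -/
def lf (ρ : G →* PGL(3, F)) : Subgroup (GL (Fin 3) F) := ρ.range.comap pm

theorem mem_lf {ρ : G →* PGL(3, F)} {A : GL (Fin 3) F} : A ∈ lf ρ ↔ ∃ g, ρ g = pm A := Iff.rfl

theorem exists_lift (ρ : G →* PGL(3, F)) (g : G) : ∃ A, ρ g = pm A :=
  let ⟨A, hA⟩ := ProjGenLinGroup.mk_surjective (ρ g); ⟨A, hA.symm⟩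

/-- `g` is represented by `v ↦ v + φ(v) x` -/
def RR (ρ : G →* PGL(3, F)) (g : G) (x φ : V3 F) : Prop := ∃ A, ρ g = pm A ∧ IsR A x φ

section RR

variable {ρ : G →* PGL(3, F)} {g h : G} {x x' φ φ' u θ : V3 F}

theorem hr_lf : HR (lf ρ) x φ ↔ ∃ g, RR ρ g x φ :=
  ⟨fun ⟨A, ⟨g, hg⟩, h⟩ => ⟨g, A, hg, h⟩, fun ⟨g, A, hg, h⟩ => ⟨A, ⟨g, hg⟩, h⟩⟩

theorem RR.tv (h1 : RR ρ g x φ) (h0 : φ ⬝ᵥ x = 0) : TV (lf ρ) x φ := ⟨h0, hr_lf.2 ⟨g, h1⟩⟩

theorem RR.unique (hρ : Function.Injective ρ) (h1 : RR ρ g x φ) (h2 : RR ρ h x φ) : g = h := by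
  obtain ⟨A, hA, h1⟩ := h1
  obtain ⟨B, hB, h2⟩ := h2
  exact hρ (by rw [hA, hB, h1.unique h2])

theorem RR.smul_iff (c : F) : RR ρ g (c • x) φ ↔ RR ρ g x (c • φ) := by
  simp only [RR, IsR.smul_iff]

theorem RR.conj (h1 : RR ρ g x φ) {A : GL (Fin 3) F} (hA : ρ h = pm A) :
    RR ρ (h * g * h⁻¹) (ac A x) (dc A φ) := by
  obtain ⟨B, hB, h1⟩ := h1
  exact ⟨_, by simp only [map_mul, map_inv, hA, hB], h1.conj A⟩

theorem RR.conj' (h1 : RR ρ g x φ) (h2 : RR ρ h u θ) :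
    RR ρ (h * g * h⁻¹) (x + (θ ⬝ᵥ x) • u) (φ - ((φ ⬝ᵥ u) * (1 + θ ⬝ᵥ u)⁻¹) • θ) := by
  obtain ⟨B, hB, h1⟩ := h1
  obtain ⟨A, hA, h2⟩ := h2
  exact ⟨_, by simp only [map_mul, map_inv, hA, hB], h1.conj' h2⟩

theorem RR.det_ne (h1 : RR ρ g x φ) : 1 + φ ⬝ᵥ x ≠ 0 := let ⟨_, _, h⟩ := h1; h.det_ne

theorem RR.inv (h1 : RR ρ g x φ) : RR ρ g⁻¹ x (-(1 + φ ⬝ᵥ x)⁻¹ • φ) := by
  obtain ⟨B, hB, h1⟩ := h1
  exact ⟨_, by simp only [map_inv, hB], h1.inv⟩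

theorem RR.mul_right (h1 : RR ρ g x φ) (h2 : RR ρ h x φ') :
    RR ρ (g * h) x (φ + (1 + φ ⬝ᵥ x) • φ') := by
  obtain ⟨B, hB, h1⟩ := h1
  obtain ⟨A, hA, h2⟩ := h2
  exact ⟨_, by simp only [map_mul, hA, hB], h1.mul_right h2⟩

theorem RR.mul_left (h1 : RR ρ g x φ) (h2 : RR ρ h x' φ) :
    RR ρ (g * h) (x' + (1 + φ ⬝ᵥ x') • x) φ := by
  obtain ⟨B, hB, h1⟩ := h1
  obtain ⟨A, hA, h2⟩ := h2
  exact ⟨_, by simp only [map_mul, hA, hB], h1.mul_left h2⟩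

theorem rr_one (ρ : G →* PGL(3, F)) (x : V3 F) : RR ρ 1 x 0 := ⟨1, by simp, isR_one x⟩

theorem RR.eq_one_iff (hρ : Function.Injective ρ) (h1 : RR ρ g x φ) : g = 1 ↔ x = 0 ∨ φ = 0 := by
  obtain ⟨B, hB, h1⟩ := h1
  rw [← h1.eq_one_iff]
  refine ⟨fun e => h1.eq_of_pm (isR_one 0) (by rw [← hB, e, map_one, map_one]), fun e => hρ ?_⟩
  rw [hB, e, map_one, map_one]

theorem RR.flag_eq (h1 : RR ρ g x φ) (h2 : RR ρ g u θ) (hx : x ≠ 0) (hφ : φ ≠ 0) :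
    ∃ l : F, l ≠ 0 ∧ u = l • x ∧ φ = l • θ := by
  obtain ⟨B, hB, h1⟩ := h1
  obtain ⟨A, hA, h2⟩ := h2
  obtain rfl := h1.eq_of_pm h2 (hB.symm.trans hA)
  exact h1.flag_eq h2 hx hφ

/-- an element commuting with `g` fixes its centre and axis -/
theorem RR.fix_of_comm (h1 : RR ρ g x φ) (hx : x ≠ 0) (hφ : φ ≠ 0) {A : GL (Fin 3) F}
    (hA : ρ h = pm A) (hc : h * g = g * h) :
    ∃ l : F, l ≠ 0 ∧ ac A x = l • x ∧ ∀ v, φ ⬝ᵥ ac A v = l * φ ⬝ᵥ v := by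
  have h2 := h1.conj hA
  rw [hc, mul_inv_cancel_right] at h2
  obtain ⟨l, hl, e1, e2⟩ := h1.flag_eq h2 hx hφ
  refine ⟨l, hl, e1, fun v => ?_⟩
  conv_lhs => rw [e2]
  rw [smul_dotProduct, dc_dot_ac, smul_eq_mul]

theorem RR.comm_of_dot (hρ : Function.Injective ρ) (h1 : RR ρ g x φ) (h2 : RR ρ h u θ)
    (e1 : φ ⬝ᵥ u = 0) (e2 : θ ⬝ᵥ x = 0) : h * g = g * h := by
  have := h1.conj' h2
  rw [e1, e2, zero_smul, zero_mul, zero_smul, add_zero, sub_zero] at this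
  rw [← mul_inv_eq_iff_eq_mul, this.unique hρ h1]

/-- an involution is represented by a rank one perturbation of the identity -/
theorem exists_rr_of_invol (hsq : ∀ c : F, ∃ s, s * s = c) (hg : g * g = 1) :
    ∃ x φ, RR ρ g x φ ∧ (φ ⬝ᵥ x = -2 ∨ x = 0 ∨ φ = 0) := by
  obtain ⟨A, hA⟩ := exists_lift ρ g
  obtain ⟨c, hc, h⟩ := pm_eq_one_iff.1 (show pm (A * A) = 1 by
    rw [map_mul, ← hA, ← map_mul, hg, map_one])
  obtain ⟨s, rfl⟩ := hsq c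
  have hs : s ≠ 0 := left_ne_zero_of_mul hc
  have e : ((A : Matrix (Fin 3) (Fin 3) F) - (-s) • 1) * (A - s • 1) = 0 := by
    have : (A : Matrix (Fin 3) (Fin 3) F) * A = (s * s) • 1 := Asch.eq_of_mulVec fun v => by
      rw [smul_mulVec, one_mulVec, ← Units.val_mul]; exact h v
    simp only [sub_mul, mul_sub, this, smul_mul_assoc, mul_smul_comm, one_mul, mul_one]
    module
  have key : ∃ x φ, RR ρ g x φ := by
    rcases rk1_or e with h1 | h1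
    · obtain ⟨x, φ, h2⟩ := isR_of_rk1 hs h1
      exact ⟨x, φ, _, by rw [pm_sc, hA], h2⟩
    · obtain ⟨x, φ, h2⟩ := isR_of_rk1 (neg_ne_zero.2 hs) h1
      exact ⟨x, φ, _, by rw [pm_sc, hA], h2⟩
  obtain ⟨x, φ, B, hB, h1⟩ := key
  refine ⟨x, φ, ⟨B, hB, h1⟩, ?_⟩
  have h2 := h1.mul_right h1
  have := h2.eq_one_iff.1 (h2.eq_of_pm (isR_one 0) (by
    rw [map_mul, ← hB, ← map_mul, hg, map_one, map_one]))
  rcases this with h | h
  · exact Or.inr (Or.inl h)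
  · rw [show φ + (1 + φ ⬝ᵥ x) • φ = (2 + φ ⬝ᵥ x) • φ by module, smul_eq_zero] at h
    rcases h with h | h
    · exact Or.inl (by linear_combination h)
    · exact Or.inr (Or.inr h)

end RR

theorem even_card_of_simple [Finite G] [IsSimpleGroup G] (hG : ¬ IsMulCommutative G) :
    2 ∣ Nat.card G := by
  by_contra h
  have := Cfsg.Agent.S0205.result (G := G) (Nat.not_even_iff_odd.1 fun e => h e.two_dvd)
  exact hG ⟨⟨IsSimpleGroup.comm_iff_isSolvable.2 this⟩⟩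

theorem center_eq_bot_of_simple [IsSimpleGroup G] (hG : ¬ IsMulCommutative G) :
    Subgroup.center G = ⊥ := by
  rcases (inferInstance : (Subgroup.center G).Normal).eq_bot_or_eq_top with h | h
  · exact h
  · exact absurd ⟨⟨fun a b => Subgroup.mem_center_iff.1 (h ▸ Subgroup.mem_top b) a⟩⟩ hG

theorem commutator_eq_top_of_simple [IsSimpleGroup G] (hG : ¬ IsMulCommutative G) :
    commutator G = ⊤ := by
  rcases (inferInstance : (commutator G).Normal).eq_bot_or_eq_top with h | h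
  · refine absurd ⟨⟨fun a b => ?_⟩⟩ hG
    have := Subgroup.commutator_mem_commutator (Subgroup.mem_top a) (Subgroup.mem_top b)
    rw [← commutator_def, h, Subgroup.mem_bot, commutatorElement_eq_one_iff_mul_comm] at this
    exact this
  · exact h

/-- A central involution of a Sylow subgroup is conjugate to another element of it. -/
theorem exists_four [Finite G] [IsSimpleGroup G] (hG : ¬ IsMulCommutative G) (S : Sylow 2 G) :
    ∃ z ∈ S, orderOf z = 2 ∧ (∀ s ∈ S, s * z = z * s) ∧ ∃ g, g * z * g⁻¹ ∈ S ∧ g * z * g⁻¹ ≠ z := by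
  have h2 := even_card_of_simple hG
  have hS : (S : Subgroup G) ≠ ⊥ := S.ne_bot_of_dvd_card h2
  have : Nontrivial (S : Subgroup G) := (Subgroup.nontrivial_iff_ne_bot _).2 hS
  have hc := S.2.center_nontrivial
  obtain ⟨n, hn⟩ := IsPGroup.iff_card.1 (S.2.to_subgroup (Subgroup.center (S : Subgroup G)))
  have hd : 2 ∣ Nat.card (Subgroup.center (S : Subgroup G)) := by
    rw [hn]
    refine dvd_pow_self 2 ?_
    rintro rfl
    exact (Finite.one_lt_card.ne' (hn.trans (pow_zero 2)))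
  obtain ⟨z, hz⟩ := exists_prime_orderOf_dvd_card' 2 hd
  have hz' : orderOf (z.1.1 : G) = 2 := by rw [Subgroup.orderOf_coe, Subgroup.orderOf_coe, hz]
  refine ⟨z.1.1, z.1.2, hz', fun s hs => congrArg Subtype.val
    (Subgroup.mem_center_iff.1 z.2 ⟨s, hs⟩), ?_⟩
  by_contra hn
  push Not at hn
  obtain ⟨N, hN, ho, h⟩ := Cfsg.Agent.S0215.result S _ hz' z.1.2 hn
  rcases hN.eq_bot_or_eq_top with e | e
  · have : (z.1.1 : G) ∈ Subgroup.center G := Subgroup.mem_center_iff.2 fun g => by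
      have := h g
      rw [e, Subgroup.mem_bot, mul_inv_eq_one, mul_inv_eq_iff_eq_mul] at this
      exact this.symm
    rw [center_eq_bot_of_simple hG, Subgroup.mem_bot] at this
    rw [this, orderOf_one] at hz'
    omega
  · rw [e, Subgroup.card_top] at ho
    exact (Nat.not_even_iff_odd.2 ho) (even_iff_two_dvd.2 h2)

end CL.MH
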