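/-
Projective groups of degree three without elations: pairs of homologies.
-/
import Cfsg.Agent.CLAS.MHProj
import Cfsg.Agent.CLAS.MHPoly

set_option autoImplicit false

namespace CL.MH

open Matrix Cfsg.Geo CL.Dk CL.PGL2
open scoped MatrixGroups

variable {k : Type*} [Field k] {G : Type*} [Group G] {ρ : G →* PGL(3, k)}

/-- no elations -/
def NoEl (ρ : G →* PGL(3, k)) : Prop :=
  Function.Injective ρ ∧ ∀ g x φ, RR ρ g x φ → φ ⬝ᵥ x = 0 → g = 1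

theorem isR_of_rk1' {B : GL (Fin 3) k} (h : Rk1 ((B : Matrix (Fin 3) (Fin 3) k) - 1)) :
    ∃ x φ, IsR B x φ := by
  obtain ⟨x, φ, h⟩ := h
  refine ⟨x, φ, fun v => ?_⟩
  have := h v
  rw [sub_mulVec, one_mulVec, sub_eq_iff_eq_add'] at this
  exact this

namespace NoEl

variable (hN : NoEl ρ) {g h : G} {x φ u θ : V3 k} {B : GL (Fin 3) k}
include hN

theorem eq_zero (h : RR ρ g x φ) (h0 : φ ⬝ᵥ x = 0) : x = 0 ∨ φ = 0 :=
  (h.eq_one_iff hN.1).1 (hN.2 g x φ h h0)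

theorem isR (hB : B ∈ lf ρ) (h : IsR B x φ) (h0 : φ ⬝ᵥ x = 0) : B = 1 :=
  let ⟨_, hg⟩ := hB; h.eq_one_iff.2 (hN.eq_zero ⟨B, hg, h⟩ h0)

theorem fix2 (hB : B ∈ lf ρ) {a b : V3 k} (hab : cr a b ≠ 0) (ha : ac B a = a) (hb : ac B b = b)
    (hd : (B : Matrix (Fin 3) (Fin 3) k).det = 1) : B = 1 := by
  obtain ⟨x, φ, h⟩ := isR_of_rk1' (B := B) (rk1_of_ker hab
    (by rw [sub_mulVec, one_mulVec, sub_eq_zero]; exact ha)
    (by rw [sub_mulVec, one_mulVec, sub_eq_zero]; exact hb))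
  exact hN.isR hB h (by rw [h.det_eq] at hd; linear_combination hd)

theorem sq_zero (hB : B ∈ lf ρ)
    (h : ((B : Matrix (Fin 3) (Fin 3) k) - 1) * ((B : Matrix (Fin 3) (Fin 3) k) - 1) = 0) :
    B = 1 := by
  obtain ⟨x, φ, h1⟩ := isR_of_rk1' (B := B) ((rk1_or h).elim id id)
  by_cases h0 : φ ⬝ᵥ x = 0
  · exact hN.isR hB h1 h0
  exfalso
  have := congrArg (· *ᵥ x) h
  simp only [h1.coe_eq, add_sub_cancel_left, ← mulVec_mulVec, vmv_mulVec, zero_mulVec,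
    dotProduct_smul, smul_eq_zero, smul_eq_mul, mul_eq_zero, or_self] at this
  exact this.elim h0 (ne_zero_of_dot_right h0)

end NoEl

theorem finite_fixV [Finite G] (ρ : G →* PGL(3, k)) {w : V3 k} (hw : w ≠ 0) :
    Finite (fixV (lf ρ) w) := by
  refine Finite.of_injective (fun A : fixV (lf ρ) w => A.2.1.choose) fun A B h => ?_
  have h1 := A.2.1.choose_spec
  have h2 := B.2.1.choose_spec
  simp only at h
  rw [h, h2] at h1
  obtain ⟨c, -, hc⟩ := pm_eq_iff.1 h1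
  have := hc w
  rw [A.2.2, B.2.2] at this
  have : c = 1 := smul_left_injective k hw (by simpa using this.symm)
  exact Subtype.ext (ext_ac fun v => by rw [hc, this, one_smul])

theorem finite_planeP {K : Subgroup (GL (Fin 3) k)} [Finite K] {x u : V3 k} (h : cr x u ≠ 0) :
    Finite (planeP K x u) := by
  have : Finite (plane K x u) := by
    refine Finite.of_injective (fun m : plane K x u => (⟨m.2.choose, m.2.choose_spec.1⟩ : K))
      fun m n e => Subtype.ext (Units.ext ?_)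
    have h1 := m.2.choose_spec.2
    have h2 := n.2.choose_spec.2
    rw [show m.2.choose = n.2.choose from congrArg Subtype.val e] at h1
    exact Acts.unique h h1 h2
  exact Finite.of_surjective _ (ProjGenLinGroup.mk.subgroupMap_surjective (plane K x u))

theorem NoEl.nounip [Finite G] (hN : NoEl ρ) (h2 : (2 : k) ≠ 0) {x u w : V3 k}
    (hw : trip x u w ≠ 0) : ∀ γ ∈ planeP (fixV (lf ρ) w) x u, tau γ = 4 → γ = 1 := by
  intro γ hγ ht
  have hxu : cr x u ≠ 0 := ne_zero_of_dot_left hw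
  obtain ⟨g, hg, m, hm, hA, rfl⟩ := exists_mem_planeP hγ
  rw [tau_ofMat, div_eq_iff hm] at ht
  set μ := m.trace / 2 with hμ
  have hμ2 : μ ^ 2 = m.det := by rw [hμ]; field_simp; linear_combination ht
  have hμ0 : μ ≠ 0 := fun e => hm (by rw [← hμ2, e]; ring)
  set N := μ⁻¹ • m - 1 with hNd
  have hm' : m = μ • (1 + N) := by
    rw [hNd, add_sub_cancel, smul_smul, mul_inv_cancel₀ hμ0, one_smul]
  have hN2 : N * N = 0 := by
    have e := pow_succ_eq_lucasU m 1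
    have t : m.trace = 2 * μ := by rw [hμ]; field_simp
    simp only [lucasU, mul_one, mul_zero, sub_zero, ← hμ2, t, pow_succ, pow_zero, one_mul] at e
    simp only [hNd, sub_mul, mul_sub, smul_mul_assoc, mul_smul_comm, e, one_mul, mul_one,
      smul_add, smul_smul]
    match_scalars <;> field_simp <;> ring
  have hpow : ∀ n : ℕ, m ^ n = μ ^ n • (1 + (n : k) • N) := fun n => by
    induction n with
    | zero => simp
    | succ n ih =>
      rw [pow_succ, ih]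
      nth_rewrite 1 [hm']
      simp only [smul_mul_assoc, mul_smul_comm, add_mul, mul_add, hN2, one_mul, mul_one]
      push_cast
      module
  have := finite_fixV ρ (ne_zero_of_trip hw)
  have ho : IsOfFinOrder g := (Subgroup.subtype _).isOfFinOrder
    (isOfFinOrder_of_finite (⟨g, hg⟩ : fixV (lf ρ) w))
  have h1 : m ^ orderOf g = 1 := Acts.unique hxu (hA.pow _) (by
    rw [pow_orderOf_eq_one]; exact acts_one x u)
  have h3 : IsOfFinOrder μ := isOfFinOrder_iff_pow_eq_one.2 ⟨2 * orderOf g,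
    Nat.mul_pos two_pos ho.orderOf_pos, by rw [pow_mul, hμ2, ← det_pow, h1, det_one]⟩
  have : NeZero (orderOf μ) := ⟨h3.orderOf_pos.ne'⟩
  have h4 : ((orderOf μ : ℕ) : k) ≠ 0 := (IsPrimitiveRoot.orderOf μ).neZero'.out
  have h5 := hA.pow (orderOf μ)
  rw [hpow, pow_orderOf_eq_one, one_smul] at h5
  set M := ((orderOf μ : ℕ) : k) • N with hM
  have hM2 : M * M = 0 := by rw [hM, smul_mul_assoc, mul_smul_comm, hN2, smul_zero, smul_zero]
  have h6 := (fixV (lf ρ) w).pow_mem hg (orderOf μ)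
  set B := g ^ orderOf μ
  have b1 : ((B : Matrix (Fin 3) (Fin 3) k) - 1) *ᵥ x = M 0 0 • x + M 1 0 • u := by
    rw [sub_mulVec, one_mulVec, show _ *ᵥ x = _ from h5.1]; simp; module
  have b2 : ((B : Matrix (Fin 3) (Fin 3) k) - 1) *ᵥ u = M 0 1 • x + M 1 1 • u := by
    rw [sub_mulVec, one_mulVec, show _ *ᵥ u = _ from h5.2]; simp; module
  have b3 : ((B : Matrix (Fin 3) (Fin 3) k) - 1) *ᵥ w = 0 := by
    rw [sub_mulVec, one_mulVec, show _ *ᵥ w = _ from h6.2, sub_self]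
  have q : ∀ i j, M i 0 * M 0 j + M i 1 * M 1 j = 0 := fun i j => by
    have := congrFun (congrFun hM2 i) j
    rwa [mul_apply, Fin.sum_univ_two] at this
  have h7 : B = 1 := hN.sq_zero h6.1 (mat_ext_basis hw
    (by
      rw [← mulVec_mulVec, b1, mulVec_add, mulVec_smul, mulVec_smul, b1, b2, zero_mulVec]
      linear_combination (norm := module) (q 0 0) • x + (q 1 0) • u)
    (by
      rw [← mulVec_mulVec, b2, mulVec_add, mulVec_smul, mulVec_smul, b1, b2, zero_mulVec]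
      linear_combination (norm := module) (q 0 1) • x + (q 1 1) • u)
    (by rw [← mulVec_mulVec, b3, mulVec_zero, zero_mulVec]))
  rw [h7] at h5
  have h8 := Acts.unique hxu h5 (acts_one x u)
  rw [add_eq_left, hM, smul_eq_zero] at h8
  rw [ofMat_eq_one_iff, hm', h8.resolve_left h4]
  simp

theorem IsR.acts_left {A : GL (Fin 3) k} {x φ : V3 k} (h : IsR A x φ) (u : V3 k) {r : k}
    (hr : φ ⬝ᵥ x = r - 1) : Acts A x u !![r, φ ⬝ᵥ u; 0, 1] :=
  ⟨by rw [h, hr]; simp; module, by rw [h]; simp [add_comm]⟩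

theorem IsR.acts_right {A : GL (Fin 3) k} {u θ : V3 k} (h : IsR A u θ) (x : V3 k) {r : k}
    (hr : θ ⬝ᵥ u = r - 1) : Acts A x u !![1, 0; θ ⬝ᵥ x, r] :=
  ⟨by rw [h]; simp, by rw [h, hr]; simp; module⟩

theorem IsR.fix {A : GL (Fin 3) k} {x φ v : V3 k} (h : IsR A x φ) (hv : φ ⬝ᵥ v = 0) :
    ac A v = v := by rw [h, hv, zero_smul, add_zero]

namespace NoEl

variable (hN : NoEl ρ) {g h : G} {x φ u θ : V3 k} {r : k}
include hN

theorem same_of_cr (h1 : RR ρ g x φ) (h2 : RR ρ h u θ) (e1 : φ ⬝ᵥ x = r - 1) (e2 : θ ⬝ᵥ u = r - 1)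
    (hr1 : r ≠ 1) (hc : cr x u = 0) : g = h := by
  have hx : x ≠ 0 := ne_zero_of_dot_right (e1 ▸ sub_ne_zero.2 hr1)
  obtain ⟨l, rfl⟩ := exists_smul_of_cr hx (cr_eq_zero_comm.1 hc)
  rw [RR.smul_iff] at h2
  rw [dotProduct_smul, ← smul_dotProduct] at e2
  have h3 := h1.mul_right h2.inv
  have := h2.det_ne
  rw [e2] at this
  rw [e2, e1, smul_smul] at h3
  rw [← mul_inv_eq_one]
  refine hN.2 _ _ _ h3 ?_
  rw [add_dotProduct, smul_dotProduct, e1, e2, smul_eq_mul]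
  field_simp
  ring

theorem trip_ne (h1 : RR ρ g x φ) (h2 : RR ρ h u θ) (e1 : φ ⬝ᵥ x = r - 1) (e2 : θ ⬝ᵥ u = r - 1)
    (hr1 : r ≠ 1) (hr2 : r ≠ -1) (hc : cr x u ≠ 0) : trip x u (cr φ θ) ≠ 0 := by
  intro h0
  obtain ⟨A, hA, h1⟩ := h1
  obtain ⟨B, hB, h2⟩ := h2
  have hA' : A ∈ lf ρ := ⟨g, hA⟩
  have hB' : B ∈ lf ρ := ⟨h, hB⟩
  have c0 : r - 1 ≠ 0 := sub_ne_zero.2 hr1
  have r0 : r ≠ 0 := by simpa [e1] using h1.det_ne
  have hφ : φ ≠ 0 := ne_zero_of_dot_left (e1 ▸ c0)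
  have hx : x ≠ 0 := ne_zero_of_cr_left hc
  have dE : ((B * A⁻¹ : GL (Fin 3) k) : Matrix (Fin 3) (Fin 3) k).det = 1 := by
    rw [Units.val_mul, det_mul, h2.det_eq, h1.inv.det_eq, smul_dotProduct, e1, e2, smul_eq_mul,
      add_sub_cancel]
    field_simp
    ring
  have hE := (lf ρ).mul_mem hB' ((lf ρ).inv_mem hA')
  have ne : B * A⁻¹ ≠ 1 := fun e => by
    rw [mul_inv_eq_one] at e
    obtain ⟨l, -, f, -⟩ := h1.flag_eq (e ▸ h2) hx hφ
    exact hc (cr_eq_zero_comm.1 (cr_eq_zero_of_smul f))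
  have fx : ∀ v, φ ⬝ᵥ v = 0 → θ ⬝ᵥ v = 0 → ac (B * A⁻¹) v = v := fun v a b => by
    rw [ac_mul, ac_inv_eq (h1.fix a), h2.fix b]
  obtain ⟨w, hw0, w1, w2, hw⟩ : ∃ w, w ≠ 0 ∧ φ ⬝ᵥ w = 0 ∧ θ ⬝ᵥ w = 0 ∧ trip x u w = 0 := by
    by_cases h : cr φ θ = 0
    · obtain ⟨w, a, b, c⟩ := exists_common (cr x u) φ
      exact ⟨w, a, c, dot_eq_zero_of_cr hφ (cr_eq_zero_comm.1 h) c, b⟩
    · exact ⟨_, h, dot_cr_left _ _, dot_cr_right _ _, h0⟩
  have cxw : cr x w ≠ 0 := cr_ne_zero_of_dot hw0 w1 (e1 ▸ c0)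
  obtain ⟨y, hy, y1⟩ : ∃ y, trip x w y ≠ 0 ∧ φ ⬝ᵥ y = 0 := by
    obtain ⟨y, hy⟩ := exists_trip_ne cxw
    refine ⟨y + (-(φ ⬝ᵥ y) / (r - 1)) • x, by rwa [trip_add_left], ?_⟩
    rw [dotProduct_add, dotProduct_smul, e1, smul_eq_mul, div_mul_cancel₀ _ c0, add_neg_cancel]
  have cwy := cr_ne_right_of_trip hy
  have hγ : θ ⬝ᵥ y ≠ 0 := fun e => ne (hN.fix2 hE cwy (fx w w1 w2) (fx y y1 e) dE)
  obtain ⟨α, β, rfl⟩ := exists_coords2 cxw (v := u) (by
    rw [← trip_cyc, ← trip_cyc, trip_swap, hw, neg_zero])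
  have hβ : β ≠ 0 := by
    rintro rfl
    exact hc (by rw [zero_smul, add_zero, cr_smul_right, cr_self, smul_zero])
  rw [dotProduct_add, dotProduct_smul, dotProduct_smul, w2, smul_zero, add_zero, smul_eq_mul] at e2
  set E := B * A⁻¹
  set s := θ ⬝ᵥ x
  set γ := θ ⬝ᵥ y
  have hα : α ≠ 0 := left_ne_zero_of_mul (e2 ▸ c0)
  have hs : s ≠ 0 := right_ne_zero_of_mul (e2 ▸ c0)
  have ax : ac A x = r • x := by rw [h1, e1]; module
  have ax' : ac A⁻¹ x = r⁻¹ • x := ac_inv_eq (by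
    rw [ac_smul, ax, smul_smul, inv_mul_cancel₀ r0, one_smul])
  have aw := h1.fix w1
  have ay := h1.fix y1
  have aw' := ac_inv_eq aw
  have ay' := ac_inv_eq ay
  have ew : ac E w = w := fx w w1 w2
  have ex : ac E x = x + (s * β * r⁻¹) • w := by
    rw [ac_mul, ax', ac_smul, h2]
    match_scalars
    · field_simp; linear_combination e2
    · ring
  have ey : ac E y = y + (γ * α) • x + (γ * β) • w := by rw [ac_mul, ay', h2]; module
  set E' := A * E * A⁻¹ with hE'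
  have ew' : ac E' w = w := by rw [ac_mul, ac_mul, aw', ew, aw]
  have ex' : ac E' x = x + (s * β * r⁻¹ * r⁻¹) • w := by
    rw [ac_mul, ac_mul, ax', ac_smul, ex, ac_smul, ac_add, ac_smul, ax, aw]
    match_scalars
    · field_simp
    · ring
  have ey' : ac E' y = y + (γ * α * r) • x + (γ * β) • w := by
    rw [ac_mul, ac_mul, ay', ey, ac_add, ac_add, ac_smul, ac_smul, ax, aw, ay]; module
  have hE'' : E' ∈ lf ρ := (lf ρ).mul_mem ((lf ρ).mul_mem hA' hE) ((lf ρ).inv_mem hA')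
  have key : E * E' * (E' * E)⁻¹ = 1 := by
    refine hN.fix2 ((lf ρ).mul_mem ((lf ρ).mul_mem hE hE'') ((lf ρ).inv_mem
      ((lf ρ).mul_mem hE'' hE))) (a := ac (E' * E) x) (b := w) ?_ ?_ ?_ ?_
    · rw [ac_mul, ex, ac_add, ac_smul, ex', ew', cr_add_left, cr_add_left, cr_smul_left,
        cr_smul_left, cr_self, smul_zero, smul_zero, add_zero, add_zero]
      exact cxw
    · rw [ac_mul, ac_inv_ac, ac_mul E E', ac_mul E' E, ex, ex', ac_add, ac_add, ac_smul, ac_smul, ex, ex',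
        ew, ew']
      module
    · rw [ac_mul, ac_inv_eq (w := w) (by rw [ac_mul, ew, ew']), ac_mul, ew', ew]
    · rw [← GeneralLinearGroup.val_det_apply, map_mul, map_inv, map_mul _ E E', map_mul _ E' E,
        mul_comm (GeneralLinearGroup.det E'), mul_inv_cancel, Units.val_one]
  rw [mul_inv_eq_one] at key
  have := congrArg (ac · y) key
  simp only [ac_mul E E', ac_mul E' E, ey, ey', ac_add, ac_smul, ex, ex', ew, ew'] at this
  have h3 : (γ * α * s * β * (1 - r⁻¹ * r⁻¹)) • w = 0 := by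
    linear_combination (norm := skip) this
    match_scalars <;> field_simp <;> ring
  rcases smul_eq_zero.1 h3 with h | h
  · have := (mul_eq_zero.1 h).resolve_left (mul_ne_zero (mul_ne_zero (mul_ne_zero hγ hα) hs) hβ)
    field_simp at this
    exact mul_ne_zero c0 (fun e : r + 1 = 0 => hr2 (by linear_combination e))
      (by linear_combination this)
  · exact hw0 h

theorem tri [IsAlgClosed k] [Finite G] (p : ℕ) [Fact p.Prime] [CharP k p] (h2 : (2 : k) ≠ 0)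
    (h1 : RR ρ g x φ) (h1' : RR ρ h u θ) (e1 : φ ⬝ᵥ x = r - 1) (e2 : θ ⬝ᵥ u = r - 1)
    (hr1 : r ≠ 1) (hr2 : r ≠ -1) :
    cr x u = 0 ∨ (φ ⬝ᵥ u = 0 ∧ θ ⬝ᵥ x = 0) ∨ OkH r ((φ ⬝ᵥ u) * (θ ⬝ᵥ x) / (r - 1) ^ 2) := by
  by_cases hc : cr x u = 0
  · exact Or.inl hc
  by_cases h0 : φ ⬝ᵥ u = 0 ∧ θ ⬝ᵥ x = 0
  · exact Or.inr (Or.inl h0)
  have ht := hN.trip_ne h1 h1' e1 e2 hr1 hr2 hc
  have := finite_fixV ρ (ne_zero_of_trip ht)
  have := finite_planeP (K := fixV (lf ρ) (cr φ θ)) hc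
  have r0 : r ≠ 0 := by simpa [e1] using h1.det_ne
  obtain ⟨A, hA, h1⟩ := h1
  obtain ⟨B, hB, h1'⟩ := h1'
  exact Or.inr (Or.inr (okH_of_pair p h2 _ (hN.nounip h2 ht) r0 hr1 hr2 h0
    (da := by simpa using r0) (db := by simpa using r0)
    (ofMat_mem_planeP (mem_fixV.2 ⟨mem_lf.2 ⟨g, hA⟩, h1.fix (dot_cr_left _ _)⟩) _ (h1.acts_left u e1))
    (ofMat_mem_planeP (mem_fixV.2 ⟨mem_lf.2 ⟨h, hB⟩, h1'.fix (dot_cr_right _ _)⟩) _
      (h1'.acts_right x e2))))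

end NoEl

theorem third_of_pow {g h : G} {x φ u θ : V3 k} {r : k} (h1 : RR ρ g x φ) (h1' : RR ρ h u θ)
    (e1 : φ ⬝ᵥ x = r - 1) (e2 : θ ⬝ᵥ u = r - 1) (ht : trip x u (cr φ θ) ≠ 0) {n : ℕ}
    (hn : (!![r, φ ⬝ᵥ u; 0, 1] * !![1, 0; θ ⬝ᵥ x, r]) ^ n = r • 1) :
    ∃ g' w ψ, RR ρ g' w ψ ∧ ψ ⬝ᵥ w = r - 1 ∧ φ ⬝ᵥ w = 0 ∧ ψ ⬝ᵥ x = 0 := by
  have r0 : r ≠ 0 := by simpa [e1] using h1.det_ne
  obtain ⟨A, hA, h1⟩ := h1
  obtain ⟨B, hB, h1'⟩ := h1'
  have h3 := ((h1.acts_left u e1).mul (h1'.acts_right x e2)).pow n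
  rw [hn] at h3
  have h4 : ac ((A * B) ^ n) (cr φ θ) = cr φ θ := ((fixV ⊤ (cr φ θ)).pow_mem
    ((fixV ⊤ _).mul_mem ⟨trivial, h1.fix (dot_cr_left _ _)⟩ ⟨trivial, h1'.fix (dot_cr_right _ _)⟩)
      n).2
  obtain ⟨β, hβ⟩ := exists_dualB ht
  have b0 : β 2 ⬝ᵥ x = 0 := hβ 2 0
  have b1 : β 2 ⬝ᵥ u = 0 := hβ 2 1
  have b2 : β 2 ⬝ᵥ cr φ θ = 1 := hβ 2 2
  refine ⟨((g * h) ^ n)⁻¹, cr φ θ, (r - 1) • β 2, ⟨sc r r0 ((A * B) ^ n)⁻¹, ?_,
    forall_of_basis ht ?_ ?_ ?_⟩, by simp [b2], dot_cr_left _ _, by simp [b0]⟩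
  · simp only [pm_sc, map_inv, map_pow, map_mul, hA, hB]
  · rw [ac_sc, ← ac_smul, ac_inv_eq (v := x) (by rw [h3.1]; simp)]; simp [b0]
  · rw [ac_sc, ← ac_smul, ac_inv_eq (v := u) (by rw [h3.2]; simp)]; simp [b1]
  · rw [ac_sc, ac_inv_eq h4]; simp [b2]; module

theorem pow_three_of_trace {M : Matrix (Fin 2) (Fin 2) k} {r : k} (h1 : M.trace = r)
    (h2 : M.det = r ^ 2) : M ^ 3 = (-r ^ 3) • 1 := by
  rw [pow_succ_eq_lucasU M 2, h1, h2]
  simp only [lucasU]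
  module

theorem pow_two_of_trace {M : Matrix (Fin 2) (Fin 2) k} {r : k} (h1 : M.trace = 0)
    (h2 : M.det = r ^ 2) : M ^ 2 = (-r ^ 2) • 1 := by
  rw [pow_succ_eq_lucasU M 1, h1, h2]
  simp only [lucasU]
  module

theorem pow_ten_of_trace {M : Matrix (Fin 2) (Fin 2) k} {r A : k} (h1 : M.trace = r * A)
    (h2 : M.det = r ^ 2) (hA : A ^ 2 - A - 1 = 0) : M ^ 10 = (r ^ 10) • 1 := by
  have : M ^ 5 = (-r ^ 5) • 1 := by
    rw [pow_succ_eq_lucasU M 4, h1, h2]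
    simp only [lucasU]
    match_scalars
    · linear_combination (-r ^ 5 * (A + 1)) * hA
    · linear_combination (r ^ 4 * (A ^ 2 + A - 1)) * hA
  rw [show 10 = 5 * 2 from rfl, pow_mul, this, _root_.smul_pow, one_pow]
  congr 1
  ring

theorem trace_pair (r s t : k) : (!![r, s; 0, 1] * !![1, 0; t, r]).trace = 2 * r + s * t := by
  simp [trace_fin_two]; ring

theorem det_pair (r s t : k) : (!![r, s; 0, 1] * !![1, 0; t, r]).det = r ^ 2 := by
  rw [det_mul, det_fin_two_of, det_fin_two_of]; ring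

/-- A third homology commuting with the first one. -/
theorem exists_third {g h : G} {x φ u θ : V3 k} {r : k} (h1 : RR ρ g x φ) (h1' : RR ρ h u θ)
    (e1 : φ ⬝ᵥ x = r - 1) (e2 : θ ⬝ᵥ u = r - 1) (hr1 : r ≠ 1) {m : k}
    (hm : (φ ⬝ᵥ u) * (θ ⬝ᵥ x) / (r - 1) ^ 2 = m) (ho : OkH r m) (hm1 : m ≠ 1)
    (h3 : ¬ (r ^ 2 + r + 1 = 0 ∧ 3 * m = 1)) :
    ∃ g' w ψ, RR ρ g' w ψ ∧ ψ ⬝ᵥ w = r - 1 ∧ φ ⬝ᵥ w = 0 ∧ ψ ⬝ᵥ x = 0 := by
  have c0 : r - 1 ≠ 0 := sub_ne_zero.2 hr1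
  have r0 : r ≠ 0 := by simpa [e1] using h1.det_ne
  rw [div_eq_iff (pow_ne_zero _ c0)] at hm
  have ht : trip x u (cr φ θ) ≠ 0 := by
    rw [trip_cr, e1, e2, mul_comm (θ ⬝ᵥ x), hm]
    convert mul_ne_zero (pow_ne_zero 2 c0) (sub_ne_zero.2 hm1.symm) using 1
    ring
  obtain ⟨hr, h | h | ⟨h, -⟩⟩ | ⟨hr, h⟩ | ⟨hr, h⟩ := ho
  · exact absurd ⟨hr, h⟩ h3
  · refine third_of_pow h1 h1' e1 e2 ht (n := 2 * 2) ?_
    rw [pow_mul, pow_two_of_trace _ (det_pair _ _ _), _root_.smul_pow, one_pow]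
    · congr 1
      linear_combination (r ^ 2 - r) * hr
    · rw [trace_pair, hm]; linear_combination m * hr - r * h
  · refine third_of_pow h1 h1' e1 e2 ht (n := 10) ?_
    rw [pow_ten_of_trace (A := 2 - 3 * m) _ (det_pair _ _ _) (by linear_combination h)]
    · congr 1
      linear_combination (r * (r - 1) * (r ^ 6 + r ^ 3 + 1)) * hr
    · rw [trace_pair, hm]; linear_combination m * hr
  · refine third_of_pow h1 h1' e1 e2 ht (n := 3) ?_
    rw [pow_three_of_trace _ (det_pair _ _ _)]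
    · congr 1
      linear_combination (-r) * hr
    · rw [trace_pair, hm]; linear_combination m * hr - r * h
  · have h5 : (5 : k) ≠ 0 := fun e => one_ne_zero (α := k) (by
      linear_combination h - (m ^ 2 - m) * e)
    have h4 := h1.conj' h1'
    rw [e2, add_sub_cancel] at h4
    have f1 : φ ⬝ᵥ (x + (θ ⬝ᵥ x) • u) = (r - 1) + m * (r - 1) ^ 2 := by
      rw [dotProduct_add, dotProduct_smul, e1, smul_eq_mul, mul_comm, hm]
    have f2 : (φ - (φ ⬝ᵥ u * r⁻¹) • θ) ⬝ᵥ x = (r - 1) - m * (r - 1) ^ 2 * r⁻¹ := by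
      rw [sub_dotProduct, smul_dotProduct, e1, smul_eq_mul, ← hm]; ring
    have f3 : (φ - (φ ⬝ᵥ u * r⁻¹) • θ) ⬝ᵥ (x + (θ ⬝ᵥ x) • u) = r - 1 := by
      rw [dotProduct_add, f2, dotProduct_smul, sub_dotProduct, smul_dotProduct, e2, ← hm,
        smul_eq_mul, smul_eq_mul]
      field_simp
      ring
    have f4 : φ ⬝ᵥ (x + (θ ⬝ᵥ x) • u) * ((φ - (φ ⬝ᵥ u * r⁻¹) • θ) ⬝ᵥ x) = -r := by
      rw [f1, f2]
      refine mul_left_cancel₀ (mul_ne_zero h5 r0) ?_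
      linear_combination hr - (r - 1) ^ 4 * h -
        5 * (r - 1 + m * (r - 1) ^ 2) * m * (r - 1) ^ 2 * mul_inv_cancel₀ r0
    refine third_of_pow h1 h4 e1 f3 ?_ (n := 3 * 2) ?_
    · rw [trip_cr, e1, f3, mul_comm (_ ⬝ᵥ x), f4]
      intro e
      exact c0 (by linear_combination hr - (r ^ 2 + 2 * r + 2) * e)
    · rw [pow_mul, pow_three_of_trace _ (det_pair _ _ _), _root_.smul_pow, one_pow]
      · congr 1
        linear_combination (r ^ 2 - r) * hr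
      · rw [trace_pair, f4]; ring

end CL.MH
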