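/-
Simple projective groups of degree three without elations contain no homologies of order
greater than two.
-/
import Cfsg.Agent.CLAS.MHHom

set_option autoImplicit false

namespace CL.MH

open Matrix Cfsg.Geo
open scoped MatrixGroups

variable {k : Type*} [Field k] {G : Type*} [Group G] {ρ : G →* PGL(3, k)}

theorem DualB.dot_eq {b β : Fin 3 → V3 k} (h : DualB b β) (η y : V3 k) {i j l : Fin 3}
    (hij : i ≠ j) (hil : i ≠ l) (hjl : j ≠ l) : η ⬝ᵥ y = (β i ⬝ᵥ y) * (η ⬝ᵥ b i) +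
      (β j ⬝ᵥ y) * (η ⬝ᵥ b j) + (β l ⬝ᵥ y) * (η ⬝ᵥ b l) := by
  have : η ⬝ᵥ y = (β 0 ⬝ᵥ y) * (η ⬝ᵥ b 0) + (β 1 ⬝ᵥ y) * (η ⬝ᵥ b 1) +
      (β 2 ⬝ᵥ y) * (η ⬝ᵥ b 2) := by
    conv_lhs => rw [h.sum_eq y]
    simp only [dotProduct_add, dotProduct_smul, smul_eq_mul]
  rw [this]
  fin_cases i <;> fin_cases j <;> fin_cases l <;>
    first | exact absurd rfl hij | exact absurd rfl hil | exact absurd rfl hjl | (simp; try ring)

theorem DualB.ne_zero {b β : Fin 3 → V3 k} (h : DualB b β) (i : Fin 3) : b i ≠ 0 :=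
  ne_zero_of_dot_right (φ := β i) (by rw [h i i, if_pos rfl]; exact one_ne_zero)

theorem DualB.pm_eq {b β : Fin 3 → V3 k} (h : DualB b β) {A B : GL (Fin 3) k} {c : k} (hc : c ≠ 0)
    (e : ∀ i, ac A (b i) = c • ac B (b i)) : pm A = pm B :=
  pm_eq_iff.2 ⟨c, hc, fun v => by
    rw [h.sum_eq v]
    simp only [ac_add, ac_smul, e]
    module⟩

theorem DualB.ext {b β : Fin 3 → V3 k} (h : DualB b β) {v w : V3 k}
    (e : ∀ i, β i ⬝ᵥ v = β i ⬝ᵥ w) : v = w := by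
  rw [h.sum_eq v, h.sum_eq w, e, e, e]

theorem DualB.conj {b β : Fin 3 → V3 k} (h : DualB b β) (A : GL (Fin 3) k) :
    DualB (fun i => ac A (b i)) (fun i => dc A (β i)) := fun i j => by
  rw [dc_dot_ac, h i j]

theorem not_okH_zero (h2 : (2 : k) ≠ 0) (r : k) : ¬ OkH r 0 := by
  rintro (⟨-, h | h | ⟨h, -⟩⟩ | ⟨-, h⟩ | ⟨-, h⟩)
  · simp at h
  · exact h2 (by linear_combination -h)
  · simp at h
  · simp at h
  · simp at h

theorem not_okH_one (h2 : (2 : k) ≠ 0) (r : k) : ¬ OkH r 1 := by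
  rintro (⟨-, h | h | ⟨h, -⟩⟩ | ⟨-, h⟩ | ⟨-, h⟩)
  · exact h2 (by linear_combination h)
  all_goals exact one_ne_zero (α := k) (by linear_combination h)

/-- The combinatorial properties of the homologies of a given ratio. -/
structure HS (T : V3 k → V3 k → Prop) (r : k) : Prop where
  dot : ∀ {x φ}, T x φ → φ ⬝ᵥ x = r - 1
  conj : ∀ {x φ u θ}, T x φ → T u θ → T (x + (θ ⬝ᵥ x) • u) (φ - ((φ ⬝ᵥ u) * r⁻¹) • θ)
  conj' : ∀ {x φ u θ}, T x φ → T u θ → T (x - ((θ ⬝ᵥ x) * r⁻¹) • u) (φ + (φ ⬝ᵥ u) • θ)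
  tri : ∀ {x φ u θ}, T x φ → T u θ →
    cr x u = 0 ∨ (φ ⬝ᵥ u = 0 ∧ θ ⬝ᵥ x = 0) ∨ OkH r ((φ ⬝ᵥ u) * (θ ⬝ᵥ x) / (r - 1) ^ 2)
  nc : ∀ {x φ}, T x φ → ∃ u θ, T u θ ∧ OkH r ((φ ⬝ᵥ u) * (θ ⬝ᵥ x) / (r - 1) ^ 2)
  h2 : (2 : k) ≠ 0
  r0 : r ≠ 0
  r1 : r ≠ 1
  r2 : r ≠ -1

/-- a triangle of homologies -/
def Fr (T : V3 k → V3 k → Prop) (r : k) (b β : Fin 3 → V3 k) : Prop :=
  DualB b β ∧ ∀ i, T (b i) ((r - 1) • β i)

theorem sum_three (h2 : (2 : k) ≠ 0) (h3 : (3 : k) ≠ 0) {a b c : k}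
    (ha : a = -1 ∨ a = 0 ∨ a = 1 ∨ (a ^ 2 - a - 1 = 0 ∧ (5 : k) ≠ 0))
    (hb : b = -1 ∨ b = 0 ∨ b = 1 ∨ (b ^ 2 - b - 1 = 0 ∧ (5 : k) ≠ 0))
    (hc : c = -1 ∨ c = 0 ∨ c = 1 ∨ (c ^ 2 - c - 1 = 0 ∧ (5 : k) ≠ 0)) (h : a + b + c = 0) :
    (a = 0 ∧ b = 0 ∧ c = 0) ∨ ((a = -1 ∨ b = -1 ∨ c = -1) ∧
      (a ^ 2 + b ^ 2 + c ^ 2 = 2 ∨ a ^ 2 + b ^ 2 + c ^ 2 = 4)) := by
  have h4 : (4 : k) ≠ 0 := by rw [show (4 : k) = 2 * 2 by norm_num]; exact mul_ne_zero h2 h2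
  rcases ha with ha | ha | ha | ⟨ha, h5⟩ <;> rcases hb with hb | hb | hb | ⟨hb, h5⟩ <;>
    rcases hc with hc | hc | hc | ⟨hc, h5⟩ <;> grind

namespace HS

variable {T : V3 k → V3 k → Prop} {r : k} (S : HS T r) {b β : Fin 3 → V3 k} {y η y' η' : V3 k}
include S

theorem c0 : r - 1 ≠ 0 := sub_ne_zero.2 S.r1

theorem m_eq (s t : k) : ((r - 1) * s) * t / (r - 1) ^ 2 = s * t / (r - 1) := by
  have := S.c0
  field_simp

theorem cls (hb : Fr T r b β) (h : T y η) (j : Fin 3) : (∀ l, l ≠ j → β l ⬝ᵥ y = 0) ∨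
    (β j ⬝ᵥ y = 0 ∧ η ⬝ᵥ b j = 0) ∨ OkH r ((β j ⬝ᵥ y) * (η ⬝ᵥ b j) / (r - 1)) := by
  rcases S.tri (hb.2 j) h with e | e | e
  · obtain ⟨s, rfl⟩ := exists_smul_of_cr (hb.1.ne_zero j) (cr_eq_zero_comm.1 e)
    exact Or.inl fun l hl => by rw [dotProduct_smul, hb.1 l j, if_neg hl, smul_zero]
  · rw [smul_dotProduct, smul_eq_zero] at e
    exact Or.inr (Or.inl ⟨e.1.resolve_left S.c0, e.2⟩)
  · rw [smul_dotProduct, smul_eq_mul, S.m_eq] at e
    exact Or.inr (Or.inr e)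

theorem nc' (hb : Fr T r b β) (j : Fin 3) :
    ∃ y η, T y η ∧ OkH r ((β j ⬝ᵥ y) * (η ⬝ᵥ b j) / (r - 1)) := by
  obtain ⟨y, η, h, e⟩ := S.nc (hb.2 j)
  rw [smul_dotProduct, smul_eq_mul, S.m_eq] at e
  exact ⟨y, η, h, e⟩

theorem ne_of_ok {s t : k} (h : OkH r (s * t / (r - 1))) : s ≠ 0 ∧ t ≠ 0 ∧ s * t ≠ r - 1 := by
  refine ⟨?_, ?_, fun e => ?_⟩
  · rintro rfl; exact not_okH_zero S.h2 r (by simpa using h)
  · rintro rfl; exact not_okH_zero S.h2 r (by simpa using h)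
  · rw [e, div_self S.c0] at h; exact not_okH_one S.h2 r h

theorem zero_of_zero (hb : Fr T r b β) (h : T y η) {j l : Fin 3} (hl : l ≠ j) (e : β j ⬝ᵥ y = 0)
    (e' : β l ⬝ᵥ y ≠ 0) : η ⬝ᵥ b j = 0 := by
  rcases S.cls hb h j with h | h | h
  · exact absurd (h l hl) e'
  · exact h.2
  · exact absurd e (S.ne_of_ok h).1

omit S in
theorem all_ne {i j l : Fin 3} (hij : i ≠ j) (hil : i ≠ l) (hjl : j ≠ l) {P : Fin 3 → Prop}
    (hi : P i) (hj : P j) (hl : P l) (m : Fin 3) : P m := by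
  have : ∀ i j l m : Fin 3, i ≠ j → i ≠ l → j ≠ l → m = i ∨ m = j ∨ m = l := by decide
  rcases this i j l m hij hil hjl with rfl | rfl | rfl <;> assumption

theorem side2 {i j l : Fin 3} (hij : i ≠ j) (hil : i ≠ l) (hjl : j ≠ l) (h : T y η) (h' : T y' η')
    (e : η ⬝ᵥ y' ≠ 0) (a1 : β j ⬝ᵥ y ≠ 0) (a2 : β l ⬝ᵥ y = 0) (a3 : β j ⬝ᵥ y' = 0)
    (a4 : β l ⬝ᵥ y' ≠ 0) (a5 : β i ⬝ᵥ y' ≠ 0) : ∃ z ζ, T z ζ ∧ ∀ m, β m ⬝ᵥ z ≠ 0 := by
  by_cases h1 : β i ⬝ᵥ (y' + (η ⬝ᵥ y') • y) = 0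
  · refine ⟨_, _, S.conj' h' h, all_ne hij hil hjl (fun h2 => ?_) ?_ ?_⟩
    · rw [dotProduct_add, dotProduct_smul, smul_eq_mul] at h1
      rw [dotProduct_sub, dotProduct_smul, smul_eq_mul] at h2
      have := S.r0
      field_simp at h2
      exact mul_ne_zero a5 (fun e : r + 1 = 0 => S.r2 (by linear_combination e))
        (by linear_combination h1 + h2)
    · simp [a3, a1, e, S.r0]
    · simp [a2, a4]
  · exact ⟨_, _, S.conj h' h, all_ne hij hil hjl h1 (by simp [a3, a1, e]) (by simp [a2, a4])⟩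

theorem exists_C_of_side (hb : Fr T r b β) {i j l : Fin 3} (hij : i ≠ j) (hil : i ≠ l)
    (hjl : j ≠ l) (h : T y η) (a1 : β l ⬝ᵥ y = 0) (a2 : η ⬝ᵥ b l = 0)
    (a3 : (β i ⬝ᵥ y) * (η ⬝ᵥ b i) ≠ 0) (a4 : (β j ⬝ᵥ y) * (η ⬝ᵥ b j) ≠ 0) :
    ∃ z ζ, T z ζ ∧ ∀ m, β m ⬝ᵥ z ≠ 0 := by
  obtain ⟨y', η', h', e⟩ := S.nc' hb l
  obtain ⟨e1, -, e3⟩ := S.ne_of_ok e
  have s := hb.1.dot_eq η' y' hij hil hjl
  have s' := hb.1.dot_eq η y' hij hil hjl
  rw [S.dot h'] at s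
  by_cases hi : β i ⬝ᵥ y' = 0 <;> by_cases hj : β j ⬝ᵥ y' = 0
  · exact absurd (by rw [s, hi, hj]; ring) e3
  · refine S.side2 hij.symm hjl hil h h' ?_ (left_ne_zero_of_mul a3) a1 hi e1 hj
    rw [s', hi, a2]; simpa using ⟨hj, right_ne_zero_of_mul a4⟩
  · refine S.side2 hij hil hjl h h' ?_ (left_ne_zero_of_mul a4) a1 hj e1 hi
    rw [s', hj, a2]; simpa using ⟨hi, right_ne_zero_of_mul a3⟩
  · exact ⟨y', η', h', all_ne hij hil hjl hi hj e1⟩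

theorem exists_C_of_ok (hb : Fr T r b β) {i j l : Fin 3} (hij : i ≠ j) (hil : i ≠ l)
    (hjl : j ≠ l) (h : T y η) (e : OkH r ((β i ⬝ᵥ y) * (η ⬝ᵥ b i) / (r - 1)))
    (a1 : β l ⬝ᵥ y = 0) : η ⬝ᵥ b l = 0 ∧ (β j ⬝ᵥ y) * (η ⬝ᵥ b j) ≠ 0 ∧
      ∃ z ζ, T z ζ ∧ ∀ m, β m ⬝ᵥ z ≠ 0 := by
  obtain ⟨e1, e2, e3⟩ := S.ne_of_ok e
  have a2 := S.zero_of_zero hb h hil a1 e1
  have a3 : (β j ⬝ᵥ y) * (η ⬝ᵥ b j) ≠ 0 := fun e4 => e3 (by
    rw [← S.dot h, hb.1.dot_eq η y hij hil hjl, e4, a1]; ring)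
  exact ⟨a2, a3, S.exists_C_of_side hb hij hil hjl h a1 a2 (mul_ne_zero e1 e2) a3⟩

theorem exists_C (hb : Fr T r b β) : ∃ z ζ, T z ζ ∧ ∀ m, β m ⬝ᵥ z ≠ 0 := by
  obtain ⟨y, η, h, e⟩ := S.nc' hb 0
  by_cases h1 : β 1 ⬝ᵥ y = 0
  · exact (S.exists_C_of_ok hb (j := 2) (by decide) (by decide) (by decide) h e h1).2.2
  by_cases h2 : β 2 ⬝ᵥ y = 0
  · exact (S.exists_C_of_ok hb (j := 1) (by decide) (by decide) (by decide) h e h2).2.2
  exact ⟨y, η, h, all_ne (i := 0) (j := 1) (l := 2) (by decide) (by decide) (by decide)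
    (S.ne_of_ok e).1 h1 h2⟩

theorem ok_of_C (hb : Fr T r b β) (h : T y η) (hC : ∀ m, β m ⬝ᵥ y ≠ 0) (j : Fin 3) :
    OkH r ((β j ⬝ᵥ y) * (η ⬝ᵥ b j) / (r - 1)) := by
  rcases S.cls hb h j with e | e | e
  · exact absurd (e (j + 1) (by fin_cases j <;> decide)) (hC _)
  · exact absurd e.1 (hC _)
  · exact e

theorem ok_three {m : k} (hr : r ^ 2 + r + 1 = 0) (h : OkH r m) :
    3 * m = 1 ∨ 3 * m = 2 ∨ (9 * m ^ 2 - 9 * m + 1 = 0 ∧ (5 : k) ≠ 0) := by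
  rcases h with ⟨-, h⟩ | ⟨e, -⟩ | ⟨e, -⟩
  · exact h
  · exact absurd (by linear_combination hr - e) S.r0
  · exact absurd (by linear_combination e - r ^ 2 * hr) S.r2

theorem three_ne (hr : r ^ 2 + r + 1 = 0) : (3 : k) ≠ 0 := fun e =>
  pow_ne_zero 2 S.c0 (by linear_combination hr - r * e)

theorem ok_three' {m : k} (hr : r ^ 2 + r + 1 = 0) (h : m = 0 ∨ OkH r m) :
    3 * m - 1 = -1 ∨ 3 * m - 1 = 0 ∨ 3 * m - 1 = 1 ∨
      ((3 * m - 1) ^ 2 - (3 * m - 1) - 1 = 0 ∧ (5 : k) ≠ 0) := by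
  rcases h with rfl | h
  · exact Or.inl (by ring)
  rcases S.ok_three hr h with e | e | ⟨e, h5⟩
  · exact Or.inr (Or.inl (by linear_combination e))
  · exact Or.inr (Or.inr (Or.inl (by linear_combination e)))
  · exact Or.inr (Or.inr (Or.inr ⟨by linear_combination e, h5⟩))

theorem C_val (hb : Fr T r b β) (h : T y η) (hC : ∀ m, β m ⬝ᵥ y ≠ 0) :
    r ^ 2 + r + 1 = 0 ∧ ∀ j, 3 * ((β j ⬝ᵥ y) * (η ⬝ᵥ b j)) = r - 1 := by
  have o := S.ok_of_C hb h hC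
  have s := hb.1.dot_eq η y (i := 0) (j := 1) (l := 2) (by decide) (by decide) (by decide)
  rw [S.dot h] at s
  have c0 := S.c0
  have s' : (β 0 ⬝ᵥ y) * (η ⬝ᵥ b 0) / (r - 1) + (β 1 ⬝ᵥ y) * (η ⬝ᵥ b 1) / (r - 1) +
      (β 2 ⬝ᵥ y) * (η ⬝ᵥ b 2) / (r - 1) = 1 := by rw [← add_div, ← add_div, ← s, div_self c0]
  have hr : r ^ 2 + r + 1 = 0 := by
    by_contra hr
    have o0 := (o 0).resolve_left fun h => hr h.1
    have o1 := (o 1).resolve_left fun h => hr h.1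
    have o2 := (o 2).resolve_left fun h => hr h.1
    generalize (β 0 ⬝ᵥ y) * (η ⬝ᵥ b 0) / (r - 1) = m0 at o0 s'
    generalize (β 1 ⬝ᵥ y) * (η ⬝ᵥ b 1) / (r - 1) = m1 at o1 s'
    generalize (β 2 ⬝ᵥ y) * (η ⬝ᵥ b 2) / (r - 1) = m2 at o2 s'
    by_cases h4 : r ^ 2 + 1 = 0
    · have n5 : r ^ 4 + r ^ 3 + r ^ 2 + r + 1 ≠ 0 := fun e =>
        one_ne_zero (α := k) (by linear_combination e - (r ^ 2 + r) * h4)
      have a0 := (o0.resolve_right fun h => n5 h.1).2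
      have a1 := (o1.resolve_right fun h => n5 h.1).2
      have a2 := (o2.resolve_right fun h => n5 h.1).2
      exact one_ne_zero (α := k) (by linear_combination 2 * s' - a0 - a1 - a2)
    · have a0 := (o0.resolve_left fun h => h4 h.1).2
      have a1 := (o1.resolve_left fun h => h4 h.1).2
      have a2 := (o2.resolve_left fun h => h4 h.1).2
      clear o0 o1 o2 h4 hr o s
      grind
  refine ⟨hr, ?_⟩
  have n : ∀ j, 3 * ((β j ⬝ᵥ y) * (η ⬝ᵥ b j) / (r - 1)) - 1 ≠ -1 := fun j e => by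
    have := (S.ne_of_ok (o j))
    exact mul_ne_zero (S.three_ne hr) (div_ne_zero (mul_ne_zero this.1 this.2.1) c0)
      (by linear_combination e)
  rcases sum_three S.h2 (S.three_ne hr) (S.ok_three' hr (Or.inr (o 0)))
    (S.ok_three' hr (Or.inr (o 1))) (S.ok_three' hr (Or.inr (o 2)))
    (by linear_combination 3 * s') with ⟨a0, a1, a2⟩ | ⟨e | e | e, -⟩
  · refine all_ne (i := 0) (j := 1) (l := 2) (by decide) (by decide) (by decide) ?_ ?_ ?_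
    · field_simp at a0; linear_combination a0
    · field_simp at a1; linear_combination a1
    · field_simp at a2; linear_combination a2
  all_goals exact absurd e (n _)

theorem no_side (hb : Fr T r b β) {i j l : Fin 3} (hij : i ≠ j) (hil : i ≠ l)
    (hjl : j ≠ l) (h : T y η) (e : OkH r ((β i ⬝ᵥ y) * (η ⬝ᵥ b i) / (r - 1))) :
    β l ⬝ᵥ y ≠ 0 := by
  intro a1
  obtain ⟨a2, -, z, ζ, hz, hC⟩ := S.exists_C_of_ok hb hij hil hjl h e a1
  obtain ⟨hr, hv⟩ := S.C_val hb hz hC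
  have c0 := S.c0
  have r0 := S.r0
  have h3 := S.three_ne hr
  have key : ∀ {y η : V3 k}, T y η → β l ⬝ᵥ y = 0 → η ⬝ᵥ b l = 0 →
      ∀ m, m = ((β i ⬝ᵥ y) * (ζ ⬝ᵥ b i) + (β j ⬝ᵥ y) * (ζ ⬝ᵥ b j)) *
        ((β i ⬝ᵥ z) * (η ⬝ᵥ b i) + (β j ⬝ᵥ z) * (η ⬝ᵥ b j)) / (r - 1) ^ 2 → m = 0 ∨ OkH r m := by
    intro y η h a1 a2 m hm
    have s1 := hb.1.dot_eq ζ y hij hil hjl
    have s2 := hb.1.dot_eq η z hij hil hjl
    rw [a1, zero_mul, add_zero] at s1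
    rw [a2, mul_zero, add_zero] at s2
    rw [hm, ← s1, ← s2]
    rcases S.tri hz h with e | e | e
    · obtain ⟨s, rfl⟩ := exists_smul_of_cr (ne_zero_of_dot_right (S.dot h ▸ c0)) e
      exact absurd (by rw [dotProduct_smul, a1, smul_zero]) (hC l)
    · exact Or.inl (by rw [e.1, zero_mul, zero_div])
    · exact Or.inr e
  have bij := hb.1 i j
  have bji := hb.1 j i
  have blj := hb.1 l j
  have bjl := hb.1 j l
  have bjj := hb.1 j j
  rw [if_neg hij] at bij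
  rw [if_neg hij.symm] at bji
  rw [if_neg hjl.symm] at blj
  rw [if_neg hjl] at bjl
  rw [if_pos rfl] at bjj
  have k0 := key h a1 a2 _ rfl
  have k1 := key (S.conj h (hb.2 j)) (by simp [a1, blj]) (by simp [a2, bjl]) _ rfl
  have k2 := key (S.conj' h (hb.2 j)) (by simp [a1, blj]) (by simp [a2, bjl]) _ rfl
  simp only [dotProduct_add, dotProduct_sub, add_dotProduct, sub_dotProduct, dotProduct_smul,
    smul_dotProduct, bij, bji, bjj, smul_eq_mul, mul_zero, mul_one, add_zero, sub_zero] at k1 k2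
  have s := hb.1.dot_eq η y hij hil hjl
  rw [S.dot h, a1, zero_mul, add_zero] at s
  have vi := hv i
  have vj := hv j
  have e' := S.ok_three hr e
  generalize β i ⬝ᵥ y = y0 at *
  generalize β j ⬝ᵥ y = y1 at *
  generalize η ⬝ᵥ b i = e0 at *
  generalize η ⬝ᵥ b j = e1 at *
  generalize β i ⬝ᵥ z = z0 at *
  generalize β j ⬝ᵥ z = z1 at *
  generalize ζ ⬝ᵥ b i = f0 at *
  generalize ζ ⬝ᵥ b j = f1 at *
  have ri : r⁻¹ = r ^ 2 := inv_eq_of_mul_eq_one_right (by linear_combination (r - 1) * hr)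
  set P := 3 * (y1 * f1 * z0 * e0) / (r - 1) ^ 2 with hP
  set Q := 3 * (y0 * f0 * z1 * e1) / (r - 1) ^ 2 with hQ
  set a := y0 * e0 / (r - 1) with ha
  have d : ∀ s t : k, s * t = 1 → 3 * ((y0 * f0 + s * y1 * f1) * (z0 * e0 + z1 * (t * e1)) /
      (r - 1) ^ 2) - 1 = s * P + t * Q := fun s' t hst => by
    rw [hP, hQ]
    field_simp
    linear_combination (y0 * e0) * vi + (y1 * e1) * vj - (r - 1) * s +
      3 * y1 * f1 * z1 * e1 * hst
  have d0 := S.ok_three' hr k0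
  have d1 := S.ok_three' hr k1
  have d2 := S.ok_three' hr k2
  rw [show y1 * f1 = 1 * y1 * f1 by ring, show z1 * e1 = z1 * (1 * e1) by ring,
    d 1 1 (by ring)] at d0
  rw [show y1 + (r - 1) * y1 = r * y1 by ring, show e1 - e1 * r⁻¹ * (r - 1) = r ^ 2 * e1 by
    rw [ri]; linear_combination (-e1 * (r - 1)) * hr,
    d r (r ^ 2) (by linear_combination (r - 1) * hr)] at d1
  rw [show y1 - (r - 1) * y1 * r⁻¹ = r ^ 2 * y1 by
    rw [ri]; linear_combination (-y1 * (r - 1)) * hr, show e1 + e1 * (r - 1) = r * e1 by ring,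
    d (r ^ 2) r (by linear_combination (r - 1) * hr)] at d2
  have hPQ : P * Q = a * (1 - a) := by
    rw [hP, hQ, ha]
    field_simp
    linear_combination (y0 * e0 * y1 * e1 * 3 * z1 * f1) * vi +
      (y0 * e0 * y1 * e1 * (r - 1)) * vj - (y0 * e0 * (r - 1) ^ 2) * s
  have sq : (1 * P + 1 * Q) ^ 2 + (r * P + r ^ 2 * Q) ^ 2 + (r ^ 2 * P + r * Q) ^ 2 =
      6 * (a * (1 - a)) := by
    linear_combination 6 * hPQ + ((P ^ 2 + Q ^ 2) * (r ^ 2 - r + 1) + 4 * P * Q * (r - 1)) * hr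
  have h2 := S.h2
  have h4 : (4 : k) ≠ 0 := by rw [show (4 : k) = 2 * 2 by norm_num]; exact mul_ne_zero h2 h2
  have h8 : (8 : k) ≠ 0 := by rw [show (8 : k) = 2 * 4 by norm_num]; exact mul_ne_zero h2 h4
  have val : 9 * (a * (1 - a)) = 2 ∨ (9 * (a * (1 - a)) = 1 ∧ (5 : k) ≠ 0) := by
    rcases e' with e | e | ⟨e, h5⟩
    · exact Or.inl (by linear_combination (2 - 3 * a) * e)
    · exact Or.inl (by linear_combination (1 - 3 * a) * e)
    · exact Or.inr ⟨by linear_combination -e, h5⟩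
  have fin : 6 * (a * (1 - a)) = 0 ∨ 6 * (a * (1 - a)) = 2 ∨ 6 * (a * (1 - a)) = 4 := by
    rw [← sq]
    rcases sum_three h2 h3 d0 d1 d2 (by linear_combination (P + Q) * hr) with ⟨a0, a1, a2⟩ | ⟨-, e⟩
    · exact Or.inl (by rw [a0, a1, a2]; ring)
    · exact Or.inr e
  rcases val with v | ⟨v, h5⟩ <;> rcases fin with f | f | f
  · exact h4 (by linear_combination 3 * f - 2 * v)
  · exact h2 (by linear_combination 2 * v - 3 * f)
  · exact h8 (by linear_combination 2 * v - 3 * f)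
  · exact h2 (by linear_combination 3 * f - 2 * v)
  · exact h4 (by linear_combination 2 * v - 3 * f)
  · exact mul_ne_zero h2 h5 (by linear_combination 2 * v - 3 * f)

theorem vertex_or_C (hb : Fr T r b β) (h : T y η) :
    (∃ j, ∃ s : k, y = s • b j) ∨ ∀ m, β m ⬝ᵥ y ≠ 0 := by
  have v : ∀ j, (∀ l, l ≠ j → β l ⬝ᵥ y = 0) → ∃ j, ∃ s : k, y = s • b j := fun j e =>
    ⟨j, β j ⬝ᵥ y, hb.1.ext fun i => by
      rw [dotProduct_smul, hb.1 i j]
      split_ifs with hij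
      · rw [hij, smul_eq_mul, mul_one]
      · rw [e i hij, smul_zero]⟩
  have o : ∀ {i j l : Fin 3}, i ≠ j → i ≠ l → j ≠ l →
      OkH r ((β i ⬝ᵥ y) * (η ⬝ᵥ b i) / (r - 1)) → ∀ m, β m ⬝ᵥ y ≠ 0 := fun hij hil hjl e =>
    all_ne hij hil hjl (S.ne_of_ok e).1 (S.no_side hb hil hij hjl.symm h e)
      (S.no_side hb hij hil hjl h e)
  rcases S.cls hb h 0 with e0 | e0 | e0
  · exact Or.inl (v 0 e0)
  swap
  · exact Or.inr (o (j := 1) (l := 2) (by decide) (by decide) (by decide) e0)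
  rcases S.cls hb h 1 with e1 | e1 | e1
  · exact Or.inl (v 1 e1)
  · exact Or.inl (v 2 fun l hl => by
      fin_cases l
      exacts [e0.1, e1.1, absurd rfl hl])
  · exact Or.inr (o (j := 0) (l := 2) (by decide) (by decide) (by decide) e1)

theorem not_all_third {x1 φ1 x2 φ2 x3 φ3 : V3 k} (h1 : T x1 φ1) (h2 : T x2 φ2) (h3 : T x3 φ3)
    (ht : trip x1 x2 x3 ≠ 0) : ¬ ∀ x φ u θ, T x φ → T u θ → cr x u ≠ 0 →
      3 * ((φ ⬝ᵥ u) * (θ ⬝ᵥ x)) = (r - 1) ^ 2 := by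
  intro H
  have e12 := H _ _ _ _ h1 h2 (ne_zero_of_dot_left ht)
  have e13 := H _ _ _ _ h1 h3 (cr_ne_left_of_trip ht)
  have e23 := H _ _ _ _ h2 h3 (cr_ne_right_of_trip ht)
  have e1 := H _ _ _ _ h2 (S.conj h3 h1) (cr_ne_right_of_trip (x := x1) (by rwa [trip_add_left]))
  have e2 := H _ _ _ _ h2 (S.conj' h3 h1) (cr_ne_right_of_trip (x := x1) (by
    rwa [sub_eq_add_neg, ← neg_smul, trip_add_left]))
  simp only [dotProduct_add, dotProduct_sub, add_dotProduct, sub_dotProduct, dotProduct_smul,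
    smul_dotProduct, smul_eq_mul] at e1 e2
  have r0 := S.r0
  have c0 := S.c0
  field_simp at e1 e2
  generalize φ1 ⬝ᵥ x2 = g12 at *
  generalize φ1 ⬝ᵥ x3 = g13 at *
  generalize φ2 ⬝ᵥ x1 = g21 at *
  generalize φ2 ⬝ᵥ x3 = g23 at *
  generalize φ3 ⬝ᵥ x1 = g31 at *
  generalize φ3 ⬝ᵥ x2 = g32 at *
  have f1 : 9 * (r * (g13 * g21 * g32) - g23 * g31 * g12) = (r - 1) ^ 4 := by
    linear_combination 3 * e1 - 3 * r * e23 + (3 * g12 * g21) * e13 + (r - 1) ^ 2 * e12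
  have f2 : 9 * (r * (g23 * g31 * g12) - g13 * g21 * g32) = (r - 1) ^ 4 := by
    linear_combination 3 * e2 - 3 * r * e23 + (3 * g12 * g21) * e13 + (r - 1) ^ 2 * e12
  have n1 : r + 1 ≠ 0 := fun e => S.r2 (by linear_combination e)
  have f3 : 9 * (g13 * g21 * g32) = (r - 1) ^ 3 :=
    mul_left_cancel₀ (mul_ne_zero c0 n1) (by linear_combination r * f1 + f2)
  have f4 : 9 * (g23 * g31 * g12) = (r - 1) ^ 3 :=
    mul_left_cancel₀ (mul_ne_zero c0 n1) (by linear_combination r * f2 + f1)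
  refine mul_ne_zero S.h2 (pow_ne_zero 6 c0) ?_
  linear_combination (9 * (g23 * g31 * g12)) * f3 + (r - 1) ^ 3 * f4 -
    (27 * (g13 * g31) * (g23 * g32)) * e12 - (9 * (r - 1) ^ 2 * (g23 * g32)) * e13 -
    (3 * (r - 1) ^ 4) * e23

end HS

theorem exists_not_comm_conj [IsSimpleGroup G] (hG : ¬ IsMulCommutative G) {g : G} (hg : g ≠ 1) :
    ∃ h : G, h * g * h⁻¹ * g ≠ g * (h * g * h⁻¹) := by
  by_contra hn
  push Not at hn
  have h1 : Subgroup.normalClosure {g} ≤ Subgroup.centralizer {g} := by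
    refine (Subgroup.closure_le _).2 fun x hx => ?_
    obtain ⟨y, rfl, hy⟩ := Group.mem_conjugatesOfSet_iff.1 hx
    obtain ⟨h, rfl⟩ := isConj_iff.1 hy
    exact Subgroup.mem_centralizer_singleton_iff.2 (hn h)
  rcases (Subgroup.normalClosure_normal (s := {g})).eq_bot_or_eq_top with h | h
  · exact hg (Subgroup.mem_bot.1 (h ▸ Subgroup.subset_normalClosure rfl))
  · refine hg (Subgroup.mem_bot.1 (center_eq_bot_of_simple hG ▸ Subgroup.mem_center_iff.2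
      fun x => Subgroup.mem_centralizer_singleton_iff.1 (h1 (h ▸ Subgroup.mem_top x))))

/-- homologies of ratio `r` -/
def HM (ρ : G →* PGL(3, k)) (r : k) (x φ : V3 k) : Prop := φ ⬝ᵥ x = r - 1 ∧ ∃ g, RR ρ g x φ

theorem HM.conj {r : k} {x φ : V3 k} (h : HM ρ r x φ) {A : GL (Fin 3) k} (hA : A ∈ lf ρ) :
    HM ρ r (ac A x) (dc A φ) :=
  let ⟨e, _, h⟩ := h; let ⟨_, hg⟩ := hA; ⟨by rw [dc_dot_ac, e], _, h.conj hg⟩

theorem exists_frame {r : k} (hr : r ≠ 1) {x φ w ψ : V3 k} (h1 : HM ρ r x φ) (h2 : HM ρ r w ψ)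
    (e1 : φ ⬝ᵥ w = 0) (e2 : ψ ⬝ᵥ x = 0) : ∃ b β, Fr (HM ρ r) r b β := by
  have c0 : r - 1 ≠ 0 := sub_ne_zero.2 hr
  obtain ⟨d1, g, A, hA, h1'⟩ := id h1
  obtain ⟨d2, h, B, hB, h2'⟩ := id h2
  have r0 : r ≠ 0 := by simpa [d1] using h1'.det_ne
  have ht : trip x w (cr φ ψ) ≠ 0 := by
    rw [trip_cr, d1, d2, e1, mul_zero, sub_zero]; exact mul_ne_zero c0 c0
  obtain ⟨β, hβ⟩ := exists_dualB ht
  have b0 : (r - 1) • β 0 = φ := sub_eq_zero.1 (eq_zero_of_dot_basis ht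
    (by simp [show β 0 ⬝ᵥ x = 1 from hβ 0 0, d1]) (by simp [show β 0 ⬝ᵥ w = 0 from hβ 0 1, e1])
    (by simp [show β 0 ⬝ᵥ cr φ ψ = 0 from hβ 0 2, dot_cr_left]))
  have b1 : (r - 1) • β 1 = ψ := sub_eq_zero.1 (eq_zero_of_dot_basis ht
    (by simp [show β 1 ⬝ᵥ x = 0 from hβ 1 0, e2]) (by simp [show β 1 ⬝ᵥ w = 1 from hβ 1 1, d2])
    (by simp [show β 1 ⬝ᵥ cr φ ψ = 0 from hβ 1 2, dot_cr_right]))
  have b20 : β 2 ⬝ᵥ x = 0 := hβ 2 0
  have b21 : β 2 ⬝ᵥ w = 0 := hβ 2 1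
  have b22 : β 2 ⬝ᵥ cr φ ψ = 1 := hβ 2 2
  refine ⟨_, β, hβ, fun i => ?_⟩
  fin_cases i
  · simpa [b0] using h1
  · simpa [b1] using h2
  refine ⟨by simp [b22], (g * h)⁻¹, sc r r0 (A * B)⁻¹, ?_, forall_of_basis ht ?_ ?_ ?_⟩
  · simp only [pm_sc, map_inv, map_mul, hA, hB]
  · rw [ac_sc, ← ac_smul, ac_inv_eq (v := x) (by rw [ac_mul, h2'.fix e2, h1', d1]; module)]
    simp [b20]
  · rw [ac_sc, ← ac_smul, ac_inv_eq (v := w) (by
      rw [ac_mul, h2', d2, ac_add, ac_smul, h1'.fix e1]; module)]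
    simp [b21]
  · rw [ac_sc, ac_inv_eq (v := cr φ ψ) (by
      rw [ac_mul, h2'.fix (dot_cr_right _ _), h1'.fix (dot_cr_left _ _)])]
    simp [b22]; module

theorem not_frame [IsSimpleGroup G] (hG : ¬ IsMulCommutative G) (hρ : Function.Injective ρ)
    {r : k} (S : HS (HM ρ r) r) {b β : Fin 3 → V3 k} (hb : Fr (HM ρ r) r b β) : False := by
  obtain ⟨z, ζ, hz, hC⟩ := S.exists_C hb
  have hr := (S.C_val hb hz hC).1
  clear hC hz z ζ
  have c0 := S.c0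
  have r0 := S.r0
  have r3 : r * r ^ 2 = 1 := by linear_combination (r - 1) * hr
  obtain ⟨-, g1, A1, hA1, h1⟩ := hb.2 1
  obtain ⟨-, g2, A2, hA2, h2⟩ := hb.2 2
  have hD : ρ (g1 * g2⁻¹) = pm (A1 * A2⁻¹) := by simp only [map_mul, map_inv, hA1, hA2]
  have db := hb.1
  have D0 : ac (A1 * A2⁻¹) (b 0) = b 0 := by
    rw [ac_mul, ac_inv_eq (h2.fix (by simp [db 2 0])), h1.fix (by simp [db 1 0])]
  have D1 : ac (A1 * A2⁻¹) (b 1) = r • b 1 := by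
    rw [ac_mul, ac_inv_eq (h2.fix (by simp [db 2 1])), h1]; simp [db 1 1]; module
  have D2 : ac (A1 * A2⁻¹) (b 2) = r ^ 2 • b 2 := by
    rw [ac_mul, ac_inv_eq (v := r ^ 2 • b 2) (by
      rw [ac_smul, h2]; simp [db 2 2]; linear_combination (norm := module) r3 • b 2), ac_smul,
      h1.fix (by simp [db 1 2])]
  generalize A1 * A2⁻¹ = D at hD D0 D1 D2
  generalize g1 * g2⁻¹ = a at hD
  have a1 : a ≠ 1 := by
    rintro rfl
    obtain ⟨c, -, hc⟩ := pm_eq_one_iff.1 (hD.symm.trans (map_one ρ))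
    have e0 := smul_left_injective k (db.ne_zero 0) ((one_smul k _).trans (D0.symm.trans (hc _)))
    have e1 := smul_left_injective k (db.ne_zero 1) (D1.symm.trans (hc _))
    exact S.r1 (e1.trans e0.symm)
  obtain ⟨g, hg⟩ := exists_not_comm_conj hG a1
  obtain ⟨A, hA⟩ := exists_lift ρ g
  refine hg (hρ ?_)
  have hD' : ρ (g * a * g⁻¹) = pm (A * D * A⁻¹) := by simp only [map_mul, map_inv, hA, hD]
  rw [map_mul, map_mul ρ a, hD', hD, ← map_mul, ← map_mul]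
  have dy := db.conj A
  have ty : ∀ i, HM ρ r (ac A (b i)) ((r - 1) • dc A (β i)) := fun i => by
    have := (hb.2 i).conj ⟨g, hA⟩
    rwa [dc, smul_vecMul] at this
  have E : ∀ i, ac (A * D * A⁻¹) (ac A (b i)) = ac A (ac D (b i)) := fun i => by
    rw [ac_mul, ac_mul, ac_inv_ac]
  have E0 := E 0
  have E1 := E 1
  have E2 := E 2
  rw [D0] at E0
  rw [D1, ac_smul] at E1
  rw [D2, ac_smul] at E2
  generalize A * D * A⁻¹ = D' at E0 E1 E2 ⊢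
  set η := fun i => dc A (β i) with hη
  set y := fun i => ac A (b i) with hy
  change ac D' (y 0) = y 0 at E0
  change ac D' (y 1) = r • y 1 at E1
  change ac D' (y 2) = r ^ 2 • y 2 at E2
  change ∀ i, HM ρ r (y i) ((r - 1) • η i) at ty
  clear_value y η
  clear E hD'
  by_cases hv : ∀ i, ∃ j, ∃ s : k, y i = s • b j
  · refine dy.pm_eq one_ne_zero fun i => ?_
    have e1 : ∃ t : k, ac D (y i) = t • y i := by
      obtain ⟨j, s, e⟩ := hv i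
      rw [e, ac_smul]
      fin_cases j
      · exact ⟨1, by simp [D0]⟩
      · exact ⟨r, by simp [D1, smul_comm r]⟩
      · exact ⟨r ^ 2, by simp [D2, smul_comm s]⟩
    have e2 : ∃ t : k, ac D' (y i) = t • y i := by
      fin_cases i
      exacts [⟨1, by simpa using E0⟩, ⟨_, E1⟩, ⟨_, E2⟩]
    obtain ⟨s, e1⟩ := e1
    obtain ⟨t, e2⟩ := e2
    rw [ac_mul, ac_mul, e1, e2, ac_smul, ac_smul, e1, e2, one_smul, smul_comm]
  push Not at hv
  obtain ⟨i0, hi0⟩ := hv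
  have C0 := (S.vertex_or_C hb (ty i0)).resolve_left (by push Not; exact hi0)
  have hC : ∀ i m, β m ⬝ᵥ y i ≠ 0 := fun i => by
    by_cases e : i = i0
    · rw [e]; exact C0
    refine (S.vertex_or_C hb (ty i)).resolve_left ?_
    rintro ⟨j, s, hs⟩
    have e1 := dy i0 i
    have e2 := (S.C_val hb (ty i0) C0).2 j
    rw [if_neg (Ne.symm e), hs, dotProduct_smul, smul_eq_zero] at e1
    rcases e1 with e1 | e1
    · exact dy.ne_zero i (by rw [hs, e1, zero_smul])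
    · rw [smul_dotProduct, e1, smul_zero, mul_zero, mul_zero] at e2
      exact c0 e2.symm
  have hv : ∀ i j, 3 * ((β j ⬝ᵥ y i) * (η i ⬝ᵥ b j)) = 1 := fun i j => by
    have := (S.C_val hb (ty i) (hC i)).2 j
    rw [smul_dotProduct, smul_eq_mul] at this
    exact mul_left_cancel₀ c0 (by linear_combination this)
  have dD : ∀ v, ac D v = (β 0 ⬝ᵥ v) • b 0 + (r * β 1 ⬝ᵥ v) • b 1 + (r ^ 2 * β 2 ⬝ᵥ v) • b 2 :=
    fun v => by
      conv_lhs => rw [db.sum_eq v]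
      simp only [ac_add, ac_smul, D0, D1, D2]
      module
  have c0' : ∀ v, β 0 ⬝ᵥ ac D v = β 0 ⬝ᵥ v := fun v => by simp [dD, db 0 0, db 0 1, db 0 2]
  have c1' : ∀ v, β 1 ⬝ᵥ ac D v = r * β 1 ⬝ᵥ v := fun v => by simp [dD, db 1 0, db 1 1, db 1 2]
  have c2' : ∀ v, β 2 ⬝ᵥ ac D v = r ^ 2 * β 2 ⬝ᵥ v := fun v => by simp [dD, db 2 0, db 2 1, db 2 2]
  have D3 : ∀ v, ac D (ac D (ac D v)) = v := fun v => db.ext fun i => by
    fin_cases i
    · simp only [Fin.zero_eta, c0']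
    · simp only [Fin.mk_one, c1']; linear_combination (β 1 ⬝ᵥ v) * r3
    · simp only [Fin.reduceFinMk, c2']; linear_combination (β 2 ⬝ᵥ v) * (r ^ 3 + 1) * r3
  have key : ∀ j, j ≠ 0 → ∃ s : k, s ≠ 0 ∧ (y j = s • ac D (y 0) ∨ y j = s • ac D (ac D (y 0))) := by
    intro j hj
    have s1 := db.dot_eq (η 0) (y j) (i := 0) (j := 1) (l := 2) (by decide) (by decide) (by decide)
    have s2 := db.dot_eq (η j) (y 0) (i := 0) (j := 1) (l := 2) (by decide) (by decide) (by decide)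
    rw [dy 0 j, if_neg hj.symm] at s1
    rw [dy j 0, if_neg hj] at s2
    have p0 := hC 0 0
    have p1 := hC 0 1
    have p2 := hC 0 2
    have q0 := hC j 0
    have q1 := hC j 1
    have q2 := hC j 2
    set s0 := β 0 ⬝ᵥ y j / β 0 ⬝ᵥ y 0 with hs0
    set s1' := β 1 ⬝ᵥ y j / β 1 ⬝ᵥ y 0 with hs1
    set s2' := β 2 ⬝ᵥ y j / β 2 ⬝ᵥ y 0 with hs2
    have t0 : β 0 ⬝ᵥ y j = s0 * β 0 ⬝ᵥ y 0 := (div_mul_cancel₀ _ p0).symm
    have t1 : β 1 ⬝ᵥ y j = s1' * β 1 ⬝ᵥ y 0 := (div_mul_cancel₀ _ p1).symm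
    have t2 : β 2 ⬝ᵥ y j = s2' * β 2 ⬝ᵥ y 0 := (div_mul_cancel₀ _ p2).symm
    have u1 : s0 + s1' + s2' = 0 := by
      rw [t0, t1, t2] at s1
      linear_combination -3 * s1 - s0 * hv 0 0 - s1' * hv 0 1 - s2' * hv 0 2
    have u2 : s1' * s2' + s0 * s2' + s0 * s1' = 0 := by
      have v0 := hv j 0
      have v1 := hv j 1
      have v2 := hv j 2
      rw [t0] at v0
      rw [t1] at v1
      rw [t2] at v2
      linear_combination (-3 * s0 * s1' * s2') * s2 - s1' * s2' * v0 - s0 * s2' * v1 -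
        s0 * s1' * v2
    have u3 : (s1' - r * s0) * (s1' - r ^ 2 * s0) = 0 := by
      linear_combination (s0 + s1') * u1 - u2 + (s0 ^ 2 * (r - 1) - s0 * s1') * hr
    refine ⟨s0, div_ne_zero q0 p0, ?_⟩
    rcases mul_eq_zero.1 u3 with e | e
    · refine Or.inl (db.ext fun i => ?_)
      fin_cases i
      · simp only [Fin.zero_eta, dotProduct_smul, c0', t0, smul_eq_mul]
      · simp only [Fin.mk_one, dotProduct_smul, c1', t1, smul_eq_mul]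
        linear_combination (β 1 ⬝ᵥ y 0) * e
      · simp only [Fin.reduceFinMk, dotProduct_smul, c2', t2, smul_eq_mul]
        linear_combination (β 2 ⬝ᵥ y 0) * (u1 - e - s0 * hr)
    · refine Or.inr (db.ext fun i => ?_)
      fin_cases i
      · simp only [Fin.zero_eta, dotProduct_smul, c0', t0, smul_eq_mul]
      · simp only [Fin.mk_one, dotProduct_smul, c1', t1, smul_eq_mul]
        linear_combination (β 1 ⬝ᵥ y 0) * e
      · simp only [Fin.reduceFinMk, dotProduct_smul, c2', t2, smul_eq_mul]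
        linear_combination (β 2 ⬝ᵥ y 0) * (u1 - e - s0 * hr - s0 * r * r3)
  obtain ⟨s, hs, e1⟩ := key 1 (by decide)
  obtain ⟨t, ht, e2⟩ := key 2 (by decide)
  have ne : ∀ v, y 1 = s • v → y 2 = t • v → False := fun v h1 h2 => by
    have a1 := dy 1 1
    have a2 := dy 1 2
    rw [h2, dotProduct_smul, if_neg (by decide), smul_eq_zero] at a2
    rw [h1, dotProduct_smul, a2.resolve_left ht, smul_zero, if_pos rfl] at a1
    exact zero_ne_one a1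
  have inj : ∀ {c : k} {v : V3 k} {l : k}, c ≠ 0 → ac D' (c • v) = l • c • v → ac D' v = l • v :=
    fun {c v l} hc h => smul_right_injective _ hc (by
      change c • _ = c • _
      rw [← ac_smul, h, smul_comm])
  rcases e1 with e1 | e1 <;> rcases e2 with e2 | e2
  · exact (ne _ e1 e2).elim
  · have F1 := inj hs (e1 ▸ E1)
    have F2 := inj ht (e2 ▸ E2)
    refine dy.pm_eq r0 fun i => ?_
    fin_cases i
    · simp only [Fin.zero_eta, ac_mul, E0, F1]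
    · simp only [Fin.mk_one, ac_mul, E1, ac_smul]
      rw [e1, ac_smul, ac_smul, F2]; module
    · simp only [Fin.reduceFinMk, ac_mul, E2, ac_smul]
      rw [e2, ac_smul, ac_smul, D3, E0]
      linear_combination (norm := module) (-r3) • t • y 0
  · have F1 := inj hs (e1 ▸ E1)
    have F2 := inj ht (e2 ▸ E2)
    refine dy.pm_eq (pow_ne_zero 2 r0) fun i => ?_
    fin_cases i
    · simp only [Fin.zero_eta, ac_mul, E0, F2]
    · simp only [Fin.mk_one, ac_mul, E1, ac_smul]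
      rw [e1, ac_smul, ac_smul, D3, E0]
      linear_combination (norm := module) (-r3) • s • y 0
    · simp only [Fin.reduceFinMk, ac_mul, E2, ac_smul]
      rw [e2, ac_smul, ac_smul, F1]
      linear_combination (norm := module) (-r * r3) • t • ac D (ac D (y 0))
  · exact (ne _ e1 e2).elim

theorem NoEl.refl_of_rr [IsAlgClosed k] [Finite G] [IsSimpleGroup G] (hG : ¬ IsMulCommutative G)
    (p : ℕ) [Fact p.Prime] [CharP k p] (h2 : (2 : k) ≠ 0) (hN : NoEl ρ) (hI : Asch.Irr (lf ρ))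
    {g : G} {x φ : V3 k} (h : RR ρ g x φ) : φ ⬝ᵥ x = 0 ∨ φ ⬝ᵥ x = -2 := by
  by_contra hn
  push Not at hn
  set r := 1 + φ ⬝ᵥ x with hr
  have r1 : r ≠ 1 := fun e => hn.1 (by linear_combination e - hr)
  have r2 : r ≠ -1 := fun e => hn.2 (by linear_combination e - hr)
  have r0 : r ≠ 0 := h.det_ne
  have h0 : HM ρ r x φ := ⟨by rw [hr]; ring, g, h⟩
  clear_value r
  have tri : ∀ {x φ u θ}, HM ρ r x φ → HM ρ r u θ → cr x u = 0 ∨ (φ ⬝ᵥ u = 0 ∧ θ ⬝ᵥ x = 0) ∨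
      OkH r ((φ ⬝ᵥ u) * (θ ⬝ᵥ x) / (r - 1) ^ 2) := fun ⟨e1, _, h1⟩ ⟨e2, _, h1'⟩ =>
    hN.tri p h2 h1 h1' e1 e2 r1 r2
  have S : HS (HM ρ r) r :=
    { dot := fun h => h.1
      conj := by
        rintro x φ u θ h ⟨e, g, A, hA, h'⟩
        have := h.conj ⟨g, hA⟩
        rwa [h', h'.dc_eq, e, add_sub_cancel] at this
      conj' := by
        rintro x φ u θ h ⟨e, g, A, hA, h'⟩
        have := h.conj ((lf ρ).inv_mem ⟨g, hA⟩)
        rw [h'.inv, h'.inv.dc_eq, e, add_sub_cancel] at this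
        convert this using 1
        · rw [smul_dotProduct, smul_eq_mul]; module
        · rw [smul_dotProduct, e, smul_eq_mul, smul_smul, sub_eq_add_neg, ← neg_smul]
          congr 2
          rw [show 1 + -r⁻¹ * (r - 1) = r⁻¹ by field_simp; ring]
          field_simp
      tri := tri
      nc := by
        rintro x φ ⟨e, g, h⟩
        have n := ne_of_eq_of_ne e (sub_ne_zero.2 r1)
        obtain ⟨g', hg'⟩ := exists_not_comm_conj hG (g := g) (fun e' => by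
          simpa [ne_zero_of_dot_left n, ne_zero_of_dot_right n] using (h.eq_one_iff hN.1).1 e')
        obtain ⟨A, hA⟩ := exists_lift ρ g'
        have h' := h.conj hA
        have e' : dc A φ ⬝ᵥ ac A x = r - 1 := by rw [dc_dot_ac, e]
        refine ⟨_, _, ⟨e', _, h'⟩, ?_⟩
        rcases tri ⟨e, g, h⟩ ⟨e', _, h'⟩ with c | c | c
        · rw [← hN.same_of_cr h h' e e' r1 c] at hg'
          exact absurd rfl hg'
        · exact absurd (h.comm_of_dot hN.1 h' c.1 c.2) hg'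
        · exact c
      h2 := h2
      r0 := r0
      r1 := r1
      r2 := r2 }
  by_cases hc : ∃ x φ w ψ, HM ρ r x φ ∧ HM ρ r w ψ ∧ φ ⬝ᵥ w = 0 ∧ ψ ⬝ᵥ x = 0
  · obtain ⟨x, φ, w, ψ, h1, h1', e1, e2⟩ := hc
    obtain ⟨b, β, hb⟩ := exists_frame r1 h1 h1' e1 e2
    exact not_frame hG hN.1 S hb
  obtain ⟨u, θ, hu, e⟩ := S.nc h0
  have c : cr x u ≠ 0 := fun c => by
    obtain ⟨d1, g1, a1⟩ := h0
    obtain ⟨d2, g2, a2⟩ := hu
    obtain rfl := hN.same_of_cr a1 a2 d1 d2 r1 c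
    have n := ne_of_eq_of_ne d1 S.c0
    obtain ⟨l, -, rfl, rfl⟩ := a1.flag_eq a2 (ne_zero_of_dot_right n) (ne_zero_of_dot_left n)
    have e1 : (l • θ) ⬝ᵥ (l • x) * θ ⬝ᵥ x = (r - 1) ^ 2 := by
      simp only [smul_dotProduct, dotProduct_smul, smul_eq_mul] at d1 d2 ⊢
      linear_combination (l * θ ⬝ᵥ x + (r - 1)) * d1
    rw [e1, div_self (pow_ne_zero 2 S.c0)] at e
    exact not_okH_one h2 r e
  obtain ⟨y, ⟨η, hy⟩, ht⟩ := irr_point hI (S := {y | ∃ η, HM ρ r y η})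
    (fun A hA y ⟨η, hy⟩ => ⟨_, hy.conj hA⟩) ⟨x, ⟨φ, h0⟩, ne_zero_of_cr_left c⟩ c
  refine S.not_all_third h0 hu hy ht fun x φ u θ h1 h1' c => ?_
  rcases tri h1 h1' with e | e | e
  · exact absurd e c
  · exact absurd ⟨x, φ, u, θ, h1, h1', e⟩ hc
  by_contra h3
  obtain ⟨d1, g1, a1⟩ := id h1
  obtain ⟨d2, g2, a2⟩ := h1'
  obtain ⟨g', w, ψ, a3, d3, e3⟩ := exists_third a1 a2 d1 d2 r1 rfl e
    (fun e' => not_okH_one h2 r (e' ▸ e)) (fun e' => h3 (by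
      have := e'.2
      have := S.c0
      field_simp at *
      assumption))
  exact hc ⟨x, φ, w, ψ, h1, ⟨d3, g', a3⟩, e3⟩

end CL.MH
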