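/-
Projective groups of degree three whose only perspectivities are reflections: four-groups.
-/
import Cfsg.Agent.CLAS.MHFrame

set_option autoImplicit false

namespace CL.MH

open Matrix Cfsg.Geo CL.Dk CL.PGL2
open scoped MatrixGroups

variable {k : Type*} [Field k] {G : Type*} [Group G] {ρ : G →* PGL(3, k)}

/-- the only perspectivities are reflections -/
def OnlyR (ρ : G →* PGL(3, k)) : Prop :=
  Function.Injective ρ ∧ ∀ g x φ, RR ρ g x φ → g = 1 ∨ φ ⬝ᵥ x = -2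

/-- `A` is diagonal in the frame `b` -/
def Dg (A : GL (Fin 3) k) (b : Fin 3 → V3 k) (a : Fin 3 → k) : Prop := ∀ i, ac A (b i) = a i • b i

section Dg

variable {A B : GL (Fin 3) k} {b β : Fin 3 → V3 k} {a a' : Fin 3 → k}

theorem Dg.mul (h : Dg A b a) (h' : Dg B b a') : Dg (A * B) b (a * a') := fun i => by
  rw [ac_mul, h', ac_smul, h, smul_smul, Pi.mul_apply, mul_comm]

theorem dg_one (b : Fin 3 → V3 k) : Dg 1 b 1 := fun i => by rw [ac_one, Pi.one_apply, one_smul]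

theorem Dg.pow (h : Dg A b a) (n : ℕ) : Dg (A ^ n) b (a ^ n) := by
  induction n with
  | zero => simpa using dg_one b
  | succ n ih => rw [pow_succ, pow_succ]; exact ih.mul h

theorem Dg.ne_zero (hb : DualB b β) (h : Dg A b a) (i : Fin 3) : a i ≠ 0 := fun e =>
  ac_ne_zero A (hb.ne_zero i) (by rw [h, e, zero_smul])

theorem Dg.pm_eq (hb : DualB b β) (h : Dg A b a) (h' : Dg B b a') {c : k}
    (e : ∀ i, a i = c * a' i) : pm A = pm B :=
  hb.pm_eq (c := c) (fun e0 => h.ne_zero hb 0 (by rw [e, e0, zero_mul])) fun i => by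
    rw [h, h', e, smul_smul]

theorem Dg.eq_of_pm (hb : DualB b β) (h : Dg A b a) (h' : Dg B b a') (e : pm A = pm B) :
    ∃ c : k, ∀ i, a i = c * a' i := by
  obtain ⟨c, -, hc⟩ := pm_eq_iff.1 e
  refine ⟨c, fun i => smul_left_injective k (hb.ne_zero i) ?_⟩
  simp only [← h i, hc, h' i, smul_smul]

theorem Dg.comm (hb : DualB b β) (h : Dg A b a) (h' : Dg B b a') : A * B = B * A :=
  ext_ac fun v => by
    rw [hb.sum_eq v]
    simp only [ac_add, ac_smul, (h.mul h') _, (h'.mul h) _, mul_comm a]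

theorem DualB.cr_ne (hb : DualB b β) {i j : Fin 3} (hij : i ≠ j) : cr (b i) (b j) ≠ 0 :=
  cr_ne_zero_of_dot (φ := β i) (hb.ne_zero j) (by rw [hb i j, if_neg hij])
    (by rw [hb i i, if_pos rfl]; exact one_ne_zero)

end Dg

theorem RR.sq_eq_one (hρ : Function.Injective ρ) {g : G} {x φ : V3 k} (h : RR ρ g x φ)
    (e : φ ⬝ᵥ x = -2) : g * g = 1 :=
  ((h.mul_right h).eq_one_iff hρ).2 (Or.inr (by rw [e]; module))

theorem rr_of_eig2 {g : G} {A : GL (Fin 3) k} (hA : ρ g = pm A) {a b : V3 k} {l : k}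
    (hab : cr a b ≠ 0) (ha : ac A a = l • a) (hb : ac A b = l • b) : ∃ x φ, RR ρ g x φ := by
  have hl : l ≠ 0 := fun e => ac_ne_zero A (ne_zero_of_cr_left hab) (by rw [ha, e, zero_smul])
  obtain ⟨x, φ, h⟩ := isR_of_rk1 (A := A) hl (rk1_of_ker hab
    (by rw [sub_mulVec, smul_mulVec, one_mulVec, sub_eq_zero]; exact ha)
    (by rw [sub_mulVec, smul_mulVec, one_mulVec, sub_eq_zero]; exact hb))
  exact ⟨x, φ, _, by rw [pm_sc, hA], h⟩

namespace OnlyR

variable (hR : OnlyR ρ) {g h z t c : G} {x φ u θ : V3 k} {A : GL (Fin 3) k}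
include hR

theorem noEl (h2 : (2 : k) ≠ 0) : NoEl ρ :=
  ⟨hR.1, fun g x φ h e => (hR.2 g x φ h).resolve_right fun e' => h2 (by linear_combination e' - e)⟩

theorem sq_eq_one (h : RR ρ g x φ) : g * g = 1 :=
  (hR.2 g x φ h).elim (fun e => by rw [e, mul_one]) (h.sq_eq_one hR.1)

theorem sq_of_eig2 (hA : ρ g = pm A) {a b : V3 k} {l : k} (hab : cr a b ≠ 0)
    (ha : ac A a = l • a) (hb : ac A b = l • b) : g * g = 1 :=
  let ⟨_, _, h⟩ := rr_of_eig2 hA hab ha hb; hR.sq_eq_one h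

theorem exists_refl [IsAlgClosed k] (hg : g * g = 1) (h1 : g ≠ 1) :
    ∃ x φ, RR ρ g x φ ∧ φ ⬝ᵥ x = -2 := by
  obtain ⟨x, φ, h, -⟩ := exists_rr_of_invol (ρ := ρ)
    (fun c => let ⟨s, hs⟩ := IsAlgClosed.exists_eq_mul_self c; ⟨s, hs.symm⟩) hg
  exact ⟨x, φ, h, (hR.2 g x φ h).resolve_left h1⟩

theorem same (h2 : (2 : k) ≠ 0) (h1 : RR ρ z x φ) (h1' : RR ρ t u θ) (e1 : φ ⬝ᵥ x = -2)
    (e2 : θ ⬝ᵥ u = -2) (hc : cr x u = 0) : z = t :=
  (hR.noEl h2).same_of_cr (r := -1) h1 h1' (by rw [e1]; ring) (by rw [e2]; ring)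
    (fun e => h2 (by linear_combination -e)) hc

theorem dot_eq_zero (h2 : (2 : k) ≠ 0) (h1 : RR ρ z x φ) (h1' : RR ρ t u θ) (e1 : φ ⬝ᵥ x = -2)
    (e2 : θ ⬝ᵥ u = -2) (hne : z ≠ t) (hc : t * z = z * t) : θ ⬝ᵥ x = 0 := by
  have n1 : φ ⬝ᵥ x ≠ 0 := e1 ▸ neg_ne_zero.2 h2
  obtain ⟨T, hT, h3⟩ := id h1'
  obtain ⟨l, -, h4, -⟩ := h1.fix_of_comm (ne_zero_of_dot_right n1) (ne_zero_of_dot_left n1) hT hc
  by_contra h5
  refine hne (hR.same h2 h1 h1' e1 e2 (cr_eq_zero_comm.1 (cr_eq_zero_of_smul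
    (c := (θ ⬝ᵥ x)⁻¹ * (l - 1)) ?_)))
  rw [h3] at h4
  rw [← smul_smul, sub_smul, one_smul, ← h4, add_sub_cancel_left, smul_smul, inv_mul_cancel₀ h5,
    one_smul]

/-- the frame of a four-group -/
theorem frame [IsAlgClosed k] (h2 : (2 : k) ≠ 0) (hz : z * z = 1) (hz1 : z ≠ 1) (ht : t * t = 1)
    (ht1 : t ≠ 1) (hne : z ≠ t) (hc : t * z = z * t) :
    ∃ b β Z T, DualB b β ∧ ρ z = pm Z ∧ ρ t = pm T ∧ Dg Z b ![-1, 1, 1] ∧ Dg T b ![1, -1, 1] ∧
      (∀ c A, ρ c = pm A → c * z = z * c → ∃ l : k, ac A (b 0) = l • b 0 ∧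
        β 0 ⬝ᵥ ac A (b 1) = 0 ∧ β 0 ⬝ᵥ ac A (b 2) = 0) ∧
      ∀ c A, ρ c = pm A → c * z = z * c → c * t = t * c → ∃ a, Dg A b a := by
  obtain ⟨x, φ, h1, e1⟩ := hR.exists_refl hz hz1
  obtain ⟨u, θ, h1', e2⟩ := hR.exists_refl ht ht1
  have d1 := hR.dot_eq_zero h2 h1 h1' e1 e2 hne hc
  have d2 := hR.dot_eq_zero h2 h1' h1 e2 e1 hne.symm hc.symm
  have n1 : φ ⬝ᵥ x ≠ 0 := e1 ▸ neg_ne_zero.2 h2
  have n2 : θ ⬝ᵥ u ≠ 0 := e2 ▸ neg_ne_zero.2 h2
  have ht : trip x u (cr φ θ) ≠ 0 := by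
    rw [trip_cr, d1, zero_mul, sub_zero]; exact mul_ne_zero n1 n2
  obtain ⟨β, hβ⟩ := exists_dualB ht
  have b0 : φ = (-2 : k) • β 0 := sub_eq_zero.1 (eq_zero_of_dot_basis ht
    (by simp [show β 0 ⬝ᵥ x = 1 from hβ 0 0, e1]) (by simp [show β 0 ⬝ᵥ u = 0 from hβ 0 1, d2])
    (by simp [show β 0 ⬝ᵥ cr φ θ = 0 from hβ 0 2, dot_cr_left]))
  obtain ⟨Z, hZ, hZ'⟩ := id h1
  obtain ⟨T, hT, hT'⟩ := id h1'
  refine ⟨_, β, Z, T, hβ, hZ, hT, fun i => ?_, fun i => ?_, fun c A hA hcz => ?_,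
    fun c A hA hcz hct => ?_⟩
  · fin_cases i
    · simp only [Fin.zero_eta, cons_val_zero]; rw [hZ', e1]; module
    · simpa using hZ'.fix d2
    · simpa using hZ'.fix (dot_cr_left _ _)
  · fin_cases i
    · simpa using hT'.fix d1
    · simp only [Fin.mk_one, cons_val_one, cons_val_zero]; rw [hT', e2]; module
    · simpa using hT'.fix (dot_cr_right _ _)
  · obtain ⟨l, -, a1, a2⟩ :=
      h1.fix_of_comm (ne_zero_of_dot_right n1) (ne_zero_of_dot_left n1) hA hcz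
    have key : ∀ v, φ ⬝ᵥ v = 0 → β 0 ⬝ᵥ ac A v = 0 := fun v hv => by
      have := a2 v
      rw [hv, mul_zero, b0, smul_dotProduct, smul_eq_zero] at this
      exact this.resolve_left (neg_ne_zero.2 h2)
    exact ⟨l, a1, key _ d2, key _ (dot_cr_left _ _)⟩
  · obtain ⟨l, -, a1, a2⟩ :=
      h1.fix_of_comm (ne_zero_of_dot_right n1) (ne_zero_of_dot_left n1) hA hcz
    obtain ⟨l', -, a3, a4⟩ :=
      h1'.fix_of_comm (ne_zero_of_dot_right n2) (ne_zero_of_dot_left n2) hA hct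
    obtain ⟨l'', a5⟩ := exists_smul_of_cr (ne_zero_of_trip ht) (cr_cr_eq_zero (φ := ac A (cr φ θ))
      (by rw [dotProduct_comm, a2, dot_cr_left, mul_zero])
      (by rw [dotProduct_comm, a4, dot_cr_right, mul_zero]))
    refine ⟨![l, l', l''], fun i => ?_⟩
    fin_cases i
    exacts [a1, a3, a5]

theorem mem_four [IsAlgClosed k] (h2 : (2 : k) ≠ 0) (hz : z * z = 1) (hz1 : z ≠ 1)
    (ht : t * t = 1) (ht1 : t ≠ 1) (hne : z ≠ t) (hc : t * z = z * t) (hcz : c * z = z * c)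
    (hct : c * t = t * c) (h4 : c ^ 4 = 1) : c = 1 ∨ c = z ∨ c = t ∨ c = z * t := by
  obtain ⟨b, β, Z, T, hb, hZ, hT, dZ, dT, -, H⟩ := hR.frame h2 hz hz1 ht ht1 hne hc
  obtain ⟨A, hA⟩ := exists_lift ρ c
  obtain ⟨a, ha⟩ := H c A hA hcz hct
  have sq : ∀ {v V s}, ρ v = pm V → Dg V b s → v * v = 1 → c * v = v * c → ∀ i j, i ≠ j →
      a i * s i = a j * s j → c * c = 1 := fun {v V s} hV dV hv hcv i j hij e => by
    have := hR.sq_of_eig2 (g := c * v) (A := A * V) (by rw [map_mul, map_mul, hA, hV])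
      (hb.cr_ne hij) (ha.mul dV i) (by rw [ha.mul dV j, Pi.mul_apply, Pi.mul_apply, e])
    rwa [mul_assoc, ← mul_assoc v, ← hcv, mul_assoc, hv, mul_one] at this
  have s1 := sq (v := 1) (V := 1) (by simp) (dg_one b) (by simp) (by simp)
  have s2 := sq hZ dZ hz hcz
  have s3 := sq hT dT ht hct
  obtain ⟨κ, hκ⟩ := (ha.pow 4).eq_of_pm hb (dg_one b) (by rw [map_pow, ← hA, ← map_pow, h4]; simp)
  simp only [Pi.pow_apply, Pi.one_apply, mul_one] at hκ
  have hcc : c * c = 1 := by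
    by_contra hn
    have n1 : ∀ i j, i ≠ j → a i - a j ≠ 0 := fun i j hij e => hn (s1 i j hij (by
      simpa [sub_eq_zero] using e))
    have n01 : a 0 + a 1 ≠ 0 := fun e => hn (s2 0 1 (by decide) (by
      simp only [cons_val_zero, cons_val_one]; linear_combination -e))
    have n02 : a 0 + a 2 ≠ 0 := fun e => hn (s2 0 2 (by decide) (by
      simp only [cons_val_zero, cons_val]; linear_combination -e))
    have n12 : a 1 + a 2 ≠ 0 := fun e => hn (s3 1 2 (by decide) (by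
      simp only [cons_val_zero, cons_val_one, cons_val]; linear_combination -e))
    have e1 : a 0 ^ 2 + a 1 ^ 2 = 0 := mul_left_cancel₀
      (mul_ne_zero (n1 0 1 (by decide)) n01) (by linear_combination hκ 0 - hκ 1)
    have e2 : a 0 ^ 2 + a 2 ^ 2 = 0 := mul_left_cancel₀
      (mul_ne_zero (n1 0 2 (by decide)) n02) (by linear_combination hκ 0 - hκ 2)
    exact mul_ne_zero (n1 1 2 (by decide)) n12 (by linear_combination e1 - e2)
  obtain ⟨κ, hκ⟩ := (ha.mul ha).eq_of_pm hb (dg_one b) (by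
    rw [map_mul, ← hA, ← map_mul, hcc]; simp)
  simp only [Pi.mul_apply, Pi.one_apply, mul_one] at hκ
  have fin : ∀ {v V s}, ρ v = pm V → Dg V b s → a 0 = a 2 * s 0 → a 1 = a 2 * s 1 → s 2 = 1 →
      c = v := fun {v V s} hV dV e0 e1 e2 => hR.1 (by
    rw [hA, hV]
    refine ha.pm_eq hb dV (c := a 2) fun i => ?_
    fin_cases i
    exacts [e0, e1, by simp [e2]])
  rcases mul_self_eq_mul_self_iff.1 ((hκ 0).trans (hκ 2).symm) with e0 | e0 <;>
    rcases mul_self_eq_mul_self_iff.1 ((hκ 1).trans (hκ 2).symm) with e1 | e1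
  · exact Or.inl (fin (V := 1) (by simp) (dg_one b) (by simp [e0]) (by simp [e1]) rfl)
  · exact Or.inr (Or.inr (Or.inl (fin hT dT (by simp [e0]) (by simp [e1]) rfl)))
  · exact Or.inr (Or.inl (fin hZ dZ (by simp [e0]) (by simp [e1]) rfl))
  · exact Or.inr (Or.inr (Or.inr (fin (by rw [map_mul, map_mul, hZ, hT]) (dZ.mul dT)
      (by simp [e0]) (by simp [e1]) (by simp))))

theorem mem_four' [IsAlgClosed k] (h2 : (2 : k) ≠ 0) (hz : z * z = 1) (hz1 : z ≠ 1)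
    (ht : t * t = 1) (ht1 : t ≠ 1) (hne : z ≠ t) (hc : t * z = z * t) (n : ℕ) (hcz : c * z = z * c)
    (hct : c * t = t * c) (h4 : c ^ 2 ^ n = 1) : c = 1 ∨ c = z ∨ c = t ∨ c = z * t := by
  induction n generalizing c with
  | zero => exact Or.inl (by simpa using h4)
  | succ n ih =>
    refine hR.mem_four h2 hz hz1 ht ht1 hne hc hcz hct ?_
    have := ih (c := c ^ 2) ((Commute.pow_left hcz 2).eq) ((Commute.pow_left hct 2).eq)
      (by rw [← pow_mul, ← pow_succ', h4])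
    rw [show 4 = 2 * 2 from rfl, pow_mul, pow_two]
    rcases this with e | e | e | e <;> rw [e]
    · exact mul_one _
    · exact hz
    · exact ht
    · rw [mul_assoc, ← mul_assoc t, hc, mul_assoc, ht, mul_one, hz]

/-- two reflections centralised by an element of order greater than two commute -/
theorem comm_of_comm [IsAlgClosed k] (h2 : (2 : k) ≠ 0) (hz : z * z = 1) (hz1 : z ≠ 1)
    (ht : t * t = 1) (ht1 : t ≠ 1) (hc : c * c ≠ 1) (hcz : c * z = z * c)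
    (hct : c * t = t * c) : t * z = z * t := by
  obtain ⟨x, φ, h1, e1⟩ := hR.exists_refl hz hz1
  obtain ⟨u, θ, h1', e2⟩ := hR.exists_refl ht ht1
  have n1 : φ ⬝ᵥ x ≠ 0 := e1 ▸ neg_ne_zero.2 h2
  have n2 : θ ⬝ᵥ u ≠ 0 := e2 ▸ neg_ne_zero.2 h2
  obtain ⟨A, hA⟩ := exists_lift ρ c
  obtain ⟨l, -, a1, a2⟩ :=
    h1.fix_of_comm (ne_zero_of_dot_right n1) (ne_zero_of_dot_left n1) hA hcz
  obtain ⟨l', -, a3, a4⟩ :=
    h1'.fix_of_comm (ne_zero_of_dot_right n2) (ne_zero_of_dot_left n2) hA hct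
  by_cases hl : l = l'
  · by_cases hx : cr x u = 0
    · rw [hR.same h2 h1 h1' e1 e2 hx]
    · exact absurd (hR.sq_of_eig2 hA hx a1 (hl ▸ a3)) hc
  have b1 := a2 u
  have b2 := a4 x
  rw [a3, dotProduct_smul, smul_eq_mul] at b1
  rw [a1, dotProduct_smul, smul_eq_mul] at b2
  exact h1.comm_of_dot hR.1 h1'
    (mul_left_cancel₀ (sub_ne_zero.2 hl) (by linear_combination -b1))
    (mul_left_cancel₀ (sub_ne_zero.2 hl) (by linear_combination b2))

/-- the action of the centraliser of a reflection on its axis -/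
theorem exists_axis [IsAlgClosed k] [Finite G] (h2 : (2 : k) ≠ 0) (hz : z * z = 1) (hz1 : z ≠ 1)
    (ht : t * t = 1) (ht1 : t ≠ 1) (hne : z ≠ t) (hc : t * z = z * t) :
    ∃ π : Subgroup.centralizer ({z} : Set G) →* PGL(2, k),
      (∀ c, π c = 1 ↔ c = 1 ∨ (c : G) = z) ∧ ∀ c, tau (π c) = 4 → π c = 1 := by
  obtain ⟨b, β, Z, T, hb, hZ, -, dZ, -, H, -⟩ := hR.frame h2 hz hz1 ht ht1 hne hc
  have h12 := hb.cr_ne (i := 1) (j := 2) (by decide)
  let Pl : Subgroup.centralizer ({z} : Set G) → PGL(2, k) → Prop := fun c γ =>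
    ∃ A m hm, ρ c = pm A ∧ ac A (b 0) = b 0 ∧ Acts A (b 1) (b 2) m ∧ γ = ofMat m hm
  have ex : ∀ c, ∃ γ, Pl c γ := fun c => by
    obtain ⟨A, hA⟩ := exists_lift ρ c
    obtain ⟨l, a1, a2, a3⟩ := H c A hA (Subgroup.mem_centralizer_singleton_iff.1 c.2)
    have hl : l ≠ 0 := fun e => ac_ne_zero A (hb.ne_zero 0) (by rw [a1, e, zero_smul])
    have : Acts (sc l⁻¹ (inv_ne_zero hl) A) (b 1) (b 2) (l⁻¹ • !![β 1 ⬝ᵥ ac A (b 1),
        β 1 ⬝ᵥ ac A (b 2); β 2 ⬝ᵥ ac A (b 1), β 2 ⬝ᵥ ac A (b 2)]) := by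
      constructor
      · rw [ac_sc, hb.sum_eq (ac A (b 1)), a2]; simp [hb 1 1, hb 1 2, hb 2 1, hb 2 2]; module
      · rw [ac_sc, hb.sum_eq (ac A (b 2)), a3]; simp [hb 1 1, hb 1 2, hb 2 1, hb 2 2]; module
    exact ⟨_, _, _, this.det_ne h12, by rw [pm_sc, hA],
      by rw [ac_sc, a1, smul_smul, inv_mul_cancel₀ hl, one_smul], this, rfl⟩
  have un : ∀ {c γ γ'}, Pl c γ → Pl c γ' → γ = γ' := by
    rintro c _ _ ⟨A, m, hm, hA, a1, a2, rfl⟩ ⟨B, n, hn, hB, b1, b2, rfl⟩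
    obtain ⟨s, -, hs⟩ := pm_eq_iff.1 (hA.symm.trans hB)
    have := hs (b 0)
    rw [a1, b1] at this
    obtain rfl : s = 1 := smul_left_injective k (hb.ne_zero 0) (by simpa using this.symm)
    obtain rfl : A = B := ext_ac fun v => by rw [hs, one_smul]
    obtain rfl := a2.unique h12 b2
    rfl
  choose π hπ using ex
  refine ⟨MonoidHom.mk' π fun c d => ?_, fun c => ?_, fun c => ?_⟩
  · obtain ⟨A, m, hm, hA, a1, a2, e1⟩ := hπ c
    obtain ⟨B, n, hn, hB, b1, b2, e2⟩ := hπ d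
    exact un (hπ _) ⟨A * B, m * n, det_mul_ne_zero hm hn, by
      rw [Subgroup.coe_mul, map_mul, map_mul, hA, hB], by rw [ac_mul, b1, a1], a2.mul b2, by
      rw [e1, e2, ofMat_mul]⟩
  · obtain ⟨A, m, hm, hA, a1, a2, e1⟩ := hπ c
    rw [MonoidHom.mk'_apply]
    constructor
    · intro e
      rw [e1, ofMat_eq_one_iff] at e
      have dA : Dg A b ![1, m 0 0, m 0 0] := fun i => by
        fin_cases i
        · simpa using a1
        · simpa [e.2.1] using a2.1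
        · simpa [e.1, e.2.2] using a2.2
      have := hR.sq_of_eig2 hA h12 (dA 1) (dA 2)
      obtain ⟨κ, hκ⟩ := (dA.mul dA).eq_of_pm hb (dg_one b) (by
        rw [map_mul, ← hA, ← map_mul, this]; simp)
      rcases mul_self_eq_mul_self_iff.1 ((hκ 1).trans (hκ 0).symm) with e0 | e0
      · refine Or.inl (Subtype.ext (hR.1 ?_))
        rw [hA, dA.pm_eq hb (dg_one b) (c := 1) fun i => by fin_cases i <;> simp_all]
        simp
      · refine Or.inr (hR.1 ?_)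
        rw [hA, hZ, dA.pm_eq hb dZ (c := -1) fun i => by fin_cases i <;> simp_all]
    · rintro (rfl | e)
      · exact un (hπ _) ⟨1, 1, by simp, by simp, ac_one _, acts_one _ _, (ofMat_one _).symm⟩
      · refine un (hπ _) ⟨sc (-1) (by simp) Z, -1, by simp [det_neg], by rw [pm_sc, e, hZ], ?_,
          ⟨?_, ?_⟩, ?_⟩
        · rw [ac_sc, dZ]; simp
        · rw [ac_sc, dZ]; simp
        · rw [ac_sc, dZ]; simp
        · exact ((ofMat_eq_one_iff _).2 (by simp)).symm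
  · obtain ⟨A, m, hm, hA, a1, a2, e1⟩ := hπ c
    refine (hR.noEl h2).nounip h2 (x := b 1) (u := b 2) (w := b 0) ?_ _ ?_
    · intro e
      obtain ⟨r, s, e⟩ := exists_coords2 h12 e
      have := hb 0 0
      rw [e, dotProduct_add, dotProduct_smul, dotProduct_smul, hb 0 1, hb 0 2] at this
      simp at this
    · rw [MonoidHom.mk'_apply, e1]
      exact ofMat_mem_planeP (K := fixV (lf ρ) (b 0)) (g := A)
        (mem_fixV.2 ⟨mem_lf.2 ⟨(c : G), hA⟩, a1⟩) hm a2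

end OnlyR

end CL.MH
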