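/-
Cayley-Hamilton in degree three, eigenframes, and cross-characteristic embeddings of `PSL₂`.
-/
import Cfsg.Agent.CLAS.MHRefl

set_option autoImplicit false

namespace CL.MH

open Matrix Cfsg.Geo CL.Dk CL.PGL2
open scoped MatrixGroups

variable {k : Type*} [Field k] {G : Type*} [Group G] {ρ : G →* PGL(3, k)}

/-- the second elementary symmetric function of the eigenvalues -/
def e2 (M : Matrix (Fin 3) (Fin 3) k) : k :=
  M 0 0 * M 1 1 - M 0 1 * M 1 0 + (M 0 0 * M 2 2 - M 0 2 * M 2 0) + (M 1 1 * M 2 2 - M 1 2 * M 2 1)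

theorem ch3 (M : Matrix (Fin 3) (Fin 3) k) :
    M * M * M = M.trace • (M * M) - e2 M • M + M.det • (1 : Matrix (Fin 3) (Fin 3) k) := by
  ext i j
  fin_cases i <;> fin_cases j <;>
    simp [mul_apply, Fin.sum_univ_three, trace_fin_three, det_fin_three, e2] <;> ring

theorem trace_mul_self (M : Matrix (Fin 3) (Fin 3) k) :
    (M * M).trace = M.trace ^ 2 - 2 * e2 M := by
  simp [mul_apply, Fin.sum_univ_three, trace_fin_three, e2]; ring

theorem det_sub_smul (M : Matrix (Fin 3) (Fin 3) k) (a : k) :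
    (M - a • (1 : Matrix (Fin 3) (Fin 3) k)).det =
      M.det - e2 M * a + M.trace * a ^ 2 - a ^ 3 := by
  simp [trace_fin_three, det_fin_three, e2]; ring

theorem e2_eq (A : GL (Fin 3) k) : e2 (A : Matrix (Fin 3) (Fin 3) k) =
    (A : Matrix (Fin 3) (Fin 3) k).det * ((A⁻¹ : GL (Fin 3) k) : Matrix (Fin 3) (Fin 3) k).trace := by
  have h : (A : Matrix (Fin 3) (Fin 3) k).det • ((A⁻¹ : GL (Fin 3) k) : Matrix (Fin 3) (Fin 3) k) =
      adjugate (A : Matrix (Fin 3) (Fin 3) k) := by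
    rw [← mul_one (adjugate _), ← A.mul_inv, ← mul_assoc, adjugate_mul, smul_mul_assoc, one_mul]
  rw [← smul_eq_mul, ← trace_smul, h, adjugate_fin_three]
  simp [trace_fin_three, e2]; ring

open Polynomial in
theorem exists_three_roots [IsAlgClosed k] (t s d : k) :
    ∃ a b c : k, a + b + c = t ∧ a * b + a * c + b * c = s ∧ a * b * c = d := by
  obtain ⟨a, ha⟩ := IsAlgClosed.exists_root (X ^ 3 - C t * X ^ 2 + C s * X - C d : k[X]) (by
    rw [show (X ^ 3 - C t * X ^ 2 + C s * X - C d : k[X]).degree = 3 by compute_degree!]; simp)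
  obtain ⟨b, hb⟩ := IsAlgClosed.exists_root
    (X ^ 2 - C (t - a) * X + C (s - a * (t - a)) : k[X]) (by
    rw [show (X ^ 2 - C (t - a) * X + C (s - a * (t - a)) : k[X]).degree = 2 by compute_degree!]
    simp)
  simp only [IsRoot, eval_sub, eval_add, eval_mul, eval_pow, eval_X, eval_C] at ha hb
  exact ⟨a, b, t - a - b, by ring, by linear_combination -hb, by linear_combination ha - a * hb⟩

theorem pow_mulVec_of_sq {M : Matrix (Fin 3) (Fin 3) k} {a : k} {w : V3 k}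
    (h : (M - a • 1) *ᵥ (M - a • 1) *ᵥ w = 0) (m : ℕ) :
    M ^ (m + 1) *ᵥ w = a ^ (m + 1) • w + (((m + 1 : ℕ) : k) * a ^ m) • (M - a • 1) *ᵥ w := by
  have e : ∀ v, M *ᵥ v = a • v + (M - a • 1) *ᵥ v := fun v => by
    rw [sub_mulVec, smul_mulVec, one_mulVec, add_sub_cancel]
  induction m with
  | zero => simpa using e w
  | succ m ih =>
    rw [pow_succ', ← mulVec_mulVec, ih, mulVec_add, mulVec_smul, mulVec_smul, e (_ *ᵥ w), h]
    nth_rewrite 1 [e w]
    push_cast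
    module

section Dg

variable {A B T : GL (Fin 3) k} {b β : Fin 3 → V3 k} {a a' : Fin 3 → k}

theorem Dg.dot (hb : DualB b β) (h : Dg A b a) (i : Fin 3) (v : V3 k) :
    β i ⬝ᵥ ac A v = a i * β i ⬝ᵥ v := by
  conv_lhs => rw [hb.sum_eq v]
  simp only [ac_add, ac_smul, h _, dotProduct_add, dotProduct_smul, hb i, smul_eq_mul]
  fin_cases i <;> simp [mul_comm]

theorem Dg.eig (hb : DualB b β) (h : Dg A b a) (ha : Function.Injective a) {v : V3 k} (hv : v ≠ 0)
    {l : k} (e : ac A v = l • v) : ∃ i, ∃ s : k, v = s • b i ∧ l = a i := by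
  have key : ∀ i, β i ⬝ᵥ v ≠ 0 → l = a i := fun i hi => by
    have := h.dot hb i v
    rw [e, dotProduct_smul, smul_eq_mul] at this
    exact mul_right_cancel₀ hi this
  obtain ⟨i, hi⟩ : ∃ i, β i ⬝ᵥ v ≠ 0 := by
    by_contra hn
    push Not at hn
    exact hv (hb.ext fun i => by rw [hn, dotProduct_zero])
  refine ⟨i, β i ⬝ᵥ v, hb.ext fun j => ?_, key i hi⟩
  rw [dotProduct_smul, hb j i]
  split_ifs with hij
  · rw [hij, smul_eq_mul, mul_one]
  · rw [smul_zero]
    by_contra hj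
    exact hij (ha ((key j hj).symm.trans (key i hi)))

/-- `X Y = l Y X` -/
def Cm (X Y : GL (Fin 3) k) (l : k) : Prop := ∀ v, ac X (ac Y v) = l • ac Y (ac X v)

theorem exists_cm (h : pm A * pm B = pm B * pm A) : ∃ l : k, l ^ 3 = 1 ∧ Cm A B l := by
  obtain ⟨l, -, hl⟩ := pm_eq_iff.1 (show pm (A * B) = pm (B * A) by simpa only [map_mul] using h)
  refine ⟨l, ?_, fun v => by simpa only [ac_mul] using hl v⟩
  have : ((A * B : GL (Fin 3) k) : Matrix (Fin 3) (Fin 3) k) = l • (B * A : GL (Fin 3) k) :=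
    Asch.eq_of_mulVec fun v => by rw [smul_mulVec]; exact hl v
  have := congrArg det this
  rw [det_smul, Units.val_mul, Units.val_mul, det_mul, det_mul, mul_comm (det _),
    Fintype.card_fin] at this
  exact (mul_eq_right₀ (mul_ne_zero B.det_ne_zero A.det_ne_zero)).1 this.symm

theorem Cm.inv_mul {l : k} (h : Cm A T l) (h' : Cm B T l) : Cm (A⁻¹ * B) T 1 := fun v => by
  rw [ac_mul, ac_mul, h', one_smul]
  exact ac_inv_eq (by rw [h, ac_ac_inv])

theorem Cm.perm (hb : DualB b β) (h : Dg A b a) (ha : Function.Injective a) {l : k} (hl : l ≠ 0)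
    (hc : Cm B A l) (i : Fin 3) : ∃ j, ∃ s : k, ac B (b i) = s • b j ∧ a i = l * a j := by
  have := hc (b i)
  rw [h, ac_smul] at this
  obtain ⟨j, s, e1, e2⟩ := h.eig hb ha (ac_ne_zero B (hb.ne_zero i)) (l := l⁻¹ * a i) (by
    rw [← smul_smul, this, smul_smul, inv_mul_cancel₀ hl, one_smul])
  exact ⟨j, s, e1, by rw [← e2, mul_inv_cancel_left₀ hl]⟩

theorem Cm.dg (hb : DualB b β) (h : Dg A b a) (ha : Function.Injective a) (hc : Cm B A 1) :
    ∃ c, Dg B b c := by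
  choose j s e1 e2 using hc.perm hb h ha one_ne_zero
  exact ⟨s, fun i => by rw [e1, ← ha ((e2 i).trans (one_mul _))]⟩

end Dg

namespace OnlyR

variable (hR : OnlyR ρ) {g t : G} {A B T : GL (Fin 3) k} {b β : Fin 3 → V3 k} {a a' : Fin 3 → k}
include hR

theorem inj (hA : ρ g = pm A) (hg : g * g ≠ 1) (hb : DualB b β) (h : Dg A b a) :
    Function.Injective a := fun i j e => by
  by_contra hij
  exact hg (hR.sq_of_eig2 hA (hb.cr_ne hij) (h i) (e ▸ h j))

theorem exists_eig [IsAlgClosed k] (hA : ρ g = pm A) (hg : g * g ≠ 1) {n : ℕ} (hn : (n : k) ≠ 0)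
    (hgn : g ^ n = 1) : ∃ b β a, DualB b β ∧ Dg A b a := by
  obtain ⟨κ, -, hκ⟩ := pm_eq_one_iff.1 (show pm (A ^ n) = 1 by
    rw [map_pow, ← hA, ← map_pow, hgn, map_one])
  obtain ⟨m, rfl⟩ : ∃ m, n = m + 1 := Nat.exists_eq_succ_of_ne_zero (by rintro rfl; simp at hn)
  set M : Matrix (Fin 3) (Fin 3) k := ↑A with hM
  have ne : ∀ a b c : k, a + b + c = M.trace → a * b + a * c + b * c = e2 M → a * b * c = M.det →
      a ≠ b := by
    rintro a _ c h1 h2 h3 rfl
    have h4 := h3 ▸ A.det_ne_zero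
    have ha : a ≠ 0 := left_ne_zero_of_mul (left_ne_zero_of_mul h4)
    have e : (M - a • 1) * ((M - a • 1) * (M - c • 1)) = 0 := by
      simp only [sub_mul, mul_sub, smul_mul_assoc, mul_smul_comm, one_mul, mul_one, ← mul_assoc,
        ch3 M, ← h1, ← h2, ← h3]
      module
    have e' : (M - a • 1) * (M - c • 1) = 0 := Asch.eq_of_mulVec fun v => by
      rw [zero_mulVec, ← mulVec_mulVec]
      have h5 : (M - a • 1) *ᵥ (M - a • 1) *ᵥ (M - c • 1) *ᵥ v = 0 := by
        rw [mulVec_mulVec, mulVec_mulVec, mul_assoc, e, zero_mulVec]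
      generalize (M - c • 1) *ᵥ v = w at h5 ⊢
      have h6 := pow_mulVec_of_sq h5 m
      rw [hM, ← Units.val_pow_eq_pow_val, show _ *ᵥ w = _ from hκ w, ← hM] at h6
      have h7 := congrArg ((M - a • 1) *ᵥ ·) h6
      simp only [mulVec_add, mulVec_smul, h5, smul_zero, add_zero] at h7
      by_contra h8
      rw [smul_left_injective k h8 h7, left_eq_add, smul_eq_zero] at h6
      exact h6.elim (mul_ne_zero hn (pow_ne_zero _ ha)) h8
    rcases rk1_or e' with h5 | h5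
    · obtain ⟨x, φ, h6⟩ := isR_of_rk1 (right_ne_zero_of_mul h4) h5
      exact hg (hR.sq_eq_one ⟨_, by rw [pm_sc, hA], h6⟩)
    · obtain ⟨x, φ, h6⟩ := isR_of_rk1 ha h5
      exact hg (hR.sq_eq_one ⟨_, by rw [pm_sc, hA], h6⟩)
  obtain ⟨a, b, c, h1, h2, h3⟩ := exists_three_roots M.trace (e2 M) M.det
  have ab := ne a b c h1 h2 h3
  have ac' := ne a c b (by linear_combination h1) (by linear_combination h2)
    (by linear_combination h3)
  have bc := ne b c a (by linear_combination h1) (by linear_combination h2)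
    (by linear_combination h3)
  have ev : ∀ l, (l - a) * (l - b) * (l - c) = 0 → ∃ v, v ≠ 0 ∧ ac A v = l • v := fun l hl => by
    obtain ⟨v, hv, e⟩ := exists_mulVec_eq_zero_iff.2 (show (M - l • 1).det = 0 by
      rw [det_sub_smul, ← h1, ← h2, ← h3]; linear_combination -hl)
    rw [sub_mulVec, smul_mulVec, one_mulVec, sub_eq_zero] at e
    exact ⟨v, hv, e⟩
  obtain ⟨x, x0, hx⟩ := ev a (by ring)
  obtain ⟨y, y0, hy⟩ := ev b (by ring)
  obtain ⟨z, z0, hz⟩ := ev c (by ring)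
  have hxy : cr x y ≠ 0 := fun e => by
    obtain ⟨s, rfl⟩ := exists_smul_of_cr y0 e
    rw [ac_smul, hy, smul_comm] at hx
    exact ab (smul_left_injective k x0 hx).symm
  have ht : trip x y z ≠ 0 := fun e => by
    obtain ⟨r, s, rfl⟩ := exists_coords2 hxy e
    rw [ac_add, ac_smul, ac_smul, hx, hy] at hz
    have := coords2_eq_zero hxy (r := r * (a - c)) (s := s * (b - c))
      (by linear_combination (norm := module) hz)
    rw [mul_eq_zero_iff_right (sub_ne_zero.2 ac'), mul_eq_zero_iff_right (sub_ne_zero.2 bc)] at this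
    exact z0 (by rw [this.1, this.2]; simp)
  obtain ⟨β, hβ⟩ := exists_dualB ht
  refine ⟨_, β, ![a, b, c], hβ, fun i => ?_⟩
  fin_cases i
  exacts [hx, hy, hz]

theorem comm_pow (hA : ρ g = pm A) (hg : g * g ≠ 1) (hb : DualB b β) (h : Dg A b a)
    (hB : ρ (t * g * t⁻¹) = pm B) (h' : Dg B b a') :
    t ^ 2 * g = g * t ^ 2 ∨ t ^ 3 * g = g * t ^ 3 := by
  have ha' := hR.inj hB (fun e => hg (by
    rwa [show t * g * t⁻¹ * (t * g * t⁻¹) = t * (g * g) * t⁻¹ by group, mul_inv_eq_one,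
      mul_eq_left] at e)) hb h'
  obtain ⟨T, hT⟩ := exists_lift ρ t
  obtain ⟨c, hc, e⟩ := pm_eq_iff.1 (show pm B = pm (T * A * T⁻¹) by
    simp only [← hB, map_mul, map_inv, hA, hT])
  have : ∀ i, ∃ j, ∃ s : k, ac T (b i) = s • b j := fun i => by
    obtain ⟨j, s, e, -⟩ := h'.eig hb ha' (ac_ne_zero T (hb.ne_zero i)) (l := c * a i) (by
      rw [e, ac_mul, ac_mul, ac_inv_ac, h, ac_smul, smul_smul])
    exact ⟨j, s, e⟩
  choose σ s hσ using this
  have hi : Function.Injective σ := fun i j e => by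
    by_contra hij
    have := coords2_eq_zero (hb.cr_ne hij) (r := s j) (s := -s i) (ac_injective T (by
      rw [ac_add, ac_smul, ac_smul, hσ, hσ, e, ac_zero]; module))
    exact ac_ne_zero T (hb.ne_zero j) (by rw [hσ, this.1, zero_smul])
  have key : ∀ n : ℕ, (∃ c, Dg (T ^ n) b c) → t ^ n * g = g * t ^ n := fun n ⟨c, hc⟩ => hR.1 (by
    simp only [map_mul, map_pow, hA, hT]
    rw [← map_pow, ← map_mul, ← map_mul, hc.comm hb h])
  have : ∀ σ : Fin 3 → Fin 3, Function.Injective σ → (∀ i, σ (σ i) = i) ∨ ∀ i, σ (σ (σ i)) = i := by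
    decide +kernel
  refine (this σ hi).imp (fun e => key 2 ⟨fun i => s i * s (σ i), fun i => ?_⟩)
    fun e => key 3 ⟨fun i => s i * s (σ i) * s (σ (σ i)), fun i => ?_⟩
  · rw [pow_two, ac_mul, hσ, ac_smul, hσ, e, smul_smul]
  · rw [pow_succ, pow_two, ac_mul, ac_mul, hσ, ac_smul, hσ, ac_smul, ac_smul, hσ, e, smul_smul,
      smul_smul]

theorem card_cases [IsAlgClosed k] {K : Type*} [Field K] [Fintype K] (s : ℕ) [CharP K s]
    (hs : (s : k) ≠ 0) (hodd : Odd (Fintype.card K)) (h3 : 3 < Fintype.card K) (u : K → G)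
    (hu : ∀ a b, u (a + b) = u a * u b) (hu1 : ∀ a, u a = 1 → a = 0)
    (hd : ∀ μ : Kˣ, ∃ t, ∀ b, t * u b * t⁻¹ = u (μ ^ 2 * b)) :
    Fintype.card K = 5 ∨ Fintype.card K = 7 ∨ Fintype.card K = 9 := by
  classical
  have h2 : (2 : K) ≠ 0 := two_ne_zero_of_odd (Nat.card_eq_fintype_card (α := K) ▸ hodd)
  have u0 : u 0 = 1 := by simpa using hu 0 0
  have up : ∀ (n : ℕ) a, u a ^ n = u (n * a) := fun n a => by
    induction n with
    | zero => simp [u0]
    | succ n ih => rw [pow_succ, ih, ← hu]; congr 1; push_cast; ring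
  have u2 : ∀ a, u a * u a = 1 → a = 0 := fun a e =>
    mul_left_cancel₀ h2 (by rw [← hu] at e; linear_combination hu1 _ e)
  have ui : ∀ a b, u a = u b → a = b := fun a b e => sub_eq_zero.1 (hu1 _ (by
    have := hu (a - b) b
    rwa [sub_add_cancel, e, right_eq_mul] at this))
  choose L hL using fun a => exists_lift ρ (u a)
  have g2 : u 1 * u 1 ≠ 1 := fun e => one_ne_zero (u2 1 e)
  obtain ⟨b, β, a, hb, h⟩ := hR.exists_eig (hL 1) g2 hs (by
    rw [up, CharP.cast_eq_zero, zero_mul, u0])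
  have ha := hR.inj (hL 1) g2 hb h
  have cm : ∀ x y, ∃ l : k, l ^ 3 = 1 ∧ Cm (L x) (L y) l := fun x y => exists_cm (by
    rw [← hL, ← hL, ← map_mul, ← map_mul, ← hu, ← hu, add_comm])
  suffices Fintype.card K - 1 ∣ 4 ∨ Fintype.card K - 1 ∣ 6 ∨ Fintype.card K ≤ 9 by
    obtain ⟨m, hm⟩ := hodd
    rcases this with h | h | h
    · have := Nat.le_of_dvd (by norm_num) h; omega
    · have := Nat.le_of_dvd (by norm_num) h; omega
    · omega
  by_cases hI : ∀ x, Cm (L x) (L 1) 1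
  · obtain ⟨μ, hμ⟩ := IsCyclic.exists_ofOrder_eq_natCard (α := Kˣ)
    rw [Nat.card_units, Nat.card_eq_fintype_card] at hμ
    obtain ⟨t, ht⟩ := hd μ
    obtain ⟨c, hc⟩ := (hI (μ ^ 2 * 1)).dg hb h ha
    have it : ∀ n : ℕ, t ^ n * u 1 * (t ^ n)⁻¹ = u (μ ^ (2 * n)) := fun n => by
      induction n with
      | zero => simp
      | succ n ih =>
        rw [pow_succ', show t * t ^ n * u 1 * (t * t ^ n)⁻¹ = t * (t ^ n * u 1 * (t ^ n)⁻¹) * t⁻¹ by
          group, ih, ht]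
        congr 1; ring
    have key : ∀ n : ℕ, t ^ n * u 1 = u 1 * t ^ n → Fintype.card K - 1 ∣ 2 * n := fun n e => by
      have := it n
      rw [e, mul_inv_cancel_right] at this
      rw [← hμ, orderOf_dvd_iff_pow_eq_one]
      exact Units.ext (ui _ _ this).symm
    rcases hR.comm_pow (hL 1) g2 hb h (by rw [ht, hL]) hc with e | e
    · exact Or.inl (key 2 e)
    · exact Or.inr (Or.inl (key 3 e))
  push Not at hI
  obtain ⟨x0, hx0⟩ := hI
  obtain ⟨l, l3, hl⟩ := cm x0 1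
  have l1 : l ≠ 1 := fun e => hx0 (e ▸ hl)
  have l0 : l ≠ 0 := fun e => by simp [e] at l3
  have rt : ∀ m : k, m ^ 3 = 1 → ∃ i : Fin 3, m = l ^ (i : ℕ) := fun m hm => by
    have e : l ^ 2 + l + 1 = 0 := mul_left_cancel₀ (sub_ne_zero.2 l1) (by linear_combination l3)
    have : (m - 1) * (m - l) * (m - l ^ 2) = 0 := by
      linear_combination hm - l3 + (m * l - m ^ 2) * e
    rcases mul_eq_zero.1 this with e | e
    · rcases mul_eq_zero.1 e with e | e
      · exact ⟨0, by simpa using sub_eq_zero.1 e⟩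
      · exact ⟨1, by simpa using sub_eq_zero.1 e⟩
    · exact ⟨2, sub_eq_zero.1 e⟩
  have cm' : ∀ x y, ∃ i : Fin 3, Cm (L x) (L y) (l ^ (i : ℕ)) := fun x y => by
    obtain ⟨m, m3, hm⟩ := cm x y
    obtain ⟨i, rfl⟩ := rt m m3
    exact ⟨i, hm⟩
  choose f hf using cm'
  refine Or.inr (Or.inr (Fintype.card_le_of_injective (fun x => (f x 1, f x x0)) fun x y e => ?_))
  obtain ⟨e1, e2⟩ := Prod.ext_iff.1 e
  simp only at e1 e2
  obtain ⟨c, hc⟩ := ((hf x 1).inv_mul (e1 ▸ hf y 1)).dg hb h ha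
  have h4 := (hf x x0).inv_mul (e2 ▸ hf y x0) (b 0)
  obtain ⟨j, r, h5, h6⟩ := hl.perm hb h ha l0 0
  have r0 : r ≠ 0 := fun e => ac_ne_zero _ (hb.ne_zero 0) (by rw [h5, e, zero_smul])
  rw [hc, ac_smul, h5, ac_smul, hc, one_smul, smul_comm] at h4
  have h7 := smul_left_injective k (smul_ne_zero r0 (hb.ne_zero j)) h4
  have j0 : j ≠ 0 := by
    rintro rfl
    exact l1 ((mul_eq_right₀ (h.ne_zero hb 0)).1 h6.symm)
  have h8 : u (y - x) = (u x)⁻¹ * u y := by rw [eq_inv_mul_iff_mul_eq, ← hu, add_sub_cancel]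
  exact (sub_eq_zero.1 (u2 _ (hR.sq_of_eig2 (A := (L x)⁻¹ * L y)
    (by simp only [h8, map_mul, map_inv, hL]) (hb.cr_ne j0) (hc j) (h7 ▸ hc 0)))).symm

theorem psl_cases [IsAlgClosed k] {K : Type*} [Field K] [Fintype K] (s : ℕ) [CharP K s]
    (hs : (s : k) ≠ 0) (hodd : Odd (Fintype.card K)) (h3 : 3 < Fintype.card K)
    (e : G ≃* PSL(2, K)) : Fintype.card K = 5 ∨ Fintype.card K = 7 ∨ Fintype.card K = 9 := by
  have hi : Function.Injective ((psl2pgl K).comp e.toMonoidHom) :=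
    psl2pgl_injective.comp e.injective
  have hs' : ∀ γ ∈ pslIn K, ∃ g, ((psl2pgl K).comp e.toMonoidHom) g = γ := by
    rintro _ ⟨x, rfl⟩
    exact ⟨e.symm x, by simp⟩
  generalize (psl2pgl K).comp e.toMonoidHom = f at hi hs'
  choose u hu using fun b : K => hs' (aff 1 b) ((aff_mem_pslIn_iff 1 b).2 (by simp))
  refine hR.card_cases s hs hodd h3 u (fun a b => hi ?_) (fun a h => ?_) fun μ => ?_
  · rw [map_mul, hu, hu, hu, aff_one_mul]
  · rw [← aff_one_eq_one_iff, ← hu, h, map_one]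
  · obtain ⟨t, ht⟩ := hs' (aff (μ ^ 2) 0) ((aff_mem_pslIn_iff _ _).2 ⟨μ, by simp [pow_two]⟩)
    exact ⟨t, fun b => hi (by simp [hu, ht, aff_conj])⟩

end OnlyR

end CL.MH
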