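/-
Traces in degree three; representations with equal traces; trace fields and invariant forms.
-/
import Cfsg.Agent.CLAS.MHEig

set_option autoImplicit false

namespace CL.MH

open Matrix Cfsg.Geo CL.Asch
open scoped MatrixGroups

section General

variable {F : Type*} [Field F] {ι : Type} [Fintype ι] [DecidableEq ι]

theorem eq_zero_of_trace_mul {x : Matrix ι ι F} (h : ∀ y, (x * y).trace = 0) : x = 0 := by
  ext i j
  have := h (single j i 1)
  rwa [trace_mul_single, MulOpposite.op_one, one_smul] at this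

/-- an absolutely irreducible representation is determined by its traces -/
theorem exists_conj_of_trace [Nonempty ι] {P : Subgroup (GL ι F)} (hP : alg P = ⊤)
    (f : P →* Matrix ι ι F) (hf : ∀ g : P, (f g).trace = ((g : GL ι F) : Matrix ι ι F).trace) :
    ∃ X : GL ι F, ∀ g : P, f g = conjAlgHom X (g : GL ι F) := by
  let S : Submonoid (Matrix ι ι F × Matrix ι ι F) :=
    MonoidHom.mrange (((Units.coeHom _).comp P.subtype).prod f)
  let W : Subalgebra F (Matrix ι ι F × Matrix ι ι F) := Algebra.adjoin F S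
  have hW : ∀ g : P, (((g : GL ι F) : Matrix ι ι F), f g) ∈ W := fun g =>
    Algebra.subset_adjoin ⟨g, rfl⟩
  have tr : ∀ w ∈ W, w.1.trace = w.2.trace := fun w hw => by
    have : w ∈ Submodule.span F (S : Set (Matrix ι ι F × Matrix ι ι F)) := by
      have := Algebra.adjoin_eq_span F (S : Set (Matrix ι ι F × Matrix ι ι F))
      rw [Submonoid.closure_eq] at this
      exact this ▸ hw
    induction this using Submodule.span_induction with
    | mem x hx => obtain ⟨g, rfl⟩ := hx; exact (hf g).symm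
    | zero => rfl
    | add x y hx hy h1 h2 =>
      have e := Algebra.adjoin_eq_span F (S : Set (Matrix ι ι F × Matrix ι ι F))
      rw [Submonoid.closure_eq] at e
      rw [Prod.fst_add, Prod.snd_add, trace_add, trace_add, h1 (e.ge hx), h2 (e.ge hy)]
    | smul a x hx h1 =>
      have e := Algebra.adjoin_eq_span F (S : Set (Matrix ι ι F × Matrix ι ι F))
      rw [Submonoid.closure_eq] at e
      rw [Prod.smul_fst, Prod.smul_snd, trace_smul, trace_smul, h1 (e.ge hx)]
  let p1 : W →ₐ[F] Matrix ι ι F := (AlgHom.fst F _ _).comp W.val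
  let p2 : W →ₐ[F] Matrix ι ι F := (AlgHom.snd F _ _).comp W.val
  have s1 : Function.Surjective p1 := fun x =>
    (alg_le (A := p1.range) (fun g hg => ⟨⟨_, hW ⟨g, hg⟩⟩, rfl⟩)) (hP ▸ Algebra.mem_top)
  have i2 : Function.Injective p2 := (injective_iff_map_eq_zero _).2 fun w hw => by
    refine Subtype.ext (Prod.ext (eq_zero_of_trace_mul fun y => ?_) hw)
    obtain ⟨v, rfl⟩ := s1 y
    have := tr _ (w * v).2
    change (p1 (w * v)).trace = (p2 (w * v)).trace at this
    rwa [map_mul, map_mul, hw, zero_mul, trace_zero] at this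
  have d : Module.finrank F W = Module.finrank F (Matrix ι ι F) := le_antisymm
    (LinearMap.finrank_le_finrank_of_injective (f := p2.toLinearMap) i2)
    (LinearMap.finrank_le_finrank_of_surjective (f := p1.toLinearMap) s1)
  have i1 : Function.Injective p1 :=
    (LinearMap.injective_iff_surjective_of_finrank_eq_finrank (f := p1.toLinearMap) d).2 s1
  let E := AlgEquiv.ofBijective p1 ⟨i1, s1⟩
  obtain ⟨X, hX⟩ := exists_conj_algHom (p2.comp E.symm.toAlgHom) (AlgHom.id F _)
  refine ⟨X, fun g => ?_⟩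
  have := hX (E ⟨_, hW g⟩)
  change p2 (E.symm (E _)) = _ at this
  rw [E.symm_apply_apply] at this
  exact this

/-- trace symmetry produces an invariant form -/
theorem exists_herm_of_trace [Nonempty ι] {P : Subgroup (GL ι F)} (hP : alg P = ⊤) {σ : F →+* F}
    (hσ : ∀ a, σ (σ a) = a) (h : ∀ g ∈ P, ((g⁻¹ : GL ι F) : Matrix ι ι F).trace =
      σ (g : Matrix ι ι F).trace) :
    ∃ (ε : F) (G : Matrix ι ι F), Herm σ ε G ∧ ∀ g ∈ P, IsSim σ G 1 (g : Matrix ι ι F) := by
  let f : P →* Matrix ι ι F :=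
    { toFun := fun g => ((((g : GL ι F)⁻¹ : GL ι F) : Matrix ι ι F).map σ)ᵀ
      map_one' := by simp
      map_mul' := fun a b => by simp [Matrix.map_mul] }
  obtain ⟨X, hX⟩ := exists_conj_of_trace hP f fun g => by
    change (Matrix.map _ σ)ᵀ.trace = _
    rw [trace_transpose, ← AddMonoidHom.map_trace, h g g.2]
    exact hσ _
  refine exists_herm_of_fixes hσ (G := (X : Matrix ι ι F).map σ) ?_ (scalar_of_alg_top hP)
    fun g hg => ?_
  · rw [← RingHom.mapMatrix_apply, ← RingHom.map_det]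
    exact (map_ne_zero σ).2 X.det_ne_zero
  · have := congrArg (fun m : Matrix ι ι F => ((g : Matrix ι ι F)ᵀ * (m * (X : Matrix ι ι F)).map σ))
      (hX ⟨g, hg⟩)
    simp only [f, MonoidHom.coe_mk, OneHom.coe_mk, conjAlgHom_apply, Units.inv_mul_cancel_right,
      Matrix.map_mul, ← transpose_map, map_map_invol hσ] at this
    rw [IsSim, one_smul, mul_assoc, ← this, ← mul_assoc,
      ← transpose_mul, Units.inv_mul, transpose_one, one_mul]

theorem trace_mem_of_rclos {P : Subgroup (GL ι F)} {F₀ : Subfield F}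
    (h : ∀ g ∈ P, (g : Matrix ι ι F).trace ∈ F₀) : ∀ x ∈ rclos P, x.trace ∈ F₀ :=
  rclos_le_addSubgroup (W := F₀.toAddSubgroup.comap (traceAddMonoidHom ι F)) h

theorem trace_conjAlgHom (X : GL ι F) (x : Matrix ι ι F) : (conjAlgHom X x).trace = x.trace := by
  rw [conjAlgHom_apply, trace_mul_cycle, Units.inv_mul, one_mul]

theorem scalF_le_of_trace [Finite F] [Nonempty ι] {P : Subgroup (GL ι F)} (hP : alg P = ⊤)
    {F₀ : Subfield F} (h : ∀ g ∈ P, (g : Matrix ι ι F).trace ∈ F₀) : scalF (rclos P) ≤ F₀ := by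
  obtain ⟨X, hX⟩ := exists_subfield_coord (rclos P) (span_rclos hP)
  intro c hc
  obtain ⟨i⟩ := ‹Nonempty ι›
  have := trace_mem_of_rclos h _ ((hX (conjAlgHom X (single i i c))).2 fun a b => by
    rw [conjAlgHom_inv_cancel, single_apply]
    split_ifs
    exacts [hc, zero_mem _])
  rwa [trace_conjAlgHom, trace_single_eq_same] at this

end General

variable {F : Type*} [Field F] {G : Type*} [Group G]

theorem NoSub.eq_top_of_trace [Finite F] {P : Subgroup (GL (Fin 3) F)} (hN : NoSub P)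
    (hP : alg P = ⊤) {F₀ : Subfield F}
    (h : ∀ g ∈ P, (g : Matrix (Fin 3) (Fin 3) F).trace ∈ F₀) : F₀ = ⊤ := by
  obtain ⟨X, hX⟩ := exists_subfield_coord (rclos P) (span_rclos hP)
  by_contra hn
  refine hN F₀ hn ⟨X⁻¹, ?_⟩
  rintro _ ⟨g, hg, rfl⟩ i j
  exact scalF_le_of_trace hP h ((hX _).1 (mem_rclos hg) i j)

theorem noSub_of_trace {P : Subgroup (GL (Fin 3) F)}
    (h : ∀ F₀ : Subfield F, (∀ g ∈ P, (g : Matrix (Fin 3) (Fin 3) F).trace ∈ F₀) → F₀ = ⊤) :
    NoSub P := fun F₀ hn ⟨B, hB⟩ => hn (h F₀ fun g hg => by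
  rw [← trace_conjAlgHom B]
  exact sum_mem fun i _ => hB _ ⟨g, hg, rfl⟩ i i)

/-- the trace of an invertible matrix -/
abbrev tr (A : GL (Fin 3) F) : F := (A : Matrix (Fin 3) (Fin 3) F).trace

theorem tr_one : tr (1 : GL (Fin 3) F) = 3 := by simp [tr]

theorem tr_conj {A B : GL (Fin 3) F} (h : IsConj A B) : tr A = tr B := by
  obtain ⟨X, rfl⟩ := isConj_iff.1 h
  rw [tr, tr, ← conjAlgHom_coe, trace_conjAlgHom]

theorem trace_pow_add_three (M : Matrix (Fin 3) (Fin 3) F) (n : ℕ) : (M ^ (n + 3)).trace =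
    M.trace * (M ^ (n + 2)).trace - e2 M * (M ^ (n + 1)).trace + M.det * (M ^ n).trace := by
  rw [pow_add, show M ^ 3 = M * M * M by rw [pow_succ, pow_two], ch3]
  simp only [mul_add, mul_sub, mul_smul_comm, trace_add, trace_sub, trace_smul, smul_eq_mul,
    mul_one, pow_add, pow_two, pow_one]

theorem trace_pow_char (p : ℕ) [Fact p.Prime] [CharP F p] (M : Matrix (Fin 3) (Fin 3) F) :
    (M ^ p).trace = M.trace ^ p := by
  let f := algebraMap F (AlgebraicClosure F)
  obtain ⟨a, b, c, h1, h2, h3⟩ := exists_three_roots (f M.trace) (f (e2 M)) (f M.det)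
  have key : ∀ n, f (M ^ n).trace = a ^ n + b ^ n + c ^ n := fun n => by
    induction n using Nat.strong_induction_on with
    | _ n ih =>
    match n with
    | 0 => simp [map_ofNat]; norm_num
    | 1 => simp [h1]
    | 2 => rw [pow_two, trace_mul_self]; simp [map_ofNat, ← h1, ← h2]; ring
    | n + 3 =>
      rw [trace_pow_add_three]
      simp only [map_add, map_sub, map_mul, ih n (by omega), ih (n + 1) (by omega),
        ih (n + 2) (by omega), ← h1, ← h2, ← h3]
      ring
  refine f.injective ?_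
  rw [key, map_pow, ← h1, add_pow_char, add_pow_char]

theorem tr_pow_char_pow (p : ℕ) [Fact p.Prime] [CharP F p] (A : GL (Fin 3) F) (n : ℕ) :
    tr (A ^ p ^ n) = tr A ^ p ^ n := by
  induction n with
  | zero => simp
  | succ n ih => rw [pow_succ, pow_mul, pow_mul, ← ih, tr, Units.val_pow_eq_pow_val,
      trace_pow_char]

section Values

variable {A : GL (Fin 3) F} (hd : (A : Matrix (Fin 3) (Fin 3) F).det = 1)
include hd

theorem tr_sq : tr (A ^ 2) = tr A ^ 2 - 2 * tr A⁻¹ := by
  rw [tr, Units.val_pow_eq_pow_val, pow_two, trace_mul_self, e2_eq, hd, one_mul]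

theorem tr_cube : tr (A ^ 3) = tr A ^ 3 - 3 * tr A * tr A⁻¹ + 3 := by
  have := trace_pow_add_three (A : Matrix (Fin 3) (Fin 3) F) 0
  rw [zero_add, zero_add, pow_one, pow_zero, e2_eq, hd, ← Units.val_pow_eq_pow_val,
    ← Units.val_pow_eq_pow_val] at this
  rw [show tr (A ^ 3) = _ from this, show trace _ = _ from tr_sq hd, trace_one]
  simp only [tr, Fintype.card_fin]; push_cast; ring

theorem det_pow_eq (n : ℕ) : ((A ^ n : GL (Fin 3) F) : Matrix (Fin 3) (Fin 3) F).det = 1 := by
  rw [Units.val_pow_eq_pow_val, det_pow, hd, one_pow]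

theorem det_inv_eq : ((A⁻¹ : GL (Fin 3) F) : Matrix (Fin 3) (Fin 3) F).det = 1 := by
  have := congrArg det A.inv_mul
  rwa [det_mul, hd, mul_one, det_one] at this

theorem cube_eq : (A : Matrix (Fin 3) (Fin 3) F) * A * A =
    tr A • ((A : Matrix (Fin 3) (Fin 3) F) * A) - tr A⁻¹ • (A : Matrix (Fin 3) (Fin 3) F) + 1 := by
  rw [ch3, e2_eq, hd, one_mul, one_smul]

theorem eq_one_of_tr {n : ℕ} (hn : (n : F) ≠ 0) (h : A ^ n = 1) (h1 : tr A = 3)
    (h2 : tr A⁻¹ = 3) : A = 1 := by
  obtain ⟨m, rfl⟩ : ∃ m, n = m + 1 := Nat.exists_eq_succ_of_ne_zero (by rintro rfl; simp at hn)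
  set M : Matrix (Fin 3) (Fin 3) F := ↑A with hM
  have e : (M - (1 : F) • 1) * ((M - (1 : F) • 1) * (M - (1 : F) • 1)) = 0 := by
    simp only [sub_mul, mul_sub, one_smul, one_mul, mul_one, ← mul_assoc, hM, cube_eq hd, h1, h2]
    module
  have key : ∀ w, (M - (1 : F) • 1) *ᵥ (M - (1 : F) • 1) *ᵥ w = 0 → (M - (1 : F) • 1) *ᵥ w = 0 :=
    fun w hw => by
      have := pow_mulVec_of_sq hw m
      rw [hM, ← Units.val_pow_eq_pow_val, h, Units.val_one, one_mulVec, one_pow, one_smul,
        left_eq_add, one_pow, mul_one, smul_eq_zero] at this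
      exact this.resolve_left hn
  refine ext_ac fun v => ?_
  have := key v (key _ (by rw [mulVec_mulVec, mulVec_mulVec, mul_assoc, e, zero_mulVec]))
  rw [sub_mulVec, one_smul, one_mulVec, sub_eq_zero] at this
  rw [ac_one]; exact this

theorem tr_two (h : A ^ 2 = 1) : tr A = 3 ∨ tr A = -1 := by
  have := tr_sq hd
  rw [h, tr_one, inv_eq_of_mul_eq_one_right (pow_two A ▸ h)] at this
  exact (mul_eq_zero.1 (show (tr A - 3) * (tr A + 1) = 0 by linear_combination -this)).imp
    sub_eq_zero.1 eq_neg_of_add_eq_zero_left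

variable (hr : IsConj A A⁻¹)
include hr

theorem tr_three (h : A ^ 3 = 1) : tr A = 3 ∨ tr A = 0 := by
  have := tr_sq hd
  rw [eq_inv_of_mul_eq_one_left (show A ^ 2 * A = 1 by rw [← pow_succ]; exact h), ← tr_conj hr] at this
  exact (mul_eq_zero.1 (show (tr A - 3) * tr A = 0 by linear_combination -this)).imp_left
    sub_eq_zero.1

theorem tr_four (h : A ^ 4 = 1) : ∃ n : ℤ, tr A = n := by
  have := tr_two (det_pow_eq hd 2) (by rw [← pow_mul, h])
  rw [tr_sq hd, ← tr_conj hr] at this
  rcases this with e | e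
  · rcases mul_eq_zero.1 (show (tr A - 3) * (tr A + 1) = 0 by linear_combination e) with e | e
    · exact ⟨3, by push_cast; linear_combination e⟩
    · exact ⟨-1, by push_cast; linear_combination e⟩
  · exact ⟨1, by
      push_cast
      exact sub_eq_zero.1 (pow_eq_zero_iff two_ne_zero |>.1 (by linear_combination e))⟩

theorem tr_six (h : A ^ 6 = 1) : ∃ n : ℤ, tr A = n := by
  have := tr_three (det_pow_eq hd 2) (by rw [← inv_pow]; exact hr.pow 2) (by rw [← pow_mul, h])
  rw [tr_sq hd, ← tr_conj hr] at this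
  rcases this with e | e
  · rcases mul_eq_zero.1 (show (tr A - 3) * (tr A + 1) = 0 by linear_combination e) with e | e
    · exact ⟨3, by push_cast; linear_combination e⟩
    · exact ⟨-1, by push_cast; linear_combination e⟩
  · rcases mul_eq_zero.1 (show tr A * (tr A - 2) = 0 by linear_combination e) with e | e
    · exact ⟨0, by push_cast; linear_combination e⟩
    · exact ⟨2, by push_cast; linear_combination e⟩

theorem tr_five (h : A ^ 5 = 1) (h1 : A ≠ 1) : tr A ^ 2 = tr A + 1 := by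
  have e := tr_conj (hr.pow 2)
  rw [inv_pow, ← eq_inv_of_mul_eq_one_left (pow_add A 3 2 ▸ h), tr_sq hd, tr_cube hd,
    ← tr_conj hr] at e
  rcases mul_eq_zero.1 (show (tr A - 3) * (tr A ^ 2 - tr A - 1) = 0 by
    linear_combination -e) with e | e
  · by_cases h5 : ((5 : ℕ) : F) = 0
    · push_cast at h5
      linear_combination (tr A + 2) * e + h5
    · exact absurd (eq_one_of_tr hd h5 h (sub_eq_zero.1 e) (tr_conj hr ▸ sub_eq_zero.1 e)) h1
  · linear_combination e

omit hr in
theorem tr_seven (hr : IsConj A (A ^ 2)) (h : A ^ 7 = 1) (h1 : A ≠ 1) :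
    tr A ^ 2 + tr A + 2 = 0 ∧ tr A⁻¹ = -1 - tr A := by
  have e1 := tr_conj hr
  have e2 := tr_conj (isConj_iff.2 (let ⟨c, hc⟩ := isConj_iff.1 hr; ⟨c, by
    rw [← conj_inv, hc, inv_pow]⟩) : IsConj A⁻¹ (A⁻¹ ^ 2))
  rw [tr_sq hd] at e1
  rw [tr_sq (det_inv_eq hd), inv_inv] at e2
  rcases mul_eq_zero.1 (show (tr A - tr A⁻¹) * (tr A + tr A⁻¹ + 1) = 0 by
    linear_combination e2 - e1) with e | e
  swap
  · exact ⟨by linear_combination 2 * e - e1, by linear_combination e⟩
  have e3 : tr A⁻¹ = tr A := by linear_combination -e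
  rcases mul_eq_zero.1 (show tr A * (tr A - 3) = 0 by linear_combination 2 * e3 - e1) with e | e
  · refine absurd ?_ h1
    have : A ^ 3 = 1 := Units.ext (by
      rw [pow_succ, pow_two, Units.val_mul, Units.val_mul, cube_eq hd, e3, e]; simp)
    simpa using pow_gcd_eq_one.2 ⟨this, h⟩
  · by_cases h7 : ((7 : ℕ) : F) = 0
    · push_cast at h7
      exact ⟨by linear_combination (tr A + 4) * e + 2 * h7, by linear_combination e3 + 2 * e + h7⟩
    · exact absurd (eq_one_of_tr hd h7 h (sub_eq_zero.1 e) (e3 ▸ sub_eq_zero.1 e)) h1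

end Values

end CL.MH
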