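import Mathlib
import Cfsg.Agent.INV.SylowAux
import Cfsg.Agent.FGS.SylowTI
import Cfsg.Agent.PLOC.Critical
import Cfsg.Agent.INV.ThompsonTransfer
import Cfsg.Agent.INV.ZStarCor

/-!
# Groups acting on a five-dimensional orthogonal space: roots and planes

A root is a vector `v` of norm `2` such that minus the reflection in `v` is induced by the group.
-/

set_option linter.unusedSectionVars false

namespace CL.Sp4O

open Module

variable {F W G : Type*} [Field F] [AddCommGroup W] [Module F W] [Group G] [DistribMulAction G W]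
  [SMulCommClass G F W] {B : W →ₗ[F] W →ₗ[F] F}

/-- an orthogonal basis of nonsingular vectors -/
def Ob (B : W →ₗ[F] W →ₗ[F] F) (e : Fin 5 → W) : Prop :=
  (∀ i, B (e i) (e i) ≠ 0) ∧ ∀ i j, i ≠ j → B (e i) (e j) = 0

/-- the standing hypotheses -/
structure Ctx (G : Type*) [Group G] [DistribMulAction G W] (B : W →ₗ[F] W →ₗ[F] F) : Prop where
  two : (2 : F) ≠ 0
  symm : ∀ u v, B u v = B v u
  nd : ∀ u, (∀ v, B u v = 0) → u = 0
  dim : finrank F W = 5
  inv : ∀ (g : G) u v, B (g • u) (g • v) = B u v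
  faith : ∀ g : G, (∀ w : W, g • w = w) → g = 1
  par : ∀ (g : G) (e : Fin 5 → W) (ε : Fin 5 → F), Ob B e → (∀ i, g • e i = ε i • e i) →
    ∏ i, ε i = 1
  norm : ∀ (g : G) v, B v v ≠ 0 → g • v = v → (∀ w, B v w = 0 → g • w = -w) →
    ∃ k : F, k ^ 2 * B v v = 2

/-- `g` is minus the reflection in the vector `v` of norm `2` -/
def T (B : W →ₗ[F] W →ₗ[F] F) (g : G) (v : W) : Prop :=
  B v v = 2 ∧ ∀ w, g • w = B v w • v - w

/-- roots -/
def R (G : Type*) [Group G] [DistribMulAction G W] (B : W →ₗ[F] W →ₗ[F] F) (v : W) : Prop :=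
  ∃ g : G, T B g v

/-- `g` is `-1` on the plane spanned by `a, b` and `1` on its orthogonal complement -/
structure Pl (B : W →ₗ[F] W →ₗ[F] F) (g : G) (a b : W) : Prop where
  na : B a a ≠ 0
  nb : B b b ≠ 0
  ab : B a b = 0
  ga : g • a = -a
  gb : g • b = -b
  fix : ∀ w, B a w = 0 → B b w = 0 → g • w = w

/-- five explicit orthogonal vectors -/
structure O5 (B : W →ₗ[F] W →ₗ[F] F) (a b c d e : W) : Prop where
  na : B a a ≠ 0
  nb : B b b ≠ 0
  nc : B c c ≠ 0
  nd : B d d ≠ 0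
  ne : B e e ≠ 0
  ab : B a b = 0
  ac : B a c = 0
  ad : B a d = 0
  ae : B a e = 0
  bc : B b c = 0
  bd : B b d = 0
  be : B b e = 0
  cd : B c d = 0
  ce : B c e = 0
  de : B d e = 0
  ba : B b a = 0
  ca : B c a = 0
  da : B d a = 0
  ea : B e a = 0
  cb : B c b = 0
  db : B d b = 0
  eb : B e b = 0
  dc : B d c = 0
  ec : B e c = 0
  ed : B e d = 0

theorem O5.ob {a b c d e : W} (h : O5 B a b c d e) : Ob B ![a, b, c, d, e] := by
  cases h
  refine ⟨fun i => ?_, fun i j hij => ?_⟩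
  · fin_cases i <;> simpa
  · fin_cases i <;> fin_cases j <;> first | exact absurd rfl hij | simpa

theorem Ob.o5 {e : Fin 5 → W} (h : Ob B e) {i j k l m : Fin 5} (h1 : i ≠ j) (h2 : i ≠ k)
    (h3 : i ≠ l) (h4 : i ≠ m) (h5 : j ≠ k) (h6 : j ≠ l) (h7 : j ≠ m) (h8 : k ≠ l) (h9 : k ≠ m)
    (h10 : l ≠ m) : O5 B (e i) (e j) (e k) (e l) (e m) := by
  constructor <;> first | exact h.1 _ | exact h.2 _ _ ‹_› | exact h.2 _ _ (Ne.symm ‹_›)

theorem smul_sm (g : G) (k : F) (w : W) : g • k • w = k • g • w := smul_comm g k w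

theorem eq_zero_of_neg (h2 : (2 : F) ≠ 0) {w : W} (h : w = -w) : w = 0 := by
  have : (2 : F) • w = 0 := by rw [two_smul]; exact add_eq_zero_iff_eq_neg.2 h
  exact (smul_eq_zero.1 this).resolve_left h2

namespace Ctx

variable (c : Ctx G B)
include c

omit [SMulCommClass G F W] in
theorem fd : FiniteDimensional F W := .of_finrank_pos (by rw [c.dim]; norm_num)

omit [SMulCommClass G F W] in
theorem mk5 {a b d e f : W} (na : B a a ≠ 0) (nb : B b b ≠ 0) (nd : B d d ≠ 0) (ne : B e e ≠ 0)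
    (nf : B f f ≠ 0) (h1 : B a b = 0) (h2 : B a d = 0) (h3 : B a e = 0) (h4 : B a f = 0)
    (h5 : B b d = 0) (h6 : B b e = 0) (h7 : B b f = 0) (h8 : B d e = 0) (h9 : B d f = 0)
    (h10 : B e f = 0) : O5 B a b d e f := by
  constructor <;> first | assumption | (rw [c.symm]; assumption)

omit [SMulCommClass G F W] in
theorem z5 {e : Fin 5 → W} (h : Ob B e) {w : W} (hw : ∀ i, B (e i) w = 0) : w = 0 := by
  have := c.fd
  have hl : LinearIndependent F e :=
    LinearMap.linearIndependent_of_isOrthoᵢ (B := B) (fun i j hij => h.2 i j hij) h.1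
  have hs := hl.span_eq_top_of_card_eq_finrank' (by simp [c.dim])
  refine c.nd w fun v => ?_
  have hv : v ∈ Submodule.span F (Set.range e) := hs ▸ Submodule.mem_top
  induction hv using Submodule.span_induction with
  | mem x hx => obtain ⟨i, rfl⟩ := hx; rw [c.symm, hw]
  | zero => simp
  | add x y _ _ hx hy => simp [hx, hy]
  | smul k x _ hx => simp [hx]

omit [SMulCommClass G F W] in
theorem exp {e : Fin 5 → W} (h : Ob B e) (w : W) :
    w = ∑ i, (B (e i) w / B (e i) (e i)) • e i := by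
  refine sub_eq_zero.1 (c.z5 h fun i => ?_)
  rw [map_sub, map_sum, Finset.sum_eq_single i (fun j _ hj => by simp [h.2 i j hj.symm]) (by simp)]
  simp [h.1 i]

omit [SMulCommClass G F W] in
theorem ex4 (e : Fin 4 → W) (h0 : ∀ i, e i = 0 ∨ B (e i) (e i) ≠ 0)
    (h : ∀ i j, i ≠ j → B (e i) (e j) = 0) : ∃ w, B w w ≠ 0 ∧ ∀ i, B (e i) w = 0 := by
  have := c.fd
  let φ : W →ₗ[F] (Fin 4 → F) := LinearMap.pi fun i => B (e i)
  have h1 := φ.finrank_range_add_finrank_ker
  have h2 : finrank F (LinearMap.range φ) ≤ 4 := (Submodule.finrank_le _).trans (by simp)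
  have h3 : LinearMap.ker φ ≠ ⊥ := fun h3 => by rw [h3, finrank_bot, c.dim] at h1; omega
  obtain ⟨x, hx, hx0⟩ := (Submodule.ne_bot_iff _).1 h3
  have hm : ∀ y, y ∈ LinearMap.ker φ ↔ ∀ i, B (e i) y = 0 := fun y => by
    simp [φ, funext_iff]
  by_contra! H
  have H' : ∀ w, (∀ i, B (e i) w = 0) → B w w = 0 := fun w hw => by
    by_contra h5; obtain ⟨i, hi⟩ := H w h5; exact hi (hw i)
  refine hx0 (c.nd x fun v => ?_)
  have hx' := (hm x).1 hx
  have hy : ∀ i, B (e i) (v - ∑ j, (B (e j) v / B (e j) (e j)) • e j) = 0 := fun i => by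
    rw [map_sub, map_sum, Finset.sum_eq_single i (fun j _ hj => by simp [h i j hj.symm]) (by simp)]
    rcases h0 i with h5 | h5 <;> simp [h5]
  set y := v - ∑ j, (B (e j) v / B (e j) (e j)) • e j with hy'
  have h6 := H' (x + y) fun i => by simp [hx' i, hy i]
  have h7 : B x y = 0 := by
    simp only [map_add, LinearMap.add_apply, H' x hx', H' y hy, c.symm y x] at h6
    exact (mul_eq_zero.1 (by linear_combination h6 : 2 * B x y = 0)).resolve_left c.two
  rw [hy', map_sub, map_sum] at h7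
  simpa [c.symm x (e _), hx'] using h7

omit [SMulCommClass G F W] in
theorem ex4' {a b d e : W} (na : a = 0 ∨ B a a ≠ 0) (nb : b = 0 ∨ B b b ≠ 0)
    (nd : d = 0 ∨ B d d ≠ 0) (ne : e = 0 ∨ B e e ≠ 0) (h1 : B a b = 0) (h2 : B a d = 0)
    (h3 : B a e = 0) (h5 : B b d = 0) (h6 : B b e = 0) (h8 : B d e = 0) :
    ∃ w, B w w ≠ 0 ∧ B a w = 0 ∧ B b w = 0 ∧ B d w = 0 ∧ B e w = 0 := by
  obtain ⟨w, hw, h⟩ := c.ex4 ![a, b, d, e] (fun i => by fin_cases i <;> simpa) fun i j hij => by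
    fin_cases i <;> fin_cases j <;> first | exact absurd rfl hij | simpa | (simp; rwa [c.symm])
  exact ⟨w, hw, h 0, h 1, h 2, h 3⟩

omit [SMulCommClass G F W] in
theorem ext2 {a b : W} (na : B a a ≠ 0) (nb : B b b ≠ 0) (h : B a b = 0) :
    ∃ d e f, O5 B a b d e f := by
  obtain ⟨d, nd, h1, h2, -⟩ := c.ex4' (.inr na) (.inr nb) (.inl rfl) (.inl rfl) h (by simp)
    (by simp) (by simp) (by simp) (by simp)
  obtain ⟨e, ne, h3, h4, h5, -⟩ := c.ex4' (.inr na) (.inr nb) (.inr nd) (.inl rfl) h h1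
    (by simp) h2 (by simp) (by simp)
  obtain ⟨f, nf, h6, h7, h8, h9⟩ := c.ex4' (.inr na) (.inr nb) (.inr nd) (.inr ne) h h1
    h3 h2 h4 h5
  exact ⟨d, e, f, c.mk5 na nb nd ne nf h h1 h3 h6 h2 h4 h7 h5 h8 h9⟩

omit [SMulCommClass G F W] in
theorem ext1 {a : W} (na : B a a ≠ 0) : ∃ b d e f, O5 B a b d e f := by
  obtain ⟨b, nb, h1, -⟩ := c.ex4' (.inr na) (.inl rfl) (.inl rfl) (.inl rfl) (by simp) (by simp)
    (by simp) (by simp) (by simp) (by simp)
  exact ⟨b, c.ext2 na nb h1⟩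

/-- two maps agreeing on an orthogonal basis -/
theorem lin {e : Fin 5 → W} (h : Ob B e) {g : G} {f : W →ₗ[F] W} (hg : ∀ i, g • e i = f (e i))
    (w : W) : g • w = f w := by
  rw [c.exp h w, Finset.smul_sum, map_sum]
  exact Finset.sum_congr rfl fun i _ => by rw [smul_sm, hg, map_smul]

theorem ext {e : Fin 5 → W} (h : Ob B e) {g g' : G} (hg : ∀ i, g • e i = g' • e i) : g = g' := by
  have := c.faith (g'⁻¹ * g) fun w => c.lin h (f := LinearMap.id) (fun i => by
    rw [mul_smul, hg, inv_smul_smul]; rfl) w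
  exact (inv_mul_eq_one.1 this).symm

theorem ext5 {a b d e f : W} (h : O5 B a b d e f) {g g' : G} (h1 : g • a = g' • a)
    (h2 : g • b = g' • b) (h3 : g • d = g' • d) (h4 : g • e = g' • e) (h5 : g • f = g' • f) :
    g = g' := c.ext h.ob fun i => by fin_cases i <;> simpa

theorem T_of {e : Fin 5 → W} (h : Ob B e) {g : G} (i : Fin 5) (h1 : g • e i = e i)
    (h2 : ∀ j, j ≠ i → g • e j = -e j) : ∃ k : F, k ≠ 0 ∧ T B g (k • e i) := by
  have key : ∀ w, g • w = (2 * B (e i) w / B (e i) (e i)) • e i - w := fun w => by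
    refine c.lin h (f := (2 / B (e i) (e i)) • (B (e i)).smulRight (e i) - LinearMap.id)
      (fun j => ?_) w |>.trans ?_
    · by_cases hj : j = i
      · subst hj
        simp only [h1, LinearMap.sub_apply, LinearMap.smul_apply, LinearMap.smulRight_apply,
          smul_smul, div_mul_cancel₀ _ (h.1 j), LinearMap.id_apply]
        module
      · simp [h2 j hj, h.2 i j (Ne.symm hj)]
    · simp only [LinearMap.sub_apply, LinearMap.smul_apply, LinearMap.smulRight_apply,
        smul_smul, LinearMap.id_apply]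
      congr 2; ring
  obtain ⟨k, hk⟩ := c.norm g (e i) (h.1 i) h1 fun w hw => by simp [key w, hw]
  have h0 := h.1 i
  refine ⟨k, fun h0 => c.two (by rw [← hk, h0]; ring), by simp; linear_combination hk, fun w => ?_⟩
  rw [key, map_smul, LinearMap.smul_apply, smul_smul]
  congr 2
  field_simp
  simp only [smul_eq_mul]
  linear_combination (-B (e i) w) * hk

theorem T5 {a b d e f : W} (h : O5 B a b d e f) {g : G} (h1 : g • a = a) (h2 : g • b = -b)
    (h3 : g • d = -d) (h4 : g • e = -e) (h5 : g • f = -f) : ∃ k : F, k ≠ 0 ∧ T B g (k • a) :=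
  c.T_of h.ob 0 h1 fun j hj => by fin_cases j <;> first | exact absurd rfl hj | simpa

theorem Pl_of {e : Fin 5 → W} (h : Ob B e) {g : G} {i j : Fin 5} (hij : i ≠ j)
    (h1 : g • e i = -e i) (h1' : g • e j = -e j) (h2 : ∀ k, k ≠ i → k ≠ j → g • e k = e k) :
    Pl B g (e i) (e j) := by
  refine ⟨h.1 i, h.1 j, h.2 i j hij, h1, h1', fun w hi hj => ?_⟩
  rw [c.exp h w, Finset.smul_sum]
  refine Finset.sum_congr rfl fun k _ => ?_
  by_cases hk : k = i
  · simp [hk, hi]
  by_cases hk' : k = j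
  · simp [hk', hj]
  rw [smul_sm, h2 k hk hk']

theorem Pl5 {a b d e f : W} (h : O5 B a b d e f) {g : G} (h1 : g • a = -a) (h2 : g • b = -b)
    (h3 : g • d = d) (h4 : g • e = e) (h5 : g • f = f) : Pl B g a b :=
  c.Pl_of h.ob (i := 0) (j := 1) (by decide) h1 h2 fun k h0 h1 => by
    fin_cases k <;> first | exact absurd rfl h0 | exact absurd rfl h1 | simpa

omit [SMulCommClass G F W] in
theorem par5 {a b d e f : W} (h : O5 B a b d e f) {g : G} {k1 k2 k3 k4 k5 : F}
    (h1 : g • a = k1 • a) (h2 : g • b = k2 • b) (h3 : g • d = k3 • d) (h4 : g • e = k4 • e)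
    (h5 : g • f = k5 • f) : k1 * k2 * k3 * k4 * k5 = 1 := by
  have := c.par g _ ![k1, k2, k3, k4, k5] h.ob fun i => by fin_cases i <;> simpa
  simpa [Fin.prod_univ_succ, mul_assoc] using this

omit [SMulCommClass G F W] in
theorem not_refl {a b d e f : W} (h : O5 B a b d e f) {g : G} (h1 : g • a = -a) (h2 : g • b = b)
    (h3 : g • d = d) (h4 : g • e = e) (h5 : g • f = f) : False := by
  have := c.par5 h (g := g) (k1 := -1) (k2 := 1) (k3 := 1) (k4 := 1) (k5 := 1) (by simpa)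
    (by simpa) (by simpa) (by simpa) (by simpa)
  exact c.two (by linear_combination -this)

omit [SMulCommClass G F W] in
theorem eigen (z : G) {w : W} (hw : B w w ≠ 0) :
    ∃ s : F, (s = 1 ∨ s = -1) ∧ B (w + s • z • w) (w + s • z • w) ≠ 0 := by
  by_contra! H
  have h1 := H 1 (.inl rfl)
  have h2 := H (-1) (.inr rfl)
  simp only [map_add, map_smul, LinearMap.add_apply, LinearMap.smul_apply, c.inv,
    smul_eq_mul] at h1 h2
  exact hw ((mul_eq_zero.1 (by linear_combination h1 + h2 : 2 * 2 * B w w = 0)).resolve_left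
    (mul_ne_zero c.two c.two))

omit [SMulCommClass G F W] in
theorem inv' (g : G) (u v : W) : B (g • u) v = B u (g⁻¹ • v) := by
  rw [← c.inv g u, smul_inv_smul]

omit [SMulCommClass G F W] in
theorem ex_eig {z : G} (hz : z * z = 1) (e : Fin 4 → W) (h0 : ∀ i, e i = 0 ∨ B (e i) (e i) ≠ 0)
    (h : ∀ i j, i ≠ j → B (e i) (e j) = 0) (he : ∀ i, z • e i = e i ∨ z • e i = -e i) :
    ∃ w, B w w ≠ 0 ∧ (∀ i, B (e i) w = 0) ∧ (z • w = w ∨ z • w = -w) := by
  obtain ⟨w, hw, hw'⟩ := c.ex4 e h0 h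
  obtain ⟨s, hs, hs'⟩ := c.eigen z hw
  refine ⟨_, hs', fun i => ?_, ?_⟩
  · have : B (e i) (z • w) = 0 := by
      rw [← c.inv z, ← mul_smul, hz, one_smul]
      rcases he i with h1 | h1 <;> simp [h1, hw']
    simp [hw', this]
  · rcases hs with rfl | rfl <;> simp [smul_add, ← mul_smul, hz, add_comm]

omit [SMulCommClass G F W] in
theorem ex_eig' {z : G} (hz : z * z = 1) {a b d e : W} (na : a = 0 ∨ B a a ≠ 0)
    (nb : b = 0 ∨ B b b ≠ 0) (nd : d = 0 ∨ B d d ≠ 0) (ne : e = 0 ∨ B e e ≠ 0) (h1 : B a b = 0)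
    (h2 : B a d = 0) (h3 : B a e = 0) (h5 : B b d = 0) (h6 : B b e = 0) (h8 : B d e = 0)
    (ha : z • a = a ∨ z • a = -a) (hb : z • b = b ∨ z • b = -b) (hd : z • d = d ∨ z • d = -d)
    (he : z • e = e ∨ z • e = -e) : ∃ w, B w w ≠ 0 ∧ B a w = 0 ∧ B b w = 0 ∧ B d w = 0 ∧
      B e w = 0 ∧ (z • w = w ∨ z • w = -w) := by
  obtain ⟨w, hw, h, h'⟩ := c.ex_eig hz ![a, b, d, e] (fun i => by fin_cases i <;> simpa)
    (fun i j hij => by
      fin_cases i <;> fin_cases j <;> first | exact absurd rfl hij | simpa | (simp; rwa [c.symm]))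
    (fun i => by fin_cases i <;> simpa)
  exact ⟨w, hw, h 0, h 1, h 2, h 3, h'⟩

omit [SMulCommClass G F W] in
theorem eig_basis {z : G} (hz : z * z = 1) :
    ∃ e, Ob B e ∧ ∀ i, z • e i = e i ∨ z • e i = -e i := by
  obtain ⟨a, na, -, -, -, -, ha⟩ := c.ex_eig' hz (a := 0) (b := 0) (d := 0) (e := 0) (.inl rfl)
    (.inl rfl) (.inl rfl) (.inl rfl) (by simp) (by simp) (by simp) (by simp) (by simp) (by simp)
    (by simp) (by simp) (by simp) (by simp)
  obtain ⟨b, nb, h1, -, -, -, hb⟩ := c.ex_eig' hz (b := 0) (d := 0) (e := 0) (.inr na)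
    (.inl rfl) (.inl rfl) (.inl rfl) (by simp) (by simp) (by simp) (by simp) (by simp) (by simp)
    ha (by simp) (by simp) (by simp)
  obtain ⟨d, nd, h2, h3, -, -, hd⟩ := c.ex_eig' hz (d := 0) (e := 0) (.inr na) (.inr nb)
    (.inl rfl) (.inl rfl) h1 (by simp) (by simp) (by simp) (by simp) (by simp)
    ha hb (by simp) (by simp)
  obtain ⟨e, ne, h4, h5, h6, -, he⟩ := c.ex_eig' hz (e := 0) (.inr na) (.inr nb) (.inr nd)
    (.inl rfl) h1 h2 (by simp) h3 (by simp) (by simp) ha hb hd (by simp)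
  obtain ⟨f, nf, h7, h8, h9, h10, hf⟩ := c.ex_eig' hz (.inr na) (.inr nb) (.inr nd)
    (.inr ne) h1 h2 h4 h3 h5 h6 ha hb hd he
  exact ⟨_, (c.mk5 na nb nd ne nf h1 h2 h4 h7 h3 h5 h8 h6 h9 h10).ob, fun i => by
    fin_cases i <;> simpa⟩

omit c in
theorem signs : ∀ ε : Fin 5 → Bool, (∀ i, ε i = false) ∨
    (∃ i j, i ≠ j ∧ ε i = true ∧ ε j = true ∧ ∀ k, k ≠ i → k ≠ j → ε k = false) ∨
    (∃ i, ε i = false ∧ ∀ k, k ≠ i → ε k = true) ∨
    ∏ i, (if ε i then -1 else 1 : ℤ) = -1 := by decide +kernel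

/-- the two kinds of involutions -/
theorem invol {z : G} (hz : z * z = 1) (h1 : z ≠ 1) : (∃ v, T B z v) ∨ ∃ a b, Pl B z a b := by
  classical
  obtain ⟨e, he, h⟩ := c.eig_basis hz
  have hf : ∀ i, decide (z • e i = -e i) = false → z • e i = e i := fun i hi =>
    (h i).resolve_right (by simpa using hi)
  have ht : ∀ i, decide (z • e i = -e i) = true → z • e i = -e i := fun i hi => by simpa using hi
  rcases signs fun i => decide (z • e i = -e i) with h2 | ⟨i, j, hij, h2, h3, h4⟩ | ⟨i, h2, h3⟩ | h2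
  · exact absurd (c.ext he fun i => by rw [hf i (h2 i), one_smul]) h1
  · exact .inr ⟨_, _, c.Pl_of he hij (ht i h2) (ht j h3) fun k a b => hf k (h4 k a b)⟩
  · obtain ⟨k, -, hk⟩ := c.T_of he i (hf i h2) fun j hj => ht j (h3 j hj)
    exact .inl ⟨_, hk⟩
  · have := c.par z e (fun i => if decide (z • e i = -e i) then -1 else 1) he fun i => by
      split_ifs with h5
      · rw [ht i h5, neg_one_smul]
      · rw [hf i (by simpa using h5), one_smul]
    have h3 := congrArg (Int.cast : ℤ → F) h2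
    push_cast at h3
    exact absurd (by linear_combination h3 - this) c.two

omit [SMulCommClass G F W] in
theorem orth {g : G} {u w : W} (hu : g • u = u) (hw : g • w = -w) : B u w = 0 := by
  have := c.inv g u w
  rw [hu, hw, map_neg] at this
  exact (mul_eq_zero.1 (by linear_combination -this : 2 * B u w = 0)).resolve_left c.two

omit [SMulCommClass G F W] in
theorem pm {u w : W} {k : F} (h : w = k • u) (hu : B u u ≠ 0) (hw : B w w = B u u) :
    w = u ∨ w = -u := by
  subst h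
  simp only [map_smul, LinearMap.smul_apply, smul_eq_mul] at hw
  have : (k - 1) * (k + 1) = 0 :=
    mul_right_cancel₀ hu (by linear_combination hw)
  rcases mul_eq_zero.1 this with h | h
  · left; rw [sub_eq_zero.1 h, one_smul]
  · right; rw [eq_neg_of_add_eq_zero_left h, neg_one_smul]

omit [SMulCommClass G F W] in
theorem sq_perp {g : G} {w : W} (h : g • g • w = -w) : B w (g • w) = 0 := by
  have := c.inv g w (g • w)
  rw [h, map_neg, c.symm (g • w)] at this
  exact (mul_eq_zero.1 (by linear_combination -this : 2 * B w (g • w) = 0)).resolve_left c.two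

end Ctx

theorem ne_zero_of {w : W} (h : B w w ≠ 0) : w ≠ 0 := by rintro rfl; simp at h

namespace T

variable (c : Ctx G B) {g g' h : G} {u v w : W}

theorem neg (t : T B g v) : T B g (-v) := ⟨by simp [t.1], fun w => by simp [t.2]⟩

theorem self (t : T B g v) : g • v = v := by rw [t.2, t.1]; module

theorem perp (t : T B g v) (hw : B v w = 0) : g • w = -w := by simp [t.2, hw]

include c

theorem n (t : T B g v) : B v v ≠ 0 := t.1 ▸ c.two

theorem sq (t : T B g v) : g * g = 1 := c.faith _ fun w => by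
  rw [mul_smul, t.2, t.2, map_sub, map_smul, t.1, smul_eq_mul]; module

theorem inv (t : T B g v) : g⁻¹ = g := inv_eq_of_mul_eq_one_right (t.sq c)

theorem ne_one (t : T B g v) : g ≠ 1 := by
  rintro rfl
  obtain ⟨b, d, e, f, h⟩ := c.ext1 (t.n c)
  exact ne_zero_of h.nb (eq_zero_of_neg c.two (by rw [← t.perp h.ab, one_smul]))

theorem conj (t : T B g v) (h : G) : T B (h * g * h⁻¹) (h • v) :=
  ⟨by rw [c.inv, t.1], fun w => by
    rw [mul_smul, mul_smul, t.2, smul_sub, smul_inv_smul, smul_sm, c.inv']⟩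

theorem eq (t : T B g v) (t' : T B g' v) : g = g' :=
  (inv_mul_eq_one.1 (c.faith (g'⁻¹ * g) fun w => by
    rw [mul_smul, t.2, ← t'.2, inv_smul_smul])).symm

theorem of_fix (t : T B g v) (hw : g • w = w) : ∃ k : F, w = k • v := by
  refine ⟨B v w / 2, ?_⟩
  have h2 := c.two
  rw [t.2] at hw
  have : (2 : F) • w = (2 : F) • (B v w / 2) • v := by
    rw [smul_smul, mul_div_cancel₀ _ h2, two_smul]; exact (sub_eq_iff_eq_add.1 hw).symm
  exact smul_right_injective _ h2 this

theorem of_neg (t : T B g v) (hw : g • w = -w) : B v w = 0 := c.orth t.self hw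

theorem line (t : T B g v) (hw : g • w = w) (h2 : B w w = 2) : w = v ∨ w = -v := by
  obtain ⟨k, hk⟩ := t.of_fix c hw
  exact c.pm hk (t.n c) (h2.trans t.1.symm)

theorem comm_iff (t : T B g v) : h * g = g * h ↔ h • v = v ∨ h • v = -v := by
  refine ⟨fun e => t.line c (by rw [← mul_smul, ← e, mul_smul, t.self]) (by rw [c.inv, t.1]),
    fun e => mul_inv_eq_iff_eq_mul.1 ((t.conj c h).eq c ?_)⟩
  rcases e with e | e <;> rw [e]
  exacts [t, t.neg]

theorem mul (t : T B g u) (t' : T B g' v) (h : B u v = 0) : Pl B (g * g') u v :=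
  ⟨t.n c, t'.n c, h, by rw [mul_smul, t'.perp (c.symm u v ▸ h), smul_neg, t.self],
    by rw [mul_smul, t'.self, t.perp h], fun w h1 h2 => by
      rw [mul_smul, t'.perp h2, smul_neg, t.perp h1, neg_neg]⟩

end T

namespace R

variable (c : Ctx G B) {u v : W}

theorem neg (r : R G B v) : R G B (-v) := r.imp fun _ t => t.neg

include c

theorem smul (r : R G B v) (h : G) : R G B (h • v) := r.elim fun _ t => ⟨_, t.conj c h⟩

theorem refl (r : R G B u) (r' : R G B v) : R G B (B u v • u - v) :=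
  r.elim fun g t => t.2 v ▸ r'.smul c g

end R

namespace Pl

variable (c : Ctx G B) {g g' h : G} {a b u v w : W}

theorem neg_of (p : Pl B g a b) (x y : F) : g • (x • a + y • b) = -(x • a + y • b) := by
  rw [smul_add, smul_sm, smul_sm, p.ga, p.gb]; module

include c

theorem swap (p : Pl B g a b) : Pl B g b a :=
  ⟨p.nb, p.na, c.symm a b ▸ p.ab, p.gb, p.ga, fun w h1 h2 => p.fix w h2 h1⟩

theorem act (p : Pl B g a b) (w : W) :
    g • w = w - (2 * (B a w / B a a)) • a - (2 * (B b w / B b b)) • b := by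
  have h := p.fix (w - ((B a w / B a a) • a + (B b w / B b b) • b))
    (by simp [p.ab, p.na]) (by simp [(p.swap c).ab, p.nb])
  rw [smul_sub, p.neg_of] at h
  generalize g • w = x at h ⊢
  linear_combination (norm := module) h

theorem exp (p : Pl B g a b) (hw : g • w = -w) :
    w = (B a w / B a a) • a + (B b w / B b b) • b := by
  have h := p.act c w
  rw [hw] at h
  refine smul_right_injective _ c.two ?_
  linear_combination (norm := module) -h

theorem line (p : Pl B g a b) (hw : g • w = -w) (h : B a w = 0) : ∃ k : F, w = k • b :=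
  ⟨_, by simpa [h] using p.exp c hw⟩

theorem sq (p : Pl B g a b) : g * g = 1 := by
  obtain ⟨d, e, f, h⟩ := c.ext2 p.na p.nb p.ab
  refine c.ext5 h ?_ ?_ ?_ ?_ ?_ <;>
    simp [mul_smul, p.ga, p.gb, p.fix _ h.ac h.bc, p.fix _ h.ad h.bd, p.fix _ h.ae h.be]

theorem inv (p : Pl B g a b) : g⁻¹ = g := inv_eq_of_mul_eq_one_right (p.sq c)

theorem ne_one (p : Pl B g a b) : g ≠ 1 := by
  rintro rfl
  exact ne_zero_of p.na (eq_zero_of_neg c.two (by rw [← p.ga, one_smul]))

theorem conj (p : Pl B g a b) (h : G) : Pl B (h * g * h⁻¹) (h • a) (h • b) :=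
  ⟨by rw [c.inv]; exact p.na, by rw [c.inv]; exact p.nb, by rw [c.inv]; exact p.ab,
    by simp [mul_smul, p.ga], by simp [mul_smul, p.gb], fun w h1 h2 => by
      rw [c.inv'] at h1 h2
      rw [mul_smul, mul_smul, p.fix _ h1 h2, smul_inv_smul]⟩

theorem eq (p : Pl B g a b) (p' : Pl B g' a b) : g = g' :=
  (inv_mul_eq_one.1 (c.faith (g'⁻¹ * g) fun w => by
    rw [mul_smul, p.act c, ← p'.act c, inv_smul_smul])).symm

theorem not_T (p : Pl B g a b) (t : T B g v) : False := by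
  obtain ⟨d, e, f, h⟩ := c.ext2 p.na p.nb p.ab
  obtain ⟨k, hk⟩ := t.of_fix c (p.fix _ h.ac h.bc)
  obtain ⟨l, hl⟩ := t.of_fix c (p.fix _ h.ad h.bd)
  have h1 := h.cd
  have h2 := h.nc
  have h3 := h.nd
  simp only [hk, hl, map_smul, LinearMap.smul_apply, smul_eq_mul, t.1] at h1 h2 h3
  simp_all

theorem not_conj (p : Pl B g a b) (t : T B g' v) : ¬ IsConj g g' := fun h => by
  obtain ⟨x, rfl⟩ := isConj_iff.1 h
  exact (p.conj c x).not_T c t

theorem of (p : Pl B g a b) (hu : g • u = -u) (hv : g • v = -v) (nu : B u u ≠ 0)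
    (nv : B v v ≠ 0) (h : B u v = 0) : Pl B g u v := by
  refine ⟨nu, nv, h, hu, hv, fun w h1 h2 => ?_⟩
  have hw : g • (w - g • w) = -(w - g • w) := by
    rw [smul_sub, ← mul_smul, p.sq c, one_smul, neg_sub]
  have h3 : B u (w - g • w) = 0 := by
    rw [map_sub, h1, ← c.inv g u, hu, ← mul_smul, p.sq c, one_smul]; simp [h1]
  have h4 : B v (w - g • w) = 0 := by
    rw [map_sub, h2, ← c.inv g v, hv, ← mul_smul, p.sq c, one_smul]; simp [h2]
  obtain ⟨d, e, f, o⟩ := c.ext2 p.na p.nb p.ab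
  have hd := p.fix _ o.ac o.bc
  have he := p.fix _ o.ad o.bd
  have hf := p.fix _ o.ae o.be
  have o' := c.mk5 nu nv o.nc o.nd o.ne h (c.symm d u ▸ c.orth hd hu) (c.symm e u ▸ c.orth he hu)
    (c.symm f u ▸ c.orth hf hu) (c.symm d v ▸ c.orth hd hv) (c.symm e v ▸ c.orth he hv)
    (c.symm f v ▸ c.orth hf hv) o.cd o.ce o.de
  refine (sub_eq_zero.1 (c.z5 o'.ob fun i => ?_)).symm
  fin_cases i
  exacts [h3, h4, c.orth hd hw, c.orth he hw, c.orth hf hw]

theorem rebase (p : Pl B g a b) (hu : g • u = -u) (nu : B u u ≠ 0) : ∃ v, Pl B g u v := by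
  obtain ⟨d, e, f, o⟩ := c.ext2 p.na p.nb p.ab
  have hd := p.fix _ o.ac o.bc
  have he := p.fix _ o.ad o.bd
  have hf := p.fix _ o.ae o.be
  obtain ⟨v, nv, h1, h2, h3, h4⟩ := c.ex4' (.inr nu) (.inr o.nc) (.inr o.nd) (.inr o.ne)
    (c.symm d u ▸ c.orth hd hu) (c.symm e u ▸ c.orth he hu) (c.symm f u ▸ c.orth hf hu)
    o.cd o.ce o.de
  refine ⟨v, p.of c hu ?_ nu nv h1⟩
  rw [c.exp o.ob v]
  simp [Fin.sum_univ_succ, h2, h3, h4, smul_sm, p.ga, p.gb, add_comm]

theorem root (p : Pl B g a b) (t : T B h a) : ∃ k : F, k ≠ 0 ∧ T B (h * g) (k • b) := by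
  obtain ⟨d, e, f, o⟩ := c.ext2 p.na p.nb p.ab
  have o' : O5 B b a d e f := by cases o; constructor <;> assumption
  refine c.T5 o' ?_ ?_ ?_ ?_ ?_ <;>
    simp [mul_smul, p.ga, p.gb, p.fix _ o.ac o.bc, p.fix _ o.ad o.bd, p.fix _ o.ae o.be, t.self,
      t.perp o.ab, t.perp o.ac, t.perp o.ad, t.perp o.ae]

end Pl

end CL.Sp4O
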