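import Mathlib
import Cfsg.Prelude.Def_GeometricClasses
import Cfsg.Agent.CLAS.SpForm

/-!
# Subgroups of `Sp₄(F)`, `F` of odd order: notation, and the five-dimensional orthogonal module
-/

set_option autoImplicit false

namespace CL.Sp4O

open Matrix Cfsg Cfsg.Geo

abbrev I4 := Fin 2 ⊕ Fin 2

abbrev M4 (F : Type*) := Matrix I4 I4 F

abbrev GL4 (F : Type*) [Field F] := GL I4 F

variable {F : Type*} [Field F]

/-- `P` modulo scalars -/
abbrev Bar (P : Subgroup (GL4 F)) := P ⧸ (scalars I4 F).subgroupOf P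

/-- the properties of the socle preimage that do not mention the maximal subgroup -/
structure Core (P : Subgroup (GL4 F)) : Prop where
  sp : P ≤ spGL 2 F
  perfect : ⁅P, P⁆ = P
  simple : IsSimpleGroup (Bar P)
  nonabelian : ¬ IsMulCommutative (Bar P)
  absIrred : ActsAbsolutelyIrreducibly (matrixSet P)
  no_subfield : ∀ F₀ : Subfield F, F₀ ≠ ⊤ → ¬ RealisableOver F₀ (matrixSet P)

theorem core_of {H P : Subgroup (GL4 F)} (hH : H ≤ spGL 2 F) (h : IsResidualCore H P) : Core P :=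
  ⟨h.le.trans hH, h.perfect, h.simple, h.nonabelian, h.absIrred, h.no_subfield⟩

/-- every involution of `P` is a scalar -/
def NoInv (P : Subgroup (GL4 F)) : Prop := ∀ t ∈ P, t * t = 1 → t ∈ scalars I4 F

/-- the pointwise stabiliser in `P` of the fixed space of `t` -/
def Kfix (P : Subgroup (GL4 F)) (t : GL4 F) : Subgroup (GL4 F) where
  carrier := {g | g ∈ P ∧ ∀ v, (t : M4 F) *ᵥ v = v → (g : M4 F) *ᵥ v = v}
  mul_mem' {a b} ha hb := ⟨P.mul_mem ha.1 hb.1, fun v hv => by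
    rw [Units.val_mul, ← mulVec_mulVec, hb.2 v hv, ha.2 v hv]⟩
  one_mem' := ⟨P.one_mem, fun v _ => by simp⟩
  inv_mem' {a} ha := ⟨P.inv_mem ha.1, fun v hv => by
    conv_lhs => rw [← ha.2 v hv, mulVec_mulVec, Units.inv_mul, one_mulVec]⟩

/-- `P` contains a transvection -/
def HasTv (P : Subgroup (GL4 F)) : Prop :=
  ∃ (v : I4 → F) (c : F), v ≠ 0 ∧ c ≠ 0 ∧ ∃ g ∈ P, (g : M4 F) = sympTransvection 2 v c

theorem mem_sp {g : GL4 F} :
    g ∈ spGL 2 F ↔ (g : M4 F)ᵀ * J (Fin 2) F * g = J (Fin 2) F := by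
  rw [CL.Sp.mem_spGL_iff, SymplecticGroup.mem_iff']

variable (F) in
/-- the self-adjoint matrices of trace zero -/
def Wsp : Submodule F (M4 F) where
  carrier := {A | Aᵀ * J (Fin 2) F = J (Fin 2) F * A ∧ A.trace = 0}
  add_mem' {a b} ha hb := ⟨by rw [transpose_add, add_mul, mul_add, ha.1, hb.1],
    by rw [trace_add, ha.2, hb.2, add_zero]⟩
  zero_mem' := by simp
  smul_mem' c a ha := ⟨by rw [transpose_smul, smul_mul_assoc, mul_smul_comm, ha.1],
    by rw [trace_smul, ha.2, smul_zero]⟩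

variable (F) in
/-- the symmetric form with `A C + C A = Bf A C` -/
noncomputable def Bf : Wsp F →ₗ[F] Wsp F →ₗ[F] F :=
  LinearMap.mk₂ F (fun A C => ((A : M4 F) * C).trace / 2)
    (fun A A' C => by simp [add_mul, add_div]) (fun c A C => by simp [mul_div_assoc])
    (fun A C C' => by simp [mul_add, add_div]) (fun c A C => by simp [mul_div_assoc])

theorem Bf_apply (A C : Wsp F) : Bf F A C = ((A : M4 F) * C).trace / 2 := rfl

theorem conj_mem {g : GL4 F} (hg : g ∈ spGL 2 F) {A : M4 F} (hA : A ∈ Wsp F) :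
    (g : M4 F) * A * (g⁻¹ : GL4 F) ∈ Wsp F := by
  have h1 := mem_sp.1 hg
  have h2 := mem_sp.1 (inv_mem hg)
  refine ⟨?_, by rw [trace_mul_cycle, Units.inv_mul, one_mul, hA.2]⟩
  have e1 : (g : M4 F)ᵀ * J (Fin 2) F = J (Fin 2) F * (g⁻¹ : GL4 F) := by
    rw [Units.eq_mul_inv_iff_mul_eq, h1]
  have e2 : ((g⁻¹ : GL4 F) : M4 F)ᵀ * J (Fin 2) F = J (Fin 2) F * g := by
    rw [← Units.mul_inv_eq_iff_eq_mul, h2]
  rw [transpose_mul, transpose_mul, mul_assoc, mul_assoc, e1, ← mul_assoc Aᵀ, hA.1, ← mul_assoc,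
    ← mul_assoc, e2]
  simp only [mul_assoc]

variable (F) in
/-- the action of `Sp₄(F)` on `Wsp F` by conjugation -/
noncomputable def rho : spGL 2 F →* (Wsp F ≃ₗ[F] Wsp F) where
  toFun g :=
    { toFun := fun A => ⟨_, conj_mem g.2 A.2⟩
      invFun := fun A => ⟨_, conj_mem (inv_mem g.2) A.2⟩
      map_add' := fun A C => Subtype.ext (by simp [mul_add, add_mul])
      map_smul' := fun c A => Subtype.ext (by simp)
      left_inv := fun A => Subtype.ext (by
        simp only [inv_inv, mul_assoc, Units.inv_mul, mul_one, Units.inv_mul_cancel_left])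
      right_inv := fun A => Subtype.ext (by
        simp only [inv_inv, mul_assoc, Units.mul_inv, mul_one, Units.mul_inv_cancel_left]) }
  map_one' := by ext1 A; exact Subtype.ext (by simp)
  map_mul' g h := by
    ext1 A
    exact Subtype.ext (by simp [mul_assoc])

theorem rho_apply (g : spGL 2 F) (A : Wsp F) :
    (rho F g A : M4 F) = (g : GL4 F) * A * ((g : GL4 F)⁻¹ : GL4 F) := rfl

/-- the image of `P` in the orthogonal group -/
noncomputable def Gb (P : Subgroup (GL4 F)) : Subgroup (Wsp F ≃ₗ[F] Wsp F) :=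
  (P.subgroupOf (spGL 2 F)).map (rho F)

theorem mem_Gb {P : Subgroup (GL4 F)} {x : Wsp F ≃ₗ[F] Wsp F} :
    x ∈ Gb P ↔ ∃ g : spGL 2 F, (g : GL4 F) ∈ P ∧ rho F g = x := Iff.rfl

end CL.Sp4O
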