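import Mathlib
import Cfsg.Agent.CLAS.Sp4ODef
import Cfsg.Agent.CLAS.Sp4O1
import Cfsg.Agent.CLAS.MHTrace
import Cfsg.Agent.CLAS.Four6

/-!
# The bridge between `Sp₄(F)` and the five-dimensional orthogonal space `Wsp F`
-/

set_option autoImplicit false

namespace CL.Sp4O

open Matrix Cfsg Cfsg.Geo

variable {F : Type*} [Field F]

/-- coordinates on `Wsp F` -/
def wm (x y z s t : F) : Wsp F :=
  ⟨fromBlocks !![x, y; z, -x] !![0, s; -s, 0] !![0, t; -t, 0] !![x, z; y, -x], by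
    ext (i | i) (j | j) <;> fin_cases i <;> fin_cases j <;>
      simp [J, fromBlocks_multiply, fromBlocks_transpose], by
    simp [trace, Fintype.sum_sum_type]⟩

theorem selfadj (h2 : (2 : F) ≠ 0) {A : M4 F} (h : Aᵀ * J (Fin 2) F = J (Fin 2) F * A) :
    ∃ l x y z s t : F, A = l • (1 : M4 F) + wm x y z s t := by
  have e := fun i j => congrFun (congrFun h i) j
  have e1 := e (.inl 0) (.inl 0)
  have e2 := e (.inl 0) (.inl 1)
  have e3 := e (.inl 1) (.inl 1)
  have e4 := e (.inr 0) (.inr 0)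
  have e5 := e (.inr 0) (.inr 1)
  have e6 := e (.inr 1) (.inr 1)
  have e7 := e (.inl 0) (.inr 0)
  have e8 := e (.inl 0) (.inr 1)
  have e9 := e (.inl 1) (.inr 0)
  have e10 := e (.inl 1) (.inr 1)
  simp [J, mul_apply, Fintype.sum_sum_type, one_apply] at e1 e2 e3 e4 e5 e6 e7 e8 e9 e10
  refine ⟨(A (.inl 0) (.inl 0) + A (.inl 1) (.inl 1)) / 2,
    (A (.inl 0) (.inl 0) - A (.inl 1) (.inl 1)) / 2, A (.inl 0) (.inl 1), A (.inl 1) (.inl 0),
    A (.inl 0) (.inr 1), A (.inr 0) (.inl 1), ?_⟩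
  ext (i | i) (j | j) <;> fin_cases i <;> fin_cases j <;> simp [wm] <;> grind

theorem four_ne (h2 : (2 : F) ≠ 0) : (4 : F) ≠ 0 := by
  rw [show (4 : F) = 2 * 2 by norm_num]; exact mul_ne_zero h2 h2

theorem exists_wm (h2 : (2 : F) ≠ 0) (A : Wsp F) : ∃ x y z s t, A = wm x y z s t := by
  obtain ⟨l, x, y, z, s, t, h⟩ := selfadj h2 A.2.1
  have := A.2.2
  rw [h, trace_add, (wm x y z s t).2.2] at this
  have hl : l = 0 := by simpa [four_ne h2] using this
  exact ⟨x, y, z, s, t, Subtype.ext (by simp [h, hl])⟩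

theorem Bf_wm (h2 : (2 : F) ≠ 0) (x y z s t x' y' z' s' t' : F) :
    Bf F (wm x y z s t) (wm x' y' z' s' t') = 2 * x * x' + y * z' + z * y' - s * t' - t * s' := by
  rw [Bf_apply, div_eq_iff h2]
  simp [wm, fromBlocks_multiply, trace, Fintype.sum_sum_type]
  ring

/-- Clifford relation -/
theorem anti (h2 : (2 : F) ≠ 0) (A C : Wsp F) :
    (A : M4 F) * C + (C : M4 F) * A = Bf F A C • (1 : M4 F) := by
  obtain ⟨x, y, z, s, t, rfl⟩ := exists_wm h2 A
  obtain ⟨x', y', z', s', t', rfl⟩ := exists_wm h2 C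
  rw [Bf_wm h2]
  simp only [wm, fromBlocks_multiply, fromBlocks_add, mul_fin_two]
  ext (i | i) (j | j) <;> fin_cases i <;> fin_cases j <;> simp <;> ring

theorem Bf_symm (A C : Wsp F) : Bf F A C = Bf F C A := by rw [Bf_apply, Bf_apply, trace_mul_comm]

theorem Bf_nd (h2 : (2 : F) ≠ 0) (A : Wsp F) (h : ∀ C, Bf F A C = 0) : A = 0 := by
  obtain ⟨x, y, z, s, t, rfl⟩ := exists_wm h2 A
  have e1 := h (wm 1 0 0 0 0)
  have e2 := h (wm 0 1 0 0 0)
  have e3 := h (wm 0 0 1 0 0)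
  have e4 := h (wm 0 0 0 1 0)
  have e5 := h (wm 0 0 0 0 1)
  simp [Bf_wm h2, h2] at e1 e2 e3 e4 e5
  exact Subtype.ext (by ext (i | i) (j | j) <;> fin_cases i <;> fin_cases j <;> simp [wm, *])

theorem finrank_Wsp (h2 : (2 : F) ≠ 0) : Module.finrank F (Wsp F) = 5 := by
  let L : (Fin 5 → F) →ₗ[F] Wsp F :=
    { toFun := fun v => wm (v 0) (v 1) (v 2) (v 3) (v 4)
      map_add' := fun u v => Subtype.ext (by
        ext (i | i) (j | j) <;> fin_cases i <;> fin_cases j <;> simp [wm] <;> ring)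
      map_smul' := fun c v => Subtype.ext (by
        ext (i | i) (j | j) <;> fin_cases i <;> fin_cases j <;> simp [wm]) }
  rw [← (LinearEquiv.ofBijective L ⟨(injective_iff_map_eq_zero L).2 fun v hv => ?_,
    fun A => ?_⟩).finrank_eq, Module.finrank_fin_fun]
  · have e := fun i j => congrFun (congrFun (congrArg Subtype.val hv) i) j
    have e1 := e (.inl 0) (.inl 0)
    have e2 := e (.inl 0) (.inl 1)
    have e3 := e (.inl 1) (.inl 0)
    have e4 := e (.inl 0) (.inr 1)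
    have e5 := e (.inr 0) (.inl 1)
    simp [L, wm] at e1 e2 e3 e4 e5
    ext i; fin_cases i <;> simpa
  · obtain ⟨x, y, z, s, t, rfl⟩ := exists_wm h2 A
    exact ⟨![x, y, z, s, t], rfl⟩

theorem Bf_rho (g : spGL 2 F) (A C : Wsp F) : Bf F (rho F g A) (rho F g C) = Bf F A C := by
  rw [Bf_apply, Bf_apply, rho_apply, rho_apply]
  simp only [mul_assoc, Units.inv_mul_cancel_left]
  rw [trace_mul_comm]
  simp only [mul_assoc, Units.inv_mul, mul_one]

theorem scalar_of_comm (h2 : (2 : F) ≠ 0) {M : M4 F} (h : ∀ A : Wsp F, M * A = A * M) :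
    ∃ c : F, M = c • (1 : M4 F) := by
  have e1 := h (wm 1 0 0 0 0)
  have e2 := h (wm 0 1 0 0 0)
  have e4 := h (wm 0 0 0 1 0)
  have e5 := h (wm 0 0 0 0 1)
  simp only [← Matrix.ext_iff, Sum.forall, Fin.forall_fin_two] at e1 e2 e4 e5
  simp [wm, mul_apply, Fintype.sum_sum_type] at e1 e2 e4 e5
  refine ⟨M (.inl 0) (.inl 0), ?_⟩
  ext (i | i) (j | j) <;> fin_cases i <;> fin_cases j <;> simp <;> grind

theorem rho_mul (g : spGL 2 F) (A : Wsp F) :
    ((g : GL4 F) : M4 F) * A = (rho F g A : M4 F) * (g : GL4 F) := by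
  rw [rho_apply, Units.inv_mul_cancel_right]

theorem rho_eq_of {g : spGL 2 F} {A C : Wsp F}
    (h : ((g : GL4 F) : M4 F) * A = (C : M4 F) * (g : GL4 F)) : rho F g A = C :=
  Subtype.ext (by rw [rho_apply, h, Units.mul_inv_cancel_right])

theorem smul_J_inj {a b : F} (h : a • J (Fin 2) F = b • J (Fin 2) F) : a = b := by
  simpa [J] using congrFun (congrFun h (.inr 0)) (.inl 0)

theorem rho_eq_one_iff (h2 : (2 : F) ≠ 0) (g : spGL 2 F) :
    rho F g = 1 ↔ (g : GL4 F) ∈ scalars I4 F := by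
  rw [mem_scalars_iff]
  refine ⟨fun h => ?_, fun ⟨c, hc⟩ => LinearEquiv.ext fun A => Subtype.ext ?_⟩
  · obtain ⟨c, hc⟩ := scalar_of_comm h2 (M := (g : GL4 F)) fun A => by rw [rho_mul, h]; rfl
    exact ⟨Units.mk0 c fun h0 => (g : GL4 F).ne_zero (by rw [hc, h0, zero_smul]), hc⟩
  · rw [rho_apply, Units.mul_inv_eq_iff_eq_mul, hc]
    simp

theorem eq_or_of_scalar {g : GL4 F} (hg : g ∈ spGL 2 F) (h : g ∈ scalars I4 F) :
    g = 1 ∨ g = -1 := by
  obtain ⟨c, hc⟩ := (mem_scalars_iff g).1 h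
  have h1 := mem_sp.1 hg
  rw [hc] at h1
  have h2 : (c : F) * c = 1 := smul_J_inj (by simpa [smul_smul] using h1)
  exact (mul_self_eq_one_iff.1 h2).imp (fun e => Units.ext (by simp [hc, e]))
    fun e => Units.ext (by simp [hc, e])

theorem neg_one_mem_sp : (-1 : GL4 F) ∈ spGL 2 F := by simp [mem_sp]

theorem rho_eq_iff (h2 : (2 : F) ≠ 0) (g h : spGL 2 F) :
    rho F g = rho F h ↔ (g : GL4 F) = h ∨ (g : GL4 F) = -h := by
  rw [← mul_inv_eq_one, ← map_inv, ← map_mul, rho_eq_one_iff h2]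
  refine ⟨fun e => (eq_or_of_scalar (g * h⁻¹).2 e).imp (fun e => mul_inv_eq_one.1 e)
    fun e => by simpa using mul_inv_eq_iff_eq_mul.1 e, ?_⟩
  rw [mem_scalars_iff]
  rintro (e | e)
  · exact ⟨1, by simp [e]⟩
  · exact ⟨-1, by simp [e]⟩

theorem barEquiv (h2 : (2 : F) ≠ 0) {P : Subgroup (GL4 F)} (hP : P ≤ spGL 2 F) :
    ∃ e : Bar P ≃* Gb P, ∀ g : P, (e (QuotientGroup.mk g) : Wsp F ≃ₗ[F] Wsp F) =
      rho F ⟨g, hP g.2⟩ := by
  let φ : P →* Gb P := ((rho F).comp (Subgroup.inclusion hP)).codRestrict _ fun g =>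
    mem_Gb.2 ⟨_, g.2, rfl⟩
  have hs : Function.Surjective φ := by
    rintro ⟨_, g, hg, rfl⟩
    exact ⟨⟨g, hg⟩, rfl⟩
  have hk : (scalars I4 F).subgroupOf P = φ.ker := by
    ext g
    rw [MonoidHom.mem_ker, Subtype.ext_iff]
    exact (rho_eq_one_iff h2 ⟨g, hP g.2⟩).symm
  exact ⟨QuotientGroup.liftEquiv _ hs hk, fun g => rfl⟩

theorem sq_eq (h2 : (2 : F) ≠ 0) (A : Wsp F) : (A : M4 F) * A = (Bf F A A / 2) • (1 : M4 F) := by
  rw [div_eq_inv_mul, mul_smul, ← anti h2, ← two_smul F, inv_smul_smul₀ h2]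

theorem form_self (h2 : (2 : F) ≠ 0) (A : Wsp F) :
    (A : M4 F)ᵀ * J (Fin 2) F * A = (Bf F A A / 2) • J (Fin 2) F := by
  rw [A.2.1, mul_assoc, sq_eq h2, mul_smul_comm, mul_one]

theorem refl_mul (h2 : (2 : F) ≠ 0) {v : Wsp F} (hv : Bf F v v ≠ 0) (w : Wsp F) :
    (v : M4 F) * w = -((w - (2 * Bf F v w / Bf F v v) • v : Wsp F) * (v : M4 F)) := by
  rw [Submodule.coe_sub, Submodule.coe_smul, sub_mul, smul_mul_assoc, sq_eq h2, smul_smul,
    show 2 * Bf F v w / Bf F v v * (Bf F v v / 2) = Bf F v w by field_simp, ← anti h2]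
  abel

theorem exists_sp {M : M4 F} (h : Mᵀ * J (Fin 2) F * M = J (Fin 2) F) :
    ∃ g : spGL 2 F, ((g : GL4 F) : M4 F) = M :=
  ⟨(CL.Sp.spGLEquivSp 2 F).symm ⟨M, SymplecticGroup.mem_iff'.2 h⟩, rfl⟩

/-- a product of two reflections in vectors whose norms multiply to a square lifts to `Sp₄(F)` -/
theorem exists_lift (h2 : (2 : F) ≠ 0) (u v : Wsp F) {k : F} (hk : k ≠ 0)
    (h : Bf F u u * Bf F v v = 4 * k ^ 2) : ∃ g : spGL 2 F,
      ((g : GL4 F) : M4 F) = k⁻¹ • ((u : M4 F) * v) ∧ ∀ w, rho F g w =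
        (w - (2 * Bf F v w / Bf F v v) • v) -
          (2 * Bf F u (w - (2 * Bf F v w / Bf F v v) • v) / Bf F u u) • u := by
  have hu : Bf F u u ≠ 0 := fun e => mul_ne_zero (four_ne h2) (pow_ne_zero 2 hk) (by simp [← h, e])
  have hv : Bf F v v ≠ 0 := fun e => mul_ne_zero (four_ne h2) (pow_ne_zero 2 hk) (by simp [← h, e])
  obtain ⟨g, hg⟩ := exists_sp (M := k⁻¹ • ((u : M4 F) * (v : M4 F))) (by
    rw [transpose_smul, transpose_mul, smul_mul_assoc, smul_mul_smul_comm, mul_assoc, mul_assoc,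
      ← mul_assoc (J _ _), ← mul_assoc (u : M4 F)ᵀ, ← mul_assoc (u : M4 F)ᵀ, form_self h2,
      smul_mul_assoc, mul_smul_comm, ← mul_assoc, form_self h2, smul_smul, smul_smul]
    convert one_smul F _
    field_simp
    linear_combination h)
  refine ⟨g, hg, fun w => rho_eq_of ?_⟩
  rw [hg, smul_mul_assoc, mul_smul_comm, mul_assoc, refl_mul h2 hv, mul_neg, ← mul_assoc,
    refl_mul h2 hu, neg_mul, neg_neg, mul_assoc]

/-- a vector of norm `2` is an involution of `Sp₄(F)` and acts as minus a reflection -/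
theorem exists_root (h2 : (2 : F) ≠ 0) {v : Wsp F} (hv : Bf F v v = 2) : ∃ g : spGL 2 F,
    ((g : GL4 F) : M4 F) = v ∧ T (Bf F) (rho F g) v := by
  obtain ⟨g, hg⟩ := exists_sp (M := (v : M4 F)) (by rw [form_self h2, hv, div_self h2, one_smul])
  refine ⟨g, hg, hv, fun w => rho_eq_of ?_⟩
  rw [hg, refl_mul h2 (hv ▸ h2), hv, mul_div_cancel_left₀ _ h2, ← neg_mul, ← Submodule.coe_neg,
    neg_sub]

theorem T_lift (h2 : (2 : F) ≠ 0) {g : spGL 2 F} {v : Wsp F} (h : T (Bf F) (rho F g) v) :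
    ((g : GL4 F) : M4 F) = v ∨ ((g : GL4 F) : M4 F) = -v := by
  obtain ⟨g', hg', h'⟩ := exists_root h2 h.1
  have : rho F g = rho F g' := LinearEquiv.ext fun w => (h.2 w).trans (h'.2 w).symm
  exact ((rho_eq_iff h2 g g').1 this).imp (fun e => by rw [e, hg']) fun e => by simp [e, hg']

/-- a non-scalar involution of `Sp₄(F)` lies in `Wsp F` (both eigenspaces are non-degenerate) -/
theorem invol_mem (h2 : (2 : F) ≠ 0) {t : GL4 F} (ht : t ∈ spGL 2 F) (h : t * t = 1)
    (hs : t ∉ scalars I4 F) : ∃ v : Wsp F, (t : M4 F) = v ∧ Bf F v v = 2 := by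
  have h1 : (t : M4 F) * t = 1 := by rw [← Units.val_mul, h, Units.val_one]
  obtain ⟨l, x, y, z, s, u, e⟩ := selfadj h2 (A := t) (by
    conv_rhs => rw [← mem_sp.1 ht, mul_assoc, h1, mul_one])
  generalize wm x y z s u = w at e
  by_cases hl : l = 0
  · refine ⟨w, by simp [e, hl], ?_⟩
    rw [e, hl, zero_smul, zero_add, sq_eq h2] at h1
    have := congrFun (congrFun h1 (.inl 0)) (.inl 0)
    simpa [div_eq_iff h2] using this
  · refine absurd ((rho_eq_one_iff h2 ⟨t, ht⟩).1 (LinearEquiv.ext fun A => rho_eq_of ?_)) hs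
    have h3 : (w : M4 F) = ((2 * l)⁻¹ * (1 - l * l - Bf F w w / 2)) • (1 : M4 F) := by
      rw [mul_smul, eq_inv_smul_iff₀ (mul_ne_zero h2 hl), sub_smul, sub_smul, ← sq_eq h2, one_smul]
      rw [e] at h1
      simp only [add_mul, mul_add, smul_mul_assoc, mul_smul_comm, one_mul, mul_one] at h1
      rw [eq_sub_iff_add_eq, eq_sub_iff_add_eq]
      conv_rhs => rw [← h1]
      module
    change (t : M4 F) * A = A * t
    rw [e, h3, ← add_smul]
    simp

theorem ctx (h2 : (2 : F) ≠ 0) (P : Subgroup (GL4 F)) : Ctx (Gb P) (Bf F) := by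
  refine ⟨h2, Bf_symm, Bf_nd h2, finrank_Wsp h2, ?_, fun g h => Subtype.ext (LinearEquiv.ext h),
    ?_, ?_⟩
  · rintro ⟨_, g, -, rfl⟩ u v
    exact Bf_rho g u v
  · rintro ⟨_, g, hg, rfl⟩ e ε he h
    have h1 : ∀ i (X : M4 F), ((g : GL4 F) : M4 F) * (e i * X) = ε i • (e i * ((g : GL4 F) * X)) :=
      fun i X => by
        rw [← mul_assoc, rho_mul, show rho F g (e i) = ε i • e i from h i]
        simp [mul_assoc]
    have h3 : ∀ i j, i < j → ∀ X : M4 F, (e j : M4 F) * (e i * X) = -(e i * (e j * X)) :=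
      fun i j hij X => by
        have := anti h2 (e j) (e i)
        rw [he.2 j i hij.ne', zero_smul, add_eq_zero_iff_eq_neg] at this
        rw [← mul_assoc, this, neg_mul, mul_assoc]
    have hl : LinearIndependent F e :=
      LinearMap.linearIndependent_of_isOrthoᵢ (B := Bf F) (fun i j hij => he.2 i j hij) he.1
    have hs := hl.span_eq_top_of_card_eq_finrank' (by simp [finrank_Wsp h2])
    obtain ⟨c, hc⟩ := scalar_of_comm h2
      (M := (e 0 : M4 F) * (e 1 * (e 2 * (e 3 * (e 4 * 1))))) fun A => by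
        have hA : A ∈ Submodule.span F (Set.range e) := hs ▸ Submodule.mem_top
        induction hA using Submodule.span_induction with
        | mem x hx =>
          obtain ⟨i, rfl⟩ := hx
          rw [← mul_one (_ * (e i : M4 F))]
          fin_cases i <;>
          simp only [mul_assoc, one_mul, Fin.reduceFinMk, h3 0 1 (by decide), h3 0 2 (by decide),
            h3 0 3 (by decide), h3 0 4 (by decide), h3 1 2 (by decide), h3 1 3 (by decide),
            h3 1 4 (by decide), h3 2 3 (by decide), h3 2 4 (by decide), h3 3 4 (by decide),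
            mul_neg, neg_neg]
        | zero => simp
        | add x y _ _ hx hy => rw [Submodule.coe_add, mul_add, add_mul, hx, hy]
        | smul k x _ hx => rw [Submodule.coe_smul, mul_smul_comm, smul_mul_assoc, hx]
    have h4 : ∀ i (X : M4 F), (e i : M4 F) * X = 0 → X = 0 := fun i X hX => by
      have := congrArg ((e i : M4 F) * ·) hX
      simpa [← mul_assoc, sq_eq h2, he.1 i, h2] using this
    have h5 : c ≠ 0 := fun h0 => one_ne_zero (h4 4 _ (h4 3 _ (h4 2 _ (h4 1 _ (h4 0 _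
      (by rw [hc, h0, zero_smul]))))))
    have h6 := congrArg (((g : GL4 F) : M4 F) * ·) hc
    have h7 := congrArg (· * ((g : GL4 F) : M4 F)) hc
    simp only [h1] at h6
    simp only [mul_smul_comm, mul_assoc, one_mul, mul_one, smul_mul_assoc] at h6 h7
    rw [h7] at h6
    simp only [smul_smul] at h6
    have := smul_left_injective F (g : GL4 F).ne_zero h6
    rw [Fin.prod_univ_five]
    exact mul_right_cancel₀ h5 (by linear_combination this)
  · rintro ⟨_, g, hg, rfl⟩ v hv h1 h3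
    obtain ⟨c, hc⟩ := scalar_of_comm h2 (M := (v : M4 F) * (g : GL4 F)) fun w => by
      have h4 : rho F g w = -(w - (2 * Bf F v w / Bf F v v) • v) := by
        have := h3 (w - (Bf F v w / Bf F v v) • v) (by simp [hv])
        change rho F g _ = _ at this h1
        rw [map_sub, map_smul, h1, sub_eq_iff_eq_add] at this
        rw [this]
        module
      have h5 := anti h2 v w
      rw [mul_assoc, rho_mul, h4, ← mul_assoc, ← mul_assoc]
      congr 1
      rw [Submodule.coe_neg, Submodule.coe_sub, Submodule.coe_smul, mul_neg, mul_sub, mul_smul_comm,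
        sq_eq h2, smul_smul, show 2 * Bf F v w / Bf F v v * (Bf F v v / 2) = Bf F v w by field_simp,
        ← h5]
      abel
    have h4 : (Bf F v v / 2) • J (Fin 2) F = (c * c) • J (Fin 2) F := by
      have : ((v : M4 F) * ((g : GL4 F) : M4 F))ᵀ * J (Fin 2) F * ((v : M4 F) * ((g : GL4 F) : M4 F)) =
          (Bf F v v / 2) • J (Fin 2) F := by
        rw [transpose_mul, mul_assoc, mul_assoc, ← mul_assoc (J _ _), ← mul_assoc (v : M4 F)ᵀ,
          ← mul_assoc (v : M4 F)ᵀ, form_self h2, smul_mul_assoc, mul_smul_comm, ← mul_assoc,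
          mem_sp.1 g.2]
      rw [← this, hc]
      simp [smul_smul]
    have h5 := smul_J_inj h4
    have h6 : c ≠ 0 := fun h0 => hv (by simpa [h0, h2] using h5)
    refine ⟨c⁻¹, ?_⟩
    field_simp at h5 ⊢
    linear_combination h5

theorem trace_pow_char {ι : Type} [Fintype ι] [DecidableEq ι] (p : ℕ) [Fact p.Prime] [CharP F p]
    (M : Matrix ι ι F) (n : ℕ) : (M ^ p ^ n).trace = M.trace ^ p ^ n := by
  have hp : 0 < p ^ n := pow_pos (Fact.out : p.Prime).pos n
  rcases isEmpty_or_nonempty ι with h | h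
  · simp [trace, zero_pow hp.ne']
  have key : (M ^ p ^ n).charpoly = M.charpoly.map (iterateFrobenius F p n) := by
    apply Polynomial.expand_injective hp
    rw [← Polynomial.map_expand, Polynomial.map_iterateFrobenius_expand]
    unfold charpoly
    rw [AlgHom.map_det, ← coe_detMonoidHom, ← map_pow]
    apply congr_arg det
    refine matPolyEquiv.injective ?_
    rw [map_pow, matPolyEquiv_charmatrix, sub_pow_char_pow_of_commute, ← Polynomial.C_pow]
    · exact (id (matPolyEquiv_eq_X_pow_sub_C (p ^ n) M) :)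
    · exact (Polynomial.C M).commute_X
  rw [trace_eq_neg_charpoly_coeff, trace_eq_neg_charpoly_coeff, key, Polynomial.coeff_map, ← map_neg,
    iterateFrobenius_def]

theorem dim_one {V : Type*} [AddCommGroup V] [Module F V] (U : Submodule F V)
    (h : Module.finrank F U = 1) : ∃ a ∈ U, a ≠ 0 ∧ ∀ w ∈ U, ∃ c : F, w = c • a := by
  obtain ⟨a, ha, h⟩ := finrank_eq_one_iff'.1 h
  exact ⟨a, a.2, fun e => ha (Subtype.ext e), fun w hw =>
    (h ⟨w, hw⟩).imp fun c hc => (congrArg Subtype.val hc).symm⟩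

theorem dim_two {V : Type*} [AddCommGroup V] [Module F V] (U : Submodule F V)
    (h : Module.finrank F U = 2) : ∃ a ∈ U, ∃ b ∈ U, (∀ w ∈ U, ∃ x y : F, w = x • a + y • b) ∧
      ∀ x y : F, x • a = y • b → x = 0 ∧ y = 0 := by
  have : FiniteDimensional F U := .of_finrank_pos (by omega)
  let β := Module.finBasisOfFinrankEq F U h
  refine ⟨β 0, (β 0).2, β 1, (β 1).2, fun w hw => ?_, fun x y e => ?_⟩
  · have := β.sum_repr ⟨w, hw⟩
    rw [Fin.sum_univ_two] at this
    exact ⟨_, _, (congrArg Subtype.val this).symm⟩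
  · have := Fintype.linearIndependent_iff.1 β.linearIndependent ![x, -y] (Subtype.ext (by simp [e]))
    exact ⟨this 0, neg_eq_zero.1 (this 1)⟩

namespace Core

variable {P : Subgroup (GL4 F)}

/-- Burnside -/
theorem alg_top [Finite F] (hP : Core P) : CL.Asch.alg P = ⊤ := CL.Four.alg_eq_top4 hP.absIrred

theorem eq_top_of_trace [Finite F] (hP : Core P) {F₀ : Subfield F}
    (h : ∀ g ∈ P, (g : M4 F).trace ∈ F₀) : F₀ = ⊤ := by
  obtain ⟨X, hX⟩ := CL.Asch.exists_subfield_coord (CL.Asch.rclos P) (CL.Asch.span_rclos hP.alg_top)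
  by_contra hn
  refine hP.no_subfield F₀ hn ⟨X⁻¹, ?_⟩
  rintro _ ⟨g, hg, rfl⟩ i j
  exact CL.MH.scalF_le_of_trace hP.alg_top h ((hX _).1 (CL.Asch.mem_rclos hg) i j)

theorem card_le_of_trace [Fintype F] (hP : Core P) (p : ℕ) [Fact p.Prime] [CharP F p] {j : ℕ}
    (hj : j ≠ 0) (h : ∀ g ∈ P, (g : M4 F).trace ^ p ^ j = (g : M4 F).trace) :
    Fintype.card F ≤ p ^ j := by
  have h1 : RingHom.eqLocusField (iterateFrobenius F p j) (RingHom.id F) = ⊤ :=
    hP.eq_top_of_trace h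
  obtain ⟨g, hg⟩ := IsCyclic.exists_ofOrder_eq_natCard (α := Fˣ)
  have h2 : (g : F) ^ p ^ j = g := h1.ge (Subfield.mem_top (g : F))
  have h3 : 1 < p ^ j := Nat.one_lt_pow hj (Fact.out : p.Prime).one_lt
  have h4 : g ^ (p ^ j - 1) = 1 := by
    apply mul_right_cancel (b := g)
    rw [← pow_succ, Nat.sub_add_cancel h3.le, one_mul]
    exact Units.ext (by simpa using h2)
  have h5 := Nat.le_of_dvd (by omega) (orderOf_dvd_of_pow_eq_one h4)
  rw [hg, Nat.card_units, Nat.card_eq_fintype_card] at h5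
  omega

theorem simple_Gb (h2 : (2 : F) ≠ 0) (hP : Core P) : IsSimpleGroup (Gb P) := by
  obtain ⟨e, -⟩ := barEquiv h2 hP.sp
  have := hP.simple
  exact e.symm.isSimpleGroup

theorem not_comm_Gb (h2 : (2 : F) ≠ 0) (hP : Core P) : ¬ IsMulCommutative (Gb P) := fun h => by
  obtain ⟨e, -⟩ := barEquiv h2 hP.sp
  exact hP.nonabelian ⟨⟨fun a b => e.injective (by rw [map_mul, map_mul, h.1.1])⟩⟩

/-- A normal subgroup of `P` is scalar or everything. -/
theorem normal_cases (hP : Core P) {N : Subgroup (GL4 F)} (hN : N ≤ P)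
    (h : ∀ g ∈ P, ∀ x ∈ N, g * x * g⁻¹ ∈ N) : N ≤ scalars I4 F ∨ N = P := by
  have := hP.simple
  have hn : (N.subgroupOf P).Normal := ⟨fun x hx g => h g g.2 x hx⟩
  rcases (hn.map _ (QuotientGroup.mk'_surjective ((scalars I4 F).subgroupOf P))).eq_bot_or_eq_top
    with h1 | h1
  · refine .inl fun x hx => ?_
    rw [Subgroup.map_eq_bot_iff, QuotientGroup.ker_mk'] at h1
    exact h1 (x := ⟨x, hN hx⟩) hx
  · refine .inr (hN.antisymm (hP.perfect.ge.trans (Subgroup.commutator_le.2 fun a ha b hb => ?_)))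
    have key : ∀ a ∈ P, ∃ x ∈ N, ∃ z : GL4 F, (∀ y, z * y = y * z) ∧ a = x * z := fun a ha => by
      obtain ⟨x, hx, e⟩ := h1.ge (Subgroup.mem_top (QuotientGroup.mk ⟨a, ha⟩))
      obtain ⟨c, hc⟩ := (mem_scalars_iff _).1 (QuotientGroup.eq.1 e : x⁻¹ * ⟨a, ha⟩ ∈ _)
      exact ⟨x, hx, P.subtype (x⁻¹ * ⟨a, ha⟩), fun y => Units.ext (by
        rw [Units.val_mul _ y, Units.val_mul y, hc]; simp), by simp⟩
    obtain ⟨x, hx, z, hz, rfl⟩ := key a ha
    obtain ⟨y, hy, w, hw, rfl⟩ := key b hb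
    have : x * z * (y * w) * (x * z)⁻¹ * (y * w)⁻¹ = x * y * x⁻¹ * y⁻¹ := by
      have e1 : x * z * (y * w) = x * y * (w * z) := by
        rw [mul_assoc, hz, mul_assoc, mul_assoc]
      have e2 : y * w * (x * z) = y * x * (w * z) := by
        rw [mul_assoc, ← mul_assoc w, hw, mul_assoc, mul_assoc]
      rw [mul_assoc _ (x * z)⁻¹, ← _root_.mul_inv_rev, e1, e2]
      group
    exact (this ▸ mul_mem (mul_mem (mul_mem hx hy) (inv_mem hx)) (inv_mem hy) :)

/-- A semi-invariant matrix of trace zero vanishes. -/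
theorem semi (h2 : (2 : F) ≠ 0) (hP : Core P) {M : M4 F} (h0 : M.trace = 0)
    (h : ∀ g ∈ P, ∃ c : F, (g : M4 F) * M = c • (M * g)) : M = 0 := by
  by_contra hM
  let N : Subgroup (GL4 F) :=
    { carrier := {g | (g : M4 F) * M = M * g}
      mul_mem' := fun {a b} ha hb => by
        rw [Set.mem_ofPred_eq, Units.val_mul, mul_assoc, hb, ← mul_assoc, ha, mul_assoc]
      one_mem' := by simp
      inv_mem' := fun {a} ha => by
        rw [Set.mem_ofPred_eq, Units.inv_mul_eq_iff_eq_mul, ← mul_assoc, ha, Units.mul_inv_cancel_right] }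
  have hN : P ≤ N := hP.perfect.ge.trans (Subgroup.commutator_le.2 fun a ha b hb => by
    obtain ⟨c, hc⟩ := h a ha
    obtain ⟨d, hd⟩ := h b hb
    have h1 : ∀ {g : GL4 F} {c : F}, (g : M4 F) * M = c • (M * g) → c ≠ 0 := by
      rintro g _ hg rfl
      exact hM ((Units.mul_right_eq_zero g).1 (by rw [hg, zero_smul]))
    have h3 : ∀ {g : GL4 F} {c : F}, (g : M4 F) * M = c • (M * g) → ∀ X : M4 F,
        (g : M4 F) * (M * X) = c • (M * (g * X)) ∧
          ((g⁻¹ : GL4 F) : M4 F) * (M * X) = c⁻¹ • (M * ((g⁻¹ : GL4 F) * X)) := fun {g c} hg X => by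
      refine ⟨by rw [← mul_assoc, hg, smul_mul_assoc, mul_assoc], ?_⟩
      rw [Units.inv_mul_eq_iff_eq_mul, mul_smul_comm, ← mul_assoc, hg, smul_mul_assoc, mul_assoc,
        Units.mul_inv_cancel_left, inv_smul_smul₀ (h1 hg)]
    change ((a * b * a⁻¹ * b⁻¹ : GL4 F) : M4 F) * M = M * (a * b * a⁻¹ * b⁻¹ : GL4 F)
    rw [← mul_one (_ * M)]
    simp only [Units.val_mul, mul_assoc, (h3 hd _).2, (h3 hc _).2, (h3 hd _).1, (h3 hc _).1,
      mul_smul_comm, smul_smul]
    rw [mul_one]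
    convert one_smul F _
    field_simp [h1 hc, h1 hd])
  obtain ⟨c, rfl⟩ := hP.absIrred.2 M (by
    rintro _ ⟨g, hg, rfl⟩
    exact (hN hg).symm)
  exact hM (by simp [show c = 0 by simpa [four_ne h2] using h0])

theorem small (h2 : (2 : F) ≠ 0) (hP : Core P) (U : Submodule F (Wsp F))
    (hU : ∀ g : spGL 2 F, (g : GL4 F) ∈ P → ∀ w ∈ U, rho F g w ∈ U) :
    Module.finrank F U ≠ 1 ∧ Module.finrank F U ≠ 2 := by
  refine ⟨fun h => ?_, fun h => ?_⟩
  · obtain ⟨a, ha, ha0, h⟩ := dim_one U h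
    refine ha0 (Subtype.ext (hP.semi h2 a.2.2 fun g hg => ?_))
    obtain ⟨c, hc⟩ := h _ (hU ⟨g, hP.sp hg⟩ hg a ha)
    exact ⟨c, by rw [rho_mul ⟨g, hP.sp hg⟩, hc]; simp⟩
  · obtain ⟨a, ha, b, hb, hβ, hi⟩ := dim_two U h
    have h1 : (a : M4 F) * b - b * a = 0 := hP.semi h2
      (by rw [trace_sub, trace_mul_comm, sub_self]) fun g hg => by
        obtain ⟨x, y, e⟩ := hβ _ (hU ⟨g, hP.sp hg⟩ hg a ha)
        obtain ⟨z, t, e'⟩ := hβ _ (hU ⟨g, hP.sp hg⟩ hg b hb)
        have e1 := rho_mul ⟨g, hP.sp hg⟩ a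
        have e2 := rho_mul ⟨g, hP.sp hg⟩ b
        rw [e] at e1
        rw [e'] at e2
        refine ⟨x * t - y * z, ?_⟩
        rw [mul_sub, ← mul_assoc, ← mul_assoc, e1, e2, mul_assoc, mul_assoc, e1, e2]
        simp only [Submodule.coe_add, Submodule.coe_smul, add_mul, mul_add, smul_mul_assoc,
          mul_smul_comm, sub_mul, mul_assoc]
        module
    have h3 : (a : M4 F) * b = (Bf F a b / 2) • (1 : M4 F) := by
      rw [div_eq_inv_mul, mul_smul, ← anti h2, ← sub_eq_zero.1 h1, ← two_smul F, inv_smul_smul₀ h2]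
    have h4 := hi (Bf F a b / 2) (Bf F a a / 2) (Subtype.ext (by
      have := mul_assoc (a : M4 F) a b
      rw [sq_eq h2, h3] at this
      simpa using this.symm))
    have h5 := hi (Bf F b b / 2) (Bf F a b / 2) (Subtype.ext (by
      have := mul_assoc (a : M4 F) b b
      rw [sq_eq h2, h3] at this
      simpa using this.symm))
    have ha0 : (a : M4 F) ≠ 0 := fun e => one_ne_zero (hi 1 0 (Subtype.ext (by simp [e]))).1
    rcases hP.absIrred.1 (⨅ w ∈ U, LinearMap.ker (toLin' (w : M4 F))) (by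
      rintro _ ⟨g, hg, rfl⟩ _ ⟨v, hv, rfl⟩
      simp only [SetLike.mem_coe, Submodule.mem_iInf, LinearMap.mem_ker, toLin'_apply] at hv ⊢
      intro w hw
      have := rho_mul ⟨g, hP.sp hg⟩ (rho F ⟨g, hP.sp hg⟩⁻¹ w)
      rw [← LinearEquiv.mul_apply, ← map_mul, mul_inv_cancel, map_one] at this
      rw [mulVec_mulVec, ← show _ = (w : M4 F) * g from this, ← mulVec_mulVec,
        hv _ (hU _ (inv_mem hg) w hw), mulVec_zero]) with h6 | h6
    · refine ha0 (Matrix.ext_of_mulVec_single fun i => ?_)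
      rw [zero_mulVec]
      refine (Submodule.eq_bot_iff _).1 h6 _ ?_
      simp only [Submodule.mem_iInf, LinearMap.mem_ker, toLin'_apply]
      intro w hw
      obtain ⟨x, y, rfl⟩ := hβ w hw
      rw [mulVec_mulVec, show ((x • a + y • b : Wsp F) : M4 F) * a = 0 by
        simp [add_mul, sq_eq h2, ← sub_eq_zero.1 h1, h3, h4.1, h4.2], zero_mulVec]
    · refine ha0 (Matrix.ext_of_mulVec_single fun i => ?_)
      have := h6.ge (Submodule.mem_top (x := Pi.single i 1))
      simp only [Submodule.mem_iInf, LinearMap.mem_ker, toLin'_apply] at this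
      rw [this a ha, zero_mulVec]

/-- `P` is irreducible on `Wsp F`.  An invariant totally singular subspace `R` has a non-zero common
kernel on the natural module; otherwise there is an invariant non-degenerate subspace with an
orthogonal basis `a` or `a, b`, and `a` resp. `a b` is semi-invariant, so invariant (`P` is perfect),
so scalar. -/
theorem irr_W (h2 : (2 : F) ≠ 0) (hP : Core P) (U : Submodule F (Wsp F))
    (hU : ∀ x ∈ Gb P, ∀ w ∈ U, x w ∈ U) : U = ⊥ ∨ U = ⊤ := by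
  by_contra! h
  have h5 := finrank_Wsp h2 (F := F)
  have h1 : Module.finrank F U ≠ 0 := fun e => h.1 (Submodule.finrank_eq_zero.1 e)
  have h3 := Submodule.finrank_lt h.2
  have h4 := LinearMap.BilinForm.finrank_orthogonal (B := Bf F)
    ⟨Bf_nd h2, fun A h => Bf_nd h2 A fun C => by rw [Bf_symm, h]⟩ U
  have h6 := hP.small h2 U fun g hg => hU _ ⟨g, hg, rfl⟩
  have h7 := hP.small h2 (LinearMap.BilinForm.orthogonal (Bf F) U) fun g hg w hw u hu => by
    have := hw _ (hU _ ⟨g⁻¹, inv_mem hg, rfl⟩ u hu)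
    rwa [← Bf_rho g, ← LinearEquiv.mul_apply, ← map_mul,
      mul_inv_cancel, map_one] at this
  omega

end Core

set_option linter.unusedVariables false in
/-- without non-scalar involutions every involution of `Gb P` is `-1` on a plane -/
theorem NoInv.pl (h2 : (2 : F) ≠ 0) {P : Subgroup (GL4 F)} (hP : P ≤ spGL 2 F) (hN : NoInv P)
    {z : Gb P} (hz : z * z = 1) (h1 : z ≠ 1) : ∃ a b, Pl (Bf F) z a b := by
  refine ((ctx h2 P).invol hz h1).resolve_left fun ⟨v, hv⟩ => h1 (Subtype.ext ?_)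
  obtain ⟨_, g, hg, rfl⟩ := z
  refine (rho_eq_one_iff h2 g).2 (hN _ hg (Units.ext ?_))
  rcases T_lift h2 (g := g) hv with e | e <;> simp [e, sq_eq h2, hv.1, h2]

end CL.Sp4O
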