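import Cfsg.Agent.CLAS.FiveDef
import Cfsg.Agent.CLAS.Sp4OBr
import Cfsg.Agent.S0102
import Cfsg.Prelude.Def_KGroupFacts

/-!
# Quasisimple irreducible subgroups of `SL₅`: general tools
-/

set_option autoImplicit false

namespace CL.Five

open Matrix Cfsg Cfsg.Geo CL.Asch Module
open scoped MatrixGroups commutatorElement

variable {k : Type*} [Field k] {P : Subgroup (G5 k)}

/-- `P` contains no non-trivial scalar -/
def NoZ (P : Subgroup (G5 k)) : Prop := ∀ A ∈ P, A ∈ scalars (Fin 5) k → A = 1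

/-- the projection to `P` modulo scalars -/
abbrev pr (P : Subgroup (G5 k)) : P →* Bar P := QuotientGroup.mk' _

theorem pr_surj : Function.Surjective (pr P) := QuotientGroup.mk'_surjective _

theorem pr_eq_one {A : P} : pr P A = 1 ↔ (A : G5 k) ∈ scalars (Fin 5) k :=
  QuotientGroup.eq_one_iff A

theorem ker_pr_le : (pr P).ker ≤ Subgroup.center P := fun _ hA =>
  Subgroup.mem_center_iff.2 fun _ => Subtype.ext (scalars_comm (pr_eq_one.1 hA) _).symm

theorem NoZ.inj (h : NoZ P) : Function.Injective (pr P) :=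
  (injective_iff_map_eq_one _).2 fun A hA => Subtype.ext (h _ A.2 (pr_eq_one.1 hA))

/-- without scalars `P` is its own central quotient -/
noncomputable def NoZ.equiv (h : NoZ P) : P ≃* Bar P := MulEquiv.ofBijective _ ⟨h.inj, pr_surj⟩

theorem NoZ.equiv_apply (h : NoZ P) (A : P) : h.equiv A = pr P A := rfl

theorem tr_pow_char (p : ℕ) [Fact p.Prime] [CharP k p] (A : G5 k) (n : ℕ) :
    tr (A ^ p ^ n) = tr A ^ p ^ n := by
  rw [tr, Units.val_pow_eq_pow_val, Sp4O.trace_pow_char]

namespace Core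

variable (C : Core P)
include C

theorem commutator_eq : commutator P = ⊤ := by
  apply Subgroup.map_injective P.subtype_injective
  rw [commutator_def, Subgroup.map_commutator, ← MonoidHom.range_eq_map, Subgroup.range_subtype,
    C.perfect]

theorem finite_bar : Finite (Bar P) := have := C.fin; inferInstance

theorem commutator_bar : commutator (Bar P) = ⊤ := by
  rw [commutator_def, ← Subgroup.map_top_of_surjective _ (pr_surj (P := P)),
    ← Subgroup.map_commutator, ← commutator_def, C.commutator_eq]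

theorem noZ_of_not_dvd (h : ¬ 5 ∣ Nat.card (pr P).ker) : NoZ P := fun A hA hs => by
  have := C.fin
  by_contra h1
  let a : (pr P).ker := ⟨⟨A, hA⟩, pr_eq_one.2 hs⟩
  have : Fact (Nat.Prime 5) := ⟨by norm_num⟩
  have : orderOf a = 5 := orderOf_eq_prime (Subtype.ext (Subtype.ext (C.scalar_pow hA hs)))
    fun e => h1 (congrArg (fun x : (pr P).ker => ((x : P) : G5 k)) e)
  exact h (this.symm.dvd.trans (orderOf_dvd_natCard a))

theorem noZ_of_cyclic (h : ∀ S : Sylow 5 (Bar P), IsCyclic S) : NoZ P :=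
  have := C.fin
  have : Fact (Nat.Prime 5) := ⟨by norm_num⟩
  C.noZ_of_not_dvd (Cfsg.Agent.S0102.result C.commutator_bar h (pr P) pr_surj ker_pr_le
    C.commutator_eq)

theorem noZ_of_not_dvd_bar (h : ¬ 25 ∣ Nat.card (Bar P)) : NoZ P := by
  have := C.finite_bar
  have : Fact (Nat.Prime 5) := ⟨by norm_num⟩
  refine C.noZ_of_cyclic fun S => ?_
  obtain ⟨n, hn⟩ := IsPGroup.iff_card.1 S.isPGroup'
  have h1 := hn ▸ Subgroup.card_subgroup_dvd_card (S : Subgroup (Bar P))
  rcases n with _ | _ | n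
  · exact isCyclic_of_card_dvd_prime (p := 5) (by simp [hn])
  · exact isCyclic_of_prime_card (p := 5) (by simpa using hn)
  · exact absurd ((pow_dvd_pow 5 (show 2 ≤ n + 1 + 1 by omega)).trans h1) h

theorem noZ_of_mult {G : Type*} [Group G] (e : Bar P ≃* G) {M : Type*} [CommGroup M] [Finite M]
    (h : HasSchurMultiplier G M) (h5 : ¬ 5 ∣ Nat.card M) : NoZ P := by
  have := C.fin
  have : Small.{u_2} P := inferInstance
  let ε : Shrink.{u_2} P ≃* P := Shrink.mulEquiv
  have : Finite (Shrink.{u_2} P) := Finite.of_equiv _ ε.symm.toEquiv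
  let σ : Shrink.{u_2} P →* G := e.toMonoidHom.comp ((pr P).comp ε.toMonoidHom)
  have hk : ∀ x, x ∈ σ.ker ↔ ε x ∈ (pr P).ker := fun x => e.map_eq_one_iff
  obtain ⟨π, hπ⟩ := h.2 _ σ ⟨e.surjective.comp (pr_surj.comp ε.surjective), fun x hx =>
    Subgroup.mem_center_iff.2 fun g => ε.injective (by
      rw [map_mul, map_mul]; exact Subgroup.mem_center_iff.1 (ker_pr_le ((hk x).1 hx)) _), by
    have : commutator (Shrink.{u_2} P) = ⊤ := by
      rw [commutator_def, ← Subgroup.map_top_of_surjective ε.symm.toMonoidHom ε.symm.surjective,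
        ← Subgroup.map_commutator, ← commutator_def, C.commutator_eq]
    exact this ▸ le_top⟩
  refine C.noZ_of_not_dvd fun h => h5 (dvd_trans ?_ (Subgroup.card_dvd_of_surjective π hπ))
  rwa [Nat.card_congr (ε.toEquiv.subtypeEquiv hk)]

theorem noZ_of_cyclic_mult {G : Type*} [Group G] (e : Bar P ≃* G) {n : ℕ} (hn : n ≠ 0)
    (h : HasCyclicSchurMultiplier G n) (h5 : ¬ 5 ∣ n) : NoZ P :=
  have : NeZero n := ⟨hn⟩
  C.noZ_of_mult e h (by rwa [Nat.card_congr Multiplicative.toAdd, Nat.card_zmod])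

end Core

/-- if the `p'`-parts of all elements are real, the character is real -/
theorem NoZ.ort (h : NoZ P) (p : ℕ) [hp : Fact p.Prime] [CharP k p]
    (hr : ∀ g : Bar P, ∃ n, IsConj (g ^ p ^ n) (g ^ p ^ n)⁻¹) : Ort P := fun A hA => by
  obtain ⟨n, hn⟩ := hr (h.equiv ⟨A, hA⟩)
  have := tr_conj (P.subtype.map_isConj (h.equiv.symm.toMonoidHom.map_isConj hn))
  simp only [MulEquiv.toMonoidHom_eq_coe, MonoidHom.coe_coe, map_pow, map_inv,
    MulEquiv.symm_apply_apply, Subgroup.coe_subtype] at this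
  rw [← inv_pow, tr_pow_char, tr_pow_char] at this
  exact ((iterateFrobenius k p n).injective (by simpa [iterateFrobenius_def] using this)).symm

/-- the fixed space -/
def fix (A : G5 k) : Submodule k (V5 k) := LinearMap.ker (1 - toLin' (A : M5 k))

theorem mem_fix {A : G5 k} {v : V5 k} : v ∈ fix A ↔ (A : M5 k) *ᵥ v = v := by
  simp [fix, sub_eq_zero, eq_comm]

theorem scott_lin {V : Type*} [AddCommGroup V] [Module k V] [FiniteDimensional k V]
    (A B : V →ₗ[k] V) :
    finrank k (LinearMap.ker (1 - A)) + finrank k (LinearMap.ker (1 - B)) +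
      finrank k (LinearMap.ker (1 - A * B)) +
      finrank k ↥(LinearMap.range (1 - A) ⊔ LinearMap.range (1 - B)) ≤
    2 * finrank k V + finrank k ↥(LinearMap.ker (1 - A) ⊓ LinearMap.ker (1 - B)) := by
  have hAB : ∀ v ∈ LinearMap.ker (1 - A * B), A (B v) = v := fun v hv =>
    (sub_eq_zero.1 (LinearMap.mem_ker.1 hv)).symm
  let φ := (1 - B).domRestrict (LinearMap.ker (1 - A * B))
  have h1 : finrank k (LinearMap.range φ) ≤
      finrank k ↥(LinearMap.range (1 - A) ⊓ LinearMap.range (1 - B)) := by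
    refine Submodule.finrank_mono ?_
    rintro _ ⟨v, rfl⟩
    exact ⟨⟨-B v, by simp [φ, hAB v.1 v.2, neg_add_eq_sub]⟩, ⟨v, rfl⟩⟩
  have h2 : finrank k (LinearMap.ker φ) ≤
      finrank k ↥(LinearMap.ker (1 - A) ⊓ LinearMap.ker (1 - B)) := by
    rw [← Submodule.finrank_map_subtype_eq]
    refine Submodule.finrank_mono ?_
    rintro _ ⟨v, hv, rfl⟩
    have h4 : (1 - B) v.1 = 0 := hv
    refine ⟨?_, h4⟩
    have := hAB v.1 v.2
    rw [← show v.1 = B v from sub_eq_zero.1 h4] at this
    exact sub_eq_zero.2 this.symm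
  have h3 := φ.finrank_range_add_finrank_ker
  have h4 := Submodule.finrank_sup_add_finrank_inf_eq (LinearMap.range (1 - A))
    (LinearMap.range (1 - B))
  have h5 := (1 - A).finrank_range_add_finrank_ker
  have h6 := (1 - B).finrank_range_add_finrank_ker
  omega

theorem inv_invariant {W : Submodule k (V5 k)} {A : G5 k} (h : ∀ v ∈ W, (A : M5 k) *ᵥ v ∈ W) :
    ∀ v ∈ W, ((A⁻¹ : G5 k) : M5 k) *ᵥ v ∈ W := fun v hv => by
  let f : W →ₗ[k] W := (toLin' (A : M5 k)).restrict h
  have hf : Function.Injective f := fun a b e => Subtype.ext (by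
    have : (A : M5 k) *ᵥ a = (A : M5 k) *ᵥ b := congrArg Subtype.val e
    rw [← inv_mulVec_mulVec A a, this, inv_mulVec_mulVec])
  obtain ⟨w, hw⟩ := LinearMap.injective_iff_surjective.1 hf ⟨v, hv⟩
  have : (A : M5 k) *ᵥ w = v := congrArg Subtype.val hw
  rw [← this, inv_mulVec_mulVec]
  exact w.2

/-- Scott's lemma -/
theorem Core.scott (C : Core P) {A B : G5 k} (h : Subgroup.closure {A, B} = P) :
    finrank k (fix A) + finrank k (fix B) + finrank k (fix (A * B)) ≤ 5 := by
  have key := scott_lin (toLin' (A : M5 k)) (toLin' (B : M5 k))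
  have nt : ¬ (A = 1 ∧ B = 1) := by
    rintro ⟨rfl, rfl⟩
    refine not_le_scalars_of_irr (by simp) C.irr ?_
    rw [← h, Subgroup.closure_le]
    rintro _ (rfl | rfl) <;> exact one_mem _
  have ind : ∀ W : Submodule k (V5 k), (∀ v ∈ W, (A : M5 k) *ᵥ v ∈ W) →
      (∀ v ∈ W, (B : M5 k) *ᵥ v ∈ W) → W = ⊥ ∨ W = ⊤ := fun W h1 h2 => C.irr W fun g hg => by
    rw [← h] at hg
    induction hg using Subgroup.closure_induction with
    | mem x hx => rcases hx with rfl | rfl <;> assumption
    | one => simp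
    | mul x y _ _ hx hy =>
      intro v hv
      rw [Units.val_mul, ← mulVec_mulVec]
      exact hx _ (hy v hv)
    | inv x _ hx => exact inv_invariant hx
  have e1 : LinearMap.ker (1 - toLin' (A : M5 k)) ⊓ LinearMap.ker (1 - toLin' (B : M5 k)) = ⊥ := by
    refine (ind _ (fun v hv => ?_) fun v hv => ?_).resolve_right fun e => nt ⟨?_, ?_⟩
    · rwa [mem_fix.1 hv.1]
    · rwa [mem_fix.1 hv.2]
    · exact Units.ext (eq_of_mulVec fun v => by simpa using mem_fix.1 (e.ge Submodule.mem_top).1)
    · exact Units.ext (eq_of_mulVec fun v => by simpa using mem_fix.1 (e.ge Submodule.mem_top).2)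
  have e2 : LinearMap.range (1 - toLin' (A : M5 k)) ⊔ LinearMap.range (1 - toLin' (B : M5 k)) =
      ⊤ := by
    refine (ind _ (fun v hv => ?_) fun v hv => ?_).resolve_left fun e => nt ⟨?_, ?_⟩
    · simpa using sub_mem hv (Submodule.mem_sup_left (LinearMap.mem_range_self _ v))
    · simpa using sub_mem hv (Submodule.mem_sup_right (LinearMap.mem_range_self _ v))
    · exact Units.ext (eq_of_mulVec fun v => by
        simpa [sub_eq_zero, eq_comm] using e.le (Submodule.mem_sup_left (LinearMap.mem_range_self _ v)))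
    · exact Units.ext (eq_of_mulVec fun v => by
        simpa [sub_eq_zero, eq_comm] using e.le (Submodule.mem_sup_right (LinearMap.mem_range_self _ v)))
  rw [e1, e2, finrank_bot, finrank_top, finrank_fin_fun, Module.End.mul_eq_comp, ← toLin'_mul] at key
  have : finrank k (fix A) + finrank k (fix B) + finrank k (fix (A * B)) + 5 ≤ 2 * 5 + 0 := key
  omega

end CL.Five
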