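/-
Conjugacy classes and automorphisms of `PSL₂(7)`, `PSL₂(9)` and `A₇`.
-/
import Cfsg.Agent.CLAS.AschCod
import Cfsg.Agent.CLAS.PGL2Trace
import Cfsg.Agent.INV.GW.DFAut
import Cfsg.Agent.KSG.AltAut
import Cfsg.Agent.KSG.AltConj

set_option autoImplicit false

namespace CL.MH

open Matrix CL.Dk CL.PGL2 CL.Asch CL.GW.DF Equiv
open scoped MatrixGroups

variable {G : Type*} [Group G]

/-- the element types of the small simple groups of degree three -/
def Ty (g : G) : Prop :=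
  (IsConj g g⁻¹ ∧ (g ^ 4 = 1 ∨ g ^ 5 = 1 ∨ g ^ 6 = 1)) ∨ (g ^ 7 = 1 ∧ IsConj g (g ^ 2))

/-- a non-trivial element of order seven conjugate to its square -/
def Sev (g : G) : Prop := g ^ 7 = 1 ∧ g ≠ 1 ∧ IsConj g (g ^ 2)

/-- a non-trivial real element of order five -/
def Fiv (g : G) : Prop := g ^ 5 = 1 ∧ g ≠ 1 ∧ IsConj g g⁻¹

/-- outer automorphisms invert a class of elements of order seven -/
def Out7 (G : Type*) [Group G] : Prop :=
  ∀ a : MulAut G, (∃ c, a = MulAut.conj c) ∨ ∃ g, Sev g ∧ IsConj (a g) g⁻¹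

section Alt

theorem cycle_list : ∀ l : List ℕ, (∀ a ∈ l, 2 ≤ a) → l.sum ≤ 7 → Even (l.sum + l.length) →
    l = [7] ∨ (((∀ a ∈ l, a ∣ 4) ∨ (∀ a ∈ l, a ∣ 5) ∨ ∀ a ∈ l, a ∣ 6) ∧
      ¬ ((∀ a ∈ l, Odd a) ∧ 7 ≤ l.sum + 1 ∧ ∀ i ≤ 7, l.count i ≤ 1))
  | [], _, _, _ => by decide
  | [a], h1, h2, h3 => by
    have : a ≤ 7 := by simpa using h2
    revert h1 h2 h3
    interval_cases a <;> decide
  | [a, b], h1, h2, h3 => by
    simp only [List.sum_cons, List.sum_nil] at h2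
    have : a ≤ 7 := by omega
    have : b ≤ 7 := by omega
    revert h1 h2 h3
    interval_cases a <;> interval_cases b <;> decide
  | [a, b, c], h1, h2, h3 => by
    simp only [List.sum_cons, List.sum_nil] at h2
    have := h1 a (by simp)
    have := h1 b (by simp)
    have := h1 c (by simp)
    have : a ≤ 3 := by omega
    have : b ≤ 3 := by omega
    have : c ≤ 3 := by omega
    revert h2 h3
    interval_cases a <;> interval_cases b <;> interval_cases c <;> decide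
  | a :: b :: c :: d :: l, h1, h2, _ => by
    simp only [List.sum_cons] at h2
    have := h1 a (by simp)
    have := h1 b (by simp)
    have := h1 c (by simp)
    have := h1 d (by simp)
    omega

theorem cycleType_seven {g : Perm (Fin 7)} (h : g ^ 7 = 1) (h1 : g ≠ 1) : g.cycleType = {7} := by
  have : Fact (Nat.Prime 7) := ⟨by norm_num⟩
  have e := orderOf_eq_prime h h1
  have hc := Perm.isCycle_of_prime_order'' (σ := g) (by simpa using this.1) (by simpa using e)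
  rw [hc.cycleType, ← hc.orderOf, e]

theorem ty_alt (g : alternatingGroup (Fin 7)) : Ty g := by
  obtain ⟨l, hl⟩ := Quotient.exists_rep g.1.cycleType
  replace hl : (l : Multiset ℕ) = g.1.cycleType := hl
  have hs := Perm.mem_alternatingGroup.1 g.2
  rw [Perm.sign_of_cycleType, ← hl, neg_one_pow_eq_one_iff_even (by decide)] at hs
  have pw : ∀ n, (∀ a ∈ l, a ∣ n) → g ^ n = 1 := fun n h => Subtype.ext
    (orderOf_dvd_iff_pow_eq_one.1 (by rw [← Perm.lcm_cycleType, ← hl]; exact Multiset.lcm_dvd.2 h))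
  rcases cycle_list l (fun a ha => Perm.two_le_of_mem_cycleType (σ := g.1) (hl ▸ Multiset.mem_coe.2 ha))
    (by simpa [← hl] using g.1.sum_cycleType_le) (by simpa using hs) with rfl | ⟨h1, h2⟩
  · have h7 := pw 7 (by simp)
    have e7 : g.1 ^ 7 = 1 := congrArg Subtype.val h7
    obtain ⟨c, hc⟩ := isConj_iff.1 (Perm.isConj_iff_cycleType_eq.2 (hl.symm.trans (cycleType_seven
      (g := g.1 ^ 3) (by rw [← pow_mul, mul_comm, pow_mul, e7, one_pow]) fun e => by
        have := pow_gcd_eq_one.2 ⟨e, e7⟩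
        simp only [Nat.reduceGcd, pow_one] at this
        simp [this] at hl).symm))
    refine .inr ⟨h7, isConj_iff.2 ⟨⟨c * c, by simp [Perm.mem_alternatingGroup]⟩, Subtype.ext ?_⟩⟩
    change c * c * g.1 * (c * c)⁻¹ = g.1 ^ 2
    rw [show c * c * g.1 * (c * c)⁻¹ = c * (c * g.1 * c⁻¹) * c⁻¹ by group, hc, ← conj_pow, hc,
      ← pow_mul, show 3 * 3 = 7 + 2 from rfl, pow_add, e7, one_mul]
  · refine .inl ⟨CL.KSG.isConj_alt_of_not_centralizer_le (CL.KSG.perm_isConj_inv _) fun h => h2 ?_,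
      h1.imp (pw 4) (Or.imp (pw 5) (pw 6))⟩
    rw [Perm.centralizer_le_alternating_iff, ← hl] at h
    exact ⟨h.1, by simpa using h.2.1, fun i _ => by simpa using h.2.2 i⟩

/-- a `7`-cycle -/
def c7 : alternatingGroup (Fin 7) := ⟨finRotate 7, Perm.mem_alternatingGroup.2 (by decide +kernel)⟩

theorem sev_c7 : Sev c7 := ⟨by decide +kernel, by decide +kernel,
  isConj_iff.2 ⟨⟨c[1, 2, 4] * c[3, 6, 5], Perm.mem_alternatingGroup.2 (by decide +kernel)⟩,
    by decide +kernel⟩⟩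

theorem out7_alt : Out7 (alternatingGroup (Fin 7)) := fun a => by
  obtain ⟨σ, hσ⟩ := CL.KSG.exists_perm_of_mulAut (by simp) (by simp) a
  by_cases h : σ ∈ alternatingGroup (Fin 7)
  · exact .inl ⟨⟨σ, h⟩, MulEquiv.ext fun g => Subtype.ext (hσ g)⟩
  · refine .inr ⟨c7, sev_c7, isConj_iff.2 ⟨⟨Fin.revPerm * σ⁻¹, ?_⟩, Subtype.ext ?_⟩⟩
    · rw [Perm.mem_alternatingGroup] at h ⊢
      rw [map_mul, map_inv, Int.units_ne_iff_eq_neg.1 h]
      decide +kernel
    · change Fin.revPerm * σ⁻¹ * (a c7).1 * (Fin.revPerm * σ⁻¹)⁻¹ = c7.1⁻¹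
      rw [hσ, show ∀ r : Perm (Fin 7), r * σ⁻¹ * (σ * c7.1 * σ⁻¹) * (r * σ⁻¹)⁻¹ = r * c7.1 * r⁻¹ from
        fun r => by group]
      decide +kernel

theorem exists_fiv_alt : ∃ g : alternatingGroup (Fin 7), Fiv g ∧ IsConj g (g ^ 2) :=
  ⟨⟨c[0, 1, 2, 3, 4], Perm.mem_alternatingGroup.2 (by decide +kernel)⟩,
    ⟨by decide +kernel, by decide +kernel,
    isConj_iff.2 ⟨⟨c[1, 4] * c[2, 3], Perm.mem_alternatingGroup.2 (by decide +kernel)⟩,
      by decide +kernel⟩⟩,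
    isConj_iff.2 ⟨⟨c[1, 2, 4, 3] * c[5, 6], Perm.mem_alternatingGroup.2 (by decide +kernel)⟩,
      by decide +kernel⟩⟩

end Alt

section PSL

variable {K : Type*} [Field K]

theorem isConj_psl {x y : PSL(2, K)} {k : PGL(2, K)} (hk : k ∈ pslIn K)
    (h : k * psl2pgl K x * k⁻¹ = psl2pgl K y) : IsConj x y := by
  obtain ⟨k, rfl⟩ := hk
  exact isConj_iff.2 ⟨k, psl2pgl_injective (by simpa using h)⟩

/-- the translation by `b` -/
noncomputable def uu (b : K) : PSL(2, K) := ((aff_mem_pslIn_iff 1 b).2 (by simp)).choose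

theorem psl2pgl_uu (b : K) : psl2pgl K (uu b) = aff 1 b :=
  ((aff_mem_pslIn_iff 1 b).2 (by simp)).choose_spec

theorem uu_add (a b : K) : uu (a + b) = uu a * uu b := psl2pgl_injective (by
  rw [map_mul, psl2pgl_uu, psl2pgl_uu, psl2pgl_uu, aff_mul]; simp [add_comm])

theorem uu_eq_one {b : K} : uu b = 1 ↔ b = 0 := by
  rw [← psl2pgl_injective.eq_iff, psl2pgl_uu, map_one, aff_eq_one_iff]; simp

theorem uu_pow (b : K) (n : ℕ) : uu b ^ n = uu (n * b) := psl2pgl_injective (by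
  rw [map_pow, psl2pgl_uu, psl2pgl_uu, aff_one_pow])

theorem uu_neg (b : K) : uu (-b) = (uu b)⁻¹ :=
  eq_inv_of_mul_eq_one_left (by rw [← uu_add, neg_add_cancel, uu_eq_one])

variable [Finite K]

theorem psl_real_or (s : ℕ) [CharP K s] (g : PSL(2, K)) : g ^ s = 1 ∨ IsConj g g⁻¹ := by
  by_cases h1 : g = 1
  · simp [h1]
  rcases pow_eq_one_or_mem_pairT (algebraMap K (AlgebraicClosure K)) s (psl2pgl K g) with h |
    ⟨x, y, hxy, h⟩
  · exact .inl (psl2pgl_injective (by rw [map_pow, h, map_one]))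
  · obtain ⟨n, hn, hn'⟩ := SetLike.not_le_iff_exists.1 (not_pairN_inf_pslIn_le _ hxy fun e =>
      h1 (psl2pgl_injective (by rw [map_one]; exact Subgroup.mem_bot.1 (e ▸ h))))
    exact .inr (isConj_psl hn.2 (by
      rw [map_inv]; exact conj_eq_inv_of_mem_pairN (mapG_injective _) hxy hn.1 hn' h))

theorem psl_conj_pow (s : ℕ) [Fact s.Prime] [CharP K s] {g : PSL(2, K)} (h : g ^ s = 1) {n : ℕ}
    (μ : Kˣ) (hn : (n : K) = μ ^ 2) : IsConj g (g ^ n) := by
  obtain ⟨x, hx⟩ := exists_le_unp_of_isPGroup s (psl2pgl K) (P := Subgroup.zpowers g)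
    (IsPGroup.iff_card.2 (by
      rcases (Nat.dvd_prime Fact.out).1 (orderOf_dvd_of_pow_eq_one h) with e | e
      exacts [⟨0, by simpa using e⟩, ⟨1, by simpa using e⟩]))
  obtain ⟨c, rfl⟩ := exists_smul_inf x
  obtain ⟨b, hb⟩ := mem_unipAt_inf.1 (mem_unipAt_smul.1 (hx (Subgroup.mem_zpowers g)))
  have e : psl2pgl K g = c * aff 1 b * c⁻¹ := by rw [← hb]; group
  refine isConj_psl (pslIn_normal.conj_mem _ ((aff_mem_pslIn_iff (μ ^ 2) (0 : K)).2
    ⟨(μ : K), by simp [pow_two]⟩) c) ?_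
  rw [map_pow, e, conj_pow, aff_one_pow, hn,
    show ∀ a : PGL(2, K), c * a * c⁻¹ * (c * aff 1 b * c⁻¹) * (c * a * c⁻¹)⁻¹ =
      c * (a * aff 1 b * a⁻¹) * c⁻¹ from fun a => by group, aff_conj]
  simp

theorem psl_pow (s : ℕ) [CharP K s] (hodd : Odd (Nat.card K)) (g : PSL(2, K)) :
    g ^ s = 1 ∨ g ^ ((Nat.card K - 1) / 2) = 1 ∨ g ^ ((Nat.card K + 1) / 2) = 1 := by
  have := orderOf_dvd_pslIn s (g := psl2pgl K g) ⟨g, rfl⟩
  rw [gcd_two_of_odd hodd, orderOf_injective _ psl2pgl_injective] at this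
  simp only [← orderOf_dvd_iff_pow_eq_one]
  exact this.imp_right (Or.imp Nat.dvd_div_of_mul_dvd Nat.dvd_div_of_mul_dvd)

theorem psl_all_real (s : ℕ) [Fact s.Prime] [CharP K s] (h : IsSquare (-1 : K)) (g : PSL(2, K)) :
    IsConj g g⁻¹ := (psl_real_or s g).elim (fun e => by
  obtain ⟨i, hi⟩ := h
  have hs := (Fact.out : s.Prime).pos
  have := psl_conj_pow s e (n := s - 1) (Units.mk0 i (by rintro rfl; simp at hi))
    (by rw [Nat.cast_pred hs, CharP.cast_eq_zero, zero_sub, Units.val_mk0, hi, pow_two])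
  rwa [eq_inv_of_mul_eq_one_left (show g ^ (s - 1) * g = 1 by
    rw [← pow_succ, Nat.sub_add_cancel hs, e])] at this) id

theorem psl_cyclic_three (s : ℕ) [Fact s.Prime] [CharP K s] (hs : s ≠ 3) :
    ∃ U : Subgroup PSL(2, K), ¬ 3 ∣ U.index ∧ IsCyclic U := by
  have : Fact (Nat.Prime 3) := ⟨Nat.prime_three⟩
  obtain ⟨S⟩ : Nonempty (Sylow 3 PSL(2, K)) := inferInstance
  refine ⟨S, S.not_dvd_index, ?_⟩
  rcases subsingleton_or_nontrivial (S : Subgroup PSL(2, K)) with h | h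
  · infer_instance
  obtain ⟨⟨z, hz⟩, hz1⟩ := (Subgroup.nontrivial_iff_exists_ne_one _).1 S.isPGroup'.center_nontrivial
    |>.imp fun z h => (⟨h.1, h.2⟩ : z ∈ Subgroup.center S ∧ z ≠ 1)
  have o3 : ∀ g : S, ∀ r, r.Prime → r ∣ orderOf g → r = 3 := fun g r hr h => by
    obtain ⟨k, hk⟩ := IsPGroup.iff_orderOf.1 S.isPGroup' g
    exact (Nat.prime_dvd_prime_iff_eq hr Nat.prime_three).1 (hr.dvd_of_dvd_pow (hk ▸ h))
  let f := algebraMap K (AlgebraicClosure K)
  let ρ := (mapG f).comp ((psl2pgl K).comp (S : Subgroup PSL(2, K)).subtype)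
  have hi := psl2pgl_injective.comp (S : Subgroup PSL(2, K)).subtype_injective
  have hρ : Function.Injective ρ := (mapG_injective f).comp hi
  obtain ⟨x, y, hxy, h⟩ := exists_mem_pairT_of_not_dvd f s (g := psl2pgl K z)
    (fun e => hz1.2 (hi (e.trans (map_one _).symm))) fun e => hs (o3 ⟨z, hz⟩ _ Fact.out
      (by rwa [← orderOf_injective ((psl2pgl K).comp (S : Subgroup PSL(2, K)).subtype) hi]))
  have := isCyclic_pairT hρ hxy
  refine isCyclic_of_surjective (pairT ρ x y).subtype fun g => ⟨⟨g, ?_⟩, rfl⟩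
  by_cases h1 : g = 1
  · rw [h1]; exact one_mem _
  refine mem_pairT_of_mul_self_ne_one hρ hxy (mem_pairN_of_commute hρ hxy (t := ⟨z, hz⟩) h hz1.2
    (Subgroup.mem_center_iff.1 hz1.1 g)) fun e => ?_
  have : Fact (Nat.Prime 2) := ⟨Nat.prime_two⟩
  exact absurd (o3 g 2 Nat.prime_two (orderOf_eq_prime (pow_two g ▸ e) h1).symm.dvd) (by norm_num)

omit [Finite K] in
theorem iP_psl (x : PSL(2, K)) : iP K (psl2pgl K x) = MulAut.conj x := by
  induction x using QuotientGroup.induction_on with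
  | H s => exact (iP_mk _).trans (CL.AutPSL.diag_toGL s)

theorem aut_psl (a : MulAut PSL(2, K)) : ∃ γ : PGL(2, K), ∀ x,
    psl2pgl K (a x) = γ * mapG (sg a : K →+* K) (psl2pgl K x) * γ⁻¹ := by
  obtain ⟨γ, h⟩ := exists_act a
  refine ⟨γ, fun x => iP_inj ?_⟩
  rw [← h, iP_psl, iP_psl]
  ext y; simp

/-- an automorphism without field part is inner or acts on translations by a given non-square -/
theorem aut_psl_cases (hodd : Odd (Nat.card K)) {a : MulAut PSL(2, K)} (ha : sg a = 1) (μ : Kˣ)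
    (hμ : ¬ IsSquare (μ : K)) :
    (∃ c, a = MulAut.conj c) ∨ ∃ c, ∀ b, a (uu b) = c * uu (μ * b) * c⁻¹ := by
  obtain ⟨γ, h⟩ := aut_psl a
  have e : ∀ x, mapG (sg a : K →+* K) x = x := fun x => by
    rw [ha]; exact DFunLike.congr_fun ProjGenLinGroup.map_id x
  simp only [e] at h
  by_cases hγ : γ ∈ pslIn K
  · obtain ⟨c, rfl⟩ := hγ
    exact .inl ⟨c, MulEquiv.ext fun x => psl2pgl_injective (by simp [h])⟩
  · obtain ⟨c, hc⟩ : γ * (aff μ 0)⁻¹ ∈ pslIn K :=
      (Subgroup.mul_mem_iff_of_index_two (index_pslIn_of_odd hodd)).2 (by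
        rw [inv_mem_iff, aff_mem_pslIn_iff]; exact iff_of_false hγ hμ)
    refine .inr ⟨c, fun b => psl2pgl_injective ?_⟩
    rw [h, map_mul, map_mul, map_inv, hc, psl2pgl_uu, psl2pgl_uu,
      show aff 1 (μ * b) = aff μ 0 * aff 1 b * (aff μ 0)⁻¹ by rw [aff_conj]; simp]
    group

end PSL

instance fact_prime_seven : Fact (Nat.Prime 7) := ⟨by norm_num⟩

theorem ty_seven (g : PSL(2, ZMod 7)) : Ty g := by
  by_cases h : g ^ 7 = 1
  · exact .inr ⟨h, psl_conj_pow 7 h (Units.mk0 3 (by decide)) (by decide)⟩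
  refine .inl ⟨(psl_real_or 7 g).resolve_left h, ?_⟩
  rcases (psl_pow 7 (by simp; decide) g).resolve_left h with e | e <;> rw [Nat.card_zmod] at e
  · exact .inr (.inr (by rw [show 6 = 3 * 2 from rfl, pow_mul, e, one_pow]))
  · exact .inl e

theorem sev_uu : Sev (uu (1 : ZMod 7)) :=
  have h : uu (1 : ZMod 7) ^ 7 = 1 := by rw [uu_pow, uu_eq_one]; decide
  ⟨h, by rw [Ne, uu_eq_one]; decide, psl_conj_pow 7 h (Units.mk0 3 (by decide)) (by decide)⟩

theorem out7_psl : Out7 PSL(2, ZMod 7) := fun a =>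
  (aut_psl_cases (by simp; decide) (RingEquiv.toRingHom_injective (RingHom.ext_zmod _ _)) (-1)
    (by decide)).imp_right fun ⟨c, hc⟩ => ⟨_, sev_uu, by
      rw [hc, ← uu_neg]; exact (isConj_iff.2 ⟨c, by simp⟩).symm⟩

instance charP_E9 : CharP E9 3 := (CharP.charP_iff_prime_eq_zero Nat.prime_three).2 (by decide +kernel)

theorem card_E9 : Nat.card E9 = 9 := by rw [Nat.card_eq_fintype_card, E9.card_eq]; rfl

theorem real_nine (g : PSL(2, E9)) : IsConj g g⁻¹ :=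
  have : Fact (Nat.Prime 3) := ⟨Nat.prime_three⟩
  psl_all_real 3 (by unfold IsSquare; decide +kernel) g

theorem pow_nine (g : PSL(2, E9)) : g ^ 4 = 1 ∨ g ^ 5 = 1 ∨ g ^ 6 = 1 := by
  rcases psl_pow 3 (by rw [card_E9]; decide) g with e | e | e
  · exact .inr (.inr (by rw [show 6 = 3 * 2 from rfl, pow_mul, e, one_pow]))
  · rw [card_E9] at e; exact .inl e
  · rw [card_E9] at e; exact .inr (.inl e)

theorem ty_nine (g : PSL(2, E9)) : Ty g := .inl ⟨real_nine g, pow_nine g⟩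

theorem card_psl_nine : Nat.card PSL(2, E9) = 360 := by
  have := gcd_mul_card_pslIn (F := E9)
  rw [card_E9, ← Nat.card_congr (pslInEquiv E9).toEquiv] at this
  exact Nat.eq_of_mul_eq_mul_left (by norm_num) (this.trans (by norm_num))

theorem exists_fiv_nine : ∃ g : PSL(2, E9), Fiv g := by
  have : Fact (Nat.Prime 5) := ⟨by norm_num⟩
  obtain ⟨g, hg⟩ := exists_prime_orderOf_dvd_card' (G := PSL(2, E9)) 5 (by rw [card_psl_nine]; norm_num)
  exact ⟨g, hg ▸ pow_orderOf_eq_one g, by rintro rfl; simp at hg, real_nine g⟩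

/-- a primitive element of the field with nine elements -/
def m9 : E9 := (⟨4, by decide⟩ : Fin 9)

theorem span_m9 : ∀ b : E9, ∃ m n : Fin 3, b = (m : ℕ) + (n : ℕ) * m9 := by decide +kernel

theorem aut_E9 (σ : E9 ≃+* E9) : σ = 1 ∨ ∀ x, σ x = x ^ 3 := by
  have h : ∀ y : E9, y * y = 1 - y → y = m9 ∨ y = m9 ^ 3 := by decide +kernel
  have h3 : ∀ m n : Fin 3, ((m : ℕ) + (n : ℕ) * m9) ^ 3 = (m : ℕ) + (n : ℕ) * m9 ^ 3 := by
    decide +kernel
  refine (h (σ m9) (by rw [← map_mul, show m9 * m9 = 1 - m9 by decide +kernel]; simp)).imp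
    (fun e => RingEquiv.ext fun x => ?_) fun e x => ?_ <;> obtain ⟨m, n, rfl⟩ := span_m9 x
  · simp [e]
  · simp [e, h3]

theorem aut_nine_fiv {a : MulAut PSL(2, E9)} (ha : sg a ≠ 1) {g : PSL(2, E9)} (hg : Fiv g) :
    IsConj (a g) (g ^ 2) := by
  have : Fact (Nat.Prime 3) := ⟨Nat.prime_three⟩
  have : Fact (Nat.Prime 5) := ⟨by norm_num⟩
  obtain ⟨γ, h⟩ := aut_psl a
  have n1 : ∀ {x : PSL(2, E9)}, x ≠ 1 → psl2pgl E9 x ≠ 1 := fun h e =>
    h (psl2pgl_injective (e.trans (map_one _).symm))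
  have g2 : g ^ 2 ≠ 1 := fun e => hg.2.1 (by simpa using pow_gcd_eq_one.2 ⟨e, hg.1⟩)
  have a1 : a g ≠ 1 := by simpa using hg.2.1
  have t := (pow_five_eq_one_iff_tau (n1 hg.2.1)).1 (by rw [← map_pow, hg.1, map_one])
  have t2 : tau (psl2pgl E9 (g ^ 2)) = (tau (psl2pgl E9 g) - 2) ^ 2 := by
    obtain ⟨m, hm, e⟩ := exists_sl_of_mem_pslIn (g := psl2pgl E9 g) ⟨g, rfl⟩
    rw [map_pow, e, ofMat_pow, tau_ofMat_of_det _ hm, tau_ofMat_of_det _ (by simp [hm])]
    rw [det_fin_two] at hm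
    simp only [pow_two, trace_fin_two, mul_apply, Fin.sum_univ_two]
    congr 1 <;> linear_combination -2 * hm
  have ta : tau (psl2pgl E9 (a g)) = tau (psl2pgl E9 g) ^ 3 := by
    rw [h, tau_conj, tau_mapG]; exact (aut_E9 _).resolve_left ha _
  have key : ∀ t : E9, t ^ 2 - 3 * t + 1 = 0 → t ^ 3 = (t - 2) ^ 2 ∧ t ^ 3 ≠ 0 := by decide +kernel
  obtain ⟨c, hc⟩ := exists_conj_of_tau_eq (n1 a1) (n1 g2) (by rw [ta, t2, (key _ t).1])
    (ta ▸ (key _ t).2)
  obtain ⟨x, y, hxy, hp⟩ := exists_mem_pairT_of_not_dvd (algebraMap E9 (AlgebraicClosure E9)) 3 (n1 a1)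
    (by rw [orderOf_injective _ psl2pgl_injective, MulEquiv.orderOf_eq, orderOf_eq_prime hg.1 hg.2.1]
        norm_num)
  obtain ⟨c', h1, h2⟩ := exists_conj_pslIn_of_mem_pairT _ hxy hp c
  exact isConj_psl h1 (h2.trans hc)

end CL.MH
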