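import Mathlib
import Cfsg.Agent.CLAS.Sp4OBr
import Cfsg.Agent.CLAS.Sp4OZ1
import Cfsg.Agent.CLAS.MHTy
import Cfsg.Agent.KSG.WagLin
import Cfsg.Agent.REC.Basic
import Cfsg.Agent.S0205
import Cfsg.Agent.S3099

/-!
# Subgroups of `Sp₄(F)` without non-scalar involutions: the possible groups
-/

set_option autoImplicit false
set_option linter.unusedSectionVars false

namespace CL.Sp4O

open Matrix Cfsg Cfsg.Geo
open scoped MatrixGroups

variable {F : Type*} [Field F] [Fintype F] {P : Subgroup (GL4 F)}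

theorem two_ne (hodd : Odd (Fintype.card F)) : (2 : F) ≠ 0 :=
  CL.Dk.two_ne_zero_of_odd (by rwa [Nat.card_eq_fintype_card])

theorem bar_equiv (hP : Core P) {G : Type*} [Group G] (e : P ≃* G) :
    Nonempty (Bar P ≃* G ⧸ Subgroup.center G) := by
  refine ⟨QuotientGroup.congr _ _ e (Subgroup.ext fun x => ?_)⟩
  obtain ⟨x, rfl⟩ := e.surjective x
  refine (Subgroup.mem_map_iff_mem e.injective).trans ?_
  rw [Subgroup.mem_subgroupOf, mem_scalars_iff, Subgroup.mem_center_iff]
  refine ⟨fun ⟨c, hc⟩ y => ?_, fun h => ?_⟩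
  · obtain ⟨y, rfl⟩ := e.surjective y
    rw [← map_mul, ← map_mul]
    exact congrArg e (Subtype.ext (Units.ext (by simp [hc])))
  · obtain ⟨c, hc⟩ := hP.absIrred.2 x.1 (by
      rintro _ ⟨g, hg, rfl⟩
      have := h (e ⟨g, hg⟩)
      rw [← map_mul, ← map_mul] at this
      exact (congrArg (fun y : P => (y.1 : M4 F)) (e.injective this)).symm)
    exact ⟨Units.mk0 c fun h0 => x.1.ne_zero (by rw [hc, h0, zero_smul]), hc⟩

/-- `P` is perfect, of even order (`S0205`), has the unique involution `-1`; `O(P)` is scalar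
(`Core.normal_cases`), so trivial; apply `S3099`; the centre of `P` is its group of scalars. -/
theorem iso_cases (hodd : Odd (Fintype.card F)) (hP : Core P) (hN : NoInv P) :
    (∃ (K : Type) (_ : Field K) (_ : Fintype K), Odd (Fintype.card K) ∧ 3 < Fintype.card K ∧
      Nonempty (P ≃* SL(2, K))) ∨ Nonempty (Bar P ≃* alternatingGroup (Fin 7)) := by
  have h2 := two_ne hodd
  have hp : Group.IsPerfect P := Subgroup.isPerfect_iff.2 hP.perfect
  have hs := hP.simple
  have : Nontrivial P := (QuotientGroup.mk_surjective (s := (scalars I4 F).subgroupOf P)).nontrivial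
  have he : Even (Nat.card P) := Nat.not_odd_iff_even.1 fun h =>
    Group.IsPerfect.not_isSolvable (G := P) (Agent.S0205.result h)
  have hO : oddCore P = ⊥ := by
    have h1 := CL.Rec.odd_card_oddCore (G := P)
    rcases hP.normal_cases (N := (oddCore P).map P.subtype) (Subgroup.map_subtype_le _) (by
      rintro g hg _ ⟨x, hx, rfl⟩
      exact ⟨_, (pPrimeCore_normal 2 P).conj_mem x hx ⟨g, hg⟩, rfl⟩) with h | h
    · refine eq_bot_iff.2 fun x hx => Subgroup.mem_bot.2 ?_
      have h3 : x ^ 2 = 1 := Subtype.ext (by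
        rcases eq_or_of_scalar (hP.sp x.2) (h ⟨x, hx, rfl⟩) with e | e <;> simp [e])
      have h4 := (h1.of_dvd_nat (Subgroup.orderOf_dvd_natCard _ hx)).coprime_two_right
      exact orderOf_eq_one_iff.1 (h4.eq_one_of_dvd (orderOf_dvd_of_pow_eq_one h3))
    · rw [← Subgroup.card_map_of_injective P.subtype_injective, h] at h1
      exact absurd he (Nat.not_even_iff_odd.2 h1)
  let e : P ⧸ oddCore P ≃* P := (QuotientGroup.quotientMulEquivOfEq hO).trans QuotientGroup.quotientBot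
  have hr : PRankLE 2 1 P := fun A _ hA => by
    have : Function.Injective fun a : A => (a.1.1 = 1 : Prop) := fun a b h => by
      have key : ∀ a : A, a.1.1 = 1 ∨ a.1.1 = -1 := fun a => eq_or_of_scalar (hP.sp a.1.2)
        (hN _ a.1.2 (by simpa [sq] using congrArg Subtype.val (hA a a.2)))
      refine Subtype.ext (Subtype.ext ?_)
      by_cases h1 : a.1.1 = 1
      · rw [h1, h.mp h1]
      · rw [(key a).resolve_left h1, (key b).resolve_left fun e => h1 (h.mpr e)]
    simpa using Nat.card_le_card_of_injective _ this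
  rcases Agent.S3099.result hp hr he with ⟨K, _, _, h3, h4, ⟨f⟩⟩ | ⟨-, ⟨f⟩, -⟩
  · exact .inl ⟨K, _, _, h3, h4, ⟨e.symm.trans f⟩⟩
  · obtain ⟨f'⟩ := bar_equiv hP e.symm
    exact .inr ⟨f'.trans f⟩

theorem bar_psl (hP : Core P) {K : Type*} [Field K] (e : P ≃* SL(2, K)) :
    Nonempty (Bar P ≃* ProjectiveSpecialLinearGroup (Fin 2) K) := bar_equiv hP e

theorem charpoly_inv_sp {g : GL4 F} (hg : g ∈ spGL 2 F) :
    ((g⁻¹ : GL4 F) : M4 F).charpoly = (g : M4 F).charpoly := by
  have : ((g⁻¹ : GL4 F) : M4 F) = -J (Fin 2) F * ((g : M4 F)ᵀ * J (Fin 2) F) := by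
    refine (Units.mul_eq_one_iff_eq_inv.1 ?_).symm
    rw [mul_assoc, mem_sp.1 hg, neg_mul, J_squared, neg_neg]
  rw [this, charpoly_mul_comm, mul_assoc, mul_neg, J_squared, neg_neg, mul_one, charpoly_transpose]

theorem trace_inv_sp {g : GL4 F} (hg : g ∈ spGL 2 F) :
    ((g⁻¹ : GL4 F) : M4 F).trace = (g : M4 F).trace := by
  rw [trace_eq_neg_charpoly_coeff, trace_eq_neg_charpoly_coeff, charpoly_inv_sp hg]

/-- An element of order `7` conjugate to its square has, in characteristic `≠ 7`, six different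
eigenvalues over the algebraic closure (the eigenvalues of a symplectic matrix are closed under
inversion). -/
theorem seven_eq_zero {g : GL4 F} (hg : g ∈ spGL 2 F) (h7 : g ^ 7 = 1) (h1 : g ≠ 1)
    (hc : IsConj g (g ^ 2)) : (7 : F) = 0 := by
  classical
  by_contra h0
  let L := AlgebraicClosure F
  let ψ : GL4 F →* GL4 L := GeneralLinearGroup.map (algebraMap F L)
  have hψ : ∀ g : GL4 F, (ψ g : M4 L) = (g : M4 F).map (algebraMap F L) := fun _ => rfl
  have a1 : ∀ μ ∈ spectrum L (ψ g : M4 L), μ ^ 2 ∈ spectrum L (ψ g : M4 L) := fun μ h => by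
    obtain ⟨c, e⟩ := isConj_iff.1 hc
    have := spectrum.pow_mem_pow _ 2 h
    rwa [← Units.val_pow_eq_pow_val, ← map_pow, ← e, map_mul, map_mul, map_inv, Units.val_mul,
      Units.val_mul, spectrum.units_conjugate] at this
  have a2 : ∀ μ ∈ spectrum L (ψ g : M4 L), μ⁻¹ ∈ spectrum L (ψ g : M4 L) := fun μ h => by
    rw [← Set.mem_inv, spectrum.map_inv, ← map_inv, mem_spectrum_iff_isRoot_charpoly, hψ,
      charpoly_map, charpoly_inv_sp hg]
    rwa [mem_spectrum_iff_isRoot_charpoly, hψ, charpoly_map] at h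
  obtain ⟨μ, hμ, e⟩ : (0 : L) ∈ (fun k => Polynomial.eval k (∑ i ∈ Finset.range 7, .X ^ i)) ''
      spectrum L (ψ g : M4 L) := by
    rw [← spectrum.map_polynomial_aeval_of_nonempty _ _
      (spectrum.nonempty_of_isAlgClosed_of_finiteDimensional _ _), spectrum.zero_mem_iff]
    intro hu
    have := geom_sum_mul (ψ g : M4 L) 7
    rw [← Units.val_pow_eq_pow_val, ← map_pow, h7, map_one, Units.val_one, sub_self] at this
    simp only [map_sum, map_pow, Polynomial.aeval_X] at hu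
    refine h1 (Units.ext (Matrix.map_injective (algebraMap F L).injective ?_))
    simpa [hψ] using sub_eq_zero.1 (hu.mul_right_eq_zero.1 this)
  simp only [Polynomial.eval_finsetSum, Polynomial.eval_pow, Polynomial.eval_X] at e
  have b1 : μ ^ 7 = 1 := by rw [← sub_eq_zero, ← geom_sum_mul, e, zero_mul]
  have b2 : μ ≠ 1 := by
    rintro rfl
    exact h0 ((algebraMap F L).injective (by simpa [map_ofNat] using e))
  have : Fact (Nat.Prime 7) := ⟨by norm_num⟩
  have b3 := orderOf_eq_prime b1 b2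
  have b4 : ∀ i j, i + j = 7 → (μ ^ i)⁻¹ = μ ^ j := fun i j h =>
    inv_eq_of_mul_eq_one_right (by rw [← pow_add, h, b1])
  have c2 := a1 _ hμ
  have c4 := a1 _ c2
  rw [← pow_mul] at c4
  have := Finset.card_le_card_of_injOn (s := Finset.Ioo 0 7)
    (t := (ψ g : M4 L).charpoly.roots.toFinset) (μ ^ ·) (fun i hi => by
      rw [Finset.mem_coe, Multiset.mem_toFinset, Polynomial.mem_roots (charpoly_monic _).ne_zero,
        ← mem_spectrum_iff_isRoot_charpoly]
      obtain ⟨h3, h4⟩ := Finset.mem_Ioo.1 hi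
      beta_reduce
      interval_cases i
      exacts [by simpa using hμ, c2, b4 4 3 rfl ▸ a2 _ c4, c4, b4 2 5 rfl ▸ a2 _ c2,
        b4 1 6 rfl ▸ a2 _ (by simpa using hμ)])
    (pow_injOn_Iio_orderOf.mono fun i hi => by rw [b3]; exact (Finset.mem_Ioo.1 hi).2)
  have h5 := (Multiset.toFinset_card_le _).trans (Polynomial.card_roots' (ψ g : M4 L).charpoly)
  simp [charpoly_natDegree_eq_dim] at this h5
  omega

section SL2

variable {K : Type*} [Field K]

theorem uU_mul (a b : K) : uU a * uU b = uU (a + b) := Subtype.ext (by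
  change !![1, a; 0, 1] * !![1, b; 0, 1] = !![1, a + b; 0, 1]
  simp [add_comm])

theorem uU_zero : uU (0 : K) = 1 := Subtype.ext one_fin_two.symm

theorem uU_ne : uU (1 : K) ≠ 1 := fun h => by
  simpa [uU] using congrArg (fun m : SL(2, K) => m 0 1) h

/-- the upper unitriangular group -/
def uH : Multiplicative K →* SL(2, K) where
  toFun a := uU a.toAdd
  map_one' := uU_zero
  map_mul' _ _ := (uU_mul _ _).symm

theorem uU_pow (a : K) (n : ℕ) : uU a ^ n = uU (n * a) := by
  rw [← nsmul_eq_mul]; exact (map_pow (uH (K := K)) (Multiplicative.ofAdd a) n).symm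

/-- diagonal matrices -/
def dg (a : Kˣ) : SL(2, K) := ⟨!![(a : K), 0; 0, (a⁻¹ : Kˣ)], by simp [det_fin_two]⟩

theorem dg_mul_uU (a : Kˣ) (t : K) : dg a * uU t = uU (a ^ 2 * t) * dg a := Subtype.ext (by
  change !![(a : K), 0; 0, (a⁻¹ : Kˣ)] * !![1, t; 0, 1] =
    !![1, a ^ 2 * t; 0, 1] * !![(a : K), 0; 0, (a⁻¹ : Kˣ)]
  simp [sq, mul_right_comm])

theorem exists_weight [IsAlgClosed K] {V A : Type*} [AddCommGroup V] [Module K V]
    [FiniteDimensional K V] [CommGroup A] [Fintype A] (τ : A →* Module.End K V)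
    (h : (Fintype.card A : K) ≠ 0) {a : A} (ha : τ a ≠ 1) :
    ∃ v ≠ 0, (∀ a, ∃ c : K, τ a v = c • v) ∧ ∃ a, τ a v ≠ v := by
  let W := LinearMap.ker (∑ b, τ b)
  have h1 : ∀ a, (∑ b, τ b) * τ a = ∑ b, τ b := fun a => by
    simp only [Finset.sum_mul, ← map_mul]
    exact Fintype.sum_equiv (Equiv.mulRight a) _ _ fun _ => rfl
  have h2 : ∀ a, ∀ w ∈ W, τ a w ∈ W := fun a w hw => by
    rwa [LinearMap.mem_ker, ← Module.End.mul_apply, h1]
  obtain ⟨u, hu⟩ := DFunLike.ne_iff.1 ha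
  have : Nontrivial W := ⟨⟨τ a u - u, by
    rw [LinearMap.mem_ker, map_sub, ← Module.End.mul_apply, h1, sub_self]⟩, 0, fun e =>
      hu (sub_eq_zero.1 (congrArg Subtype.val e))⟩
  obtain ⟨v, hv, h3⟩ := CL.Wag.exists_eigenvector (fun a => (τ a).restrict (h2 a)) fun a b =>
    LinearMap.ext fun w => Subtype.ext (by
      change (τ a * τ b) w = (τ b * τ a) w
      rw [← map_mul, mul_comm, map_mul])
  refine ⟨v, fun e => hv (Subtype.ext e), fun a => (h3 a).imp fun c => congrArg Subtype.val, ?_⟩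
  by_contra! h4
  have := v.2
  rw [LinearMap.mem_ker, LinearMap.sum_apply] at this
  simp only [h4, Finset.sum_const, Finset.card_univ, ← Nat.cast_smul_eq_nsmul K] at this
  exact hv (Subtype.ext ((smul_eq_zero.1 this).resolve_left h))

theorem card_le_of_weight [Fintype K] (hK : Odd (Fintype.card K)) {L V : Type*} [Field L]
    [AddCommGroup V] [Module L V] [FiniteDimensional L V] (Θ : SL(2, K) →* Module.End L V) {v : V}
    (hv : v ≠ 0) (h1 : ∀ a, ∃ c : L, Θ (uU a) v = c • v) {t : K} (ht : Θ (uU t) v ≠ v) :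
    (Fintype.card K - 1) / 2 ≤ Module.finrank L V := by
  classical
  have hi : ∀ g, Function.Injective (Θ g) := fun g =>
    ((Module.End.isUnit_iff _).1 ((Group.isUnit _).map Θ)).1
  have h2 : ∀ (a : Kˣ) (t : K) (c : L), Θ (uU (a ^ 2 * t)) (Θ (dg a) v) = c • Θ (dg a) v ↔
      Θ (uU t) v = c • v := fun a t c => by
    rw [← Module.End.mul_apply, ← map_mul, ← dg_mul_uU, map_mul, Module.End.mul_apply, ← map_smul]
    exact (hi _).eq_iff
  have : ∀ i : (powMonoidHom 2 : Kˣ →* Kˣ).range, ∃ a : Kˣ, a ^ 2 = i := fun i => i.2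
  choose r hr using this
  have b1 : ∀ (x : Kˣ) a, ∃ c : L, Θ (uU a) (Θ (dg x) v) = c • Θ (dg x) v := fun x a => by
    obtain ⟨c, hc⟩ := h1 ((x ^ 2 : K)⁻¹ * a)
    have := (h2 x _ c).2 hc
    rw [mul_inv_cancel_left₀ (pow_ne_zero 2 x.ne_zero)] at this
    exact ⟨c, this⟩
  have b2 : ∀ a b : Kˣ, (∀ x (c : L), Θ (uU x) (Θ (dg a) v) = c • Θ (dg a) v →
      Θ (uU x) (Θ (dg b) v) = c • Θ (dg b) v) → a ^ 2 = b ^ 2 := fun a b h => by
    by_contra hij
    have h5 : (a : K) ^ 2 - b ^ 2 ≠ 0 := fun h0 => hij (Units.ext (by simpa using sub_eq_zero.1 h0))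
    obtain ⟨x, h7⟩ : ∃ x : K, (a : K) ^ 2 * x = b ^ 2 * (x + t) :=
      ⟨b ^ 2 * t / (a ^ 2 - b ^ 2), by field_simp; ring⟩
    obtain ⟨c, hc⟩ := h1 x
    have h6 := h _ c ((h2 a x c).2 hc)
    rw [h7, h2, ← uU_mul, map_mul, Module.End.mul_apply, ← hc] at h6
    exact ht (hi _ h6)
  have h4 := CL.Wag.card_le_of_weights (Θ.comp uH) (fun i => Θ (dg (r i)) v)
    (fun i h => hv (hi _ (h.trans (map_zero _).symm))) (fun i a => b1 _ a.toAdd)
    fun i j h => Subtype.ext (by rw [← hr, ← hr, b2 _ _ fun x => h (.ofAdd x)])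
  rwa [← Nat.card_eq_fintype_card, IsCyclic.card_powMonoidHom_range, Nat.card_units,
    Nat.card_eq_fintype_card, Nat.gcd_eq_right (by obtain ⟨k, hk⟩ := hK; omega)] at h4

theorem eq_seven (q : ℕ) [CharP K q] (hq : q.Prime) (h : (7 : K) = 0) : q = 7 :=
  (Nat.prime_dvd_prime_iff_eq hq (by norm_num)).1 ((CharP.cast_eq_zero_iff K q 7).1 h)

end SL2

/-- Cross characteristic.  `E = K⁺` (upper unitriangular matrices) is diagonalisable over the
algebraic closure; a non-trivial character `χ` of `E` occurring in `V` has the different conjugates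
`t ↦ χ(± a² t)` (torus, and duality), at most four: `|K| ≤ 9`, and `|K| ≠ 7`. -/
theorem cross (hP : Core P) {K : Type*} [Field K] [Fintype K] (hK : Odd (Fintype.card K))
    (h3 : 3 < Fintype.card K) (e : P ≃* SL(2, K)) (p s : ℕ) [CharP F p] [CharP K s]
    (hps : p ≠ s) : Fintype.card K = 5 ∨ Fintype.card K = 9 := by
  have hs : s.Prime := CharP.char_is_prime K s
  have hp : p.Prime := CharP.char_is_prime F p
  obtain ⟨n, -, hn⟩ := FiniteField.card K s
  let L := AlgebraicClosure F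
  let Θ : SL(2, K) →* Module.End L (I4 → L) := (toLinAlgEquiv' (R := L) (n := I4)).toMonoidHom.comp
    ((algebraMap F L).mapMatrix.toMonoidHom.comp ((Units.coeHom _).comp
      (P.subtype.comp e.symm.toMonoidHom)))
  have hΘ : Function.Injective Θ := toLinAlgEquiv'.injective.comp
    ((Matrix.map_injective (algebraMap F L).injective).comp
      (Units.val_injective.comp (P.subtype_injective.comp e.symm.injective)))
  obtain ⟨v, hv, h1, t, ht⟩ := exists_weight (Θ.comp uH) (by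
    rw [Fintype.card_multiplicative, hn, Nat.cast_pow]
    refine pow_ne_zero _ fun h => hps ?_
    exact (Nat.prime_dvd_prime_iff_eq hp hs).1 ((CharP.cast_eq_zero_iff L p s).1 h))
    (a := .ofAdd 1) fun h => by
      exact uU_ne (hΘ (h.trans (map_one Θ).symm))
  have h4 := card_le_of_weight hK Θ hv (fun a => h1 (.ofAdd a)) (t := t.toAdd) ht
  have h5 : Fintype.card K ≠ 7 := fun h7 => by
    have h8 : (7 : K) = 0 := by simpa [h7] using FiniteField.cast_card_eq_zero K
    have h10 : (3 : K) ≠ 0 := fun h => one_ne_zero (α := K) (by linear_combination h8 - 2 * h)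
    refine hps ((eq_seven p hp (seven_eq_zero (hP.sp (e.symm (uU 1)).2) ?_ (fun h => ?_) ?_)).trans
      (eq_seven s hs h8).symm)
    · rw [← Subgroup.coe_pow, ← map_pow, uU_pow]
      simp [h8, uU_zero]
    · exact uU_ne (e.symm.injective ((Subtype.ext h).trans (map_one _).symm))
    · have : IsConj (uU (1 : K)) (uU 1 ^ 2) := isConj_iff.2 ⟨dg (Units.mk0 3 h10), by
        rw [dg_mul_uU, mul_inv_cancel_right, uU_pow]
        congr 1
        simp only [Units.val_mk0]
        linear_combination h8⟩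
      simpa using (P.subtype.comp e.symm.toMonoidHom).map_isConj this
  obtain ⟨k, hk⟩ := hK
  simp at h4
  omega

theorem cycle_list : ∀ l : List ℕ, (∀ a ∈ l, 2 ≤ a) → l.sum ≤ 7 → Even (l.sum + l.length) →
    (∀ a ∈ l, a ∣ 3) ∨ (∀ a ∈ l, a ∣ 4) ∨ (∀ a ∈ l, a ∣ 7) ∨ (l : Multiset ℕ) = {5} ∨
      (l : Multiset ℕ) = {2, 2, 3}
  | [], _, _, _ => by decide
  | [a], h1, h2, h3 => by
    have : a ≤ 7 := by simpa using h2
    revert h1 h2 h3
    interval_cases a <;> decide
  | [a, b], h1, h2, h3 => by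
    simp only [List.sum_cons, List.sum_nil] at h2
    have : a ≤ 7 := by omega
    have : b ≤ 7 := by omega
    revert h1 h2 h3
    interval_cases a <;> interval_cases b <;> decide
  | [a, b, c], h1, h2, h3 => by
    simp only [List.sum_cons, List.sum_nil] at h2
    have := h1 a (by simp)
    have := h1 b (by simp)
    have := h1 c (by simp)
    have : a ≤ 3 := by omega
    have : b ≤ 3 := by omega
    have : c ≤ 3 := by omega
    revert h2 h3
    interval_cases a <;> interval_cases b <;> interval_cases c <;> decide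
  | a :: b :: c :: d :: l, h1, h2, _ => by
    simp only [List.sum_cons] at h2
    have := h1 a (by simp)
    have := h1 b (by simp)
    have := h1 c (by simp)
    have := h1 d (by simp)
    omega

open Equiv in
theorem a7_cases (g : alternatingGroup (Fin 7)) : g ^ 3 = 1 ∨ g ^ 4 = 1 ∨ g ^ 7 = 1 ∨
    (g ^ 5 = 1 ∧ IsConj g (g ^ 3)) ∨
    (g ^ 6 = 1 ∧ ∃ t, t * g = g * t ∧ t * t = 1 ∧ t ≠ 1 ∧ g ^ 3 ≠ 1 ∧ t * g ^ 3 ≠ 1) := by
  obtain ⟨l, hl⟩ := Quotient.exists_rep g.1.cycleType
  replace hl : (l : Multiset ℕ) = g.1.cycleType := hl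
  have hs := Perm.mem_alternatingGroup.1 g.2
  rw [Perm.sign_of_cycleType, ← hl, neg_one_pow_eq_one_iff_even (by decide)] at hs
  have pw : ∀ n, (∀ a ∈ l, a ∣ n) → g ^ n = 1 := fun n h => Subtype.ext
    (orderOf_dvd_iff_pow_eq_one.1 (by rw [← Perm.lcm_cycleType, ← hl]; exact Multiset.lcm_dvd.2 h))
  have key : ∀ g₀ : alternatingGroup (Fin 7), (l : Multiset ℕ) = g₀.1.cycleType →
      ∃ a : MulAut (alternatingGroup (Fin 7)), g = a g₀ := fun g₀ h => by
    obtain ⟨c, hc⟩ := isConj_iff.1 (Perm.isConj_iff_cycleType_eq.2 (h.symm.trans hl))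
    exact ⟨MulAut.conjNormal c, Subtype.ext hc.symm⟩
  refine (cycle_list l (fun a ha => Perm.two_le_of_mem_cycleType (σ := g.1)
    (hl ▸ Multiset.mem_coe.2 ha)) (by simpa [← hl] using g.1.sum_cycleType_le)
    (by simpa using hs)).imp (pw 3) (Or.imp (pw 4) (Or.imp (pw 7) (Or.imp (fun h => ?_) fun h => ?_)))
  · obtain ⟨a, rfl⟩ := key ⟨c[0, 1, 2, 3, 4], Perm.mem_alternatingGroup.2 (by decide +kernel)⟩
      (h.trans (by decide +kernel))
    rw [← map_pow, ← map_pow, a.map_eq_one_iff]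
    exact ⟨by decide +kernel, a.toMonoidHom.map_isConj (isConj_iff.2
      ⟨⟨c[1, 3, 4, 2] * c[5, 6], Perm.mem_alternatingGroup.2 (by decide +kernel)⟩,
        by decide +kernel⟩)⟩
  · obtain ⟨a, rfl⟩ := key ⟨c[0, 1] * c[2, 3] * c[4, 5, 6],
      Perm.mem_alternatingGroup.2 (by decide +kernel)⟩ (h.trans (by decide +kernel))
    refine ⟨?_, a ⟨c[0, 2] * c[1, 3], Perm.mem_alternatingGroup.2 (by decide +kernel)⟩, ?_⟩ <;>
      simp only [← map_pow, ← map_mul, ne_eq, a.map_eq_one_iff, a.apply_eq_iff_eq] <;>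
      decide +kernel

theorem ne_neg (h2 : (2 : F) ≠ 0) (g : GL4 F) : g ≠ -g := fun h => h2 (by
  have : (1 : GL4 F) = -1 := mul_right_cancel (b := g) (by simpa using h)
  have h1 : (1 : F) = -1 := by
    simpa using congrArg (fun x : GL4 F => (x : M4 F) (.inl 0) (.inl 0)) this
  linear_combination h1)

theorem trace_conj {g h : GL4 F} (e : IsConj g h) : (h : M4 F).trace = (g : M4 F).trace := by
  obtain ⟨c, rfl⟩ := isConj_iff.1 e
  rw [Units.val_mul, Units.val_mul, trace_mul_cycle, Units.inv_mul, one_mul]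

/-- `π` is the quotient map modulo scalars -/
structure Cov {G : Type*} [Group G] (π : P →* G) : Prop where
  two : (2 : F) ≠ 0
  sp : P ≤ spGL 2 F
  surj : Function.Surjective π
  ker : ∀ g, π g = 1 ↔ g.1 ∈ scalars I4 F

theorem Core.exists_cov (hP : Core P) (h2 : (2 : F) ≠ 0) {G : Type*} [Group G] (e : Bar P ≃* G) :
    ∃ π : P →* G, Cov π :=
  ⟨e.toMonoidHom.comp (QuotientGroup.mk' _), h2, hP.sp,
    e.surjective.comp (QuotientGroup.mk'_surjective _),
    fun g => e.map_eq_one_iff.trans (QuotientGroup.eq_one_iff g)⟩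

namespace Cov

variable {G : Type*} [Group G] {π : P →* G} (C : Cov π)
include C

theorem eq_or {g h : P} (e : π g = π h) : g.1 = h ∨ g.1 = -h :=
  (eq_or_of_scalar (C.sp (g * h⁻¹).2) ((C.ker _).1 (by simp [e]))).imp mul_inv_eq_one.1
    fun e => by simpa using mul_inv_eq_iff_eq_mul.1 e

theorem pow_eq {g : P} {n : ℕ} (h : π g ^ n = 1) : g.1 ^ n = 1 ∨ g.1 ^ n = -1 :=
  C.eq_or (g := g ^ n) (h := 1) (by simpa using h)

theorem pow_two_mul {g : P} {n : ℕ} (h : π g ^ n = 1) : g.1 ^ (2 * n) = 1 := by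
  rcases C.pow_eq h with e | e <;> simp [pow_mul', e]

theorem isConj {g h : P} {n : ℕ} (hn : Odd n) (e : g.1 ^ n = h.1 ^ n) (hc : IsConj (π g) (π h))
    (hz : π g ^ n = 1) : IsConj g.1 h.1 := by
  obtain ⟨c, hc⟩ := isConj_iff.1 hc
  obtain ⟨c, rfl⟩ := C.surj c
  refine isConj_iff.2 ⟨c, (C.eq_or (g := c * g * c⁻¹) (by simpa using hc)).resolve_right fun e' => ?_⟩
  have : (c.1 * g * c.1⁻¹) ^ n = (-h.1) ^ n := congrArg (· ^ n) e'
  rw [conj_pow, hn.neg_pow, ← e] at this
  refine ne_neg C.two (g.1 ^ n) (Eq.trans ?_ this)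
  rcases C.pow_eq hz with e | e <;> simp [e]

theorem sq (hN : NoInv P) {x : P} (h : π x * π x = 1) (h' : π x ≠ 1) : x.1 * x.1 = -1 :=
  (C.eq_or (g := x * x) (h := 1) (by simpa using h)).resolve_left fun e =>
    h' ((C.ker x).2 (hN _ x.2 e))

theorem anti (hN : NoInv P) {g t : P} {n : ℕ} (a1 : π t * π g = π g * π t) (a2 : π t * π t = 1)
    (a3 : π t ≠ 1) (h : π g ^ (n + n) = 1) (a4 : π g ^ n ≠ 1) (a5 : π t * π g ^ n ≠ 1) :
    g.1 ^ n * g.1 ^ n = -1 ∧ t.1 * g = -(g * t) := by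
  have b2 : g.1 ^ n * g.1 ^ n = -1 :=
    C.sq hN (x := g ^ n) (by rwa [map_pow, ← pow_add]) (by rwa [map_pow])
  refine ⟨b2, (C.eq_or (g := t * g) (h := g * t) (by simpa using a1)).resolve_left fun e => ?_⟩
  have c1 : Commute t.1 (g.1 ^ n) := Commute.pow_right e n
  have : t.1 * g.1 ^ n * (t.1 * g.1 ^ n) = -1 := C.sq hN (x := t * g ^ n) (by
    rw [map_mul, map_pow, (Commute.pow_right a1 n).symm.mul_mul_mul_comm, a2, ← pow_add, h,
      one_mul]) (by rwa [map_mul, map_pow])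
  rw [c1.symm.mul_mul_mul_comm, b2, C.sq hN a2 a3] at this
  exact ne_neg C.two 1 (by simpa using this)

theorem seven {x : G} (hx : CL.MH.Sev x) : (7 : F) = 0 := by
  obtain ⟨g, rfl⟩ := C.surj x
  have a1 : π (g ^ 8) = π g := by rw [map_pow, pow_succ, hx.1, one_mul]
  have a2 : (g ^ 8).1 ^ 7 = 1 := by
    change (g.1 ^ 8) ^ 7 = 1
    rw [← pow_mul, show 8 * 7 = 2 * 7 * 4 by rfl, pow_mul, C.pow_two_mul hx.1, one_pow]
  generalize g ^ 8 = u at a1 a2
  rw [← a1] at hx
  refine seven_eq_zero (C.sp u.2) a2 (fun h => hx.2.1 ?_)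
    (C.isConj (h := u ^ 2) (n := 7) (by decide) ?_ ?_ hx.1)
  · rw [show u = 1 from Subtype.ext h, map_one]
  · change _ = (u.1 ^ 2) ^ 7
    rw [← pow_mul, mul_comm, pow_mul, a2, one_pow]
  · rw [map_pow]; exact hx.2.2

end Cov

/-- `p = 7` by `seven_eq_zero`; then `tr(g)⁷ = tr(g⁷) = tr(g)` for all `g ∈ P` (lifts of elements of
order `1, 2, 3, 4, 5, 6, 7` of `A₇`; lifts of involutions have order `4`; `tr g⁻¹ = tr g`; a lift of
an element of order `6` is conjugate to its negative) and `Core.card_le_of_trace`. -/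
theorem alt7 (hodd : Odd (Fintype.card F)) (hP : Core P) (hN : NoInv P)
    (e : Bar P ≃* alternatingGroup (Fin 7)) : Fintype.card F = 7 := by
  obtain ⟨π, C⟩ := hP.exists_cov (two_ne hodd) e
  have h7 := C.seven CL.MH.sev_c7
  have : Fact (Nat.Prime 7) := ⟨by norm_num⟩
  have : CharP F 7 := (CharP.charP_iff_prime_eq_zero this.1).2 (by exact_mod_cast h7)
  have h8 := hP.card_le_of_trace 7 one_ne_zero fun g hg => by
    have e7 := trace_pow_char 7 (g : M4 F) 1
    rw [← Units.val_pow_eq_pow_val, pow_one] at e7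
    rw [pow_one, ← e7]
    rcases a7_cases (π ⟨g, hg⟩) with h | h | h | ⟨h, hc⟩ | ⟨h, t, a1, a2, a3, a4, a5⟩
    · rw [pow_succ, show g ^ 6 = 1 from C.pow_two_mul h, one_mul]
    · rw [← trace_inv_sp (hP.sp hg),
        eq_inv_of_mul_eq_one_left ((pow_succ g 7).symm.trans (C.pow_two_mul h))]
    · apply frobenius_inj F 7
      rw [frobenius_def, frobenius_def, ← e7]
      have h4 : (4 : F) ^ 7 = 4 := by linear_combination 2340 * h7
      have h5 : (-4 : F) ^ 7 = -4 := by linear_combination -2340 * h7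
      rcases C.pow_eq h with e | e <;> rw [show g ^ 7 = _ from e] <;> simp [h4, h5]
    · have a1 : g ^ 10 = 1 := C.pow_two_mul h
      have := trace_conj (C.isConj (h := ⟨g, hg⟩ ^ 3) (n := 5) (by decide)
        (by change g ^ 5 = (g ^ 3) ^ 5; rw [← pow_mul, pow_add g 10 5, a1, one_mul])
        (by rwa [map_pow]) h)
      rw [← trace_inv_sp (hP.sp (pow_mem hg 7)),
        ← eq_inv_of_mul_eq_one_left ((pow_add g 3 7).symm.trans a1)]
      exact this
    · obtain ⟨t, rfl⟩ := C.surj t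
      obtain ⟨b2, b3⟩ := C.anti hN (n := 3) a1 a2 a3 h a4 a5
      refine trace_conj (isConj_iff.2 ⟨t, ?_⟩)
      rw [show t.1 * g = _ from b3, pow_succ, pow_add g 3 3, show g ^ 3 * g ^ 3 = _ from b2]
      simp
  obtain ⟨n, -, hn⟩ := FiniteField.card F 7
  have := Nat.pow_le_pow_right (n := 7) (by decide) n.pos
  omega

end CL.Sp4O
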