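import Mathlib
import Cfsg.Agent.CLAS.Sp4OI1

/-!
# Four-dimensional symplectic representations of `SL₂(K)` in the defining characteristic
-/

set_option autoImplicit false
set_option linter.unusedSectionVars false

namespace CL.Sp4O

open Matrix Module
open scoped MatrixGroups

section SL2

variable {K : Type*} [Field K]

/-- the Weyl element -/
def ww : SL(2, K) := ⟨!![0, -1; 1, 0], by simp [det_fin_two]⟩

theorem sl_ext {a b c : SL(2, K)} (h : a.1 * b.1 = c.1) : a * b = c := Subtype.ext h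

theorem ww_sq : (ww * ww : SL(2, K)) = -1 := sl_ext (by
  ext i j; fin_cases i <;> fin_cases j <;> simp [ww])

theorem ww_uU (t : K) : ww * uU t = uL (-t) * ww := Subtype.ext (by
  change (ww : SL(2, K)).1 * (uU t).1 = (uL (-t)).1 * (ww : SL(2, K)).1
  simp [ww, uU, uL])

theorem dg_ww (a : Kˣ) : dg a⁻¹ * ww = ww * dg a := Subtype.ext (by
  change (dg a⁻¹).1 * (ww : SL(2, K)).1 = (ww : SL(2, K)).1 * (dg a).1
  simp [ww, dg])

theorem dg_mul (a b : Kˣ) : dg a * dg b = dg (a * b) := sl_ext (by simp [dg, mul_comm])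

theorem dg_one : dg (1 : Kˣ) = 1 := Subtype.ext (by simp [dg, one_fin_two])

theorem braid : uU 1 * ww * uU 1 * ww = (ww * uU (-1) : SL(2, K)) := Subtype.ext (by
  change (uU (1 : K)).1 * (ww : SL(2, K)).1 * (uU 1).1 * (ww : SL(2, K)).1 =
    (ww : SL(2, K)).1 * (uU (-1)).1
  simp [ww, uU])

theorem bruhat (g : SL(2, K)) (h : g 1 0 ≠ 0) :
    g = uU ((g 0 0 - 1) / g 1 0) * uL (g 1 0) * uU ((g 1 1 - 1) / g 1 0) := Subtype.ext (by
  change g.1 = (uU _).1 * (uL _).1 * (uU _).1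
  have := g.2
  rw [det_fin_two] at this
  ext i j
  fin_cases i <;> fin_cases j <;> simp [uU, uL] <;> field_simp
  · ring
  · linear_combination -this
  · ring)

theorem sl_induction {p : SL(2, K) → Prop} (h1 : ∀ t, p (uU t)) (h2 : p ww)
    (h3 : ∀ a b, p a → p b → p (a * b)) (g : SL(2, K)) : p g := by
  have h4 : ∀ a, p a → p (a * ww⁻¹) := fun a ha => by
    have : (ww⁻¹ : SL(2, K)) = ww * ww * ww :=
      inv_eq_of_mul_eq_one_left (by rw [mul_assoc, ww_sq]; simp)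
    exact this ▸ h3 _ _ ha (h3 _ _ (h3 _ _ h2 h2) h2)
  have h5 : ∀ g : SL(2, K), g 1 0 ≠ 0 → p g := fun g h => by
    rw [bruhat g h]
    refine h3 _ _ (h3 _ _ (h1 _) ?_) (h1 _)
    have := h4 _ (h3 _ _ h2 (h1 (-g 1 0)))
    rwa [ww_uU, neg_neg, mul_inv_cancel_right] at this
  by_cases h : g 1 0 = 0
  · have := h4 _ (h5 (g * ww) fun e => ?_)
    · rwa [mul_inv_cancel_right] at this
    · have h6 : g.1.det = 1 := g.2
      change (g.1 * (ww : SL(2, K)).1) 1 0 = 0 at e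
      simp [ww, mul_apply] at e
      rw [det_fin_two, show g.1 1 0 = 0 from h, show g.1 1 1 = 0 from e] at h6
      simp at h6
  · exact h5 g h

theorem bruhat' (g : SL(2, K)) :
    (∃ a t, g = dg a * uU t) ∨ ∃ a s t, g = uU s * ww * dg a * uU t := by
  have h6 : g.1.det = 1 := g.2
  rw [det_fin_two] at h6
  by_cases h : g.1 1 0 = 0
  · have h0 : g.1 0 0 ≠ 0 := fun e => by simp [h, e] at h6
    refine .inl ⟨Units.mk0 _ h0, g.1 0 1 / g.1 0 0, (sl_ext ?_).symm⟩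
    ext i j
    fin_cases i <;> fin_cases j <;> simp [uU, dg, h] <;> field_simp
    linear_combination -h6 - g.1 0 1 * h
  · refine .inr ⟨Units.mk0 _ h, g.1 0 0 / g.1 1 0, g.1 1 1 / g.1 1 0, Subtype.ext ?_⟩
    change g.1 = (uU _).1 * (ww : SL(2, K)).1 * (dg _).1 * (uU _).1
    ext i j
    fin_cases i <;> fin_cases j <;> simp [uU, dg, ww] <;> field_simp
    linear_combination -h6

theorem sq_span (h2 : (2 : K) ≠ 0) (S : AddSubgroup K) {t : K} (ht : t ≠ 0)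
    (h : ∀ a : Kˣ, a ^ 2 * t ∈ S) (s : K) : s ∈ S := by
  have h1 : ∀ a : K, a ^ 2 * t ∈ S := fun a => by
    by_cases ha : a = 0
    · simp [ha]
    · exact h (Units.mk0 a ha)
  convert sub_mem (h1 ((s / t + 1) / 2)) (h1 ((s / t - 1) / 2)) using 1
  field_simp
  ring

end SL2

variable {F K V : Type*} [Field F] [Field K] [AddCommGroup V] [Module F V]

theorem step [FiniteDimensional F V] {A C : Submodule F V} (h : A ≤ C)
    (hd : finrank F C = finrank F A + 1) {y z : V} (hy : y ∈ C) (hy' : y ∉ A) (hz : z ∈ C) :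
    ∃ c : F, z - c • y ∈ A := by
  have h1 : A < A ⊔ F ∙ y := left_lt_sup.2 (by rwa [Submodule.span_singleton_le_iff_mem])
  have h2 := Submodule.finrank_lt_finrank_of_lt h1
  rw [← Submodule.eq_of_le_of_finrank_le (sup_le h ((Submodule.span_singleton_le_iff_mem _ _).2 hy))
    (by omega), Submodule.mem_sup] at hz
  obtain ⟨a, ha, _, hb, rfl⟩ := hz
  obtain ⟨c, rfl⟩ := Submodule.mem_span_singleton.1 hb
  exact ⟨c, by simpa using ha⟩

/-- the hypotheses -/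
structure Rep (ρ : SL(2, K) →* End F V) (B : V →ₗ[F] V →ₗ[F] F) : Prop where
  two : (2 : F) ≠ 0
  two' : (2 : K) ≠ 0
  alt : ∀ v, B v v = 0
  nd : ∀ v, (∀ w, B v w = 0) → v = 0
  dim : finrank F V = 4
  inv : ∀ g u v, B (ρ g u) (ρ g v) = B u v
  irr : ∀ W : Submodule F V, (∀ g, ∀ v ∈ W, ρ g v ∈ W) → W = ⊥ ∨ W = ⊤
  com : ∀ φ : End F V, (∀ g v, φ (ρ g v) = ρ g (φ v)) → ∃ c : F, ∀ v, φ v = c • v
  neg : ∀ v, ρ (-1) v = -v
  nil : ∀ t, IsNilpotent (ρ (uU t) - 1)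

/-- the fixed space of the unitriangular group -/
def fixU (ρ : SL(2, K) →* End F V) : Submodule F V := ⨅ t, LinearMap.eqLocus (ρ (uU t)) 1

namespace Rep

variable {ρ : SL(2, K) →* End F V} {B : V →ₗ[F] V →ₗ[F] F}

theorem mem_fixU {v : V} : v ∈ fixU ρ ↔ ∀ t, ρ (uU t) v = v := by simp [fixU]

theorem mul (a b : SL(2, K)) (v : V) : ρ a (ρ b v) = ρ (a * b) v := by rw [map_mul]; rfl

theorem XX (s t : K) (v : V) : ρ (uU s) (ρ (uU t) v) = ρ (uU (s + t)) v := by rw [mul, uU_mul]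

theorem X0 (v : V) : ρ (uU 0) v = v := by rw [uU_zero, map_one]; rfl

theorem DX (a : Kˣ) (t : K) (v : V) : ρ (dg a) (ρ (uU t) v) = ρ (uU (a ^ 2 * t)) (ρ (dg a) v) := by
  rw [mul, mul, dg_mul_uU]

theorem DD (a : Kˣ) (v : V) : ρ (dg a) (ρ (dg a⁻¹) v) = v := by
  rw [mul, dg_mul, mul_inv_cancel, dg_one, map_one]; rfl

theorem DW (a : Kˣ) (v : V) : ρ (dg a⁻¹) (ρ ww v) = ρ ww (ρ (dg a) v) := by rw [mul, mul, dg_ww]

/-- the subspaces defined by the unitriangular group are invariant under the torus -/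
theorem D_mem {C : Submodule F V} (hC : ∀ a, ∀ y ∈ C, ρ (dg a) y ∈ C) {y : V}
    (h : ∀ t, ρ (uU t) y - y ∈ C) (a : Kˣ) (t : K) : ρ (uU t) (ρ (dg a) y) - ρ (dg a) y ∈ C := by
  have := hC a _ (h ((a ^ 2 : K)⁻¹ * t))
  rwa [map_sub, DX, mul_inv_cancel_left₀ (pow_ne_zero 2 a.ne_zero)] at this

theorem D_fix {y : V} (h : y ∈ fixU ρ) (a : Kˣ) : ρ (dg a) y ∈ fixU ρ := mem_fixU.2 fun t =>
  sub_eq_zero.1 (D_mem (C := ⊥) (by simp) (by simpa [sub_eq_zero] using mem_fixU.1 h) a t)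

variable (R : Rep ρ B)
include R

theorem fd : FiniteDimensional F V := .of_finrank_pos (by rw [R.dim]; norm_num)

theorem skew (u v : V) : B u v = -B v u := by
  have := R.alt (u + v)
  simp only [map_add, LinearMap.add_apply, R.alt] at this
  linear_combination this

theorem WW (v : V) : ρ ww (ρ ww v) = -v := by rw [mul, ww_sq, R.neg]

theorem irr' (W : Submodule F V) (h1 : ∀ t, ∀ v ∈ W, ρ (uU t) v ∈ W) (h2 : ∀ v ∈ W, ρ ww v ∈ W) :
    W = ⊥ ∨ W = ⊤ :=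
  R.irr W (sl_induction h1 h2 fun a b ha hb v hv => mul (ρ := ρ) a b v ▸ ha _ (hb v hv))

theorem all {A C : Submodule F V} (hA : ∀ a, ∀ y ∈ A, ρ (dg a) y ∈ A)
    (hC : ∀ a, ∀ y ∈ C, ρ (dg a) y ∈ C) (hC' : ∀ t, ∀ y ∈ C, ρ (uU t) y ∈ C) {t : K} (ht : t ≠ 0)
    (h : ∀ y ∈ A, ρ (uU t) y - y ∈ C) (s : K) : ∀ y ∈ A, ρ (uU s) y - y ∈ C :=
  sq_span R.two'
    { carrier := {s | ∀ y ∈ A, ρ (uU s) y - y ∈ C}
      add_mem' := fun {a b} ha hb y hy => by
        simpa [XX] using add_mem (hC' a _ (hb y hy)) (ha y hy)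
      zero_mem' := fun y _ => by simp [X0]
      neg_mem' := fun {a} ha y hy => by simpa [XX, X0] using neg_mem (hC' (-a) _ (ha y hy)) }
    ht (fun a y hy => by simpa [DX, DD] using hC a _ (h _ (hA a⁻¹ y hy))) s

theorem exists_fix [Finite K] {A C : Submodule F V} (h : A < C) (hA : ∀ t, ∀ y ∈ A, ρ (uU t) y ∈ A)
    (hC : ∀ t, ∀ y ∈ C, ρ (uU t) y ∈ C) : ∃ v ∈ C, v ∉ A ∧ ∀ t, ρ (uU t) v - v ∈ A := by
  classical
  have := Fintype.ofFinite K
  suffices ∀ T : Finset K, ∃ v ∈ C, v ∉ A ∧ ∀ t ∈ T, ρ (uU t) v - v ∈ A by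
    simpa using this Finset.univ
  intro T
  induction T using Finset.induction_on with
  | empty => simpa using SetLike.exists_of_lt h
  | insert t T _ ih =>
    obtain ⟨v, h1, h2, h3⟩ := ih
    have h4 : ∀ k : ℕ, ((ρ (uU t) - 1) ^ k) v ∈ C ∧
        ∀ s ∈ T, ρ (uU s) (((ρ (uU t) - 1) ^ k) v) - ((ρ (uU t) - 1) ^ k) v ∈ A := fun k => by
      induction k with
      | zero => exact ⟨h1, h3⟩
      | succ k ih =>
        rw [pow_succ', End.mul_apply]
        refine ⟨sub_mem (hC t _ ih.1) ih.1, fun s hs => ?_⟩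
        convert sub_mem (hA t _ (ih.2 s hs)) (ih.2 s hs) using 1
        simp only [LinearMap.sub_apply, End.one_apply, map_sub, XX, add_comm s t]
        abel
    have h5 : ∃ k : ℕ, ((ρ (uU t) - 1) ^ (k + 1)) v ∈ A := by
      obtain ⟨k, hk⟩ := R.nil t
      exact ⟨k, by simp [pow_succ', hk]⟩
    refine ⟨_, (h4 (Nat.find h5)).1, ?_, ?_⟩
    · rcases h6 : Nat.find h5 with _ | k
      · exact h2
      · exact Nat.find_min h5 (by omega)
    · simpa [pow_succ'] using And.intro (Nat.find_spec h5) (h4 (Nat.find h5)).2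

theorem perp {u : V} (hu : u ∈ fixU ρ) (t : K) (v : V) : B u (ρ (uU t) v - v) = 0 := by
  rw [map_sub, ← R.inv (uU t) u v, mem_fixU.1 hu, sub_self]

theorem mem_of_perp {u : V} (h : ∀ t v, B u (ρ (uU t) v - v) = 0) : u ∈ fixU ρ :=
  mem_fixU.2 fun t => sub_eq_zero.1 (R.nd _ fun v => by
    have h1 := R.inv (uU t) u (ρ (uU (-t)) v)
    have h2 := h (-t) v
    rw [XX, add_neg_cancel, X0] at h1
    rw [map_sub] at h2
    rw [map_sub, LinearMap.sub_apply, h1, h2])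

theorem fix_W {u : V} (h1 : u ∈ fixU ρ) (h2 : ρ ww u ∈ fixU ρ) : u = 0 := by
  rcases R.irr' (fixU ρ ⊓ (fixU ρ).comap (ρ ww)) (fun t v hv => by rwa [mem_fixU.1 hv.1])
    (fun v hv => ⟨hv.2, by simpa [R.WW] using hv.1⟩) with h | h
  · exact (Submodule.eq_bot_iff _).1 h u ⟨h1, h2⟩
  · have h3 : ∀ v, v ∈ fixU ρ := fun v => (h.ge Submodule.mem_top : v ∈ _ ⊓ _).1
    have h4 : ρ ww u = u := by
      have := congrArg (ρ · u) (braid (K := K))
      simp only [← mul, mem_fixU.1 (h3 _)] at this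
      exact (Group.isUnit ww |>.map ρ |> (End.isUnit_iff _).1).1 this
    have h5 := R.WW u
    rw [h4, h4] at h5
    exact eq_zero_of_neg R.two h5

theorem dim_fix [Finite K] : finrank F (fixU ρ) = 1 := by
  have := R.fd
  have hd := R.dim
  have hW : Function.Injective (ρ ww) := (Group.isUnit ww |>.map ρ |> (End.isUnit_iff _).1).1
  have hb : fixU ρ ⊓ (fixU ρ).map (ρ ww) = ⊥ := eq_bot_iff.2 (by
    rintro _ ⟨h1, u, hu, rfl⟩
    simp [R.fix_W hu h1])
  have h1 := Submodule.finrank_sup_add_finrank_inf_eq (fixU ρ) ((fixU ρ).map (ρ ww))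
  rw [hb, finrank_bot, ← (Submodule.equivMapOfInjective _ hW _).finrank_eq] at h1
  have h2 := Submodule.finrank_le (fixU ρ ⊔ (fixU ρ).map (ρ ww))
  have hf : ∀ C : Submodule F V, finrank F C ≠ 0 → (∀ t, ∀ y ∈ C, ρ (uU t) y ∈ C) →
      ∃ v ∈ C, v ≠ 0 ∧ v ∈ fixU ρ := fun C h h' => by
    simpa [mem_fixU, sub_eq_zero] using R.exists_fix (A := ⊥)
      (bot_lt_iff_ne_bot.2 fun e => h (by simp [e])) (by simp) h'
  obtain ⟨u, -, hu0, hu⟩ := hf ⊤ (by simp [hd]) (by simp)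
  have h3 : finrank F (fixU ρ) ≠ 0 := fun e =>
    hu0 ((Submodule.eq_bot_iff _).1 (Submodule.finrank_eq_zero.1 e) u hu)
  by_contra h4
  have h5 : finrank F (fixU ρ) = 2 := by omega
  have ht : ∀ v, ∃ a ∈ fixU ρ, ∃ b ∈ fixU ρ, v = a + ρ ww b := fun v => by
    have : v ∈ fixU ρ ⊔ (fixU ρ).map (ρ ww) :=
      (Submodule.eq_top_of_finrank_eq (by omega)).ge Submodule.mem_top
    obtain ⟨a, ha, _, ⟨b, hb, rfl⟩, e⟩ := Submodule.mem_sup.1 this
    exact ⟨a, ha, b, hb, e.symm⟩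
  have h6 := LinearMap.BilinForm.finrank_orthogonal (B := B)
    ⟨R.nd, fun v h => R.nd v fun w => by rw [R.skew, h, neg_zero]⟩ (fixU ρ)
  have h7 : fixU ρ = LinearMap.BilinForm.orthogonal B (fixU ρ) := by
    refine Submodule.eq_of_le_of_finrank_le ?_ (by omega)
    obtain ⟨v, hv, hv0, hv'⟩ := hf (LinearMap.BilinForm.orthogonal B (fixU ρ)) (by omega)
      fun t y hy n hn => by
        have := R.perp hn t y
        rwa [map_sub, hy n hn, sub_zero] at this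
    obtain ⟨a, ha, b, hb, h8, -⟩ := dim_two _ h5
    obtain ⟨x, y, rfl⟩ := h8 v hv'
    have h9 : B a b = 0 := by
      by_contra h9
      have e1 : B a _ = 0 := hv a ha
      have e2 : B b _ = 0 := hv b hb
      simp [R.alt, R.skew b a, h9] at e1 e2
      simp [e1, e2] at hv0
    intro m hm n hn
    obtain ⟨_, _, rfl⟩ := h8 m hm
    obtain ⟨_, _, rfl⟩ := h8 n hn
    simp [R.alt, R.skew b a, h9]
  have hN : ∀ t v, ρ (uU t) v - v ∈ fixU ρ := fun t v => h7.ge fun n hn => R.perp hn t v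
  have hadd : ∀ s t v, ρ (uU (s + t)) v - v = (ρ (uU s) v - v) + (ρ (uU t) v - v) := fun s t v => by
    have := mem_fixU.1 (hN t v) s
    rw [map_sub, XX] at this
    linear_combination (norm := abel) this
  have hneg : ∀ s v, ρ (uU (-s)) v - v = -(ρ (uU s) v - v) := fun s v => by
    rw [eq_neg_iff_add_eq_zero, ← hadd, neg_add_cancel, X0, sub_self]
  have a1 : ∀ a ∈ fixU ρ, ρ (uU 1) (ρ ww a) - ρ ww a = a := fun a ha => by
    have := congrArg (ρ · (ρ ww a)) (braid (K := K))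
    simp only [← mul, R.WW, map_neg, mem_fixU.1 ha] at this
    rw [sub_eq_iff_eq_add.1 (hneg 1 _), map_add, R.WW, map_neg] at this
    refine sub_eq_zero.1 (R.fix_W (sub_mem (hN _ _) ha) ?_)
    convert sub_mem (hN 1 (ρ ww a)) ha using 1
    rw [map_sub (ρ ww) _ a]
    linear_combination (norm := abel) this
  have a2 : ∀ (b : Kˣ), ∀ a ∈ fixU ρ, ρ (uU (b ^ 2 * 1)) (ρ ww a) - ρ ww a = ρ (dg (b * b)) a :=
    fun b a ha => by
      have := congrArg (ρ (dg b)) (a1 _ (D_fix ha b))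
      rwa [map_sub, DX, ← DW, DD, mul (dg b), dg_mul] at this
  have a3 : ∀ b : Kˣ, ∃ c : F, ∀ a ∈ fixU ρ, ρ (dg b) a = c • a := fun b => by
    let π : End F V := (ρ (uU 1) - 1) * ρ ww
    let Z : End F V := ρ (dg b) * π + ρ (dg b⁻¹) * (1 - π)
    have z1 : ∀ a ∈ fixU ρ, Z a = ρ (dg b) a := fun a ha => by simp [Z, π, a1 a ha]
    have z2 : ∀ a ∈ fixU ρ, Z (ρ ww a) = ρ ww (ρ (dg b) a) := fun a ha => by
      simp [Z, π, R.WW, mem_fixU.1 ha, DW]
    have z3 := sq_span R.two'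
      { carrier := {t | ∀ a ∈ fixU ρ, ρ (dg b) (ρ (uU t) (ρ ww a) - ρ ww a) =
          ρ (uU t) (ρ ww (ρ (dg b) a)) - ρ ww (ρ (dg b) a)}
        add_mem' := fun {s t} hs ht a ha => by rw [hadd, hadd, map_add, hs a ha, ht a ha]
        zero_mem' := fun a _ => by simp [X0]
        neg_mem' := fun {s} hs a ha => by rw [hneg, hneg, map_neg, hs a ha] } one_ne_zero
      fun c a ha => by rw [a2 c a ha, a2 c _ (D_fix ha b), mul, mul, dg_mul, dg_mul, mul_comm]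
    refine (R.com Z (sl_induction (fun t v => ?_) (fun v => ?_)
      fun g h hg hh v => by rw [← mul, ← mul, hg, hh])).imp fun c hc a ha => by rw [← z1 a ha, hc]
    · obtain ⟨a, ha, a', ha', rfl⟩ := ht v
      rw [map_add, mem_fixU.1 ha, ← sub_add_cancel (ρ (uU t) (ρ ww a')) (ρ ww a'), map_add, map_add,
        map_add, z1 _ (hN _ _), z3 t a' ha', z1 a ha, z2 a' ha', map_add, mem_fixU.1 (D_fix ha b),
        sub_add_cancel]
    · obtain ⟨a, ha, a', ha', rfl⟩ := ht v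
      simp only [map_add, R.WW, map_neg, z1 _ ha, z1 _ ha', z2 _ ha, z2 _ ha']
  have a4 := sq_span R.two'
    { carrier := {t | ρ (uU t) (ρ ww u) - ρ ww u ∈ F ∙ u}
      add_mem' := fun {s t} hs ht => by rw [Set.mem_ofPred_eq, hadd]; exact add_mem hs ht
      zero_mem' := by simp [X0]
      neg_mem' := fun {s} hs => by rw [Set.mem_ofPred_eq, hneg]; exact neg_mem hs } one_ne_zero
    fun b => by
      obtain ⟨c, hc⟩ := a3 (b * b)
      exact Submodule.mem_span_singleton.2 ⟨c, by rw [a2 b u hu, hc u hu]⟩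
  refine (R.irr' (Submodule.span F {u, ρ ww u}) (fun t v hv => ?_) fun v hv => ?_).elim
    (fun h => hu0 ((Submodule.eq_bot_iff _).1 h u (Submodule.subset_span (by simp)))) fun h => ?_
  · obtain ⟨x, y, rfl⟩ := Submodule.mem_span_pair.1 hv
    obtain ⟨c, hc⟩ := Submodule.mem_span_singleton.1 (a4 t)
    refine Submodule.mem_span_pair.2 ⟨x + y * c, y, ?_⟩
    rw [map_add, map_smul, map_smul, mem_fixU.1 hu, ← eq_sub_iff_add_eq.1 hc]
    module
  · obtain ⟨x, y, rfl⟩ := Submodule.mem_span_pair.1 hv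
    exact Submodule.mem_span_pair.2 ⟨-y, x, by simp [R.WW, add_comm]⟩
  · have := finrank_range_le_card (R := F) ![u, ρ ww u]
    rw [Set.finrank, range_cons, range_cons, range_empty, Set.union_empty, Set.singleton_union, h]
      at this
    simp [hd] at this

/-- The invariant flag. -/
theorem reg [Finite K] : (∃ f : K → F, Function.Injective f) ∧ ∃ u ≠ 0, u ∈ fixU ρ ∧
    (∀ y ∈ fixU ρ, ∃ c : F, y = c • u) ∧ ∀ v, ((ρ (uU 1) - 1) ^ 3 : End F V) v ∈ fixU ρ ∧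
      (((ρ (uU 1) - 1) ^ 3 : End F V) v = 0 ↔ B u v = 0) := by
  have := R.fd
  have hd := R.dim
  have h1 := R.dim_fix
  obtain ⟨u, hu, hu0, hU⟩ := dim_one _ h1
  obtain ⟨v₀, hv₀⟩ : ∃ v, B u v = 1 := by
    obtain ⟨v, hv⟩ := not_forall.1 fun h => hu0 (R.nd u h)
    exact ⟨(B u v)⁻¹ • v, by simp [hv]⟩
  let V3 := LinearMap.ker (B u)
  have h3 : finrank F V3 = 3 := by
    have : finrank F V3 + 1 = _ :=
      Dual.finrank_ker_add_one_of_ne_zero (f := B u) fun h => by simp [h] at hv₀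
    omega
  have u3 : fixU ρ ≤ V3 := fun y hy => by obtain ⟨c, rfl⟩ := hU y hy; simp [V3, R.alt]
  have N3 : ∀ t v, ρ (uU t) v - v ∈ V3 := R.perp hu
  have X3 : ∀ t, ∀ y ∈ V3, ρ (uU t) y ∈ V3 := fun t y hy => by simpa using add_mem (N3 t y) hy
  have D3 : ∀ a, ∀ y ∈ V3, ρ (dg a) y ∈ V3 := fun a y hy => by
    obtain ⟨c, hc⟩ := hU _ (D_fix hu a⁻¹)
    have := R.inv (dg a) (ρ (dg a⁻¹) u) y
    rw [DD, hc] at this
    simp [V3, this, show B u y = 0 from hy]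
  have X1 : ∀ t, ∀ y ∈ fixU ρ, ρ (uU t) y ∈ fixU ρ := fun t y hy => by rwa [mem_fixU.1 hy]
  have D1 : ∀ a, ∀ y ∈ fixU ρ, ρ (dg a) y ∈ fixU ρ := fun a y hy => D_fix hy a
  have claim : ¬ ∀ t, ∀ y ∈ V3, ρ (uU t) y - y ∈ fixU ρ := fun h => by
    have a1 : ∀ t, ∀ y ∈ V3, ρ (uU t) y - y = -B y (ρ (uU t) v₀ - v₀) • u := fun t y hy => by
      obtain ⟨c, hc⟩ := hU _ (h t y hy)
      have := R.inv (uU t) y v₀
      rw [sub_eq_iff_eq_add.1 hc, ← sub_add_cancel (ρ (uU t) v₀) v₀] at this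
      simp only [map_add, map_smul, LinearMap.add_apply, LinearMap.smul_apply, hv₀,
        show B u _ = 0 from N3 t v₀, smul_eq_mul] at this
      rw [hc, show c = -B y (ρ (uU t) v₀ - v₀) by linear_combination this]
    have a2 : ∀ t, ρ (uU t) v₀ - v₀ ∈ fixU ρ := fun t => mem_fixU.2 fun s => by
      have e1 := a1 s _ (N3 t v₀)
      have e2 := a1 t _ (N3 s v₀)
      rw [R.skew, neg_neg] at e2
      have e3 : -B (ρ (uU t) v₀ - v₀) (ρ (uU s) v₀ - v₀) • u =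
          -(-B (ρ (uU t) v₀ - v₀) (ρ (uU s) v₀ - v₀) • u) := by
        conv_rhs => rw [neg_smul, neg_neg, ← e2]
        rw [← e1]
        simp only [map_sub, XX, add_comm s t]
        abel
      rw [← sub_eq_zero, e1, eq_zero_of_neg R.two e3]
    have : V3 ≤ fixU ρ := fun y hy => mem_fixU.2 fun t => by
      obtain ⟨c, hc⟩ := hU _ (a2 t)
      rw [← sub_eq_zero, a1 t y hy, hc, map_smul, R.skew, show B u y = 0 from hy]
      simp
    have := Submodule.finrank_mono this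
    omega
  let V2 := V3 ⊓ ⨅ t, (fixU ρ).comap (ρ (uU t) - 1)
  have m2 : ∀ y, y ∈ V2 ↔ y ∈ V3 ∧ ∀ t, ρ (uU t) y - y ∈ fixU ρ := fun y => by simp [V2]
  have u2 : fixU ρ ≤ V2 := fun y hy => (m2 y).2 ⟨u3 hy, fun t => sub_mem (X1 t y hy) hy⟩
  obtain ⟨v₂, b1, b2, b3⟩ := R.exists_fix (A := fixU ρ) (C := V3)
    (u3.lt_of_ne fun e => by rw [e] at h1; omega) X1 X3
  have b4 := (m2 _).2 ⟨b1, b3⟩
  have l2 : V2 < V3 := inf_le_left.lt_of_ne fun e => claim fun t y hy => ((m2 y).1 (e.ge hy)).2 t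
  have h2 : finrank F V2 = 2 := by
    have e1 := Submodule.finrank_lt_finrank_of_lt l2
    have e2 := Submodule.finrank_lt_finrank_of_lt (u2.lt_of_ne fun e => b2 (e.ge b4))
    omega
  have X2 : ∀ t, ∀ y ∈ V2, ρ (uU t) y ∈ V2 := fun t y hy => by
    simpa using add_mem (u2 (((m2 y).1 hy).2 t)) hy
  have D2 : ∀ a, ∀ y ∈ V2, ρ (dg a) y ∈ V2 := fun a y hy =>
    (m2 _).2 ⟨D3 a y hy.1, D_mem D1 ((m2 y).1 hy).2 a⟩
  have st : ∀ {A C E : Submodule F V}, A ≤ C → finrank F C = finrank F A + 1 → ∀ t y, y ∈ C →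
      y ∉ A → (∀ z ∈ A, ρ (uU t) z - z ∈ E) → ρ (uU t) y - y ∈ E → ∀ z ∈ C, ρ (uU t) z - z ∈ E :=
    fun h h' t y hy hy' e1 e2 z hz => by
      obtain ⟨c, hc⟩ := step h h' hy hy' hz
      convert add_mem (e1 _ hc) (Submodule.smul_mem _ c e2) using 1
      rw [map_sub, map_smul]
      module
  have N1 : ∀ t, ∀ z ∈ fixU ρ, ρ (uU t) z - z ∈ (⊥ : Submodule F V) := fun t z hz => by
    simp [mem_fixU.1 hz]
  have N2 : ∀ t, ∀ y ∈ V3, ρ (uU t) y - y ∈ V2 := fun t => by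
    obtain ⟨v₃, c1, c2, c3⟩ := R.exists_fix l2 X2 X3
    exact st l2.le (by omega) t _ c1 c2 (fun z hz => sub_mem (X2 t z hz) hz) (c3 t)
  have i1 : ∀ t ≠ 0, ∀ y ∈ V2, y ∉ fixU ρ → ρ (uU t) y - y ≠ 0 := fun t ht y hy hy' e =>
    b2 (mem_fixU.2 fun s => sub_eq_zero.1 (R.all (C := ⊥) D2 (by simp) (by simp) ht
      (st u2 (by omega) t y hy hy' (N1 t) e) s _ b4))
  have i2 : ∀ y ∈ V3, y ∉ V2 → ρ (uU 1) y - y ∉ fixU ρ := fun y hy hy' e =>
    claim (R.all D3 D1 X1 one_ne_zero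
      (st l2.le (by omega) 1 y hy hy' (fun z hz => ((m2 z).1 hz).2 1) e))
  have i3 : ∀ v ∉ V3, ρ (uU 1) v - v ∉ V2 := fun v hv e => by
    have h := st (A := V3) (C := ⊤) le_top (by rw [finrank_top]; omega) 1 v trivial hv (N2 1) e
    refine b2 (R.mem_of_perp fun t v => ?_)
    obtain ⟨c, hc⟩ := step u2 (by omega) b4 b2
      (R.all (A := ⊤) (by simp) D2 X2 one_ne_zero h t v trivial)
    obtain ⟨d, hd⟩ := hU _ hc
    rw [sub_eq_iff_eq_add.1 hd]
    simp [R.alt, R.skew v₂ u, show B u v₂ = 0 from b1]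
  refine ⟨?_, u, hu0, hu, hU, fun v => ⟨((m2 _).1 (N2 1 _ (N3 1 v))).2 1, fun h => ?_, fun h => ?_⟩⟩
  · choose f hf using fun t => hU _ (b3 t)
    refine ⟨f, fun s t h => sub_eq_zero.1 (not_not.1 fun e => i1 _ e _ b4 b2 ?_)⟩
    have : ρ (uU s) v₂ = ρ (uU t) v₂ := by rw [← sub_left_inj (a := v₂), hf, hf, h]
    rw [sub_eq_neg_add s, ← XX, this, XX, neg_add_cancel, X0, sub_self]
  · by_contra hv
    exact i1 1 one_ne_zero _ (N2 1 _ (N3 1 v)) (i2 _ (N3 1 v) (i3 v hv)) h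
  · exact N1 1 _ (((m2 _).1 (N2 1 v h)).2 1)

theorem uWu {u : V} (hu : u ∈ fixU ρ) (hu0 : u ≠ 0) (hU : ∀ y ∈ fixU ρ, ∃ c : F, y = c • u) :
    B u (ρ ww u) ≠ 0 := fun h => by
  have h1 : ∀ g, B u (ρ g u) = 0 := fun g => by
    rcases bruhat' g with ⟨a, t, rfl⟩ | ⟨a, s, t, rfl⟩ <;> obtain ⟨c, hc⟩ := hU _ (D_fix hu a)
    · rw [← mul, mem_fixU.1 hu, hc, map_smul, R.alt, smul_zero]
    · have := R.perp hu s (ρ ww u)
      rw [map_sub, h, sub_zero] at this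
      rw [← mul, ← mul, ← mul, mem_fixU.1 hu, hc, map_smul, map_smul, map_smul, this, smul_zero]
  rcases R.irr (Submodule.span F (Set.range (ρ · u))) fun g v hv => by
    refine Submodule.mem_comap.1 ((Submodule.map_le_iff_le_comap (f := ρ g)).1 ?_ hv)
    rw [Submodule.map_span, ← Set.range_comp]
    exact Submodule.span_mono (by rintro _ ⟨a, rfl⟩; exact ⟨g * a, (mul g a u).symm⟩) with e | e
  · exact hu0 ((Submodule.eq_bot_iff _).1 e u (Submodule.subset_span ⟨1, by simp⟩))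
  · refine hu0 (R.nd u fun w => (?_ : ⊤ ≤ LinearMap.ker (B u)) Submodule.mem_top)
    rw [← e, Submodule.span_le]
    rintro _ ⟨g, rfl⟩
    exact h1 g

end Rep

end CL.Sp4O
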