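/-
The unitary case: all isotropic points are centres.
-/
import Cfsg.Agent.CLAS.ZsU3

set_option autoImplicit false
set_option maxHeartbeats 200000

namespace CL.Zs

open Matrix Cfsg.Geo CL.Asch

variable {F : Type*} [Field F] {ι : Type} [Fintype ι] [DecidableEq ι]

/-- Paper proof.  B(x,v)=τx⬝v hermitian (build `Form.ofHerm` as in MH.eq_SU_of_herm).  D = {x : T x (c τx) for
all c with c+σc=0}; closed under scalars and under x ↦ x + c B(u,x) u (u ∈ D).
(1) the three centres span a non-degenerate 3-space W all of whose isotropic vectors are in D (end of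
MH.herm_of_caseB: P0,Q1,Q2; or restrict T to W and quote it).
(2) extension: U non-degenerate, dim ≥ 3, (dim ≥ 4 or Fix σ ≠ F₂), all isotropic vectors of U in D.  Then
Tv_eq_SO + Witt: SU(U) ≤ K is transitive on non-zero vectors of U of given norm.  Y = {w' ∈ U^⊥ : ∃ w ∈ U,
w≠0, w+w' ∈ D} is a subspace (additivity: choose w₁,w₂ with prescribed norms, w₁+w₂≠0, and B(y₂,y₁)≠0 of
trace zero, conjugate y₁ by y₂); U+Y is invariant (TS.inv) so Y=U^⊥; so all isotropic v ∉ U^⊥ are in D, and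
v ∈ U^⊥ is conjugate to one of these.
(3) Fix σ = F₂, |F|=4, n ≤ 5.  There is y=w+w' ∈ D with B(w',w')=1 (else take y=w+w', w≠0≠w', TS.avoid
y₂=w₂+w₂' with α=B(w₂,w)≠0≠β=B(w₂',w'); move w inside W so that α≠β; then y+(α+β)y₂ has W-part of norm 1).
Orthonormal e₁=w,e₂,e₃ of W, e₄=w', (e₅): all e_i+ζe_j (i,j≤4) are in D.  If every y ∈ D has weight 2 in the
basis e then TS.endgame (Ω = {e_i ⊗ τe_i}, γ = diag(ω,ω²,1..)) is a contradiction.  Else weight 4.  Support
{1,2,3,5}: move by the torus and permutations to y=(1,1,1,0,1), y'=(1,1,0,1,ω), y+ω²y' has support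
{1,2,3,4}.  One vector of support {1,2,3,4} gives all (torus × scalars), so (2) applies to U=⟨e₁..e₄⟩. -/
theorem TS.all_iso [Fintype F] {T : (ι → F) → (ι → F) → Prop} (S : TS T)
    (hn : 4 ≤ Fintype.card ι) (hn' : Fintype.card ι ≤ 5) {σ : F →+* F} (hσ2 : ∀ a, σ (σ a) = a)
    (τ : (ι → F) →ₛₗ[σ] (ι → F)) (hs : ∀ x y, σ (τ x ⬝ᵥ y) = τ y ⬝ᵥ x)
    (inj : ∀ x, τ x = 0 → x = 0)
    (fwd : ∀ x φ, NT T x φ → ∃ c, c + σ c = 0 ∧ φ = c • τ x)
    (root : ∀ x φ a, NT T x φ → σ a = a → T x (a • φ))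
    {x φ u θ y η : ι → F} (h1 : NT T x φ) (h2 : NT T u θ) (h3 : NT T y η)
    (ht : σ ((φ ⬝ᵥ u) * (θ ⬝ᵥ y) * (η ⬝ᵥ x)) ≠ (φ ⬝ᵥ u) * (θ ⬝ᵥ y) * (η ⬝ᵥ x)) :
    ∀ v c, τ v ⬝ᵥ v = 0 → c + σ c = 0 → T v (c • τ v) := by
  let B : (ι → F) →ₛₗ[σ] (ι → F) →ₗ[F] F :=
    LinearMap.mk₂'ₛₗ σ (RingHom.id F) (fun x y => τ x ⬝ᵥ y)
      (fun x x' y => by rw [map_add, add_dotProduct])
      (fun c x y => by rw [map_smulₛₗ, smul_dotProduct])
      (fun x y y' => by rw [dotProduct_add])
      (fun c x y => by rw [dotProduct_smul]; rfl)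
  have hB : ∀ x y, B x y = τ x ⬝ᵥ y := fun _ _ => rfl
  have hne : σ ≠ RingHom.id F := fun e => ht (by rw [e]; rfl)
  have H : ZsU.HF σ B := ⟨hσ2, ⟨_, ht⟩, fun b hb => Tv.exists_norm_eq_of_involution hne hσ2 hb, hs,
    fun x h => inj x (eq_zero_of_dot h)⟩
  obtain ⟨δ, δ0, δ1⟩ := H.delta
  let D : (ι → F) → Prop := fun x => ∀ c, c + σ c = 0 → T x (c • τ x)
  have up : ∀ {x φ}, NT T x φ → D x ∧ ∃ c, c ≠ 0 ∧ c + σ c = 0 ∧ φ = c • τ x := by
    intro x φ h
    obtain ⟨c, h1, rfl⟩ := fwd x φ h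
    have c0 : c ≠ 0 := left_ne_zero_of_smul h.2.2
    refine ⟨fun c' hc' => ?_, c, c0, h1, rfl⟩
    have := root x _ (c' / c) h (by
      rw [map_div₀, show σ c' = -c' by linear_combination hc', show σ c = -c by linear_combination h1,
        neg_div_neg_eq])
    rwa [smul_smul, div_mul_cancel₀ _ c0] at this
  have iso : ∀ {x}, D x → B x x = 0 := fun {x} h => by
    have := S.dot (h δ δ1)
    rw [smul_dotProduct] at this
    exact (smul_eq_zero.1 this).resolve_left δ0
  have nt : ∀ {x} {c : F}, D x → x ≠ 0 → c ≠ 0 → c + σ c = 0 → NT T x (c • τ x) :=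
    fun h h0 c0 c1 => ⟨h _ c1, h0, smul_ne_zero c0 fun e => h0 (inj _ e)⟩
  have C : ZsU.Cl σ B D := by
    refine ⟨H, iso, fun c _ => S.zero_left _, fun {x} a h c hc => ?_, fun {x u} hx hu h0 h1 c hc => ?_,
      fun W hW => S.inv W fun y η h v hv e => ?_, fun {p v} p0 v0 => ?_⟩
    · rw [S.smul, map_smulₛₗ, smul_smul, smul_smul]
      refine h _ ?_
      rw [map_mul, map_mul, hσ2]
      linear_combination (a * σ a) * hc
    · rw [ZsU.exp1, iso hx, iso hu] at h1
      have e : B x u = -B u x := by linear_combination h1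
      have := S.conj (hx c hc) (hu (B u x)⁻¹ (by rw [map_inv₀, H.hs, e, inv_neg, add_neg_cancel]))
      rw [smul_dotProduct, smul_dotProduct, ← hB, ← hB, e, smul_eq_mul, inv_mul_cancel₀ h0, one_smul,
        smul_smul] at this
      convert this using 1
      rw [map_add]
      match_scalars
      · ring
      · rw [smul_eq_mul]
        field_simp
    · obtain ⟨hy, c, -, -, rfl⟩ := up h
      exact hW y hy v hv fun e' => e (by rw [smul_dotProduct, ← hB, e', smul_zero])
    · obtain ⟨u, θ, h, a1, a2⟩ := S.avoid (ψ := τ p) (fun e => p0 (inj _ e)) v0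
      obtain ⟨hy, c, -, -, rfl⟩ := up h
      exact ⟨u, hy, a1, fun e' => a2 (by rw [smul_dotProduct, ← hB, e', smul_zero])⟩
  obtain ⟨hx, c1, -, a1, rfl⟩ := up h1
  obtain ⟨hu, c2, -, a2, rfl⟩ := up h2
  obtain ⟨hy, c3, -, a3, rfl⟩ := up h3
  obtain h | ⟨hq, e, sp, mono, x', u', hx', hu', h0, dg⟩ :=
    C.main (by simpa using hn) (by simpa using hn') hx hu hy (fun e => ht (by
      simp only [smul_dotProduct, smul_eq_mul, ← hB, map_mul] at e ⊢
      rw [show σ c1 = -c1 by linear_combination a1, show σ c2 = -c2 by linear_combination a2,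
        show σ c3 = -c3 by linear_combination a3]
      linear_combination (-c1 * c2 * c3) * e))
  · exact fun v c hv hc => h v hv c hc
  exfalso
  have two := hq.two
  have o1 : (1 : F) + σ 1 = 0 := by rw [map_one]; linear_combination two
  have mext : ∀ {a b : Matrix ι ι F}, (∀ k, a *ᵥ e k = b *ᵥ e k) → a = b := fun {a b} h =>
    Matrix.toLin'.injective (LinearMap.ext fun v => by
      rw [sp v, map_sum, map_sum]
      exact Finset.sum_congr rfl fun k _ => by simp only [map_smul, toLin'_apply, h])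
  have x0 : x' ≠ 0 := by rintro rfl; simp at h0
  have u0 : u' ≠ 0 := by rintro rfl; simp at h0
  have tv : ∀ y v, (1 + vecMulVec y (τ y)) *ᵥ v = v + B y v • y := fun y v => by
    rw [add_mulVec, one_mulVec, vmv_mulVec, hB]
  refine S.endgame {a | ∀ k, ∃ μ : F, a *ᵥ e k = μ • e k} (fun a ha b hb => mext fun k => ?_)
    (fun y η h a ha k => ?_) (nt hx' x0 one_ne_zero o1) (nt hu' u0 one_ne_zero o1)
    (by rwa [one_smul]) (by rw [one_smul]; exact H.symn h0)
    (a := (1 + vecMulVec x' (τ x')) * (1 + vecMulVec u' (τ u')) - 1) (b := 0) (c := 1) (d := 0)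
    (fun k => ?_) (fun k => ⟨0, by simp⟩) (by simp)
  · obtain ⟨μ, h1⟩ := ha k
    obtain ⟨ν, h2⟩ := hb k
    simp only [← mulVec_mulVec, h1, h2, mulVec_smul, smul_smul, mul_comm]
  · obtain ⟨hy, c, c0, c1, rfl⟩ := up h
    obtain rfl := (hq c (by linear_combination c1 - c * two)).resolve_left c0
    obtain ⟨l, μ, h1⟩ := mono y hy k
    obtain ⟨ν, h2⟩ := ha l
    have e1 : (1 : Matrix ι ι F) - vecMulVec y (τ y) = 1 + vecMulVec y (τ y) := by
      ext i j
      simp only [Matrix.sub_apply, Matrix.add_apply]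
      linear_combination (-vecMulVec y (τ y) i j) * two
    refine ⟨ν, ?_⟩
    rw [one_smul, e1, ← mulVec_mulVec, ← mulVec_mulVec, tv y (e k), h1, mulVec_smul, h2, smul_comm,
      ← h1, mulVec_smul, tv, map_add, map_smul, iso hy]
    match_scalars
    · ring
    · linear_combination ν * B y (e k) * two
  · obtain ⟨μ, h1⟩ := dg k
    exact ⟨μ - 1, by rw [sub_mulVec, ← mulVec_mulVec, tv, tv, h1, one_mulVec, sub_smul, one_smul]⟩

end CL.Zs
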