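/-
Invariant subspaces of endomorphisms: irreducible pieces, summands, elements of prime order.
-/
import Mathlib
import Cfsg.Agent.KSG.SpUReal
import Cfsg.Agent.KSG.GLnTori

set_option autoImplicit false

namespace CL.Elus

open Module Polynomial CL.GLn CL.SpU

variable {F : Type*} [Field F] {V : Type*} [AddCommGroup V] [Module F V]
  {V' : Type*} [AddCommGroup V'] [Module F V']

/-! ### Invariant subspaces -/

/-- `W` is `A`-invariant. -/
abbrev Inv (A : Module.End F V) (W : Submodule F V) : Prop := ∀ x ∈ W, A x ∈ W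

theorem inv_iff_map_le {A : Module.End F V} {W : Submodule F V} : Inv A W ↔ W.map A ≤ W := by
  rw [Submodule.map_le_iff_le_comap]; rfl

theorem inv_bot (A : Module.End F V) : Inv A ⊥ := fun x hx => by
  rw [Submodule.mem_bot] at hx; simp [hx]

theorem inv_top (A : Module.End F V) : Inv A ⊤ := fun _ _ => trivial

theorem inv_one (W : Submodule F V) : Inv 1 W := fun _ hx => hx

theorem Inv.inf {A : Module.End F V} {U W : Submodule F V} (h : Inv A U) (h' : Inv A W) :
    Inv A (U ⊓ W) := fun x hx => ⟨h x hx.1, h' x hx.2⟩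

theorem Inv.sup {A : Module.End F V} {U W : Submodule F V} (h : Inv A U) (h' : Inv A W) :
    Inv A (U ⊔ W) := by
  rw [inv_iff_map_le] at *
  rw [Submodule.map_sup]
  exact sup_le_sup h h'

theorem inv_iSup {ι : Sort*} {A : Module.End F V} {D : ι → Submodule F V} (h : ∀ i, Inv A (D i)) :
    Inv A (⨆ i, D i) := by
  simp only [inv_iff_map_le] at *
  rw [Submodule.map_iSup]
  exact iSup_mono h

theorem Inv.smul {A : Module.End F V} {W : Submodule F V} (h : Inv A W) (c : F) : Inv (c • A) W :=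
  fun x hx => W.smul_mem c (h x hx)

theorem inv_smul_iff {A : Module.End F V} {W : Submodule F V} {c : F} (hc : c ≠ 0) :
    Inv (c • A) W ↔ Inv A W :=
  ⟨fun h => by simpa [smul_smul, hc] using h.smul c⁻¹, fun h => h.smul c⟩

theorem Inv.neg {A : Module.End F V} {W : Submodule F V} (h : Inv A W) : Inv (-A) W :=
  fun x hx => W.neg_mem (h x hx)

theorem inv_neg_iff {A : Module.End F V} {W : Submodule F V} : Inv (-A) W ↔ Inv A W :=
  ⟨fun h => by simpa using h.neg, fun h => h.neg⟩

theorem Inv.mul {A B : Module.End F V} {W : Submodule F V} (h : Inv A W) (h' : Inv B W) :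
    Inv (A * B) W := fun x hx => h _ (h' x hx)

theorem Inv.pow {A : Module.End F V} {W : Submodule F V} (h : Inv A W) (k : ℕ) :
    Inv (A ^ k) W := by
  induction k with
  | zero => simpa using inv_one W
  | succ k ih => rw [pow_succ]; exact ih.mul h

theorem Inv.add {A B : Module.End F V} {W : Submodule F V} (h : Inv A W) (h' : Inv B W) :
    Inv (A + B) W := fun x hx => W.add_mem (h x hx) (h' x hx)

theorem Inv.sub {A B : Module.End F V} {W : Submodule F V} (h : Inv A W) (h' : Inv B W) :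
    Inv (A - B) W := fun x hx => W.sub_mem (h x hx) (h' x hx)

theorem Inv.aeval {A : Module.End F V} {W : Submodule F V} (h : Inv A W) (p : F[X]) :
    Inv (aeval A p) W := by
  induction p using Polynomial.induction_on' with
  | add p q hp hq => rw [map_add]; exact hp.add hq
  | monomial n a =>
    rw [aeval_monomial, ← Algebra.smul_def]
    exact (h.pow n).smul a

theorem inv_of_le_ker_sub {A : Module.End F V} {W : Submodule F V} {c : F}
    (h : ∀ x ∈ W, A x = c • x) : Inv A W := fun x hx => by rw [h x hx]; exact W.smul_mem c hx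

theorem inv_of_le_fixed {A : Module.End F V} {W : Submodule F V}
    (h : W ≤ LinearMap.ker (A - 1)) : Inv A W := fun x hx => by
  have := h hx
  rw [LinearMap.mem_ker, LinearMap.sub_apply, sub_eq_zero] at this
  rw [this]; exact hx

theorem inv_ker_of_commute {A B : Module.End F V} (h : Commute A B) : Inv A (LinearMap.ker B) :=
  fun x hx => by
    rw [LinearMap.mem_ker] at *
    rw [← Module.End.mul_apply, ← h.eq, Module.End.mul_apply, hx, map_zero]

theorem inv_range_of_commute {A B : Module.End F V} (h : Commute A B) :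
    Inv A (LinearMap.range B) := by
  rintro _ ⟨y, rfl⟩
  exact ⟨A y, by rw [← Module.End.mul_apply, ← h.eq, Module.End.mul_apply]⟩

theorem commute_aeval (A : Module.End F V) (p : F[X]) : Commute A (aeval A p) := by
  have : Commute (aeval A (X : F[X])) (aeval A p) := (Commute.all _ _).map _
  simpa using this

theorem inv_ker_aeval (A : Module.End F V) (p : F[X]) : Inv A (LinearMap.ker (aeval A p)) :=
  inv_ker_of_commute (commute_aeval A p)

theorem inv_range_aeval (A : Module.End F V) (p : F[X]) : Inv A (LinearMap.range (aeval A p)) :=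
  inv_range_of_commute (commute_aeval A p)

theorem inv_ker_sub_one (A : Module.End F V) : Inv A (LinearMap.ker (A - 1)) :=
  inv_ker_of_commute ((Commute.refl A).sub_right (Commute.one_right A))

theorem inv_range_sub_one (A : Module.End F V) : Inv A (LinearMap.range (A - 1)) :=
  inv_range_of_commute ((Commute.refl A).sub_right (Commute.one_right A))

theorem Inv.map_eq {A : Module.End F V} {W : Submodule F V} [FiniteDimensional F W] (h : Inv A W)
    (hA : Function.Injective A) : W.map A = W :=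
  Submodule.eq_of_le_of_finrank_eq (inv_iff_map_le.1 h)
    (LinearEquiv.finrank_eq (W.equivMapOfInjective A hA)).symm

theorem inv_of_map_eq {A : Module.End F V} {W : Submodule F V} (h : W.map A = W) : Inv A W :=
  inv_iff_map_le.2 h.le

theorem Inv.map_subtype {A : Module.End F V} {W : Submodule F V} (hW : Inv A W)
    {U : Submodule F W} (hU : Inv (A.restrict hW) U) : Inv A (U.map W.subtype) := by
  rintro _ ⟨x, hx, rfl⟩
  exact ⟨_, hU x hx, rfl⟩

theorem Inv.comap_subtype {A : Module.End F V} {W : Submodule F V} (hW : Inv A W)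
    {U : Submodule F V} (hU : Inv A U) : Inv (A.restrict hW) (U.comap W.subtype) :=
  fun x hx => hU x hx

theorem Inv.map_equiv {A : Module.End F V} {B : Module.End F V'} (e : V →ₗ[F] V')
    (he : ∀ v, e (A v) = B (e v)) {W : Submodule F V} (hW : Inv A W) : Inv B (W.map e) := by
  rintro _ ⟨x, hx, rfl⟩
  exact ⟨_, hW x hx, he x⟩

theorem Inv.comap {A : Module.End F V} {B : Module.End F V'} (e : V →ₗ[F] V')
    (he : ∀ v, e (A v) = B (e v)) {W : Submodule F V'} (hW : Inv B W) : Inv A (W.comap e) :=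
  fun x hx => by rw [Submodule.mem_comap, he]; exact hW _ hx

theorem exists_inv_isCompl {A : Module.End F V} (hA : A.IsSemisimple) {U : Submodule F V}
    (hU : Inv A U) : ∃ W, Inv A W ∧ IsCompl U W := by
  obtain ⟨W, h1, h2⟩ := Module.End.isSemisimple_iff.1 hA U hU
  exact ⟨W, h1, h2⟩

theorem exists_inv_compl_le {A : Module.End F V} (hA : A.IsSemisimple) {U M : Submodule F V}
    (hU : Inv A U) (hM : Inv A M) (hUM : U ≤ M) :
    ∃ W, Inv A W ∧ W ≤ M ∧ Disjoint U W ∧ U ⊔ W = M := by
  obtain ⟨W, h1, h2⟩ := exists_inv_isCompl hA hU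
  refine ⟨W ⊓ M, h1.inf hM, inf_le_right, h2.disjoint.mono_right inf_le_left, ?_⟩
  rw [← sup_inf_assoc_of_le _ hUM, h2.sup_eq_top, top_inf_eq]

theorem finrank_sup_of_disjoint [FiniteDimensional F V] {U W : Submodule F V} (h : Disjoint U W) :
    finrank F (U ⊔ W : Submodule F V) = finrank F U + finrank F W := by
  rw [← Submodule.finrank_sup_add_finrank_inf_eq, h.eq_bot, finrank_bot, add_zero]

/-! ### Elementary divisors and summands -/

/-- The total dimension of a multiset of elementary divisors. -/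
noncomputable def wt (s : Multiset (F[X] × ℕ)) : ℕ := (s.map fun x => x.2 * x.1.natDegree).sum

theorem wt_add (s t : Multiset (F[X] × ℕ)) : wt (s + t) = wt s + wt t := by simp [wt]

theorem wt_zero : wt (0 : Multiset (F[X] × ℕ)) = 0 := by simp [wt]

theorem wt_singleton (x : F[X] × ℕ) : wt {x} = x.2 * x.1.natDegree := by simp [wt]

theorem wt_cons (x : F[X] × ℕ) (s : Multiset (F[X] × ℕ)) :
    wt (x ::ₘ s) = x.2 * x.1.natDegree + wt s := by simp [wt]

theorem wt_replicate (k : ℕ) (x : F[X] × ℕ) :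
    wt (Multiset.replicate k x) = k * (x.2 * x.1.natDegree) := by simp [wt]

theorem wt_nsmul (k : ℕ) (s : Multiset (F[X] × ℕ)) : wt (k • s) = k * wt s := by
  induction k with
  | zero => simp [wt]
  | succ k ih => rw [succ_nsmul, wt_add, ih]; ring

theorem _root_.CL.GLn.HasED.finrank_eq_wt {A : Module.End F V} {s : Multiset (F[X] × ℕ)}
    (h : HasED A s) : finrank F V = wt s := h.finrank_eq

theorem _root_.CL.GLn.IsED.mono {s t : Multiset (F[X] × ℕ)} (h : IsED s) (hts : t ≤ s) :
    IsED t := fun x hx => h x (Multiset.mem_of_le hts hx)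

theorem _root_.CL.GLn.IsED.add {s t : Multiset (F[X] × ℕ)} (h : IsED s) (h' : IsED t) :
    IsED (s + t) := fun x hx => (Multiset.mem_add.1 hx).elim (h x) (h' x)

theorem hasED_add_of_isCompl {A : Module.End F V} {U W : Submodule F V} (h : IsCompl U W)
    (hU : Inv A U) (hW : Inv A W) {s t : Multiset (F[X] × ℕ)} (hs : HasED (A.restrict hU) s)
    (ht : HasED (A.restrict hW) t) : HasED A (s + t) :=
  (hs.prodMap ht).of_simil (simil_prod_of_isCompl h hU hW)

theorem simil_restrict_range {A : Module.End F V} {B : Module.End F V'} (e : V' →ₗ[F] V)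
    (he : Function.Injective e) (h : ∀ v, e (B v) = A (e v)) :
    ∃ hU : Inv A (LinearMap.range e), Simil B (A.restrict hU) := by
  refine ⟨by rintro _ ⟨y, rfl⟩; exact ⟨_, h y⟩, LinearEquiv.ofInjective e he, fun v => ?_⟩
  apply Subtype.ext
  simp [h]

theorem exists_isCompl_of_simil_prod {V₁ V₂ : Type*} [AddCommGroup V₁] [Module F V₁]
    [AddCommGroup V₂] [Module F V₂] {A : Module.End F V} {B : Module.End F V₁}
    {C : Module.End F V₂} (h : Simil (V := V₁ × V₂) (B.prodMap C) A) :
    ∃ U W, IsCompl U W ∧ ∃ (hU : Inv A U) (hW : Inv A W),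
      Simil B (A.restrict hU) ∧ Simil C (A.restrict hW) := by
  obtain ⟨e, he⟩ := h
  obtain ⟨hU, h1⟩ := simil_restrict_range (A := A) (B := B)
    ((e : V₁ × V₂ →ₗ[F] V) ∘ₗ LinearMap.inl F V₁ V₂)
    (e.injective.comp LinearMap.inl_injective) (fun v => by simp [← he])
  obtain ⟨hW, h2⟩ := simil_restrict_range (A := A) (B := C)
    ((e : V₁ × V₂ →ₗ[F] V) ∘ₗ LinearMap.inr F V₁ V₂)
    (e.injective.comp LinearMap.inr_injective) (fun v => by simp [← he])
  refine ⟨_, _, ?_, hU, hW, h1, h2⟩
  rw [LinearMap.range_comp, LinearMap.range_comp]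
  exact (Submodule.orderIsoMapComap e).isCompl LinearMap.isCompl_range_inl_inr

theorem exists_hasED_fin {s : Multiset (F[X] × ℕ)} (hs : IsED s) :
    ∃ A : Module.End F (Fin (wt s) → F), HasED A s :=
  exists_hasED_of_finrank hs (by rw [Module.finrank_fin_fun]; rfl)

theorem exists_isCompl_of_hasED_add {A : Module.End F V} {s t : Multiset (F[X] × ℕ)}
    (h : HasED A (s + t)) : ∃ U W, IsCompl U W ∧ ∃ (hU : Inv A U) (hW : Inv A W),
      HasED (A.restrict hU) s ∧ HasED (A.restrict hW) t := by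
  obtain ⟨B, hB⟩ := exists_hasED_fin (h.1.mono (Multiset.le_add_right s t))
  obtain ⟨C, hC⟩ := exists_hasED_fin (h.1.mono (Multiset.le_add_left t s))
  obtain ⟨U, W, h1, hU, hW, h2, h3⟩ := exists_isCompl_of_simil_prod ((hB.prodMap hC).simil h)
  exact ⟨U, W, h1, hU, hW, hB.of_simil h2, hC.of_simil h3⟩

theorem _root_.CL.GLn.HasED.le_of_isCompl [FiniteDimensional F V] {A : Module.End F V}
    {s t : Multiset (F[X] × ℕ)} (h : HasED A s) {U W : Submodule F V} (hc : IsCompl U W)
    (hU : Inv A U) (hW : Inv A W) (ht : HasED (A.restrict hU) t) : t ≤ s := by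
  rw [h.unique (hasED_add_of_isCompl hc hU hW ht (hasED_elemDiv _))]
  exact Multiset.le_add_right _ _

/-- Dimensions of invariant direct summands. -/
theorem exists_isCompl_iff [FiniteDimensional F V] {A : Module.End F V}
    {s : Multiset (F[X] × ℕ)} (h : HasED A s) (m : ℕ) :
    (∃ U W : Submodule F V, IsCompl U W ∧ finrank F U = m ∧ Inv A U ∧ Inv A W) ↔ ∃ t ≤ s, wt t = m := by
  constructor
  · rintro ⟨U, W, hc, rfl, hU, hW⟩
    exact ⟨_, h.le_of_isCompl hc hU hW (hasED_elemDiv _), (hasED_elemDiv _).finrank_eq_wt.symm⟩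
  · rintro ⟨t, ht, rfl⟩
    obtain ⟨u, rfl⟩ := Multiset.le_iff_exists_add.1 ht
    obtain ⟨U, W, h1, hU, hW, h2, -⟩ := exists_isCompl_of_hasED_add h
    exact ⟨U, W, h1, h2.finrank_eq_wt, hU, hW⟩

theorem exists_le_map {α β : Type*} {f : α → β} {μ : Multiset α} {t : Multiset β}
    (h : t ≤ μ.map f) : ∃ ν ≤ μ, ν.map f = t := by
  classical
  induction t using Multiset.induction_on generalizing μ with
  | empty => exact ⟨0, Multiset.zero_le _, rfl⟩
  | cons b t ih =>
    obtain ⟨a, ha, rfl⟩ := Multiset.mem_map.1 (Multiset.mem_of_le h (Multiset.mem_cons_self _ _))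
    obtain ⟨μ', rfl⟩ := Multiset.exists_cons_of_mem ha
    rw [Multiset.map_cons, Multiset.cons_le_cons_iff] at h
    obtain ⟨ν, h1, rfl⟩ := ih h
    exact ⟨a ::ₘ ν, Multiset.cons_le_cons a h1, by simp⟩

theorem wt_map_jt (a : F) (μ : Multiset ℕ) :
    wt (μ.map fun e => ((X - C a : F[X]), e)) = μ.sum := by
  simp [wt, Multiset.map_map]

theorem _root_.CL.GLn.HasJT.exists_isCompl_iff [FiniteDimensional F V] {A : Module.End F V}
    {a : F} {μ : Multiset ℕ} (h : HasJT A a μ) (m : ℕ) :
    (∃ U W : Submodule F V, IsCompl U W ∧ finrank F U = m ∧ Inv A U ∧ Inv A W) ↔ ∃ ν ≤ μ, ν.sum = m := by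
  rw [Elus.exists_isCompl_iff h]
  constructor
  · rintro ⟨t, ht, rfl⟩
    obtain ⟨ν, hν, rfl⟩ := exists_le_map ht
    exact ⟨ν, hν, (wt_map_jt a ν).symm⟩
  · rintro ⟨ν, hν, rfl⟩
    exact ⟨_, Multiset.map_le_map hν, wt_map_jt a ν⟩

theorem _root_.CL.GLn.HasJT.le_of_isCompl [FiniteDimensional F V] {A : Module.End F V} {a : F}
    {μ ν : Multiset ℕ} (h : HasJT A a μ) {U W : Submodule F V} (hc : IsCompl U W)
    (hU : Inv A U) (hW : Inv A W) (ht : HasJT (A.restrict hU) a ν) : ν ≤ μ :=
  (Multiset.map_le_map_iff (f := fun e => ((X - C a : F[X]), e))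
    (fun _ _ h => (Prod.ext_iff.1 h).2)).1 (HasED.le_of_isCompl h hc hU hW ht)

theorem restrict_pow_apply {A : Module.End F V} {W : Submodule F V} (hW : Inv A W) (k : ℕ)
    (x : W) : (((A.restrict hW) ^ k) x : V) = (A ^ k) x := by
  induction k generalizing x with
  | zero => rfl
  | succ k ih => rw [pow_succ, pow_succ, Module.End.mul_apply, ih]; rfl

theorem restrict_pow_eq_one {A : Module.End F V} {W : Submodule F V} (hW : Inv A W) {k : ℕ}
    (h : A ^ k = 1) : (A.restrict hW) ^ k = 1 := by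
  ext x; rw [restrict_pow_apply, h]; rfl

theorem isNilpotent_restrict_sub {A : Module.End F V} {W : Submodule F V} (hW : Inv A W) {a : F}
    (h : IsNilpotent (A - algebraMap F _ a)) :
    IsNilpotent (A.restrict hW - algebraMap F _ a) := by
  obtain ⟨k, hk⟩ := h
  refine ⟨k, ?_⟩
  rw [← aeval_X_sub_C_pow] at *
  ext x
  rw [aeval_restrict_apply, hk]; rfl

/-! ### Irreducible invariant subspaces -/

/-- `U` is a minimal non-zero `A`-invariant subspace. -/
def Irr (A : Module.End F V) (U : Submodule F V) : Prop :=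
  Inv A U ∧ U ≠ ⊥ ∧ ∀ W ≤ U, Inv A W → W ≠ ⊥ → W = U

theorem Irr.inv {A : Module.End F V} {U : Submodule F V} (h : Irr A U) : Inv A U := h.1

theorem Irr.ne_bot {A : Module.End F V} {U : Submodule F V} (h : Irr A U) : U ≠ ⊥ := h.2.1

theorem Irr.le_or_disjoint {A : Module.End F V} {U W : Submodule F V} (h : Irr A U)
    (hW : Inv A W) : U ≤ W ∨ Disjoint U W := by
  by_cases h0 : U ⊓ W = ⊥
  · exact Or.inr (disjoint_iff.2 h0)
  · exact Or.inl (inf_eq_left.1 (h.2.2 _ inf_le_left (h.inv.inf hW) h0))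

theorem exists_irr [FiniteDimensional F V] {A : Module.End F V} {W : Submodule F V}
    (hW : Inv A W) (h0 : W ≠ ⊥) : ∃ U ≤ W, Irr A U := by
  obtain ⟨U, ⟨h1, h2, h3⟩, hmin⟩ := (wellFounded_lt (α := Submodule F V)).has_min
    {U | U ≤ W ∧ Inv A U ∧ U ≠ ⊥} ⟨W, le_rfl, hW, h0⟩
  refine ⟨U, h1, h2, h3, fun U' hU' h4 h5 => ?_⟩
  by_contra hne
  exact hmin U' ⟨hU'.trans h1, h4, h5⟩ (lt_of_le_of_ne hU' hne)

theorem Irr.exists_poly [FiniteDimensional F V] {A : Module.End F V} {U : Submodule F V}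
    (h : Irr A U) : ∃ μ : F[X], μ.Monic ∧ Irreducible μ ∧ finrank F U = μ.natDegree ∧
      ∀ P : F[X], (∀ u ∈ U, aeval A P u = 0) ↔ μ ∣ P := by
  have hs := hasED_elemDiv (A.restrict h.inv)
  set s := elemDiv (A.restrict h.inv)
  have hU : 0 < finrank F U := by
    rw [Nat.pos_iff_ne_zero, Ne, Submodule.finrank_eq_zero]; exact h.ne_bot
  have key : ∀ P : F[X], (∀ u ∈ U, aeval A P u = 0) ↔ ∀ x ∈ s, x.1 ^ x.2 ∣ P := by
    intro P
    rw [← hs.aeval_eq_zero_iff]
    constructor
    · intro h1; ext u; rw [aeval_restrict_apply]; simpa using h1 u u.2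
    · intro h1 u hu
      have := aeval_restrict_apply h.inv P ⟨u, hu⟩
      rw [h1] at this; exact this.symm
  obtain ⟨x, hx⟩ : ∃ x, x ∈ s := by
    apply Multiset.exists_mem_of_ne_zero
    intro h0
    rw [hs.finrank_eq_wt, h0, wt_zero] at hU
    exact lt_irrefl _ hU
  obtain ⟨hx1, hx2, hx3⟩ := hs.1 x hx
  have hker : ∀ u ∈ U, aeval A x.1 u = 0 := by
    have h1 : 0 < kd (A.restrict h.inv) (x.1 ^ 1) := by
      classical
      rw [hs.kd_pow hx1 hx2]
      refine Nat.mul_pos ?_ hx2.natDegree_pos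
      refine lt_of_lt_of_le ?_ (Multiset.single_le_sum (fun _ _ => Nat.zero_le _) _
        (Multiset.mem_map_of_mem _ hx))
      simp only [if_true]; omega
    rw [pow_one, kd, Nat.pos_iff_ne_zero, Ne, Submodule.finrank_eq_zero] at h1
    have h2 := h.2.2 (U ⊓ LinearMap.ker (aeval A x.1)) inf_le_left
      (h.inv.inf (inv_ker_aeval A _)) (by
        intro h0
        apply h1
        rw [eq_bot_iff]
        intro u hu
        have : (u : V) ∈ U ⊓ LinearMap.ker (aeval A x.1) :=
          ⟨u.2, LinearMap.mem_ker.2 (by rw [← aeval_restrict_apply h.inv, hu]; rfl)⟩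
        rw [h0] at this
        exact Subtype.ext this)
    intro u hu
    rw [← h2] at hu
    exact hu.2
  have hall : ∀ y ∈ s, y = (x.1, 1) := by
    intro y hy
    obtain ⟨hy1, hy2, hy3⟩ := hs.1 y hy
    have hd := (key _).1 hker y hy
    have h1 : y.1 = x.1 := eq_of_monic_of_associated hy1 hx1
      (hy2.associated_of_dvd hx2 ((dvd_pow_self _ hy3.ne').trans hd))
    have h2 := natDegree_le_of_dvd hd hx2.ne_zero
    rw [natDegree_pow, h1] at h2
    have := hx2.natDegree_pos
    refine Prod.ext h1 (le_antisymm ?_ hy3)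
    by_contra hlt
    nlinarith
  have hcard : s = {(x.1, 1)} := by
    obtain ⟨t, ht⟩ := Multiset.exists_cons_of_mem hx
    by_contra hne
    have ht0 : t ≠ 0 := by rintro rfl; exact hne (by rw [ht, hall x hx]; rfl)
    obtain ⟨U₁, W₁, h1, hU₁, hW₁, h2, h3⟩ := exists_isCompl_of_hasED_add
      (s := {x}) (t := t) (A := A.restrict h.inv) (by rwa [Multiset.singleton_add, ← ht])
    obtain ⟨y, hy⟩ := Multiset.exists_mem_of_ne_zero ht0
    have h4 : 0 < finrank F W₁ := lt_of_lt_of_le (h3.1.one_le hy) (h3.le_finrank hy)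
    have h5 : 0 < finrank F U₁ :=
      lt_of_lt_of_le (h2.1.one_le (Multiset.mem_singleton_self x))
        (h2.le_finrank (Multiset.mem_singleton_self x))
    have h6 := h.2.2 (U₁.map U.subtype) (Submodule.map_subtype_le _ _) (h.inv.map_subtype hU₁)
      (by rw [Ne, ← Submodule.finrank_eq_zero, Submodule.finrank_map_subtype_eq]; omega)
    have h7 := Submodule.finrank_add_eq_of_isCompl h1
    have h8 := congrArg (fun W : Submodule F V => finrank F W) h6
    simp only [Submodule.finrank_map_subtype_eq] at h8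
    omega
  refine ⟨x.1, hx1, hx2, ?_, fun P => ?_⟩
  · rw [hs.finrank_eq_wt, hcard, wt_singleton, one_mul]
  · rw [key, hcard]; simp

theorem Irr.finrank_eq [FiniteDimensional F V] {A : Module.End F V} {U : Submodule F V}
    (h : Irr A U) {μ : F[X]} (hμ : Irreducible μ) (h0 : ∀ u ∈ U, aeval A μ u = 0) :
    finrank F U = μ.natDegree := by
  obtain ⟨ν, h1, h2, h3, h4⟩ := h.exists_poly
  rw [h3]
  exact natDegree_eq_of_degree_eq (degree_eq_degree_of_associated
    (h2.associated_of_dvd hμ ((h4 μ).1 h0)))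

/-- All irreducible pieces inside `M` have dimension `i`. -/
def Hom (i : ℕ) (A : Module.End F V) (M : Submodule F V) : Prop :=
  ∀ U ≤ M, Irr A U → finrank F U = i

theorem Hom.mono {i : ℕ} {A : Module.End F V} {M M' : Submodule F V} (h : Hom i A M)
    (h' : M' ≤ M) : Hom i A M' := fun U hU => h U (hU.trans h')

section Hom

variable [FiniteDimensional F V] {i : ℕ} {A : Module.End F V} {M : Submodule F V}

theorem Hom.exists_step (hA : A.IsSemisimple) (h : Hom i A M) (hM : Inv A M) {U : Submodule F V}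
    (hU : Inv A U) (hUM : U ≤ M) (hne : U ≠ M) :
    ∃ U', Inv A U' ∧ U ≤ U' ∧ U' ≤ M ∧ finrank F U' = finrank F U + i := by
  obtain ⟨W, h1, h2, h3, h4⟩ := exists_inv_compl_le hA hU hM hUM
  obtain ⟨I, hI, hI'⟩ := exists_irr h1 (by rintro rfl; exact hne (by simpa using h4))
  refine ⟨U ⊔ I, hU.sup hI'.inv, le_sup_left, sup_le hUM (hI.trans h2), ?_⟩
  rw [finrank_sup_of_disjoint (h3.mono_right hI), h I (hI.trans h2) hI']

theorem Hom.exists_between (hA : A.IsSemisimple) (h : Hom i A M) (hM : Inv A M) (j : ℕ) :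
    ∀ {U : Submodule F V}, Inv A U → U ≤ M → finrank F U + i * j ≤ finrank F M →
    ∃ U', Inv A U' ∧ U ≤ U' ∧ U' ≤ M ∧ finrank F U' = finrank F U + i * j := by
  induction j with
  | zero => exact fun {U} hU hUM _ => ⟨U, hU, le_rfl, hUM, rfl⟩
  | succ j ih =>
    intro U hU hUM hle
    obtain ⟨U', h1, h2, h3, h4⟩ := ih hU hUM (by nlinarith)
    by_cases hi : i = 0
    · exact ⟨U', h1, h2, h3, by rw [h4, hi]; simp⟩
    obtain ⟨U'', h5, h6, h7, h8⟩ := h.exists_step hA hM h1 h3 (by
      rintro rfl; have := Nat.pos_of_ne_zero hi; nlinarith)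
    exact ⟨U'', h5, h2.trans h6, h7, by rw [h8, h4]; ring⟩

theorem Hom.exists_sub (hA : A.IsSemisimple) (h : Hom i A M) (hM : Inv A M) {j : ℕ}
    (hj : i * j ≤ finrank F M) : ∃ U, Inv A U ∧ U ≤ M ∧ finrank F U = i * j := by
  obtain ⟨U, h1, -, h2, h3⟩ := h.exists_between hA hM j (inv_bot A) bot_le (by simpa using hj)
  exact ⟨U, h1, h2, by simpa using h3⟩

theorem Hom.dvd (hA : A.IsSemisimple) (h : Hom i A M) (hM : Inv A M) : i ∣ finrank F M := by
  have : ∀ k, ∀ U, Inv A U → U ≤ M → finrank F U + k = finrank F M → i ∣ k := by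
    intro k
    induction k using Nat.strong_induction_on with
    | _ k ih =>
      intro U hU hUM hk
      rcases Nat.eq_zero_or_pos k with rfl | hk0
      · exact dvd_zero i
      obtain ⟨U', h1, h2, h3, h4⟩ := h.exists_step hA hM hU hUM (by rintro rfl; omega)
      obtain ⟨I, hI, hI'⟩ := exists_irr hM (by rintro rfl; simp at hk; omega)
      have hi : 0 < i := by
        rw [← h I hI hI', Nat.pos_iff_ne_zero, Ne, Submodule.finrank_eq_zero]; exact hI'.ne_bot
      have h5 := Submodule.finrank_mono h3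
      have := ih (k - i) (by omega) U' h1 h3 (by omega)
      have h6 : k = (k - i) + i := by omega
      rw [h6]; exact dvd_add this dvd_rfl
  exact this _ ⊥ (inv_bot A) bot_le (by simp)

theorem hom_of_aeval_eq_zero {μ : F[X]} (hμ : Irreducible μ) (h0 : ∀ u ∈ M, aeval A μ u = 0) :
    Hom μ.natDegree A M := fun _ hU h => h.finrank_eq hμ fun u hu => h0 u (hU hu)

theorem hom_one (M : Submodule F V) : Hom 1 (1 : Module.End F V) M := by
  have := hom_of_aeval_eq_zero (A := (1 : Module.End F V)) (M := M) (irreducible_X_sub_C 1)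
    (by simp)
  rwa [natDegree_X_sub_C] at this

theorem exists_finrank_between {U M : Submodule F V} (h : U ≤ M) {k : ℕ} (h1 : finrank F U ≤ k)
    (h2 : k ≤ finrank F M) : ∃ W, U ≤ W ∧ W ≤ M ∧ finrank F W = k := by
  obtain ⟨W, -, h3, h4, h5⟩ := (hom_one M).exists_between Module.End.isSemisimple_id (inv_one _)
    (k - finrank F U) (inv_one U) h (by omega)
  exact ⟨W, h3, h4, by omega⟩

theorem exists_finrank_le {M : Submodule F V} {k : ℕ} (h2 : k ≤ finrank F M) :
    ∃ W, W ≤ M ∧ finrank F W = k := by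
  obtain ⟨W, -, h3, h4⟩ := exists_finrank_between (bot_le : ⊥ ≤ M) (by simp) h2
  exact ⟨W, h3, h4⟩

theorem exists_compl_le {U M : Submodule F V} (h : U ≤ M) :
    ∃ W, W ≤ M ∧ Disjoint U W ∧ U ⊔ W = M := by
  obtain ⟨W, -, h1⟩ := exists_inv_compl_le Module.End.isSemisimple_id (inv_one U) (inv_one M) h
  exact ⟨W, h1⟩

end Hom

/-! ### The fixed and moved spaces -/

theorem aeval_X_sub_one (A : Module.End F V) : aeval A (X - C 1 : F[X]) = A - 1 := by simp

theorem isCompl_ker_range [FiniteDimensional F V] {A : Module.End F V} (hA : A.IsSemisimple) :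
    IsCompl (LinearMap.ker (A - 1)) (LinearMap.range (A - 1)) := by
  have := (ssAt_of_isSemisimple hA (X - C 1)).isCompl
  rwa [aeval_X_sub_one] at this

/-- An invariant subspace is the sum of its parts in two complementary kernel/range pieces. -/
theorem Inv.eq_sup_aeval [FiniteDimensional F V] {A : Module.End F V} (hA : A.IsSemisimple)
    {W : Submodule F V} (hW : Inv A W) (P : F[X]) :
    W = (W ⊓ LinearMap.ker (Polynomial.aeval A P)) ⊔
      (W ⊓ LinearMap.range (Polynomial.aeval A P)) := by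
  have hc := (ssAt_of_isSemisimple hA P).isCompl
  symm
  apply Submodule.eq_of_le_of_finrank_le (sup_le inf_le_left inf_le_left)
  rw [finrank_sup_of_disjoint (hc.disjoint.mono inf_le_right inf_le_right)]
  have h1 := LinearMap.finrank_range_add_finrank_ker ((Polynomial.aeval A P).restrict (hW.aeval P))
  have h2 : finrank F (LinearMap.ker ((Polynomial.aeval A P).restrict (hW.aeval P))) ≤
      finrank F (W ⊓ LinearMap.ker (Polynomial.aeval A P) : Submodule F V) := by
    rw [← Submodule.finrank_map_subtype_eq]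
    apply Submodule.finrank_mono
    rintro _ ⟨x, hx, rfl⟩
    exact ⟨x.2, congrArg Subtype.val hx⟩
  have h3 : finrank F (LinearMap.range ((Polynomial.aeval A P).restrict (hW.aeval P))) ≤
      finrank F (W ⊓ LinearMap.range (Polynomial.aeval A P) : Submodule F V) := by
    rw [← Submodule.finrank_map_subtype_eq]
    apply Submodule.finrank_mono
    rintro _ ⟨_, ⟨x, rfl⟩, rfl⟩
    exact ⟨Subtype.mem _, x, rfl⟩
  omega

theorem Inv.eq_sup [FiniteDimensional F V] {A : Module.End F V} (hA : A.IsSemisimple)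
    {W : Submodule F V} (hW : Inv A W) :
    W = (W ⊓ LinearMap.ker (A - 1)) ⊔ (W ⊓ LinearMap.range (A - 1)) := by
  have := hW.eq_sup_aeval hA (X - C 1)
  rwa [aeval_X_sub_one] at this

theorem Inv.finrank_eq_add [FiniteDimensional F V] {A : Module.End F V} (hA : A.IsSemisimple)
    {W : Submodule F V} (hW : Inv A W) :
    finrank F W = finrank F (W ⊓ LinearMap.ker (A - 1) : Submodule F V) +
      finrank F (W ⊓ LinearMap.range (A - 1) : Submodule F V) := by
  rw [← finrank_sup_of_disjoint ((isCompl_ker_range hA).disjoint.mono inf_le_right inf_le_right),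
    ← hW.eq_sup hA]

/-! ### Elements of prime order -/

section Ord

variable [Fintype F] (p : ℕ) [Fact p.Prime] [CharP F p] {r : ℕ} [Fact r.Prime]

theorem natCast_ne_zero (hr : r ≠ p) : (r : F) ≠ 0 :=
  natCast_ne_zero_of_coprime p ((Nat.coprime_primes Fact.out Fact.out).2 hr)

theorem not_dvd_card (hr : r ≠ p) : ¬ r ∣ Fintype.card F := by
  obtain ⟨n, -, hn⟩ := FiniteField.card F p
  rw [hn]
  intro h
  exact hr ((Nat.prime_dvd_prime_iff_eq Fact.out Fact.out).1 ((Fact.out : r.Prime).dvd_of_dvd_pow h))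

theorem ord_pos (hr : r ≠ p) : 0 < orderOf ((Fintype.card F : ℕ) : ZMod r) := by
  have h : ((Fintype.card F : ℕ) : ZMod r) ≠ 0 := by
    rw [Ne, ZMod.natCast_eq_zero_iff]; exact not_dvd_card p hr
  exact (isOfFinOrder_iff_pow_eq_one.2 ⟨r - 1, by have := (Fact.out : r.Prime).two_le; omega,
    ZMod.pow_card_sub_one_eq_one h⟩).orderOf_pos

theorem ord_dvd (hr : r ≠ p) : orderOf ((Fintype.card F : ℕ) : ZMod r) ∣ r - 1 := by
  have h : ((Fintype.card F : ℕ) : ZMod r) ≠ 0 := by
    rw [Ne, ZMod.natCast_eq_zero_iff]; exact not_dvd_card p hr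
  exact orderOf_dvd_of_pow_eq_one (ZMod.pow_card_sub_one_eq_one h)

theorem natDegree_cycFactor (hr : r ≠ p) {μ : F[X]} (h : μ ∈ cycFactors F r) :
    μ.natDegree = orderOf ((Fintype.card F : ℕ) : ZMod r) :=
  natDegree_of_dvd_cyclotomic p ((Nat.coprime_primes Fact.out Fact.out).2 hr.symm)
    (mem_cycFactors.1 h).1 (mem_cycFactors.1 h).2.2

theorem card_cycFactors' (hr : r ≠ p) :
    (cycFactors F r).card = (r - 1) / orderOf ((Fintype.card F : ℕ) : ZMod r) := by
  rw [card_cycFactors p ((Nat.coprime_primes Fact.out Fact.out).2 hr.symm),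
    Nat.totient_prime Fact.out]

theorem cycFactors_nonempty (hr : r ≠ p) : (cycFactors F r).Nonempty := by
  rw [← Finset.card_pos, card_cycFactors' p hr]
  have := (Fact.out : r.Prime).two_le
  exact Nat.div_pos (Nat.le_of_dvd (by omega) (ord_dvd p hr)) (ord_pos p hr)

variable [FiniteDimensional F V]

omit [Fintype F] [FiniteDimensional F V] in
theorem ss_of_pow (hr : r ≠ p) {A : Module.End F V} (h : A ^ r = 1) : A.IsSemisimple :=
  isSemisimple_of_pow_eq_one
    (natCast_ne_zero_of_coprime p ((Nat.coprime_primes Fact.out Fact.out).2 hr)) h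

omit [Fintype F] in
theorem Irr.exists_cycFactor (hr : r ≠ p) {A : Module.End F V} (h : A ^ r = 1) {U : Submodule F V}
    (hU : Irr A U) (hUM : U ≤ LinearMap.range (A - 1)) :
    ∃ μ ∈ cycFactors F r, ∀ u ∈ U, aeval A μ u = 0 := by
  obtain ⟨μ, h1, h2, -, h4⟩ := hU.exists_poly
  have h5 : μ ∣ X ^ r - 1 := (h4 _).1 (by simp [h])
  rcases (dvd_X_pow_sub_one_iff h2 h1).1 h5 with rfl | h6
  · exfalso
    apply hU.ne_bot
    rw [eq_bot_iff, ← (isCompl_ker_range (ss_of_pow p hr h)).disjoint.eq_bot]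
    intro u hu
    exact ⟨by simpa using (h4 _).2 dvd_rfl u hu, hUM hu⟩
  · exact ⟨μ, h6, (h4 _).2 dvd_rfl⟩

theorem hom_range (hr : r ≠ p) {A : Module.End F V} (h : A ^ r = 1) :
    Hom (orderOf ((Fintype.card F : ℕ) : ZMod r)) A (LinearMap.range (A - 1)) := by
  intro U hU hI
  obtain ⟨μ, h1, h2⟩ := hI.exists_cycFactor p hr h hU
  rw [hI.finrank_eq (mem_cycFactors.1 h1).1 h2, natDegree_cycFactor p hr h1]

theorem ord_dvd_finrank_range (hr : r ≠ p) {A : Module.End F V} (h : A ^ r = 1)
    {W : Submodule F V} (hW : Inv A W) (hle : W ≤ LinearMap.range (A - 1)) :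
    orderOf ((Fintype.card F : ℕ) : ZMod r) ∣ finrank F W :=
  ((hom_range p hr h).mono hle).dvd (ss_of_pow p hr h) hW

theorem det_eq_one_of_pow (hi : orderOf ((Fintype.card F : ℕ) : ZMod r) ≠ 1) {A : Module.End F V}
    (h : A ^ r = 1) : LinearMap.det A = 1 := by
  have h1 : LinearMap.det A ^ r = 1 := by rw [← map_pow, h, map_one]
  have h0 : LinearMap.det A ≠ 0 := by
    intro h0; rw [h0, zero_pow (Fact.out : r.Prime).ne_zero] at h1; exact zero_ne_one h1
  have h2 := FiniteField.pow_card_sub_one_eq_one _ h0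
  have h3 : Nat.Coprime r (Fintype.card F - 1) := by
    rw [(Fact.out : r.Prime).coprime_iff_not_dvd]
    intro hd
    apply hi
    rw [← Nat.dvd_one, orderOf_dvd_iff_dvd_pow_sub_one Fintype.card_pos, pow_one]
    exact hd
  have := pow_gcd_eq_one.2 ⟨h1, h2⟩
  rwa [h3, pow_one] at this

/-- The elementary divisors of an element of order `r`. -/
noncomputable def ordED (e : ℕ) (S : Multiset F[X]) : Multiset (F[X] × ℕ) :=
  Multiset.replicate e (X - C 1, 1) + S.map fun μ => (μ, 1)

omit [Fintype F] [FiniteDimensional F V] in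
theorem isED_ordED (e : ℕ) {S : Multiset F[X]} (hS : ∀ μ ∈ S, μ ∈ cycFactors F r) :
    IsED (ordED e S) := by
  intro x hx
  rcases Multiset.mem_add.1 hx with hx | hx
  · rw [Multiset.eq_of_mem_replicate hx]
    exact ⟨monic_X_sub_C 1, irreducible_X_sub_C 1, one_pos⟩
  · obtain ⟨μ, hμ, rfl⟩ := Multiset.mem_map.1 hx
    exact ⟨(mem_cycFactors.1 (hS μ hμ)).2.1, (mem_cycFactors.1 (hS μ hμ)).1, one_pos⟩

omit [FiniteDimensional F V] in
theorem wt_ordED (hr : r ≠ p) (e : ℕ) {S : Multiset F[X]} (hS : ∀ μ ∈ S, μ ∈ cycFactors F r) :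
    wt (ordED e S) = e + orderOf ((Fintype.card F : ℕ) : ZMod r) * S.card := by
  rw [ordED, wt_add, wt_replicate, wt, Multiset.map_map,
    Multiset.map_congr rfl (g := fun _ => orderOf ((Fintype.card F : ℕ) : ZMod r))
      fun μ hμ => by simp [natDegree_cycFactor p hr (hS μ hμ)], natDegree_X_sub_C]
  simp [mul_comm]

omit [Fintype F] [FiniteDimensional F V] in
theorem pow_eq_one_of_ordED {A : Module.End F V} {e : ℕ} {S : Multiset F[X]}
    (hS : ∀ μ ∈ S, μ ∈ cycFactors F r) (h : HasED A (ordED e S)) : A ^ r = 1 := by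
  have := (h.pow_eq_algebraMap_iff r 1).2 (by
    intro x hx
    rcases Multiset.mem_add.1 hx with hx | hx
    · rw [Multiset.eq_of_mem_replicate hx, pow_one, C_1]
      simpa using sub_dvd_pow_sub_pow (X : F[X]) 1 r
    · obtain ⟨μ, hμ, rfl⟩ := Multiset.mem_map.1 hx
      rw [pow_one, C_1]
      exact (mem_cycFactors.1 (hS μ hμ)).2.2.trans (cyclotomic.dvd_X_pow_sub_one r F))
  simpa using this

omit [Fintype F] [FiniteDimensional F V] in
theorem kd_of_ordED [DecidableEq F] {A : Module.End F V} {e : ℕ} {S : Multiset F[X]}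
    (h : HasED A (ordED e S)) {μ : F[X]} (h1 : μ.Monic) (h2 : Irreducible μ) :
    kd A μ = ((if μ = X - C 1 then e else 0) + S.count μ) * μ.natDegree := by
  have := h.kd_pow h1 h2 1
  rw [pow_one] at this
  rw [this, ordED]
  congr 1
  rw [Multiset.map_add, Multiset.sum_add, Multiset.map_replicate, Multiset.sum_replicate,
    Multiset.map_map]
  congr 1
  · by_cases hh : μ = X - C 1
    · simp [hh]
    · rw [if_neg (Ne.symm hh), if_neg hh]; simp
  · clear this h
    induction S using Multiset.induction_on with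
    | empty => simp
    | cons a S ih =>
      rw [Multiset.map_cons, Multiset.sum_cons, ih, Multiset.count_cons]
      by_cases hh : μ = a
      · subst hh; simp [add_comm]
      · simp [hh, Ne.symm hh]

omit [Fintype F] [FiniteDimensional F V] in
theorem finrank_ker_of_ordED (hr : r ≠ p) {A : Module.End F V} {e : ℕ} {S : Multiset F[X]}
    (hS : ∀ μ ∈ S, μ ∈ cycFactors F r) (h : HasED A (ordED e S)) :
    finrank F (LinearMap.ker (A - 1)) = e := by
  classical
  have := kd_of_ordED h (monic_X_sub_C 1) (irreducible_X_sub_C 1)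
  rw [kd, aeval_X_sub_one, if_pos rfl, natDegree_X_sub_C, Multiset.count_eq_zero_of_notMem] at this
  · simpa using this
  · intro hm
    exact X_sub_one_notMem_cycFactors
      (natCast_ne_zero_of_coprime p ((Nat.coprime_primes Fact.out Fact.out).2 hr))
      (by simpa using hS _ hm)

omit [FiniteDimensional F V] in
theorem kd_cycFactor_of_ordED [DecidableEq F] (hr : r ≠ p) {A : Module.End F V} {e : ℕ}
    {S : Multiset F[X]} (h : HasED A (ordED e S)) {μ : F[X]} (hμ : μ ∈ cycFactors F r) :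
    kd A μ = S.count μ * orderOf ((Fintype.card F : ℕ) : ZMod r) := by
  rw [kd_of_ordED h (mem_cycFactors.1 hμ).2.1 (mem_cycFactors.1 hμ).1, if_neg, zero_add,
    natDegree_cycFactor p hr hμ]
  rintro rfl
  exact X_sub_one_notMem_cycFactors (natCast_ne_zero p hr) (by simpa using hμ)

theorem exists_ordED (hr : r ≠ p) {e : ℕ} {S : Multiset F[X]} (hS : ∀ μ ∈ S, μ ∈ cycFactors F r)
    (h : finrank F V = e + orderOf ((Fintype.card F : ℕ) : ZMod r) * S.card) :
    ∃ A : Module.End F V, HasED A (ordED e S) :=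
  exists_hasED_of_finrank (isED_ordED e hS) (by rw [h, ← wt_ordED p hr e hS]; rfl)

theorem exists_pow_eq_one (hr : r ≠ p) {e k : ℕ}
    (h : finrank F V = e + orderOf ((Fintype.card F : ℕ) : ZMod r) * k) :
    ∃ A : Module.End F V, A ^ r = 1 ∧ finrank F (LinearMap.ker (A - 1)) = e := by
  obtain ⟨μ, hμ⟩ := cycFactors_nonempty (F := F) p hr
  have hS : ∀ ν ∈ Multiset.replicate k μ, ν ∈ cycFactors F r := fun ν hν => by
    rwa [Multiset.eq_of_mem_replicate hν]
  obtain ⟨A, hA⟩ := exists_ordED (V := V) p hr (e := e) hS (by simpa using h)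
  exact ⟨A, pow_eq_one_of_ordED hS hA, finrank_ker_of_ordED p hr hS hA⟩

omit [Fintype F] in
theorem exists_hasED_ordED {A : Module.End F V} (hr : r ≠ p) (h : A ^ r = 1) :
    ∃ (e : ℕ) (S : Multiset F[X]), (∀ μ ∈ S, μ ∈ cycFactors F r) ∧ HasED A (ordED e S) := by
  classical
  have hs := hasED_elemDiv A
  set s := elemDiv A
  have h1 := hs.isSemisimple_iff.1 (ss_of_pow p hr h)
  have h2 := (hs.pow_eq_algebraMap_iff r 1).1 (by simpa using h)
  refine ⟨(s.filter fun x => x.1 = X - C 1).card, (s.filter fun x => ¬ x.1 = X - C 1).map Prod.fst,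
    ?_, ?_⟩
  · intro μ hμ
    obtain ⟨x, hx, rfl⟩ := Multiset.mem_map.1 hμ
    obtain ⟨hx1, hx2⟩ := Multiset.mem_filter.1 hx
    have h3 := h2 x hx1
    rw [h1 x hx1, pow_one, C_1] at h3
    exact ((dvd_X_pow_sub_one_iff (hs.1 x hx1).2.1 (hs.1 x hx1).1).1 h3).resolve_left
      (by simpa using hx2)
  · convert hs using 1
    rw [ordED]
    conv_rhs => rw [← Multiset.filter_add_not (fun x => x.1 = X - C 1) s]
    congr 1
    · symm
      rw [Multiset.eq_replicate]
      refine ⟨rfl, fun x hx => ?_⟩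
      obtain ⟨hx1, hx2⟩ := Multiset.mem_filter.1 hx
      exact Prod.ext hx2 (h1 x hx1)
    · rw [Multiset.map_map]
      conv_rhs => rw [← Multiset.map_id (Multiset.filter _ s)]
      exact Multiset.map_congr rfl fun x hx => Prod.ext rfl (h1 x (Multiset.mem_filter.1 hx).1).symm

end Ord

end CL.Elus
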