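/-
Sylow subgroups and fixed points on orbits; fixed and moved spaces of `r`-groups of linear maps;
transitivity of `GL`; elements of prime order modulo scalars.
-/
import Mathlib
import Cfsg.Agent.CLAS.Elus1
import Cfsg.Agent.CLAS.AutCorr

set_option autoImplicit false

namespace CL.Elus

open Module Polynomial CL.GLn CL.SpU

/-! ### Orbits whose length is prime to `r` -/

theorem card_mul_card_stab {G α : Type*} [Group G] (H : Subgroup G) (act : G → α → α)
    (h1 : ∀ a, act 1 a = a) (hmul : ∀ g h a, act (g * h) a = act g (act h a)) (P : α → Prop)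
    (hinv : ∀ g ∈ H, ∀ a, P a → P (act g a)) (htr : ∀ a b, P a → P b → ∃ g ∈ H, act g a = b)
    {a : α} (ha : P a) : ∃ K : Subgroup H, (∀ g : H, g ∈ K ↔ act g a = a) ∧
      Nat.card {a // P a} = K.index := by
  let _ : MulAction H α :=
    { smul := fun g a => act g a
      one_smul := h1
      mul_smul := fun g h a => hmul g h a }
  refine ⟨MulAction.stabilizer H a, fun g => Iff.rfl, ?_⟩
  rw [MulAction.index_stabilizer, ← Nat.card_coe_set_eq]
  apply Nat.card_congr
  refine Equiv.subtypeEquivRight fun b => ⟨fun hb => ?_, ?_⟩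
  · obtain ⟨g, hg, rfl⟩ := htr a b ha hb
    exact ⟨⟨g, hg⟩, rfl⟩
  · rintro ⟨g, rfl⟩
    exact hinv g g.2 a ha

theorem not_dvd_card_of_fixed {G α : Type*} [Group G] [Finite G] (H : Subgroup G)
    (act : G → α → α) (h1 : ∀ a, act 1 a = a) (hmul : ∀ g h a, act (g * h) a = act g (act h a))
    (P : α → Prop) (hinv : ∀ g ∈ H, ∀ a, P a → P (act g a))
    (htr : ∀ a b, P a → P b → ∃ g ∈ H, act g a = b) {r : ℕ} [Fact r.Prime]
    (h : ∀ S : Subgroup G, S ≤ H → IsPGroup r S → ∃ a, P a ∧ ∀ g ∈ S, act g a = a) :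
    ¬ r ∣ Nat.card {a // P a} := by
  obtain ⟨S⟩ : Nonempty (Sylow r H) := inferInstance
  obtain ⟨a, ha, hS⟩ := h ((S : Subgroup H).map H.subtype) (Subgroup.map_subtype_le _)
    (S.isPGroup'.map _)
  obtain ⟨K, hK, hc⟩ := card_mul_card_stab H act h1 hmul P hinv htr ha
  rw [hc]
  intro hd
  exact S.not_dvd_index (hd.trans (Subgroup.index_dvd_of_le fun g hg =>
    (hK g).2 (hS _ ⟨g, hg, rfl⟩)))

theorem card_dvd_card_of_trans {G α : Type*} [Group G] (H : Subgroup G)
    (act : G → α → α) (h1 : ∀ a, act 1 a = a) (hmul : ∀ g h a, act (g * h) a = act g (act h a))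
    (P : α → Prop) (hinv : ∀ g ∈ H, ∀ a, P a → P (act g a))
    (htr : ∀ a b, P a → P b → ∃ g ∈ H, act g a = b) {a : α} (ha : P a) :
    Nat.card {a // P a} ∣ Nat.card H := by
  obtain ⟨K, -, hc⟩ := card_mul_card_stab H act h1 hmul P hinv htr ha
  rw [hc]; exact K.index_dvd_card

/-- `r` does not divide the relative index if every `r`-subgroup can be conjugated into `K`. -/
theorem not_dvd_relIndex {G : Type*} [Group G] [Finite G] (K H : Subgroup G) {r : ℕ}
    [Fact r.Prime] (h : ∀ S : Subgroup G, S ≤ H → IsPGroup r S →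
      ∃ g ∈ H, ∀ x ∈ S, g⁻¹ * x * g ∈ K) : ¬ r ∣ K.relIndex H := by
  obtain ⟨S⟩ : Nonempty (Sylow r H) := inferInstance
  obtain ⟨g, hg, hS⟩ := h ((S : Subgroup H).map H.subtype) (Subgroup.map_subtype_le _)
    (S.isPGroup'.map _)
  intro hd
  refine ((⟨g, hg⟩ : H)⁻¹ • S).not_dvd_index (hd.trans (Subgroup.index_dvd_of_le fun x hx => ?_))
  rw [Sylow.coe_subgroup_smul, Subgroup.mem_pointwise_smul_iff_inv_smul_mem] at hx
  have := hS _ ⟨_, hx, rfl⟩
  rw [Subgroup.mem_subgroupOf]
  simpa [mul_assoc] using this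

theorem dvd_of_dvd_div_factorial {α β : Type*} [Finite α] {t : ℕ} (P : (Fin t → β) → Prop)
    (e : α ≃ {D // P D}) (hP : ∀ D (σ : Equiv.Perm (Fin t)), P D → P (D ∘ σ))
    (hinj : ∀ D, P D → Function.Injective D) {r : ℕ} (h : r ∣ Nat.card α / t.factorial) :
    r ∣ Nat.card α := by
  have : Finite {D // P D} := Finite.of_equiv _ e
  let _ : MulAction (Equiv.Perm (Fin t)) {D // P D} :=
    { smul := fun σ D => ⟨D.1 ∘ σ.symm, hP _ _ D.2⟩
      one_smul := fun D => rfl
      mul_smul := fun σ τ D => rfl }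
  have hd : t.factorial ∣ Nat.card α := by
    rw [Nat.card_congr e, Nat.card_congr (MulAction.selfEquivOrbitsQuotientProd
      (G := Equiv.Perm (Fin t)) (X := {D // P D}) fun D => ?_), Nat.card_prod, Nat.card_perm,
      Nat.card_fin]
    · exact dvd_mul_left _ _
    · rw [eq_bot_iff]
      intro σ hσ
      have h1 : D.1 ∘ σ.symm = D.1 := congrArg Subtype.val hσ
      rw [Subgroup.mem_bot, ← inv_eq_one]
      ext i
      exact congrArg Fin.val (hinj _ D.2 (congrFun h1 i))
  exact h.trans (Nat.div_dvd_of_dvd hd)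

variable {F : Type*} [Field F] {V : Type*} [AddCommGroup V] [Module F V]
  {V' : Type*} [AddCommGroup V'] [Module F V']

theorem finite_equiv [Finite F] [FiniteDimensional F V] : Finite (V ≃ₗ[F] V) :=
  have := Module.finite_of_finite F (M := V)
  Finite.of_injective _ DFunLike.coe_injective

/-- The image of a subspace. -/
abbrev mp (g : V ≃ₗ[F] V) (W : Submodule F V) : Submodule F V := W.map (g : V →ₗ[F] V)

theorem mp_one (W : Submodule F V) : mp 1 W = W := Submodule.map_id W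

theorem mp_mul (g h : V ≃ₗ[F] V) (W : Submodule F V) : mp (g * h) W = mp g (mp h W) :=
  Submodule.map_comp _ _ W

theorem finrank_mp (g : V ≃ₗ[F] V) (W : Submodule F V) : finrank F (mp g W) = finrank F W :=
  LinearEquiv.finrank_map_eq g W

theorem mp_eq_of_mem [FiniteDimensional F V] {g : V ≃ₗ[F] V} {W : Submodule F V}
    (h : ∀ x ∈ W, g x ∈ W) : mp g W = W := Inv.map_eq (A := (g : V →ₗ[F] V)) h g.injective

theorem isCompl_mp (g : V ≃ₗ[F] V) {U W : Submodule F V} (h : IsCompl U W) :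
    IsCompl (mp g U) (mp g W) := (Submodule.orderIsoMapComap g).isCompl h

/-! ### Fixed and moved spaces -/

/-- The vectors fixed by a group of linear maps. -/
def fixS (S : Subgroup (V ≃ₗ[F] V)) : Submodule F V where
  carrier := {v | ∀ g ∈ S, g v = v}
  add_mem' ha hb g hg := by rw [map_add, ha g hg, hb g hg]
  zero_mem' g _ := map_zero g
  smul_mem' c v hv g hg := by rw [map_smul, hv g hg]

theorem mem_fixS {S : Subgroup (V ≃ₗ[F] V)} {v : V} : v ∈ fixS S ↔ ∀ g ∈ S, g v = v := Iff.rfl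

/-- The commutator space of a group of linear maps. -/
def movS (S : Subgroup (V ≃ₗ[F] V)) : Submodule F V :=
  Submodule.span F {w | ∃ g ∈ S, ∃ v, w = g v - v}

theorem sub_mem_movS {S : Subgroup (V ≃ₗ[F] V)} {g : V ≃ₗ[F] V} (hg : g ∈ S) (v : V) :
    g v - v ∈ movS S := Submodule.subset_span ⟨g, hg, v, rfl⟩

theorem apply_mem_of_movS_le {S : Subgroup (V ≃ₗ[F] V)} {W : Submodule F V} (h : movS S ≤ W)
    {g : V ≃ₗ[F] V} (hg : g ∈ S) : ∀ x ∈ W, g x ∈ W := fun x hx => by
  have := W.add_mem (h (sub_mem_movS hg x)) hx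
  rwa [sub_add_cancel] at this

theorem apply_mem_of_le_fixS {S : Subgroup (V ≃ₗ[F] V)} {W : Submodule F V} (h : W ≤ fixS S)
    {g : V ≃ₗ[F] V} (hg : g ∈ S) : ∀ x ∈ W, g x ∈ W := fun x hx => by rwa [h hx g hg]

theorem isCompl_fixS_movS (S : Subgroup (V ≃ₗ[F] V)) [Finite S] (hS : (Nat.card S : F) ≠ 0) :
    IsCompl (fixS S) (movS S) := by
  have := Fintype.ofFinite S
  let N : V →ₗ[F] V := ∑ g : S, (g.1 : V →ₗ[F] V)
  have hN : ∀ v, N v = ∑ g : S, g.1 v := fun v => by simp [N, LinearMap.sum_apply]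
  have h1 : ∀ v, N v ∈ fixS S := fun v h hh => by
    rw [hN, map_sum]
    exact Fintype.sum_equiv (Equiv.mulLeft ⟨h, hh⟩) _ _ fun g => rfl
  have h2 : movS S ≤ LinearMap.ker N := by
    rw [movS, Submodule.span_le]
    rintro _ ⟨h, hh, v, rfl⟩
    rw [SetLike.mem_coe, LinearMap.mem_ker, map_sub, sub_eq_zero, hN, hN]
    exact Fintype.sum_equiv (Equiv.mulRight ⟨h, hh⟩) _ _ fun g => rfl
  rw [Nat.card_eq_fintype_card] at hS
  constructor
  · rw [Submodule.disjoint_def]
    intro v hv hv'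
    have h3 : N v = 0 := h2 hv'
    rw [hN, Finset.sum_congr rfl fun g _ => hv g.1 g.2, Finset.sum_const, Finset.card_univ,
      ← Nat.cast_smul_eq_nsmul F] at h3
    exact (smul_eq_zero.1 h3).resolve_left hS
  · rw [codisjoint_iff, eq_top_iff]
    intro v _
    have h3 : v = (Fintype.card S : F)⁻¹ • (N v - ∑ g : S, (g.1 v - v)) := by
      rw [hN, Finset.sum_sub_distrib, sub_sub_cancel, Finset.sum_const, Finset.card_univ,
        ← Nat.cast_smul_eq_nsmul F, smul_smul, inv_mul_cancel₀ hS, one_smul]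
    rw [h3]
    exact Submodule.smul_mem _ _ (Submodule.sub_mem _ (Submodule.mem_sup_left (h1 v))
      (Submodule.mem_sup_right (Submodule.sum_mem _ fun g _ => sub_mem_movS g.2 v)))

/-- Counting an invariant finite set of vectors modulo `r`. -/
theorem card_modEq_fixS {r : ℕ} [Fact r.Prime] {S : Subgroup (V ≃ₗ[F] V)} (hS : IsPGroup r S)
    (P : V → Prop) [Finite {v // P v}] (hP : ∀ g ∈ S, ∀ v, P v → P (g v)) :
    Nat.card {v // P v} ≡ Nat.card {v // P v ∧ v ∈ fixS S} [MOD r] := by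
  let _ : MulAction S {v // P v} :=
    { smul := fun g v => ⟨g.1 v.1, hP _ g.2 _ v.2⟩
      one_smul := fun _ => rfl
      mul_smul := fun _ _ _ => rfl }
  refine (hS.card_modEq_card_fixedPoints {v // P v}).trans ?_
  rw [Nat.card_congr (show MulAction.fixedPoints S {v // P v} ≃ {v // P v ∧ v ∈ fixS S} from
    { toFun := fun v => ⟨v.1.1, v.1.2, fun g hg => congrArg Subtype.val (v.2 ⟨g, hg⟩)⟩
      invFun := fun v => ⟨⟨v.1, v.2.1⟩, fun g => Subtype.ext (v.2.2 g.1 g.2)⟩
      left_inv := fun _ => rfl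
      right_inv := fun _ => rfl })]

section Ord

variable [Fintype F] (p : ℕ) [Fact p.Prime] [CharP F p] {r : ℕ} [Fact r.Prime]
  [FiniteDimensional F V]

theorem isCompl_of_isPGroup (hr : r ≠ p) {S : Subgroup (V ≃ₗ[F] V)} (hS : IsPGroup r S) :
    IsCompl (fixS S) (movS S) := by
  have := finite_equiv (F := F) (V := V)
  obtain ⟨k, hk⟩ := hS.exists_card_eq
  exact isCompl_fixS_movS S (by rw [hk, Nat.cast_pow]; exact pow_ne_zero _ (natCast_ne_zero p hr))

theorem ord_dvd_of_invariant (hr : r ≠ p) {S : Subgroup (V ≃ₗ[F] V)} (hS : IsPGroup r S)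
    {W : Submodule F V} (hW : ∀ g ∈ S, ∀ v ∈ W, g v ∈ W) (hle : W ≤ movS S) :
    orderOf ((Fintype.card F : ℕ) : ZMod r) ∣ finrank F W := by
  have := Module.finite_of_finite F (M := V)
  have h1 := card_modEq_fixS hS (· ∈ W) hW
  have h2 : Nat.card {v // v ∈ W ∧ v ∈ fixS S} = 1 := by
    rw [Nat.card_eq_one_iff_unique]
    refine ⟨⟨fun a b => Subtype.ext ?_⟩, ⟨⟨0, zero_mem _, zero_mem _⟩⟩⟩
    have h := Submodule.disjoint_def.1 (isCompl_of_isPGroup p hr hS).disjoint
    rw [h _ a.2.2 (hle a.2.1), h _ b.2.2 (hle b.2.1)]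
  rw [h2] at h1
  have h3 : Nat.card {v // v ∈ W} = Fintype.card F ^ finrank F W := by
    rw [← Nat.card_eq_fintype_card]; exact Module.natCard_eq_pow_finrank
  rw [h3] at h1
  rw [orderOf_dvd_iff_dvd_pow_sub_one Fintype.card_pos]
  exact (Nat.modEq_iff_dvd' (Nat.one_le_pow _ _ Fintype.card_pos)).1 h1.symm

theorem ord_dvd_movS (hr : r ≠ p) {S : Subgroup (V ≃ₗ[F] V)} (hS : IsPGroup r S) :
    orderOf ((Fintype.card F : ℕ) : ZMod r) ∣ finrank F (movS S) :=
  ord_dvd_of_invariant p hr hS (fun _ hg => apply_mem_of_movS_le le_rfl hg) le_rfl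

theorem mod_le_finrank_fixS (hr : r ≠ p) {S : Subgroup (V ≃ₗ[F] V)} (hS : IsPGroup r S) {c : ℕ}
    (hc : c ∣ finrank F (movS S)) : finrank F V % c ≤ finrank F (fixS S) := by
  rw [← Submodule.finrank_add_eq_of_isCompl (isCompl_of_isPGroup p hr hS)]
  obtain ⟨k, hk⟩ := hc
  rw [hk, Nat.add_mul_mod_self_left]
  exact Nat.mod_le _ _

omit [Fact r.Prime] in
/-- A `p`-group in characteristic `p` fixes a full flag. -/
theorem exists_invariant_between {S : Subgroup (V ≃ₗ[F] V)} (hS : IsPGroup p S) (k : ℕ) :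
    ∀ {U : Submodule F V}, (∀ g ∈ S, ∀ v ∈ U, g v ∈ U) → finrank F U + k ≤ finrank F V →
    ∃ W : Submodule F V, U ≤ W ∧ (∀ g ∈ S, ∀ v ∈ W, g v ∈ W) ∧ finrank F W = finrank F U + k := by
  have := Module.finite_of_finite F (M := V)
  induction k with
  | zero => exact fun {U} hU _ => ⟨U, le_rfl, hU, rfl⟩
  | succ k ih =>
    intro U hU hk
    obtain ⟨W, h1, h2, h3⟩ := ih hU (by omega)
    obtain ⟨x₀, hx₀⟩ : ∃ x, x ∉ W := by
      by_contra! h
      have : W = ⊤ := eq_top_iff.2 fun x _ => h x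
      rw [this, finrank_top] at h3; omega
    obtain ⟨x, -, hx, hx'⟩ := AutCorr.exists_fixed_mod hS (V := V)
      (fun v => by rw [← Nat.cast_smul_eq_nsmul F, CharP.cast_eq_zero, zero_smul])
      W.toAddSubgroup ⊤ h2 (fun _ _ _ _ => trivial) (x₀ := x₀) trivial hx₀
    refine ⟨W ⊔ F ∙ x, h1.trans le_sup_left, fun g hg v hv => ?_, ?_⟩
    · obtain ⟨w, hw, y, hy, rfl⟩ := Submodule.mem_sup.1 hv
      obtain ⟨c, rfl⟩ := Submodule.mem_span_singleton.1 hy
      have : g (w + c • x) = (g w + c • (g x - x)) + c • x := by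
        rw [map_add, map_smul, smul_sub]; abel
      rw [this]
      exact Submodule.add_mem_sup (W.add_mem (h2 g hg w hw) (W.smul_mem c (hx' g hg))) hy
    · rw [Submodule.finrank_sup_span_singleton hx, h3]; ring

end Ord

/-! ### Transitivity of the general linear group -/

theorem exists_mp_eq [FiniteDimensional F V] {U W : Submodule F V}
    (h : finrank F U = finrank F W) : ∃ g : V ≃ₗ[F] V, mp g U = W := by
  obtain ⟨e⟩ := FiniteDimensional.nonempty_linearEquiv_of_finrank_eq h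
  obtain ⟨g, hg⟩ := Submodule.exists_linearEquiv_restrict_eq e
  refine ⟨g, Submodule.eq_of_le_of_finrank_eq ?_ (by rw [finrank_mp, h])⟩
  rintro _ ⟨x, hx, rfl⟩
  have := (e ⟨x, hx⟩).2
  rwa [hg] at this

theorem exists_mp_eq_flag [FiniteDimensional F V] {U W U' W' : Submodule F V} (h : U ≤ W)
    (h' : U' ≤ W') (hU : finrank F U = finrank F U') (hW : finrank F W = finrank F W') :
    ∃ g : V ≃ₗ[F] V, mp g U = U' ∧ mp g W = W' := by
  obtain ⟨g, hg⟩ := exists_mp_eq hW
  have h1 : mp g U ≤ W' := hg ▸ Submodule.map_mono h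
  obtain ⟨e, he⟩ := exists_mp_eq (U := (mp g U).comap W'.subtype) (W := U'.comap W'.subtype) (by
    rw [(Submodule.comapSubtypeEquivOfLe h1).finrank_eq,
      (Submodule.comapSubtypeEquivOfLe h').finrank_eq, finrank_mp, hU])
  obtain ⟨k, hk⟩ := Submodule.exists_linearEquiv_restrict_eq e
  refine ⟨k * g, ?_, ?_⟩
  · apply Submodule.eq_of_le_of_finrank_eq _ (by rw [finrank_mp, hU])
    rw [mp_mul]
    rintro _ ⟨x, hx, rfl⟩
    have : e ⟨x, h1 hx⟩ ∈ U'.comap W'.subtype := he ▸ Submodule.mem_map_of_mem hx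
    rw [Submodule.mem_comap, Submodule.subtype_apply, hk] at this
    exact this
  · rw [mp_mul, hg]
    exact mp_eq_of_mem fun x hx => by have := (e ⟨x, hx⟩).2; rwa [hk] at this

theorem exists_mp_eq_isCompl [FiniteDimensional F V] {U W U' W' : Submodule F V}
    (h : IsCompl U W) (h' : IsCompl U' W') (hU : finrank F U = finrank F U') :
    ∃ g : V ≃ₗ[F] V, mp g U = U' ∧ mp g W = W' := by
  have hW : finrank F W = finrank F W' := by
    have := Submodule.finrank_add_eq_of_isCompl h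
    have := Submodule.finrank_add_eq_of_isCompl h'
    omega
  obtain ⟨e⟩ := FiniteDimensional.nonempty_linearEquiv_of_finrank_eq hU
  obtain ⟨e'⟩ := FiniteDimensional.nonempty_linearEquiv_of_finrank_eq hW
  let g := (U.prodEquivOfIsCompl W h).symm ≪≫ₗ (e.prodCongr e') ≪≫ₗ U'.prodEquivOfIsCompl W' h'
  refine ⟨g, Submodule.eq_of_le_of_finrank_eq ?_ (by rw [finrank_mp, hU]),
    Submodule.eq_of_le_of_finrank_eq ?_ (by rw [finrank_mp, hW])⟩
  · rintro _ ⟨x, hx, rfl⟩
    have : ∀ y : U, g y = e y := by simp [g]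
    exact this ⟨x, hx⟩ ▸ (e ⟨x, hx⟩).2
  · rintro _ ⟨x, hx, rfl⟩
    have : ∀ y : W, g y = e' y := by simp [g]
    exact this ⟨x, hx⟩ ▸ (e' ⟨x, hx⟩).2

/-! ### Elements of prime order modulo scalars -/

theorem exists_not_pow_iff {G : Type*} [CommGroup G] [Finite G] [IsCyclic G] {r : ℕ}
    [Fact r.Prime] (hr : r ∣ Nat.card G) {k : ℕ} (hk : k ≠ 0) :
    (∃ c : G, (∀ b, b ^ r ≠ c) ∧ c ^ k = 1) ↔ padicValNat r (Nat.card G) ≤ padicValNat r k := by
  obtain ⟨g, hg⟩ := IsCyclic.exists_ofOrder_eq_natCard (α := G)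
  have hN : Nat.card G ≠ 0 := Nat.card_pos.ne'
  have hp : r.Prime := Fact.out
  rw [← padicValNat_dvd_iff_le hk]
  constructor
  · rintro ⟨c, h1, h2⟩
    obtain ⟨a, rfl⟩ : ∃ a : ℕ, g ^ a = c := by
      have : c ∈ Submonoid.powers g := by
        rw [mem_powers_iff_mem_zpowers, (Subgroup.eq_top_of_card_eq _
          (by rw [Nat.card_zpowers, hg]) : Subgroup.zpowers g = ⊤)]
        trivial
      exact this
    have ha : ¬ r ∣ a := by
      rintro ⟨b, rfl⟩
      exact h1 (g ^ b) (by rw [← pow_mul, mul_comm])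
    rw [← pow_mul, ← orderOf_dvd_iff_pow_eq_one, hg] at h2
    exact (((hp.coprime_iff_not_dvd.2 ha).pow_left _).dvd_of_dvd_mul_left
      (pow_padicValNat_dvd.trans h2))
  · intro h
    set v := padicValNat r (Nat.card G)
    obtain ⟨M, hM⟩ : r ^ v ∣ Nat.card G := pow_padicValNat_dvd
    have hv : 1 ≤ v := one_le_padicValNat_of_dvd hN hr
    have hM' : ¬ r ∣ M := by
      rintro ⟨M', rfl⟩
      exact pow_succ_padicValNat_not_dvd hN ⟨M', by rw [pow_succ, mul_assoc]; exact hM⟩
    refine ⟨g ^ M, fun b hb => ?_, ?_⟩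
    · have h1 : (g ^ M) ^ (Nat.card G / r) = 1 := by
        rw [← hb, ← pow_mul, Nat.mul_div_cancel' hr, pow_card_eq_one']
      rw [← pow_mul, ← orderOf_dvd_iff_pow_eq_one, hg] at h1
      obtain ⟨N, hN'⟩ := hr
      rw [hN', Nat.mul_div_cancel_left _ hp.pos] at h1
      exact hM' (Nat.dvd_of_mul_dvd_mul_right (Nat.pos_of_ne_zero (by rintro rfl; simp at hN'; omega)) h1)
    · obtain ⟨k', rfl⟩ := h
      rw [← pow_mul, ← mul_assoc, mul_comm M, ← hM, pow_mul, ← hg, pow_orderOf_eq_one, one_pow]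

theorem irreducible_or_root {r : ℕ} [Fact r.Prime] (c : F) :
    (∃ b : F, b ^ r = c) ∨ Irreducible (X ^ r - C c : F[X]) := by
  by_cases h : ∃ b : F, b ^ r = c
  · exact Or.inl h
  · exact Or.inr (X_pow_sub_C_irreducible_of_prime Fact.out fun b hb => h ⟨b, hb⟩)

theorem exists_pow_eq_of_not_dvd [Fintype F] {r : ℕ} [Fact r.Prime]
    (h : ¬ r ∣ Fintype.card F - 1) (c : F) : ∃ b : F, b ^ r = c := by
  classical
  rcases eq_or_ne c 0 with rfl | hc
  · exact ⟨0, zero_pow (Fact.out : r.Prime).ne_zero⟩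
  have h1 : (Nat.card Fˣ).Coprime r := by
    rw [Nat.card_eq_fintype_card, Fintype.card_units]
    exact (((Fact.out : r.Prime).coprime_iff_not_dvd).2 h).symm
  obtain ⟨b, hb⟩ := (powCoprime h1).surjective (Units.mk0 c hc)
  exact ⟨b, by simpa using congrArg Units.val hb⟩

theorem ord_eq_one_iff {q r : ℕ} (hq : 1 ≤ q) : orderOf (q : ZMod r) = 1 ↔ r ∣ q - 1 := by
  rw [← Nat.dvd_one, orderOf_dvd_iff_dvd_pow_sub_one hq, pow_one]

theorem smul_pow_eq_one {A : Module.End F V} {r : ℕ} {b : F} (hb : b ≠ 0)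
    (h : A ^ r = algebraMap F _ (b ^ r)) : (b⁻¹ • A) ^ r = 1 := by
  rw [_root_.smul_pow, h, Algebra.algebraMap_eq_smul_one, smul_smul, ← mul_pow, inv_mul_cancel₀ hb,
    one_pow, one_smul]

theorem aeval_X_pow_sub_C {A : Module.End F V} {r : ℕ} {c : F} (h : A ^ r = algebraMap F _ c) :
    aeval A (X ^ r - C c : F[X]) = 0 := by simp [h]

theorem hom_top_of_irreducible [FiniteDimensional F V] {A : Module.End F V} {r : ℕ} {c : F}
    (h : A ^ r = algebraMap F _ c) (hi : Irreducible (X ^ r - C c : F[X])) : Hom r A ⊤ := by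
  have := hom_of_aeval_eq_zero (A := A) (M := ⊤) hi (fun u _ => by rw [aeval_X_pow_sub_C h]; rfl)
  rwa [natDegree_X_pow_sub_C] at this

theorem ss_of_irreducible {A : Module.End F V} {μ : F[X]} (hi : Irreducible μ)
    (h : aeval A μ = 0) : A.IsSemisimple :=
  Module.End.isSemisimple_of_squarefree_aeval_eq_zero hi.squarefree h

theorem hasED_of_irreducible [FiniteDimensional F V] {A : Module.End F V} {μ : F[X]}
    (hm : μ.Monic) (hi : Irreducible μ) (h : aeval A μ = 0) :
    ∃ k, HasED A (Multiset.replicate k (μ, 1)) := by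
  have hs := hasED_elemDiv A
  suffices h : elemDiv A = Multiset.replicate (elemDiv A).card (μ, 1) from ⟨_, h ▸ hs⟩
  refine Multiset.eq_replicate_card.2 fun x hx => ?_
  have h1 := hs.exp_eq_one_of_squarefree hi.squarefree h x hx
  have h2 := (hs.aeval_eq_zero_iff μ).1 h x hx
  rw [h1, pow_one] at h2
  exact Prod.ext (eq_of_monic_of_associated (hs.1 x hx).1 hm
    ((hs.1 x hx).2.1.associated_of_dvd hi h2)) h1

theorem det_of_hasED [FiniteDimensional F V] {A : Module.End F V} {s : Multiset (F[X] × ℕ)}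
    (h : HasED A s) :
    LinearMap.det A = (-1) ^ finrank F V * (s.map fun x => x.1.coeff 0 ^ x.2).prod := by
  rw [LinearMap.det_eq_sign_charpoly_coeff, h.charpoly_eq, coeff_zero_eq_eval_zero,
    eval_multiset_prod, Multiset.map_map]
  simp [coeff_zero_eq_eval_zero]

theorem det_of_pow_irreducible [FiniteDimensional F V] {A : Module.End F V} {r k : ℕ} (hr : r ≠ 0)
    {c : F} (h : HasED A (Multiset.replicate k (X ^ r - C c, 1))) :
    finrank F V = r * k ∧ LinearMap.det A = ((-1) ^ (r + 1) * c) ^ k := by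
  have h1 : finrank F V = r * k := by
    rw [h.finrank_eq_wt, wt_replicate, natDegree_X_pow_sub_C]; ring
  refine ⟨h1, ?_⟩
  rw [det_of_hasED h, h1]
  simp only [Multiset.map_replicate, Multiset.prod_replicate, coeff_sub, coeff_X_pow,
    if_neg hr.symm, coeff_C_zero, pow_one, zero_sub]
  rw [pow_mul, ← mul_pow, pow_succ]; ring

/-- The arithmetic condition excluding elements of determinant one with `X ^ r - c` irreducible. -/
def NoB (q n r : ℕ) : Prop :=
  padicValNat r n ≤ padicValNat r (q - 1) ∧ (r = 2 → Even n → q % 4 = 1)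

theorem exists_B_iff [Fintype F] {r : ℕ} [Fact r.Prime] (hr : r ∣ Fintype.card F - 1) {n : ℕ}
    (hn : n ≠ 0) : (∃ (c : F) (k : ℕ), (∀ b : F, b ^ r ≠ c) ∧ n = r * k ∧
      ((-1) ^ (r + 1) * c) ^ k = 1) ↔ ¬ NoB (Fintype.card F) n r := by
  classical
  have hp : r.Prime := Fact.out
  have hN : Nat.card Fˣ = Fintype.card F - 1 := by
    rw [Nat.card_eq_fintype_card, Fintype.card_units]
  have key : ∀ k, k ≠ 0 → ((∃ c : F, (∀ b : F, b ^ r ≠ c) ∧ c ^ k = 1) ↔
      padicValNat r (Fintype.card F - 1) < padicValNat r (r * k)) := by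
    intro k hk
    rw [padicValNat.mul hp.ne_zero hk, padicValNat.self hp.one_lt, add_comm, Nat.lt_add_one_iff,
      ← hN, ← exists_not_pow_iff (hN ▸ hr) hk]
    constructor
    · rintro ⟨c, h1, h2⟩
      have hc : c ≠ 0 := by rintro rfl; exact h1 0 (zero_pow hp.ne_zero)
      exact ⟨Units.mk0 c hc, fun b hb => h1 b (by simpa using congrArg Units.val hb),
        Units.ext (by simpa using h2)⟩
    · rintro ⟨c, h1, h2⟩
      refine ⟨c, fun b hb => ?_, by simpa using congrArg Units.val h2⟩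
      have hb0 : b ≠ 0 := by rintro rfl; exact c.ne_zero (by rw [← hb, zero_pow hp.ne_zero])
      exact h1 (Units.mk0 b hb0) (Units.ext (by simpa using hb))
  by_cases hneg : ∃ b : F, b ^ r = (-1) ^ (r + 1)
  · obtain ⟨b₀, hb₀⟩ := hneg
    have hb0 : b₀ ≠ 0 := by
      rintro rfl; rw [zero_pow hp.ne_zero] at hb₀; exact pow_ne_zero _ (by simp) hb₀.symm
    have h4 : r = 2 → Fintype.card F % 4 = 1 := by
      rintro rfl
      have h1 : IsSquare (-1 : F) := ⟨b₀, by rw [← sq, hb₀]; norm_num⟩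
      have h2 := FiniteField.isSquare_neg_one_iff.1 h1
      have := Fintype.one_lt_card (α := F)
      omega
    constructor
    · rintro ⟨c, k, h1, rfl, h2⟩ h3
      have hk : k ≠ 0 := by rintro rfl; simp at hn
      refine absurd h3.1 (not_le.2 ((key k hk).1 ⟨_, fun b hb => h1 (b / b₀) ?_, h2⟩))
      rw [div_pow, hb, hb₀, mul_div_cancel_left₀ _ (pow_ne_zero _ (by simp))]
    · intro h
      have h1 : padicValNat r (Fintype.card F - 1) < padicValNat r n := by
        by_contra h1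
        exact h ⟨not_lt.1 h1, fun h2 _ => h4 h2⟩
      obtain ⟨k, rfl⟩ : r ∣ n := dvd_of_one_le_padicValNat (by omega)
      have hk : k ≠ 0 := by rintro rfl; simp at hn
      obtain ⟨c, h2, h3⟩ := (key k hk).2 h1
      refine ⟨(-1) ^ (r + 1) * c, k, fun b hb => h2 (b / b₀) ?_, rfl, ?_⟩
      · rw [div_pow, hb, hb₀, mul_div_cancel_left₀ _ (pow_ne_zero _ (by simp))]
      · rw [← mul_assoc, ← mul_pow]; simpa using h3
  · have h2 : r = 2 := by
      by_contra h2
      exact hneg ⟨1, by rw [one_pow, (hp.odd_of_ne_two h2).add_one.neg_one_pow]⟩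
    subst h2
    have h3 : Fintype.card F % 4 = 3 := by
      by_contra h3
      obtain ⟨b, hb⟩ := FiniteField.isSquare_neg_one_iff.2 h3
      exact hneg ⟨b, by rw [sq, ← hb]; norm_num⟩
    constructor
    · rintro ⟨c, k, -, rfl, -⟩ h4
      have := h4.2 rfl (even_two_mul k)
      omega
    · intro h
      obtain ⟨k, rfl⟩ : 2 ∣ n := by
        by_contra h1
        exact h ⟨by rw [padicValNat.eq_zero_of_not_dvd h1]; omega,
          fun _ h5 => absurd (even_iff_two_dvd.1 h5) h1⟩
      exact ⟨-1, k, fun b hb => hneg ⟨b, by rw [hb]; norm_num⟩, rfl, by norm_num⟩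

theorem exists_hasED_replicate [FiniteDimensional F V] {μ : F[X]} (hm : μ.Monic)
    (hi : Irreducible μ) {k : ℕ} (h : finrank F V = μ.natDegree * k) :
    ∃ A : Module.End F V, HasED A (Multiset.replicate k (μ, 1)) :=
  exists_hasED_of_finrank (fun x hx => by
    rw [Multiset.eq_of_mem_replicate hx]; exact ⟨hm, hi, one_pos⟩) (by simp [h, mul_comm])

theorem aeval_eq_zero_of_replicate {A : Module.End F V} {μ : F[X]} {k : ℕ}
    (h : HasED A (Multiset.replicate k (μ, 1))) : aeval A μ = 0 :=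
  (h.aeval_eq_zero_iff μ).2 fun x hx => by rw [Multiset.eq_of_mem_replicate hx]; simp

theorem ne_algebraMap_of_pow {A : Module.End F V} [Nontrivial V] {r : ℕ} {c : F}
    (h : A ^ r = algebraMap F _ c) (hc : ∀ b : F, b ^ r ≠ c) (b : F) : A ≠ algebraMap F _ b := by
  rintro rfl
  rw [← map_pow] at h
  exact hc b (FaithfulSMul.algebraMap_injective F (Module.End F V) h)

/-- An element of type B: determinant one, `X ^ r - c` irreducible. -/
theorem exists_typeB [Fintype F] [FiniteDimensional F V] [Nontrivial V] {r : ℕ} [Fact r.Prime]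
    (hr : r ∣ Fintype.card F - 1) (h : ¬ NoB (Fintype.card F) (finrank F V) r) :
    ∃ (A : Module.End F V) (c : F), LinearMap.det A = 1 ∧ A ^ r = algebraMap F _ c ∧
      (∀ b, A ≠ algebraMap F _ b) ∧ Irreducible (X ^ r - C c : F[X]) := by
  have hp : r.Prime := Fact.out
  obtain ⟨c, k, h1, h2, h3⟩ := (exists_B_iff hr Module.finrank_pos.ne').2 h
  have hi := X_pow_sub_C_irreducible_of_prime hp h1
  obtain ⟨A, hA⟩ := exists_hasED_replicate (V := V) (monic_X_pow_sub_C c hp.ne_zero) hi (k := k)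
    (by rw [natDegree_X_pow_sub_C, h2])
  have h4 : A ^ r = algebraMap F _ c := by
    simpa [sub_eq_zero] using aeval_eq_zero_of_replicate hA
  exact ⟨A, c, by rw [(det_of_pow_irreducible hp.ne_zero hA).2, h3], h4,
    ne_algebraMap_of_pow h4 h1, hi⟩

theorem dvd_card_sub_one_of_irreducible [Fintype F] {r : ℕ} [Fact r.Prime] {c : F}
    (hi : Irreducible (X ^ r - C c : F[X])) : r ∣ Fintype.card F - 1 := by
  by_contra h
  obtain ⟨b, rfl⟩ := exists_pow_eq_of_not_dvd h c
  exact (X_pow_sub_C_irreducible_iff_of_prime Fact.out).1 hi b rfl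

theorem not_noB_of_typeB [Fintype F] [FiniteDimensional F V] [Nontrivial V] {r : ℕ} [Fact r.Prime]
    {A : Module.End F V} {c : F} (hd : LinearMap.det A = 1) (h : A ^ r = algebraMap F _ c)
    (hi : Irreducible (X ^ r - C c : F[X])) : ¬ NoB (Fintype.card F) (finrank F V) r := by
  have hp : r.Prime := Fact.out
  obtain ⟨k, hk⟩ := hasED_of_irreducible (monic_X_pow_sub_C c hp.ne_zero) hi (aeval_X_pow_sub_C h)
  obtain ⟨h1, h2⟩ := det_of_pow_irreducible hp.ne_zero hk
  exact (exists_B_iff (dvd_card_sub_one_of_irreducible hi) Module.finrank_pos.ne').1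
    ⟨c, k, (X_pow_sub_C_irreducible_iff_of_prime hp).1 hi, h1, by rw [← h2, hd]⟩

/-- The two types of elements whose `r`-th power is a scalar. -/
theorem typeA_or_typeB {r : ℕ} [Fact r.Prime] {A : Module.End F V} [Nontrivial V] (hA : IsUnit A)
    {c : F} (h : A ^ r = algebraMap F _ c) :
    (∃ b : F, b ≠ 0 ∧ (b⁻¹ • A) ^ r = 1) ∨ Irreducible (X ^ r - C c : F[X]) := by
  rcases irreducible_or_root (r := r) c with ⟨b, rfl⟩ | h1
  · have hb : b ≠ 0 := by
      rintro rfl
      rw [zero_pow (Fact.out : r.Prime).ne_zero, map_zero] at h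
      exact (hA.pow r).ne_zero h
    exact Or.inl ⟨b, hb, smul_pow_eq_one hb h⟩
  · exact Or.inr h1

theorem smul_ne_one {A : Module.End F V} (h : ∀ c, A ≠ algebraMap F _ c) {b : F} (hb : b ≠ 0) :
    b⁻¹ • A ≠ 1 := fun h1 => h b (by
  rw [Algebra.algebraMap_eq_smul_one, ← h1, smul_smul, mul_inv_cancel₀ hb, one_smul])

theorem ne_algebraMap_of_ker {A : Module.End F V} (h0 : LinearMap.ker (A - 1) ≠ ⊥) (h1 : A ≠ 1)
    (c : F) : A ≠ algebraMap F _ c := by
  rintro rfl
  obtain ⟨v, hv, hv0⟩ := Submodule.exists_mem_ne_zero_of_ne_bot h0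
  have : (c - 1) • v = 0 := by simpa [sub_smul] using hv
  rw [smul_eq_zero, sub_eq_zero] at this
  exact h1 (by rw [this.resolve_right hv0, map_one])

/-- For `r` prime to `q - 1` a non-trivial element of order `r` is not scalar. -/
theorem ne_algebraMap_of_ord [Fintype F] {r : ℕ} [Fact r.Prime]
    (hi : orderOf ((Fintype.card F : ℕ) : ZMod r) ≠ 1) {A : Module.End F V} (h : A ^ r = 1)
    (h1 : A ≠ 1) (c : F) : A ≠ algebraMap F _ c := by
  rintro rfl
  have : Nontrivial V := by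
    by_contra hV
    rw [not_nontrivial_iff_subsingleton] at hV
    exact h1 (Subsingleton.elim _ _)
  rw [← map_pow, ← map_one (algebraMap F (Module.End F V))] at h
  have h2 := FaithfulSMul.algebraMap_injective F (Module.End F V) h
  have h3 := det_eq_one_of_pow (V := F) hi (A := algebraMap F _ c) (by rw [← map_pow, h2, map_one])
  rw [Algebra.algebraMap_eq_smul_one, LinearMap.det_smul] at h3
  simp at h3
  exact h1 (by rw [h3, map_one])

/-! ### Matrices -/

section Mat

variable {ι : Type*} [Fintype ι] [DecidableEq ι]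

theorem toLin'_eq_algebraMap_iff (x : Matrix ι ι F) (c : F) :
    x = c • (1 : Matrix ι ι F) ↔ Matrix.toLin' x = algebraMap F (Module.End F (ι → F)) c := by
  rw [← Matrix.toLin'.injective.eq_iff, map_smul, Matrix.toLin'_one, Algebra.algebraMap_eq_smul_one]
  rfl

theorem pow_eq_smul_iff (x : Matrix ι ι F) (r : ℕ) (c : F) :
    x ^ r = c • (1 : Matrix ι ι F) ↔
      Matrix.toLin' x ^ r = algebraMap F (Module.End F (ι → F)) c := by
  rw [toLin'_eq_algebraMap_iff, Matrix.toLin'_pow]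

theorem forall_SL_iff (r : ℕ) (P : Module.End F (ι → F) → Prop) :
    (∀ x : Matrix.SpecialLinearGroup ι F,
      (∃ c : F, ((x ^ r : Matrix.SpecialLinearGroup ι F) : Matrix ι ι F) = c • (1 : Matrix ι ι F)) →
      (∀ c : F, (x : Matrix ι ι F) ≠ c • (1 : Matrix ι ι F)) → P (Matrix.toLin' (x : Matrix ι ι F))) ↔
    ∀ A : Module.End F (ι → F), LinearMap.det A = 1 → (∃ c, A ^ r = algebraMap F _ c) →
      (∀ c, A ≠ algebraMap F _ c) → P A := by
  simp only [Matrix.SpecialLinearGroup.coe_pow, pow_eq_smul_iff]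
  simp only [Ne, toLin'_eq_algebraMap_iff]
  constructor
  · intro h A h1 h2 h3
    have := h ⟨LinearMap.toMatrix' A, by rw [LinearMap.det_toMatrix', h1]⟩
    simp only [Matrix.toLin'_toMatrix'] at this
    exact this h2 h3
  · intro h x h2 h3
    exact h _ (by rw [LinearMap.det_toLin', x.2]) h2 h3

end Mat

theorem isUnit_of_det_eq_one [FiniteDimensional F V] {A : Module.End F V}
    (h : LinearMap.det A = 1) : IsUnit A :=
  (LinearMap.isUnit_iff_isUnit_det A).2 (h ▸ isUnit_one)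

end CL.Elus
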