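/-
Fixed subspaces and flags of elements of prime order of `PSL_n(q)`.
-/
import Mathlib
import Cfsg.Agent.CLAS.Elus2

set_option autoImplicit false

namespace CL.Elus

open Module Polynomial CL.GLn CL.SpU

variable {F : Type*} [Field F] {V : Type*} [AddCommGroup V] [Module F V]

theorem num_split {i e k m : ℕ} (h1 : m ≤ e + i * k) (h2 : m % i ≤ (e + i * k) % i) :
    ∃ e' ≤ e, ∃ j ≤ k, m = e' + i * j := by
  rw [Nat.add_mul_mod_self_left] at h2
  by_cases h : m / i ≤ k
  · exact ⟨m % i, h2.trans (Nat.mod_le _ _), m / i, h, (Nat.mod_add_div m i).symm⟩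
  · have := Nat.mul_div_le m i
    have h3 : i * k ≤ i * (m / i) := Nat.mul_le_mul_left _ (by omega)
    exact ⟨m - i * k, by omega, k, le_rfl, by omega⟩

theorem num_flag {i e k m : ℕ} (h1 : 2 * m ≤ e + i * k) (h2 : 2 * (m % i) ≤ (e + i * k) % i) :
    ∃ e₁ e₂ j₁ j₂, e₁ ≤ e₂ ∧ e₂ ≤ e ∧ j₁ ≤ j₂ ∧ j₂ ≤ k ∧ m = e₁ + i * j₁ ∧
      e + i * k - m = e₂ + i * j₂ := by
  rw [Nat.add_mul_mod_self_left] at h2
  have h0 := Nat.mod_le e i
  have h4 := Nat.mod_add_div m i
  by_cases h : 2 * (m / i) ≤ k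
  · obtain ⟨d, rfl⟩ := Nat.exists_eq_add_of_le h
    refine ⟨m % i, e - m % i, m / i, m / i + d, by omega, by omega, by omega, by omega,
      h4.symm, ?_⟩
    have : i * (2 * (m / i) + d) = i * (m / i) + i * (m / i + d) := by ring
    omega
  · have h3 : i * (k - k / 2) ≤ i * (m / i) := Nat.mul_le_mul_left _ (by omega)
    have h5 : i * (k / 2) ≤ i * (k - k / 2) := Nat.mul_le_mul_left _ (by omega)
    have h6 : i * k = i * (k / 2) + i * (k - k / 2) := by rw [← mul_add]; congr 1; omega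
    exact ⟨m - i * (k - k / 2), e - (m - i * (k / 2)), k - k / 2, k - k / 2, by omega, by omega,
      le_rfl, by omega, by omega, by omega⟩

theorem mod_eq_of_eq_add {i e j m : ℕ} (h : m = e + i * j) (he : e < i) : m % i = e := by
  rw [h, Nat.add_mul_mod_self_left, Nat.mod_eq_of_lt he]

variable [FiniteDimensional F V]

theorem finrank_ker_add_range (A : Module.End F V) :
    finrank F (LinearMap.ker A) + finrank F (LinearMap.range A) = finrank F V := by
  rw [add_comm]; exact LinearMap.finrank_range_add_finrank_ker A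

theorem ne_one_of_finrank_ker {A : Module.End F V}
    (h : finrank F (LinearMap.ker (A - 1)) < finrank F V) : A ≠ 1 := by
  rintro rfl
  rw [sub_self, LinearMap.ker_zero, finrank_top] at h
  exact lt_irrefl _ h

theorem finrank_range_pos {A : Module.End F V} (h : A ≠ 1) :
    0 < finrank F (LinearMap.range (A - 1)) := by
  rw [Nat.pos_iff_ne_zero, Ne, Submodule.finrank_eq_zero, LinearMap.range_eq_bot, sub_eq_zero]
  exact h

/-- Flags built from a fixed part and a homogeneous moved part. -/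
theorem exists_flag {A : Module.End F V} (hA : A.IsSemisimple) {i : ℕ} {C M : Submodule F V}
    (hC : C ≤ LinearMap.ker (A - 1)) (hM : Inv A M) (hH : Hom i A M) (hd : Disjoint C M)
    {e₁ e₂ j₁ j₂ : ℕ} (h1 : e₁ ≤ e₂) (h2 : e₂ ≤ finrank F C) (h3 : j₁ ≤ j₂)
    (h4 : i * j₂ ≤ finrank F M) : ∃ U W : Submodule F V, U ≤ W ∧ finrank F U = e₁ + i * j₁ ∧
      finrank F W = e₂ + i * j₂ ∧ Inv A U ∧ Inv A W := by
  obtain ⟨C₂, h5, h6⟩ := exists_finrank_le h2
  obtain ⟨C₁, h7, h8⟩ := exists_finrank_le (M := C₂) (k := e₁) (by omega)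
  obtain ⟨M₂, h9, h10, h11⟩ := hH.exists_sub hA hM h4
  obtain ⟨M₁, h12, h13, h14⟩ := (hH.mono h10).exists_sub hA h9 (j := j₁)
    (h11 ▸ Nat.mul_le_mul_left _ h3)
  refine ⟨C₁ ⊔ M₁, C₂ ⊔ M₂, sup_le_sup h7 h13, ?_, ?_,
    (inv_of_le_fixed (h7.trans (h5.trans hC))).sup h12, (inv_of_le_fixed (h5.trans hC)).sup h9⟩
  · rw [finrank_sup_of_disjoint (hd.mono (h7.trans h5) (h13.trans h10)), h8, h14]
  · rw [finrank_sup_of_disjoint (hd.mono h5 h10), h6, h11]

variable [Fintype F] (p : ℕ) [Fact p.Prime] [CharP F p] {r : ℕ} [Fact r.Prime]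

theorem Inv.exists_finrank_eq (hr : r ≠ p) {A : Module.End F V} (h : A ^ r = 1)
    {W : Submodule F V} (hW : Inv A W) :
    ∃ j, finrank F W = finrank F (W ⊓ LinearMap.ker (A - 1) : Submodule F V) +
      orderOf ((Fintype.card F : ℕ) : ZMod r) * j ∧
      finrank F (W ⊓ LinearMap.range (A - 1) : Submodule F V) =
        orderOf ((Fintype.card F : ℕ) : ZMod r) * j := by
  obtain ⟨j, hj⟩ := ord_dvd_finrank_range p hr h (hW.inf (inv_range_sub_one A)) inf_le_right
  exact ⟨j, by rw [hW.finrank_eq_add (ss_of_pow p hr h), hj], hj⟩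

theorem exists_finrank_range_eq (hr : r ≠ p) {A : Module.End F V} (h : A ^ r = 1) :
    ∃ k, finrank F (LinearMap.range (A - 1)) = orderOf ((Fintype.card F : ℕ) : ZMod r) * k ∧
      finrank F V = finrank F (LinearMap.ker (A - 1)) +
        orderOf ((Fintype.card F : ℕ) : ZMod r) * k := by
  obtain ⟨k, hk⟩ := ord_dvd_finrank_range p hr h (inv_range_sub_one A) le_rfl
  exact ⟨k, hk, by rw [← hk, finrank_ker_add_range]⟩

/-- An element of order `r` with the smallest possible fixed space. -/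
theorem exists_min_fixed (hr : r ≠ p) (hi : orderOf ((Fintype.card F : ℕ) : ZMod r) ≠ 1)
    (hle : orderOf ((Fintype.card F : ℕ) : ZMod r) ≤ finrank F V) :
    ∃ A : Module.End F V, A ^ r = 1 ∧ LinearMap.det A = 1 ∧ (∀ c, A ≠ algebraMap F _ c) ∧
      finrank F (LinearMap.ker (A - 1)) = finrank F V % orderOf ((Fintype.card F : ℕ) : ZMod r) := by
  obtain ⟨A, h1, h2⟩ := exists_pow_eq_one (F := F) (V := V) p hr (Nat.mod_add_div _ _).symm
  refine ⟨A, h1, det_eq_one_of_pow hi h1, ne_algebraMap_of_ord hi h1 (ne_one_of_finrank_ker ?_), h2⟩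
  rw [h2]
  exact (Nat.mod_lt _ (ord_pos p hr)).trans_le hle

theorem elu_flag [Nontrivial V] (hr : r ≠ p) {m : ℕ} (hm : 2 * m ≤ finrank F V) :
    (∀ A : Module.End F V, LinearMap.det A = 1 → (∃ c, A ^ r = algebraMap F _ c) →
      (∀ c, A ≠ algebraMap F _ c) → ∃ U W : Submodule F V, U ≤ W ∧ finrank F U = m ∧
        finrank F W = finrank F V - m ∧ U.map A ≤ U ∧ W.map A ≤ W) ↔
    ((orderOf ((Fintype.card F : ℕ) : ZMod r) = 1 ∧
      (r ∣ m ∨ NoB (Fintype.card F) (finrank F V) r)) ∨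
     (2 ≤ orderOf ((Fintype.card F : ℕ) : ZMod r) ∧
      2 * (m % orderOf ((Fintype.card F : ℕ) : ZMod r)) ≤
        finrank F V % orderOf ((Fintype.card F : ℕ) : ZMod r))) := by
  have hi0 := ord_pos (F := F) p hr
  simp only [← inv_iff_map_le]
  constructor
  · intro h
    by_cases hi : orderOf ((Fintype.card F : ℕ) : ZMod r) = 1
    · refine Or.inl ⟨hi, ?_⟩
      by_contra! h1
      obtain ⟨A, c, h2, h3, h4, h5⟩ := exists_typeB ((ord_eq_one_iff Fintype.card_pos).1 hi) h1.2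
      obtain ⟨U, -, -, rfl, -, hU, -⟩ := h A h2 ⟨c, h3⟩ h4
      exact h1.1 (((hom_top_of_irreducible h3 h5).mono le_top).dvd
        (ss_of_irreducible h5 (aeval_X_pow_sub_C h3)) hU)
    · refine Or.inr ⟨by omega, ?_⟩
      by_cases hle : orderOf ((Fintype.card F : ℕ) : ZMod r) ≤ finrank F V
      · obtain ⟨A, h1, h2, h3, h4⟩ := exists_min_fixed p hr hi hle
        obtain ⟨U, W, h5, h6, h7, hU, hW⟩ := h A h2 ⟨1, by simpa using h1⟩ h3
        obtain ⟨j₁, h8, -⟩ := hU.exists_finrank_eq p hr h1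
        obtain ⟨j₂, h9, h10⟩ := hW.exists_finrank_eq p hr h1
        obtain ⟨k, h11, h12⟩ := exists_finrank_range_eq p hr h1
        have h13 := Submodule.finrank_mono (inf_le_inf_right (LinearMap.ker (A - 1)) h5)
        have h14 := Submodule.finrank_mono (inf_le_right : W ⊓ LinearMap.ker (A - 1) ≤ _)
        have h15 := Submodule.finrank_mono (inf_le_right : W ⊓ LinearMap.range (A - 1) ≤ _)
        have h16 := Nat.mod_lt (finrank F V) hi0
        rw [h10, h11] at h15
        obtain ⟨d, rfl⟩ := Nat.exists_eq_add_of_le (Nat.le_of_mul_le_mul_left h15 hi0)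
        rw [mul_add] at h12
        have h17 := mod_eq_of_eq_add (h6.symm.trans h8) (by omega)
        have h18 := mod_eq_of_eq_add (m := m) (j := d) (e := finrank F (LinearMap.ker (A - 1)) -
          finrank F (W ⊓ LinearMap.ker (A - 1) : Submodule F V))
          (i := orderOf ((Fintype.card F : ℕ) : ZMod r)) (by omega) (by omega)
        omega
      · rw [Nat.mod_eq_of_lt (by omega), Nat.mod_eq_of_lt (by omega)]; exact hm
  · rintro h A h1 ⟨c, h2⟩ h3
    rcases typeA_or_typeB (isUnit_of_det_eq_one h1) h2 with ⟨b, hb, h4⟩ | h4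
    · simp only [← inv_smul_iff (A := A) (inv_ne_zero hb)]
      obtain ⟨k, h5, h6⟩ := exists_finrank_range_eq p hr h4
      obtain ⟨e₁, e₂, j₁, j₂, h7, h8, h9, h10, h11, h12⟩ := num_flag (h6 ▸ hm) (by
        rw [← h6]
        rcases h with h | h
        · rw [h.1, Nat.mod_one]; omega
        · exact h.2)
      have hss := ss_of_pow p hr h4
      obtain ⟨U, W, h13⟩ := exists_flag hss le_rfl (inv_range_sub_one _) (hom_range p hr h4)
        (isCompl_ker_range hss).disjoint h7 h8 h9 (h5 ▸ Nat.mul_le_mul_left _ h10)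
      exact ⟨U, W, by rwa [h6, h12, h11]⟩
    · have hi := (ord_eq_one_iff Fintype.card_pos).2 (dvd_card_sub_one_of_irreducible h4)
      obtain ⟨j, rfl⟩ := (((h.resolve_right (by omega)).2).resolve_right
        (not_noB_of_typeB h1 h2 h4))
      have hss := ss_of_irreducible h4 (aeval_X_pow_sub_C h2)
      have hH := hom_top_of_irreducible h2 h4
      obtain ⟨k, hk⟩ := hH.dvd hss (inv_top A)
      rw [finrank_top] at hk
      have hjk : 2 * j ≤ k := Nat.le_of_mul_le_mul_left (by nlinarith)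
        (Fact.out : r.Prime).pos
      obtain ⟨U, W, h13⟩ := exists_flag hss (C := ⊥) bot_le (inv_top _) hH disjoint_bot_left
        (e₁ := 0) (e₂ := 0) (j₁ := j) (j₂ := k - j) le_rfl (Nat.zero_le _) (by omega)
        (by rw [finrank_top, hk]; exact Nat.mul_le_mul_left _ (by omega))
      exact ⟨U, W, by rwa [hk, ← Nat.mul_sub, ← zero_add (r * j), ← zero_add (r * (k - j))]⟩

theorem elu_sub [Nontrivial V] (hr : r ≠ p) {m : ℕ} (hm : m ≤ finrank F V) :
    (∀ A : Module.End F V, LinearMap.det A = 1 → (∃ c, A ^ r = algebraMap F _ c) →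
      (∀ c, A ≠ algebraMap F _ c) → ∃ W : Submodule F V, finrank F W = m ∧ W.map A ≤ W) ↔
    ((orderOf ((Fintype.card F : ℕ) : ZMod r) = 1 ∧
      (r ∣ m ∨ NoB (Fintype.card F) (finrank F V) r)) ∨
     (2 ≤ orderOf ((Fintype.card F : ℕ) : ZMod r) ∧
      m % orderOf ((Fintype.card F : ℕ) : ZMod r) ≤
        finrank F V % orderOf ((Fintype.card F : ℕ) : ZMod r))) := by
  have hi0 := ord_pos (F := F) p hr
  simp only [← inv_iff_map_le]
  constructor
  · intro h
    by_cases hi : orderOf ((Fintype.card F : ℕ) : ZMod r) = 1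
    · refine Or.inl ⟨hi, ?_⟩
      by_contra! h1
      obtain ⟨A, c, h2, h3, h4, h5⟩ := exists_typeB ((ord_eq_one_iff Fintype.card_pos).1 hi) h1.2
      obtain ⟨U, rfl, hU⟩ := h A h2 ⟨c, h3⟩ h4
      exact h1.1 (((hom_top_of_irreducible h3 h5).mono le_top).dvd
        (ss_of_irreducible h5 (aeval_X_pow_sub_C h3)) hU)
    · refine Or.inr ⟨by omega, ?_⟩
      by_cases hle : orderOf ((Fintype.card F : ℕ) : ZMod r) ≤ finrank F V
      · obtain ⟨A, h1, h2, h3, h4⟩ := exists_min_fixed p hr hi hle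
        obtain ⟨U, h6, hU⟩ := h A h2 ⟨1, by simpa using h1⟩ h3
        obtain ⟨j₁, h8, -⟩ := hU.exists_finrank_eq p hr h1
        have h14 := Submodule.finrank_mono (inf_le_right : U ⊓ LinearMap.ker (A - 1) ≤ _)
        have h16 := Nat.mod_lt (finrank F V) hi0
        have h17 := mod_eq_of_eq_add (h6.symm.trans h8) (by omega)
        omega
      · rw [Nat.mod_eq_of_lt (by omega), Nat.mod_eq_of_lt (by omega)]; exact hm
  · rintro h A h1 ⟨c, h2⟩ h3
    rcases typeA_or_typeB (isUnit_of_det_eq_one h1) h2 with ⟨b, hb, h4⟩ | h4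
    · simp only [← inv_smul_iff (A := A) (inv_ne_zero hb)]
      obtain ⟨k, h5, h6⟩ := exists_finrank_range_eq p hr h4
      obtain ⟨e₁, h7, j₁, h8, h9⟩ := num_split (h6 ▸ hm) (by
        rw [← h6]
        rcases h with h | h
        · rw [h.1, Nat.mod_one]; omega
        · exact h.2)
      have hss := ss_of_pow p hr h4
      obtain ⟨U, W, -, h13, -, h14, -⟩ := exists_flag hss le_rfl (inv_range_sub_one _)
        (hom_range p hr h4) (isCompl_ker_range hss).disjoint le_rfl h7 le_rfl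
        (h5 ▸ Nat.mul_le_mul_left _ h8)
      exact ⟨U, by rwa [h9], h14⟩
    · have hi := (ord_eq_one_iff Fintype.card_pos).2 (dvd_card_sub_one_of_irreducible h4)
      obtain ⟨j, rfl⟩ := (((h.resolve_right (by omega)).2).resolve_right
        (not_noB_of_typeB h1 h2 h4))
      obtain ⟨U, h5, -, h6⟩ := (hom_top_of_irreducible h2 h4).exists_sub
        (ss_of_irreducible h4 (aeval_X_pow_sub_C h2)) (inv_top A) (j := j) (by simpa using hm)
      exact ⟨U, h6, h5⟩

omit [Fintype F] [FiniteDimensional F V] in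
theorem ss_of_pow_eq_algebraMap [Nontrivial V] (hr : r ≠ p) {A : Module.End F V} (hA : IsUnit A)
    {c : F} (h : A ^ r = algebraMap F _ c) : A.IsSemisimple := by
  rcases typeA_or_typeB hA h with ⟨b, hb, h4⟩ | h4
  · have := Module.End.IsSemisimple_smul b (ss_of_pow p hr h4)
    rwa [smul_smul, mul_inv_cancel₀ hb, one_smul] at this
  · exact ss_of_irreducible h4 (aeval_X_pow_sub_C h)

omit [FiniteDimensional F V] in
/-- In characteristic `p` an element whose `p`-th power is scalar is a multiple of a unipotent. -/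
theorem exists_unip [Nontrivial V] {A : Module.End F V} (hA : IsUnit A) {c : F}
    (h : A ^ p = algebraMap F _ c) : ∃ b : F, b ≠ 0 ∧ (b⁻¹ • A - 1) ^ p = 0 := by
  obtain ⟨b, rfl⟩ := (frobeniusEquiv F p).surjective c
  have hb : b ≠ 0 := by
    rintro rfl
    rw [map_zero, map_zero] at h
    exact (hA.pow p).ne_zero h
  refine ⟨b, hb, ?_⟩
  have := (pow_char_pow_eq_one_iff F p (b⁻¹ • A) 1).1 (by
    rw [pow_one]; exact smul_pow_eq_one hb h)
  rwa [pow_one] at this

omit [Fintype F] [FiniteDimensional F V] in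
theorem pow_eq_one_of_hasJT {A : Module.End F V} {μ : Multiset ℕ} (h : HasJT A 1 μ)
    (hμ : ∀ a ∈ μ, a ≤ p) : A ^ p = 1 := by
  have := (pow_char_pow_eq_one_iff F p A 1).2 (by
    rw [pow_one]; simpa using (h.pow_eq_zero_iff p).2 hμ)
  rwa [pow_one] at this

omit [Fintype F] in
theorem exists_hasJT_of_pow {A : Module.End F V} {k : ℕ} (h : (A - 1) ^ k = 0) :
    ∃ μ, HasJT A 1 μ ∧ ∀ a ∈ μ, 0 < a ∧ a ≤ k := by
  obtain ⟨μ, hμ⟩ := exists_hasJT (A := A) (a := 1) ⟨k, by simpa using h⟩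
  exact ⟨μ, hμ, fun a ha => ⟨hμ.pos a ha, (hμ.pow_eq_zero_iff k).1 (by simpa using h) a ha⟩⟩

omit [Fintype F] in
theorem det_of_hasJT {A : Module.End F V} {μ : Multiset ℕ} (h : HasJT A 1 μ) :
    LinearMap.det A = 1 := by
  rw [LinearMap.det_eq_sign_charpoly_coeff, h.charpoly_eq, coeff_zero_eq_eval_zero]
  simp [← mul_pow]

omit [Fintype F] in
theorem ne_algebraMap_of_hasJT {A : Module.End F V} {μ : Multiset ℕ} (h : HasJT A 1 μ)
    (h1 : ∃ a ∈ μ, a ≠ 1) (c : F) : A ≠ algebraMap F _ c := by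
  obtain ⟨a, ha, ha1⟩ := h1
  refine ne_algebraMap_of_ker ?_ ?_ c
  · have := h.finrank_ker
    rw [map_one] at this
    rw [Ne, ← Submodule.finrank_eq_zero, this, Multiset.card_eq_zero]
    rintro rfl; simp at ha
  · rintro rfl
    have := (h.pow_eq_zero_iff 1).1 (by simp) a ha
    have := h.pos a ha
    omega

theorem exists_le_sum_of_ones {μ : Multiset ℕ} (h : ∀ a ∈ μ, a = 1) {m : ℕ} (hm : m ≤ μ.sum) :
    ∃ ν ≤ μ, ν.sum = m := by
  rw [Multiset.eq_replicate_card.2 h] at hm ⊢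
  exact ⟨Multiset.replicate m 1, (Multiset.replicate_le_replicate 1).2 (by simpa using hm), by simp⟩

/-- Unipotent elements and direct summands. -/
theorem elu_unip [Nontrivial V] {m : ℕ} (hm : m ≤ finrank F V) :
    (∀ A : Module.End F V, LinearMap.det A = 1 → (∃ c, A ^ p = algebraMap F _ c) →
      (∀ c, A ≠ algebraMap F _ c) → ∃ U W : Submodule F V, IsCompl U W ∧ finrank F U = m ∧
        U.map A ≤ U ∧ W.map A ≤ W) ↔
    ∀ μ : Multiset ℕ, (∀ a ∈ μ, 0 < a ∧ a ≤ p) → μ.sum = finrank F V → ∃ ν ≤ μ, ν.sum = m := by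
  simp only [← inv_iff_map_le]
  constructor
  · intro h μ h1 h2
    by_cases h3 : ∃ a ∈ μ, a ≠ 1
    · obtain ⟨A, hA⟩ := exists_hasJT_of_sum (V := V) (1 : F) (fun a ha => (h1 a ha).1) h2
      exact (hA.exists_isCompl_iff m).1 (h A (det_of_hasJT hA)
        ⟨1, by simpa using pow_eq_one_of_hasJT p hA fun a ha => (h1 a ha).2⟩
        (ne_algebraMap_of_hasJT hA h3))
    · push Not at h3
      exact exists_le_sum_of_ones h3 (h2 ▸ hm)
  · rintro h A h1 ⟨c, h2⟩ -
    obtain ⟨b, hb, h3⟩ := exists_unip p (isUnit_of_det_eq_one h1) h2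
    simp only [← inv_smul_iff (A := A) (inv_ne_zero hb)]
    obtain ⟨μ, h4, h5⟩ := exists_hasJT_of_pow h3
    exact (h4.exists_isCompl_iff m).2 (h μ h5 h4.sum_eq)

theorem eq_replicate_add_of_le_two {μ : Multiset ℕ} (h : ∀ a ∈ μ, 0 < a ∧ a ≤ 2) :
    ∃ a b, μ = Multiset.replicate a 1 + Multiset.replicate b 2 := by
  induction μ using Multiset.induction_on with
  | empty => exact ⟨0, 0, rfl⟩
  | cons x μ ih =>
    obtain ⟨a, b, rfl⟩ := ih fun y hy => h y (Multiset.mem_cons_of_mem hy)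
    obtain ⟨h1, h2⟩ := h x (Multiset.mem_cons_self _ _)
    interval_cases x
    · exact ⟨a + 1, b, by rw [Multiset.replicate_succ, Multiset.cons_add]⟩
    · exact ⟨a, b + 1, by rw [Multiset.replicate_succ, Multiset.add_cons]⟩

theorem partition_two_iff {n m : ℕ} (hm : m ≤ n) :
    (∀ μ : Multiset ℕ, (∀ a ∈ μ, 0 < a ∧ a ≤ 2) → μ.sum = n → ∃ ν ≤ μ, ν.sum = m) ↔
      (Odd n ∨ Even m) := by
  constructor
  · intro h
    by_contra! h1
    obtain ⟨k, rfl⟩ := Nat.not_odd_iff_even.1 h1.1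
    obtain ⟨ν, h2, rfl⟩ := h (Multiset.replicate k 2)
      (fun a ha => by rw [Multiset.eq_of_mem_replicate ha]; omega) (by simp; omega)
    obtain ⟨j, -, rfl⟩ := Multiset.le_replicate_iff.1 h2
    exact h1.2 ⟨j, by simp; omega⟩
  · intro h μ h1 h2
    obtain ⟨a, b, rfl⟩ := eq_replicate_add_of_le_two h1
    simp only [Multiset.sum_add, Multiset.sum_replicate, smul_eq_mul, mul_one] at h2
    obtain ⟨e, h3, j, h4, rfl⟩ := num_split (i := 2) (e := a) (k := b) (m := m) (by omega) (by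
      rcases h with h | h
      · have := Nat.odd_iff.1 h; omega
      · have := Nat.even_iff.1 h; omega)
    exact ⟨Multiset.replicate e 1 + Multiset.replicate j 2, add_le_add
      ((Multiset.replicate_le_replicate 1).2 h3) ((Multiset.replicate_le_replicate 2).2 h4),
      by simp; omega⟩

end CL.Elus
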