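/-
Direct-sum decompositions permuted by a linear map.
-/
import Mathlib
import Cfsg.Agent.CLAS.Elus3
import Cfsg.Prelude.Def_GeometricClasses

set_option autoImplicit false

namespace CL.Elus

open Module Polynomial CL.GLn CL.SpU CL.Witt CL.Witt.Form

variable {F : Type*} [Field F] {T : FormType F} {V : Type*} [AddCommGroup V] [Module F V]
  {V' : Type*} [AddCommGroup V'] [Module F V']

/-! ### Dimensions of finite sums -/

section Fin

variable [FiniteDimensional F V] {ι : Type*}

theorem finrank_sup_le (D : ι → Submodule F V) (s : Finset ι) :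
    finrank F (s.sup D : Submodule F V) ≤ ∑ j ∈ s, finrank F (D j) := by
  classical
  induction s using Finset.induction_on with
  | empty => simp
  | insert a s ha ih =>
    rw [Finset.sup_insert, Finset.sum_insert ha]
    exact (Submodule.finrank_add_le_finrank_add_finrank _ _).trans (by omega)

omit [FiniteDimensional F V] in
theorem disjoint_finset_sup {D : ι → Submodule F V} (h : iSupIndep D) {s : Finset ι} {a : ι}
    (ha : a ∉ s) : Disjoint (D a) (s.sup D) := by
  rw [Finset.sup_eq_iSup]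
  exact h.disjoint_biSup (y := (s : Set ι)) ha

theorem finrank_sup_eq {D : ι → Submodule F V} (h : iSupIndep D) (s : Finset ι) :
    finrank F (s.sup D : Submodule F V) = ∑ j ∈ s, finrank F (D j) := by
  classical
  induction s using Finset.induction_on with
  | empty => simp
  | insert a s ha ih =>
    rw [Finset.sup_insert, Finset.sum_insert ha, finrank_sup_of_disjoint (disjoint_finset_sup h ha),
      ih]

theorem iSupIndep_of_finrank [Fintype ι] {D : ι → Submodule F V}
    (h : ∑ j, finrank F (D j) ≤ finrank F (iSup D : Submodule F V)) : iSupIndep D := by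
  classical
  intro j
  have h1 : (⨆ (k) (_ : k ≠ j), D k) = (Finset.univ.erase j).sup D := by
    rw [Finset.sup_eq_iSup]; simp
  have h2 := finrank_sup_le D (Finset.univ.erase j)
  have h3 := Submodule.finrank_sup_add_finrank_inf_eq (D j) ((Finset.univ.erase j).sup D)
  rw [← Finset.sup_insert, Finset.insert_erase (Finset.mem_univ j), Finset.sup_univ_eq_iSup] at h3
  rw [← Finset.add_sum_erase _ _ (Finset.mem_univ j)] at h
  rw [h1, disjoint_iff, ← Submodule.finrank_eq_zero]
  omega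

theorem sum_finrank_inf_le [Fintype ι] {D : ι → Submodule F V} (h : iSupIndep D)
    (C : Submodule F V) : ∑ j, finrank F (D j ⊓ C : Submodule F V) ≤ finrank F C := by
  rw [← finrank_sup_eq (h.mono (t := fun j => D j ⊓ C) fun j => inf_le_left)]
  exact Submodule.finrank_mono (Finset.sup_le fun j _ => inf_le_right)

end Fin

/-! ### Permuted decompositions -/

/-- The zero form. -/
def zeroForm (F V : Type*) [Field F] [AddCommGroup V] [Module F V] : Form (FormType.alt F) V :=
  ofAlt 0 fun _ => rfl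

theorem zeroForm_B (x y : V) : (zeroForm F V).B x y = 0 := rfl

theorem zeroForm_perp (W : Submodule F V) : (zeroForm F V).perp W = ⊤ :=
  eq_top_iff.2 fun _ _ => (mem_perp _).2 fun _ _ => rfl

/-- Non-degenerate subspace. -/
abbrev ND (f : Form T V) (W : Submodule F V) : Prop := Disjoint W (f.perp W)

section ND

variable {f : Form T V} {U W : Submodule F V} {A : Module.End F V}

theorem nd_bot : ND f ⊥ := disjoint_bot_left

theorem nd_top (hf : f.Nondeg) : ND f ⊤ := by rw [ND, perp_top f hf]; exact disjoint_bot_right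

theorem nd_iff : ND f W ↔ ∀ u ∈ W, u ≠ 0 → ∃ v ∈ W, f.B u v ≠ 0 := by
  rw [ND, Submodule.disjoint_def]
  refine ⟨fun h u hu h0 => ?_, fun h u hu hu' => ?_⟩
  · by_contra! hc
    exact h0 (h u hu ((mem_perp' f).2 hc))
  · by_contra h0
    obtain ⟨v, hv, hv'⟩ := h u hu h0
    exact hv' ((mem_perp' f).1 hu' v hv)

theorem ND.nondeg (h : ND f W) : (f.restrict W).Nondeg := (restrict_nondeg_iff f W).2 h

theorem nd_of_nondeg (h : (f.restrict W).Nondeg) : ND f W := (restrict_nondeg_iff f W).1 h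

theorem ND.disjoint_of_le (h : ND f U) (ho : W ≤ f.perp U) : Disjoint U W := h.mono_right ho

theorem ND.sup (h : ND f U) (h' : ND f W) (ho : U ≤ f.perp W) : ND f (U ⊔ W) := by
  rw [ND, perp_sup, Submodule.disjoint_def] at *
  intro x hx hx'
  obtain ⟨u, hu, w, hw, rfl⟩ := Submodule.mem_sup.1 hx
  have h1 : w = 0 := h' w hw (by simpa using sub_mem hx'.2 (ho hu))
  have h2 : u = 0 := h u hu (by simpa using sub_mem hx'.1 ((le_perp_comm f).1 ho hw))
  simp [h1, h2]

theorem ND.isCompl [FiniteDimensional F U] (h : ND f U) : IsCompl U (f.perp U) :=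
  isCompl_perp_of_restrict_nondeg f h.nondeg

theorem ND.sup_inf_perp [FiniteDimensional F U] (h : ND f U) (hle : U ≤ W) :
    U ⊔ W ⊓ f.perp U = W := by
  rw [inf_comm, ← sup_inf_assoc_of_le _ hle, h.isCompl.sup_eq_top, top_inf_eq]

theorem ND.finrank_inf_perp [FiniteDimensional F V] (h : ND f U) (hle : U ≤ W) :
    finrank F U + finrank F (W ⊓ f.perp U : Submodule F V) = finrank F W := by
  rw [← finrank_sup_of_disjoint (h.mono_right inf_le_right), h.sup_inf_perp hle]

theorem ND.of_sup (h : ND f (U ⊔ W)) (ho : U ≤ f.perp W) : ND f U := by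
  rw [ND, Submodule.disjoint_def] at *
  exact fun x hx hx' => h x (Submodule.mem_sup_left hx) (by rw [perp_sup]; exact ⟨hx', ho hx⟩)

theorem ND.inf_perp [FiniteDimensional F U] (hW : ND f W) (h : ND f U) (hle : U ≤ W) :
    ND f (W ⊓ f.perp U) := by
  refine ND.of_sup (W := U) ?_ inf_le_right
  rwa [sup_comm, h.sup_inf_perp hle]

theorem ND.perp [FiniteDimensional F V] (hf : f.Nondeg) (h : ND f U) : ND f (f.perp U) := by
  rw [ND, hf.perp_perp]; exact h.symm

theorem le_perp_iSup {ι : Sort*} {D : ι → Submodule F V} (h : ∀ j, U ≤ f.perp (D j)) :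
    U ≤ f.perp (⨆ j, D j) :=
  (le_perp_comm f).1 (iSup_le fun j => (le_perp_comm f).1 (h j))

theorem inv_perp_of_map_eq (hA : ∀ x y, f.B (A x) (A y) = f.B x y) (h : U.map A = U) :
    Inv A (f.perp U) := by
  intro x hx
  rw [mem_perp] at hx ⊢
  intro w hw
  rw [← h] at hw
  obtain ⟨u, hu, rfl⟩ := hw
  rw [hA, hx u hu]

theorem ND.map_eq [FiniteDimensional F U] (hA : ∀ x y, f.B (A x) (A y) = f.B x y) (h : ND f U)
    (hU : Inv A U) : U.map A = U := by
  have hinj : Function.Injective (A.restrict hU) := by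
    rw [← LinearMap.ker_eq_bot, eq_bot_iff]
    intro x hx
    have h1 : A x = 0 := congrArg Subtype.val hx
    by_contra h0
    obtain ⟨v, -, hv⟩ := nd_iff.1 h x x.2 fun h2 => h0 (Subtype.ext h2)
    rw [← hA, h1] at hv
    simp at hv
  refine le_antisymm (inv_iff_map_le.1 hU) fun x hx => ?_
  obtain ⟨y, hy⟩ := (LinearMap.injective_iff_surjective.1 hinj) ⟨x, hx⟩
  exact ⟨y, y.2, congrArg Subtype.val hy⟩

theorem ND.inv_perp [FiniteDimensional F U] (hA : ∀ x y, f.B (A x) (A y) = f.B x y) (h : ND f U)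
    (hU : Inv A U) : Inv A (f.perp U) := inv_perp_of_map_eq hA (h.map_eq hA hU)

theorem ND.map {f' : Form T V'} {g : V →ₗ[F] V'} (hg : ∀ x y, f'.B (g x) (g y) = f.B x y)
    (h : ND f U) : ND f' (U.map g) := by
  rw [nd_iff] at *
  rintro _ ⟨u, hu, rfl⟩ h0
  obtain ⟨v, hv, hv'⟩ := h u hu (by rintro rfl; simp at h0)
  exact ⟨g v, ⟨v, hv, rfl⟩, by rwa [hg]⟩

theorem map_le_perp_map {f' : Form T V'} {g : V →ₗ[F] V'} (hg : ∀ x y, f'.B (g x) (g y) = f.B x y)
    (h : U ≤ f.perp W) : U.map g ≤ f'.perp (W.map g) := by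
  rintro _ ⟨u, hu, rfl⟩
  rw [mem_perp]
  rintro _ ⟨w, hw, rfl⟩
  rw [hg]; exact (mem_perp f).1 (h hu) w hw

theorem nd_of_iSup {ι : Type*} {D : ι → Submodule F V} (h : ND f (⨆ j, D j))
    (ho : ∀ j j', j ≠ j' → D j ≤ f.perp (D j')) (j : ι) : ND f (D j) := by
  rw [ND, Submodule.disjoint_def] at *
  refine fun x hx hx' => h x (Submodule.mem_iSup_of_mem j hx) ?_
  refine le_perp_iSup (U := F ∙ x) (fun k => ?_) (Submodule.mem_span_singleton_self x)
  rw [Submodule.span_singleton_le_iff_mem]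
  by_cases hk : j = k
  · exact hk ▸ hx'
  · exact ho j k hk hx

end ND

/-- `A` permutes `t` pairwise orthogonal subspaces of dimension `a` spanning `W`. -/
def DecOn (f : Form T V) (A : Module.End F V) (W : Submodule F V) (a t : ℕ) : Prop :=
  ∃ (ι : Type) (_ : Fintype ι) (D : ι → Submodule F V) (σ : Equiv.Perm ι), Fintype.card ι = t ∧
    (∀ j, finrank F (D j) = a) ∧ (∀ j, (D j).map A = D (σ j)) ∧
    (∀ j j', j ≠ j' → D j ≤ f.perp (D j')) ∧ ⨆ j, D j = W

variable {f : Form T V} {A : Module.End F V} {U W W' : Submodule F V} {a t t' : ℕ}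

theorem DecOn.zero (a : ℕ) : DecOn f A ⊥ a 0 :=
  ⟨Empty, inferInstance, Empty.elim, 1, by simp, fun j => j.elim, fun j => j.elim,
    fun j => j.elim, by simp⟩

theorem DecOn.single (h : W.map A = W) (ha : finrank F W = a) : DecOn f A W a 1 :=
  ⟨Unit, inferInstance, fun _ => W, 1, by simp, fun _ => ha, fun _ => h,
    fun _ _ h => absurd rfl h, by simp⟩

theorem DecOn.sup (h : DecOn f A W a t) (h' : DecOn f A W' a t') (ho : W ≤ f.perp W') :
    DecOn f A (W ⊔ W') a (t + t') := by
  obtain ⟨ι, _, D, σ, h1, h2, h3, h4, rfl⟩ := h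
  obtain ⟨ι', _, D', σ', h1', h2', h3', h4', rfl⟩ := h'
  have key : ∀ j j', D j ≤ f.perp (D' j') := fun j j' =>
    (le_iSup D j).trans (ho.trans (perp_anti f (le_iSup D' j')))
  refine ⟨ι ⊕ ι', inferInstance, Sum.elim D D', σ.sumCongr σ', by simp [h1, h1'], ?_, ?_, ?_, ?_⟩
  · rintro (j | j)
    exacts [h2 j, h2' j]
  · rintro (j | j)
    exacts [h3 j, h3' j]
  · rintro (j | j) (k | k) hjk
    · exact h4 j k fun h => hjk (congrArg _ h)
    · exact key j k
    · exact (le_perp_comm f).1 (key k j)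
    · exact h4' j k fun h => hjk (congrArg _ h)
  · rw [iSup_sum]; rfl

theorem finrank_map_of_injective (hA : Function.Injective A) (U : Submodule F V) :
    finrank F (U.map A) = finrank F U :=
  (Submodule.equivMapOfInjective A hA U).finrank_eq.symm

theorem DecOn.swap (hA : Function.Injective A) (h : (U.map A).map A = U) (ha : finrank F U = a)
    (ho : U ≤ f.perp (U.map A)) : DecOn f A (U ⊔ U.map A) a 2 := by
  refine ⟨Bool, inferInstance, fun b => cond b U (U.map A), Equiv.swap true false, by simp,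
    ?_, ?_, ?_, ?_⟩
  · rintro (_ | _)
    · simpa [finrank_map_of_injective hA] using ha
    · exact ha
  · rintro (_ | _)
    · simpa using h
    · simp
  · rintro (_ | _) (_ | _) hjk
    · exact absurd rfl hjk
    · exact (le_perp_comm f).1 ho
    · exact ho
    · exact absurd rfl hjk
  · rw [iSup_bool_eq]; rfl

theorem map_pow_succ (U : Submodule F V) (k : ℕ) : (U.map (A ^ k)).map A = U.map (A ^ (k + 1)) := by
  rw [← Submodule.map_comp, pow_succ']; rfl

theorem DecOn.cycle (hA : Function.Injective A) {k : ℕ} (hk : 0 < k) (h : U.map (A ^ k) = U)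
    (ha : finrank F U = a) :
    DecOn (zeroForm F V) A (⨆ i : Fin k, U.map (A ^ (i : ℕ))) a k := by
  obtain ⟨k, rfl⟩ : ∃ k', k = k' + 1 := ⟨k - 1, by omega⟩
  refine ⟨Fin (k + 1), inferInstance, fun i => U.map (A ^ (i : ℕ)), finRotate (k + 1), by simp,
    fun i => ?_, fun i => ?_, fun _ _ _ => by simp [zeroForm_perp], rfl⟩
  · rw [finrank_map_of_injective _ U, ha]
    rw [Module.End.coe_pow]; exact hA.iterate _
  · rw [map_pow_succ, finRotate_apply]
    beta_reduce
    rw [Fin.val_add_one]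
    split_ifs with hi
    · subst hi; simpa [Module.End.one_eq_id] using h
    · rfl

theorem inv_iSup_pow {k : ℕ} (hk : 0 < k) (h : U.map (A ^ k) ≤ U) :
    Inv A (⨆ i : Fin k, U.map (A ^ (i : ℕ))) := by
  rw [inv_iff_map_le, Submodule.map_iSup]
  refine iSup_le fun i => ?_
  rw [map_pow_succ]
  by_cases hi : (i : ℕ) + 1 < k
  · exact le_iSup (fun i : Fin k => U.map (A ^ (i : ℕ))) ⟨_, hi⟩
  · rw [show (i : ℕ) + 1 = k by omega]
    exact h.trans (le_iSup_of_le ⟨0, hk⟩ (by simp [Module.End.one_eq_id]))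

theorem map_algebraMap_eq {c : F} (hc : c ≠ 0) (U : Submodule F V) :
    U.map (algebraMap F (Module.End F V) c) = U := by
  refine le_antisymm ?_ fun x hx => ⟨c⁻¹ • x, U.smul_mem _ hx, by simp [hc]⟩
  rintro _ ⟨x, hx, rfl⟩
  exact U.smul_mem _ hx

theorem map_smul_eq {c : F} (hc : c ≠ 0) (A : Module.End F V) (U : Submodule F V) :
    U.map (c • A) = U.map A := by
  rw [Algebra.smul_def, Module.End.mul_eq_comp, Submodule.map_comp, map_algebraMap_eq hc]

theorem DecOn.of_smul {c : F} (hc : c ≠ 0) (h : DecOn f (c • A) W a t) : DecOn f A W a t := by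
  obtain ⟨ι, _, D, σ, h1, h2, h3, h4, h5⟩ := h
  exact ⟨ι, _, D, σ, h1, h2, fun j => by rw [← h3, map_smul_eq hc], h4, h5⟩

theorem DecOn.toFin [FiniteDimensional F V] (h : DecOn f A W a t) (hW : finrank F W = a * t) :
    ∃ (D : Fin t → Submodule F V) (σ : Equiv.Perm (Fin t)), (∀ j, finrank F (D j) = a) ∧
      iSupIndep D ∧ ⨆ j, D j = W ∧ (∀ j j', j ≠ j' → D j ≤ f.perp (D j')) ∧
      ∀ j, (D j).map A = D (σ j) := by
  obtain ⟨ι, _, D, σ, h1, h2, h3, h4, rfl⟩ := h
  let e := Fintype.equivFinOfCardEq h1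
  have h5 : ⨆ j, D (e.symm j) = ⨆ j, D j := e.symm.iSup_comp
  refine ⟨fun j => D (e.symm j), e.permCongr σ, fun j => h2 _, iSupIndep_of_finrank ?_, h5,
    fun j j' hj => h4 _ _ (e.symm.injective.ne hj), fun j => by simp [h3]⟩
  rw [h5, hW]; simp [h2, mul_comm]

/-! ### Analysis of a permuted decomposition -/

section Analysis

variable {ι : Type*} {D : ι → Submodule F V} {σ : Equiv.Perm ι}

theorem map_pow_eq (h : ∀ j, (D j).map A = D (σ j)) (k : ℕ) (j : ι) :
    (D j).map (A ^ k) = D ((σ ^ k) j) := by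
  induction k with
  | zero => simp [Module.End.one_eq_id]
  | succ k ih => rw [← map_pow_succ, ih, h, pow_succ', Equiv.Perm.mul_apply]

theorem perm_pow_eq_one (hi : iSupIndep D) (h0 : ∀ j, D j ≠ ⊥) (h : ∀ j, (D j).map A = D (σ j))
    {k : ℕ} {c : F} (hc : c ≠ 0) (hk : A ^ k = algebraMap F _ c) : σ ^ k = 1 := by
  ext j
  have := map_pow_eq h k j
  rw [hk, map_algebraMap_eq hc] at this
  by_contra hne
  have h1 := hi.pairwiseDisjoint hne
  simp only [Function.onFun, Equiv.Perm.coe_one, id_eq, ← this, disjoint_self] at h1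
  exact h0 j h1

theorem pow_apply_injOn {r : ℕ} [Fact r.Prime] (hσ : σ ^ r = 1) {j : ι} (hj : σ j ≠ j) :
    Set.InjOn (fun i => (σ ^ i) j) (Set.Iio r) := by
  have h1 : Function.minimalPeriod σ j = r :=
    Function.minimalPeriod_eq_prime (by
      rw [Function.IsPeriodicPt, Function.IsFixedPt, ← Equiv.Perm.coe_pow, hσ]; rfl) hj
  have := Function.iterate_injOn_Iio_minimalPeriod (f := σ) (x := j)
  rw [h1] at this
  simpa only [Equiv.Perm.coe_pow] using this

/-- The sum of the first `s` members of the orbit of `j`. -/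
def orbSup (D : ι → Submodule F V) (σ : Equiv.Perm ι) (j : ι) (s : ℕ) : Submodule F V :=
  (Finset.range s).sup fun i => D ((σ ^ i) j)

theorem orbSup_succ (j : ι) (s : ℕ) :
    orbSup D σ j (s + 1) = D ((σ ^ s) j) ⊔ orbSup D σ j s := by
  rw [orbSup, Finset.range_add_one, Finset.sup_insert]; rfl

theorem orbSup_mono (j : ι) {s s' : ℕ} (h : s ≤ s') : orbSup D σ j s ≤ orbSup D σ j s' :=
  Finset.sup_mono (Finset.range_mono h)

theorem le_orbSup (j : ι) {i s : ℕ} (h : i < s) : D ((σ ^ i) j) ≤ orbSup D σ j s :=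
  Finset.le_sup (f := fun i => D ((σ ^ i) j)) (Finset.mem_range.2 h)

theorem disjoint_orbSup (hi : iSupIndep D) {r : ℕ} [Fact r.Prime] (hσ : σ ^ r = 1) {j : ι}
    (hj : σ j ≠ j) {s : ℕ} (hs : s < r) : Disjoint (D ((σ ^ s) j)) (orbSup D σ j s) := by
  classical
  rw [orbSup, ← Function.comp_def D (fun i => (σ ^ i) j), ← Finset.sup_image]
  refine disjoint_finset_sup hi fun hm => ?_
  obtain ⟨i, hi', h2⟩ := Finset.mem_image.1 hm
  rw [Finset.mem_range] at hi'
  have := pow_apply_injOn hσ hj (show i ∈ Set.Iio r from hi'.trans hs) hs h2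
  omega

theorem aeval_mem_orbSup (h : ∀ j, (D j).map A = D (σ j)) (j : ι) (P : F[X]) {s : ℕ} {u : V}
    (hu : u ∈ D ((σ ^ s) j)) :
    aeval A P u - P.leadingCoeff • (A ^ P.natDegree) u ∈ orbSup D σ j (s + P.natDegree) := by
  rw [aeval_eq_sum_range, Finset.sum_range_succ, LinearMap.add_apply, LinearMap.smul_apply,
    leadingCoeff, add_sub_cancel_right, LinearMap.sum_apply]
  refine Submodule.sum_mem _ fun i hi => ?_
  rw [Finset.mem_range] at hi
  refine le_orbSup j (i := i + s) (by omega) (Submodule.smul_mem _ _ ?_)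
  rw [pow_add, Equiv.Perm.mul_apply, ← map_pow_eq h]
  exact ⟨u, hu, rfl⟩

theorem le_finrank_map_aeval [FiniteDimensional F V] (hA : Function.Injective A)
    (hi : iSupIndep D) (ha : ∀ j, finrank F (D j) = a) (h : ∀ j, (D j).map A = D (σ j)) {r : ℕ}
    [Fact r.Prime] (hσ : σ ^ r = 1) {j : ι} (hj : σ j ≠ j) {P : F[X]} (hP : P ≠ 0) (s : ℕ)
    (hs : s + P.natDegree ≤ r) :
    a * s ≤ finrank F ((orbSup D σ j s).map (aeval A P)) ∧
      (orbSup D σ j s).map (aeval A P) ≤ orbSup D σ j (s + P.natDegree) := by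
  induction s with
  | zero => simp [orbSup]
  | succ s ih =>
    obtain ⟨ih1, ih2⟩ := ih (by omega)
    have top : ∀ u ∈ D ((σ ^ s) j), (A ^ P.natDegree) u ∈ D ((σ ^ (s + P.natDegree)) j) := by
      intro u hu
      rw [add_comm, pow_add, Equiv.Perm.mul_apply, ← map_pow_eq h]
      exact ⟨u, hu, rfl⟩
    have key : ∀ u ∈ D ((σ ^ s) j), aeval A P u ∈ orbSup D σ j (s + P.natDegree) → u = 0 := by
      intro u hu hu'
      have h1 := sub_mem hu' (aeval_mem_orbSup h j P hu)
      rw [sub_sub_cancel, Submodule.smul_mem_iff _ (leadingCoeff_ne_zero.2 hP)] at h1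
      have h2 := Submodule.disjoint_def.1 (disjoint_orbSup hi hσ hj (by omega)) _ (top u hu) h1
      have h3 : Function.Injective (A ^ P.natDegree) := by
        rw [Module.End.coe_pow]; exact hA.iterate _
      exact h3 (h2.trans (map_zero _).symm)
    rw [orbSup_succ, Submodule.map_sup]
    constructor
    · rw [finrank_sup_of_disjoint]
      · have : finrank F ((D ((σ ^ s) j)).map (aeval A P)) = a := by
          rw [← ha ((σ ^ s) j), ← LinearMap.range_domRestrict]
          refine LinearMap.finrank_range_of_inj ?_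
          rw [← LinearMap.ker_eq_bot, eq_bot_iff]
          intro x hx
          exact Subtype.ext (key x x.2 (by rw [show aeval A P x = 0 from hx]; exact zero_mem _))
        rw [this, Nat.mul_succ]; omega
      · rw [Submodule.disjoint_def]
        rintro _ ⟨u, hu, rfl⟩ hu'
        rw [key u hu (ih2 hu'), map_zero]
    · refine sup_le ?_ (ih2.trans (orbSup_mono j (by omega)))
      rintro _ ⟨u, hu, rfl⟩
      rw [← sub_add_cancel (aeval A P u) (P.leadingCoeff • (A ^ P.natDegree) u)]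
      exact add_mem (orbSup_mono j (by omega) (aeval_mem_orbSup h j P hu))
        (Submodule.smul_mem _ _ (le_orbSup j (by omega) (top u hu)))

/-- If `A` moves a summand, then `P(A)` has rank at least `a (r - deg P)`. -/
theorem le_finrank_range_aeval [FiniteDimensional F V] (hA : Function.Injective A)
    (hi : iSupIndep D) (ha : ∀ j, finrank F (D j) = a) (h : ∀ j, (D j).map A = D (σ j)) {r : ℕ}
    [Fact r.Prime] (hσ : σ ^ r = 1) (hj : σ ≠ 1) {P : F[X]} (hP : P ≠ 0) :
    a * (r - P.natDegree) ≤ finrank F (LinearMap.range (aeval A P)) := by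
  obtain ⟨j, hj⟩ : ∃ j, σ j ≠ j := by
    by_contra! hc; exact hj (Equiv.ext hc)
  by_cases hd : P.natDegree ≤ r
  · exact (le_finrank_map_aeval hA hi ha h hσ hj hP _ (by omega)).1.trans
      (Submodule.finrank_mono LinearMap.map_le_range)
  · rw [Nat.sub_eq_zero_of_le (by omega)]; simp

theorem geom_ne_zero {r : ℕ} (hr : 0 < r) : (∑ i ∈ Finset.range r, (X : F[X]) ^ i) ≠ 0 :=
  (Monic.geom_sum monic_X (by simp) hr.ne').ne_zero

theorem natDegree_geom_le (r : ℕ) : (∑ i ∈ Finset.range r, (X : F[X]) ^ i).natDegree ≤ r - 1 :=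
  natDegree_sum_le_of_forall_le _ _ fun i hi => by
    rw [natDegree_X_pow]; have := Finset.mem_range.1 hi; omega

theorem range_geom_le {r : ℕ} (h : A ^ r = 1) :
    LinearMap.range (aeval A (∑ i ∈ Finset.range r, (X : F[X]) ^ i)) ≤ LinearMap.ker (A - 1) := by
  rintro _ ⟨v, rfl⟩
  rw [LinearMap.mem_ker, ← Module.End.mul_apply]
  simp only [map_sum, map_pow, aeval_X]
  rw [mul_geom_sum, h, sub_self]; rfl

theorem le_finrank_ker_of_ne_one [FiniteDimensional F V] (hi : iSupIndep D)
    (ha : ∀ j, finrank F (D j) = a) (h : ∀ j, (D j).map A = D (σ j)) {r : ℕ}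
    [Fact r.Prime] (hA : A ^ r = 1) (hσ : σ ^ r = 1) (hj : σ ≠ 1) :
    a ≤ finrank F (LinearMap.ker (A - 1)) := by
  have hr : 0 < r := (Fact.out : r.Prime).pos
  have h1 := le_finrank_range_aeval ((Module.End.isUnit_iff _).1 (.of_pow_eq_one hA hr.ne')).1
    hi ha h hσ hj (geom_ne_zero hr)
  have h2 := natDegree_geom_le (F := F) r
  refine le_trans ?_ (h1.trans (Submodule.finrank_mono (range_geom_le hA)))
  exact Nat.le_mul_of_pos_right _ (by omega)

theorem mul_le_finrank_range_of_ne_one [FiniteDimensional F V] (hi : iSupIndep D)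
    (ha : ∀ j, finrank F (D j) = a) (h : ∀ j, (D j).map A = D (σ j)) {r : ℕ}
    [Fact r.Prime] (hA : A ^ r = 1) (hσ : σ ^ r = 1) (hj : σ ≠ 1) :
    a * (r - 1) ≤ finrank F (LinearMap.range (A - 1)) := by
  have hr : 0 < r := (Fact.out : r.Prime).pos
  have h1 := le_finrank_range_aeval ((Module.End.isUnit_iff _).1 (.of_pow_eq_one hA hr.ne')).1
    hi ha h hσ hj (X_sub_C_ne_zero (1 : F))
  rwa [natDegree_X_sub_C, aeval_X_sub_one] at h1

/-- Counting orbits: if the fixed summands are fixed pointwise, `dim V ≤ r dim C_V(A)`. -/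
theorem finrank_le_mul_ker [FiniteDimensional F V] [Fintype ι] (hi : iSupIndep D)
    (ha : ∀ j, finrank F (D j) = a) (h : ∀ j, (D j).map A = D (σ j)) {r : ℕ}
    [Fact r.Prime] (hA : A ^ r = 1) (hσ : σ ^ r = 1)
    (hC : ∀ j, σ j = j → D j ≤ LinearMap.ker (A - 1)) :
    a * Fintype.card ι ≤ r * finrank F (LinearMap.ker (A - 1)) := by
  classical
  have hr : 0 < r := (Fact.out : r.Prime).pos
  let π : ι → Quotient (Equiv.Perm.SameCycle.setoid σ) := Quotient.mk _
  let E : Quotient (Equiv.Perm.SameCycle.setoid σ) → Submodule F V := fun k =>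
    (Finset.univ.filter fun j => π j = k).sup D
  have h1 : ∀ k, finrank F (E k) = (Finset.univ.filter fun j => π j = k).card * a := fun k => by
    simp only [E, finrank_sup_eq hi, ha, Finset.sum_const, smul_eq_mul]
  have h2 : ∑ k, finrank F (E k) = a * Fintype.card ι := by
    simp only [h1, ← Finset.sum_mul]
    rw [← Finset.card_eq_sum_card_fiberwise (by simp), mul_comm, Finset.card_univ]
  have h3 : iSupIndep E := by
    refine iSupIndep_of_finrank ?_
    rw [h2]
    calc a * Fintype.card ι = finrank F (Finset.univ.sup D : Submodule F V) := by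
          simp [finrank_sup_eq hi, ha, mul_comm]
      _ ≤ _ := Submodule.finrank_mono (Finset.sup_le fun j _ => le_iSup_of_le (π j)
          (Finset.le_sup (f := D) (by simp)))
  rw [← h2]
  refine le_trans ?_ (Nat.mul_le_mul_left r (sum_finrank_inf_le h3 _))
  rw [Finset.mul_sum]
  refine Finset.sum_le_sum fun k _ => ?_
  obtain ⟨j, rfl⟩ := Quotient.exists_rep k
  have h4 : (Finset.univ.filter fun j' => π j' = ⟦j⟧).card ≤ r := by
    refine le_trans (Finset.card_le_card (t := (Finset.range r).image fun i => (σ ^ i) j) ?_)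
      (Finset.card_image_le.trans (by simp))
    intro j' hj'
    have h5 : σ.SameCycle j j' := (Quotient.exact (Finset.mem_filter.1 hj').2).symm
    obtain ⟨i, hi1, hi2⟩ := h5.exists_pow_eq'
    exact Finset.mem_image.2 ⟨i, Finset.mem_range.2
      (hi1.trans_le (Nat.le_of_dvd hr (orderOf_dvd_of_pow_eq_one hσ))), hi2⟩
  have h5 : ∀ s, orbSup D σ j s ≤ E ⟦j⟧ := fun s => Finset.sup_le fun i _ =>
    Finset.le_sup (f := D) (Finset.mem_filter.2 ⟨Finset.mem_univ _,
      Quotient.sound (Equiv.Perm.SameCycle.symm ⟨i, by simp⟩)⟩)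
  rw [h1]
  refine Nat.mul_le_mul h4 ?_
  by_cases hj : σ j = j
  · rw [← ha j]
    exact Submodule.finrank_mono (le_inf ((le_orbSup j (i := 0) one_pos).trans (h5 1)) (hC j hj))
  · have h6 := natDegree_geom_le (F := F) r
    obtain ⟨h7, h8⟩ := le_finrank_map_aeval
      ((Module.End.isUnit_iff _).1 (.of_pow_eq_one hA hr.ne')).1 hi ha h hσ hj (geom_ne_zero hr) 1
      (by omega)
    rw [mul_one] at h7
    exact h7.trans (Submodule.finrank_mono (le_inf (h8.trans (h5 _))
      (LinearMap.map_le_range.trans (range_geom_le hA))))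

end Analysis

/-! ### Involutions -/

section Invol

variable {ι : Type*} [DecidableEq ι] {σ : Equiv.Perm ι}

theorem erase_pair_inv (hσ : ∀ x, σ (σ x) = x) {s : Finset ι} (hs : ∀ x ∈ s, σ x ∈ s) (y : ι) :
    ∀ x ∈ (s.erase y).erase (σ y), σ x ∈ (s.erase y).erase (σ y) := by
  intro x hx
  simp only [Finset.mem_erase] at hx ⊢
  exact ⟨σ.injective.ne hx.2.1, fun h => hx.1 (by rw [← h, hσ]), hs x hx.2.2⟩

theorem card_erase_pair {s : Finset ι} (hs : ∀ x ∈ s, σ x ∈ s) {y : ι} (hy : y ∈ s)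
    (h : σ y ≠ y) : ((s.erase y).erase (σ y)).card + 2 = s.card := by
  rw [← Finset.card_erase_add_one hy,
    ← Finset.card_erase_add_one (Finset.mem_erase.2 ⟨h, hs y hy⟩)]

theorem exists_inv_subset (hσ : ∀ x, σ (σ x) = x) (a : ℕ) : ∀ {s : Finset ι},
    (∀ x ∈ s, σ x ∈ s) → a ≤ s.card → (Even a ∨ ∃ x ∈ s, σ x = x) →
      ∃ s' ⊆ s, (∀ x ∈ s', σ x ∈ s') ∧ s'.card = a := by
  induction a using Nat.strong_induction_on with
  | _ a ih =>
  intro s hs ha h
  by_cases hall : ∀ x ∈ s, σ x = x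
  · obtain ⟨s', h1, h2⟩ := Finset.exists_subset_card_eq ha
    exact ⟨s', h1, fun x hx => by rw [hall x (h1 hx)]; exact hx, h2⟩
  push Not at hall
  obtain ⟨y, hy, hy'⟩ := hall
  rcases a with _ | _ | a
  · exact ⟨∅, by simp⟩
  · obtain ⟨x, hx, hx'⟩ := h.resolve_left (by decide)
    exact ⟨{x}, by simpa using hx, by simpa using hx', by simp⟩
  have h1 := card_erase_pair hs hy hy'
  obtain ⟨s', h2, h3, h4⟩ := ih a (by omega) (erase_pair_inv hσ hs y) (by omega) (by
    rcases h with h | ⟨x, hx, hx'⟩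
    · exact Or.inl (by simpa [Nat.even_add_one] using h)
    · refine Or.inr ⟨x, ?_, hx'⟩
      simp only [Finset.mem_erase]
      exact ⟨fun h => hy' (by rw [← h, ← hσ y, ← h, hx']), fun h => hy' (h ▸ hx'), hx⟩)
  have h5 : y ∉ s' := fun h => by simpa using h2 h
  have h6 : σ y ∉ s' := fun h => by simpa using h2 h
  refine ⟨insert y (insert (σ y) s'), ?_, ?_, ?_⟩
  · simp only [Finset.insert_subset_iff]
    exact ⟨hy, hs y hy, h2.trans ((Finset.erase_subset _ _).trans (Finset.erase_subset _ _))⟩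
  · simp only [Finset.mem_insert]
    rintro x (rfl | rfl | hx)
    · simp
    · simp [hσ]
    · simp [h3 x hx]
  · rw [Finset.card_insert_of_notMem (by simp [h5, hy'.symm]), Finset.card_insert_of_notMem h6, h4]

theorem exists_transversal (hσ : ∀ x, σ (σ x) = x) (a : ℕ) : ∀ {s : Finset ι},
    (∀ x ∈ s, σ x ∈ s) → (∀ x ∈ s, σ x ≠ x) → 2 * a ≤ s.card →
      ∃ s' ⊆ s, s'.card = a ∧ ∀ x ∈ s', σ x ∉ s' := by
  induction a with
  | zero => exact fun _ _ _ => ⟨∅, by simp⟩
  | succ a ih =>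
    intro s hs hf ha
    obtain ⟨y, hy⟩ : s.Nonempty := Finset.card_pos.1 (by omega)
    have h1 := card_erase_pair hs hy (hf y hy)
    obtain ⟨s', h2, h3, h4⟩ := ih (erase_pair_inv hσ hs y)
      (fun x hx => hf x (Finset.mem_of_mem_erase (Finset.mem_of_mem_erase hx))) (by omega)
    have h5 : y ∉ s' := fun h => by simpa using h2 h
    have h6 : σ y ∉ s' := fun h => by simpa using h2 h
    refine ⟨insert y s', ?_, by rw [Finset.card_insert_of_notMem h5, h3], ?_⟩
    · simp only [Finset.insert_subset_iff]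
      exact ⟨hy, h2.trans ((Finset.erase_subset _ _).trans (Finset.erase_subset _ _))⟩
    · simp only [Finset.mem_insert, not_or]
      rintro x (rfl | hx)
      · exact ⟨hf _ hy, h6⟩
      · exact ⟨fun h => h6 (by rwa [← h, hσ]), h4 x hx⟩

variable {D : ι → Submodule F V}

theorem map_finset_sup (h : ∀ j, (D j).map A = D (σ j)) (s : Finset ι) :
    (s.sup D).map A = (s.image σ).sup D := by
  rw [Finset.sup_image, Finset.apply_sup_eq_sup_comp (Submodule.map A) (Submodule.map_sup · · A)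
    (Submodule.map_bot A)]
  exact Finset.sup_congr rfl fun j _ => h j

omit [DecidableEq ι] in
theorem sup_le_perp_sup (ho : ∀ j j', j ≠ j' → D j ≤ f.perp (D j')) {s s' : Finset ι}
    (h : ∀ x ∈ s, x ∉ s') : s.sup D ≤ f.perp (s'.sup D) :=
  Finset.sup_le fun j hj => (le_perp_comm f).1 (Finset.sup_le fun k hk =>
    ho k j fun e => h j hj (e ▸ hk))

theorem image_eq_of_inv {s : Finset ι} (hs : ∀ x ∈ s, σ x ∈ s) : s.image σ = s :=
  Finset.eq_of_subset_of_card_le (Finset.image_subset_iff.2 hs)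
    (by rw [Finset.card_image_of_injective _ σ.injective])

theorem decOn_coarsen [FiniteDimensional F V] (hA : Function.Injective A)
    (hσ : ∀ x, σ (σ x) = x) (hi : iSupIndep D) {b : ℕ} (hb : ∀ j, finrank F (D j) = b)
    (h : ∀ j, (D j).map A = D (σ j)) (ho : ∀ j j', j ≠ j' → D j ≤ f.perp (D j')) (a t : ℕ) :
    ∀ s : Finset ι, (∀ x ∈ s, σ x ∈ s) → s.card = a * t → DecOn f A (s.sup D) (a * b) t := by
  have hd : ∀ s : Finset ι, finrank F (s.sup D : Submodule F V) = s.card * b := fun s => by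
    simp [finrank_sup_eq hi, hb]
  have hsd : ∀ {s s' : Finset ι}, (∀ x ∈ s, σ x ∈ s) → (∀ x ∈ s', σ x ∈ s') →
      ∀ x ∈ s \ s', σ x ∈ s \ s' := by
    intro s s' hs hs' x hx
    rw [Finset.mem_sdiff] at hx ⊢
    exact ⟨hs x hx.1, fun h => hx.2 (by simpa [hσ] using hs' _ h)⟩
  induction t using Nat.strong_induction_on with
  | _ t ih =>
  intro s hs hc
  rcases t with _ | t
  · rw [show s = ∅ from Finset.card_eq_zero.1 (by simpa using hc)]; exact DecOn.zero _
  by_cases hcase : Even a ∨ ∃ x ∈ s, σ x = x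
  · obtain ⟨s', h1, h2, h3⟩ := exists_inv_subset hσ a hs (by rw [hc]; nlinarith) hcase
    have h4 := ih t (by omega) (s \ s') (hsd hs h2) (by
      rw [Finset.card_sdiff_of_subset h1, hc, h3, Nat.mul_succ]; omega)
    have h5 := (DecOn.single (f := f) (by rw [map_finset_sup h, image_eq_of_inv h2])
      ((hd s').trans (by rw [h3]))).sup h4 (sup_le_perp_sup ho fun x hx => by simp [hx])
    rwa [← Finset.sup_union, Finset.union_sdiff_of_subset h1, add_comm] at h5
  · push Not at hcase
    have ht : t ≠ 0 := by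
      rintro rfl
      obtain ⟨s', h1, h2, h3⟩ := exists_inv_subset hσ (a - 1) hs (by omega)
        (Or.inl (Nat.Odd.sub_odd (Nat.not_even_iff_odd.1 hcase.1) odd_one))
      have h4 : (s \ s').card = 1 := by
        have := (Nat.not_even_iff_odd.1 hcase.1).pos
        rw [Finset.card_sdiff_of_subset h1]; omega
      obtain ⟨x, hx⟩ := Finset.card_eq_one.1 h4
      have h5 : x ∈ s \ s' := by simp [hx]
      have h6 := hsd hs h2 x h5
      rw [hx, Finset.mem_singleton] at h6
      exact hcase.2 x (Finset.mem_sdiff.1 h5).1 h6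
    obtain ⟨t, rfl⟩ : ∃ t', t = t' + 1 := ⟨t - 1, by omega⟩
    obtain ⟨s', h1, h2, h3⟩ := exists_transversal hσ a hs hcase.2 (by rw [hc]; nlinarith)
    have h4 : ∀ x ∈ s', x ∉ s'.image σ := fun x hx hx' => by
      obtain ⟨y, hy, rfl⟩ := Finset.mem_image.1 hx'
      exact h3 y hy hx
    have h5 : ∀ x ∈ s' ∪ s'.image σ, σ x ∈ s' ∪ s'.image σ := fun x hx => by
      rcases Finset.mem_union.1 hx with hx | hx
      · exact Finset.mem_union_right _ (Finset.mem_image_of_mem _ hx)
      · obtain ⟨y, hy, rfl⟩ := Finset.mem_image.1 hx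
        exact Finset.mem_union_left _ (by rwa [hσ])
    have h6 : s' ∪ s'.image σ ⊆ s :=
      Finset.union_subset h1 (Finset.image_subset_iff.2 fun x hx => hs x (h1 hx))
    have h7 := ih t (by omega) (s \ (s' ∪ s'.image σ)) (hsd hs h5) (by
      rw [Finset.card_sdiff_of_subset h6, Finset.card_union_of_disjoint
        (Finset.disjoint_left.2 h4), Finset.card_image_of_injective _ σ.injective, hc, h2]
      simp only [Nat.mul_succ]; omega)
    have h8 : DecOn f A (s'.sup D ⊔ (s'.sup D).map A) (a * b) 2 := by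
      refine DecOn.swap hA ?_ ((hd s').trans (by rw [h2])) ?_
      · rw [map_finset_sup h, map_finset_sup h, Finset.image_image]
        congr 1
        simp [Function.comp_def, hσ]
      · rw [map_finset_sup h]; exact sup_le_perp_sup ho h4
    rw [map_finset_sup h, ← Finset.sup_union] at h8
    have h9 := h8.sup h7 (sup_le_perp_sup ho fun x hx => by simp [hx])
    rwa [← Finset.sup_union, Finset.union_sdiff_of_subset h6, add_comm] at h9

theorem injective_of_pow_eq [Nontrivial V] {k : ℕ} (hk : k ≠ 0) {c : F} (hc : c ≠ 0)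
    (h : A ^ k = algebraMap F _ c) : Function.Injective A := by
  obtain ⟨k, rfl⟩ := Nat.exists_eq_succ_of_ne_zero hk
  rw [← LinearMap.ker_eq_bot, eq_bot_iff]
  intro x hx
  have := congrArg (· x) h
  simp only [pow_succ, Module.End.mul_apply, show A x = 0 from hx, map_zero,
    Module.algebraMap_end_apply] at this
  exact (smul_eq_zero.1 this.symm).resolve_left hc

theorem DecOn.coarsen [FiniteDimensional F V] (hA : Function.Injective A) {c : F} (hc : c ≠ 0)
    (h2 : A ^ 2 = algebraMap F _ c) {b : ℕ} (hb : 0 < b) (h : DecOn f A W b (a * t))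
    (hW : finrank F W = b * (a * t)) : DecOn f A W (a * b) t := by
  obtain ⟨D, σ, h1, h3, rfl, h4, h5⟩ := h.toFin hW
  have h6 := perm_pow_eq_one h3 (fun j hj => by have := h1 j; rw [hj, finrank_bot] at this; omega)
    h5 hc h2
  have := decOn_coarsen hA (σ := σ) (fun x => by
    rw [← Equiv.Perm.mul_apply, ← sq, h6]; rfl) h3 h1 h5 h4 a t Finset.univ (by simp) (by simp)
  rwa [Finset.sup_univ_eq_iSup] at this

theorem inv_of_forall_mem_span {W U : Submodule F V} (h : ∀ v ∈ W, A v ∈ F ∙ v) (hU : U ≤ W) :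
    Inv A U := fun v hv =>
  (Submodule.span_singleton_le_iff_mem _ _).2 hv (h v (hU hv))

theorem map_map_eq_of_sq {c : F} (hc : c ≠ 0) (h2 : A ^ 2 = algebraMap F _ c)
    (U : Submodule F V) : (U.map A).map A = U := by
  have := map_pow_succ (A := A) U 1
  rw [pow_one] at this
  rw [this, h2, map_algebraMap_eq hc]

/-- A map whose square is a non-zero scalar permutes the lines of a basis. -/
theorem decOn_lines [FiniteDimensional F V] (hA : Function.Injective A) {c : F} (hc : c ≠ 0)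
    (h2 : A ^ 2 = algebraMap F _ c) (n : ℕ) : ∀ W : Submodule F V, Inv A W → finrank F W = n →
      DecOn (zeroForm F V) A W 1 n := by
  induction n using Nat.strong_induction_on with
  | _ n ih =>
  intro W hW hn
  rcases n with _ | n
  · rw [Submodule.finrank_eq_zero.1 hn]; exact DecOn.zero _
  by_cases h : ∀ v ∈ W, A v ∈ F ∙ v
  · obtain ⟨U, h1, h3⟩ := exists_finrank_le (M := W) (k := 1) (by omega)
    obtain ⟨W', h4, h5, h6⟩ := exists_compl_le h1
    have h7 := finrank_sup_of_disjoint h5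
    rw [h6] at h7
    have := (DecOn.single ((inv_of_forall_mem_span h h1).map_eq hA) h3).sup
      (ih n (by omega) W' (inv_of_forall_mem_span h h4) (by omega)) (by simp [zeroForm_perp])
    rwa [h6, add_comm] at this
  push Not at h
  obtain ⟨v, hv, hv'⟩ := h
  have hv0 : v ≠ 0 := by rintro rfl; simp at hv'
  obtain ⟨φ, h1, h3⟩ : ∃ φ : Dual F V, φ (A v) = 1 ∧ φ v = 0 := by
    obtain ⟨φ, h1, h3⟩ := Submodule.exists_dual_map_eq_bot_of_notMem hv' inferInstance
    refine ⟨(φ (A v))⁻¹ • φ, by simp [h1], ?_⟩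
    have : φ v ∈ (F ∙ v).map φ := ⟨v, Submodule.mem_span_singleton_self v, rfl⟩
    rw [h3, Submodule.mem_bot] at this
    simp [this]
  have hAA : ∀ x, A (A x) = c • x := fun x => by
    simpa [sq] using congrArg (· x) h2
  let W' := W ⊓ LinearMap.ker φ ⊓ LinearMap.ker (φ ∘ₗ A)
  have hW' : Inv A W' := fun x hx => ⟨⟨hW x hx.1.1, hx.2⟩, by
    have := hx.1.2
    simp only [SetLike.mem_coe, LinearMap.mem_ker, LinearMap.comp_apply] at this ⊢
    rw [hAA, map_smul, this, smul_zero]⟩
  have h4 : (F ∙ v) ⊔ (F ∙ v).map A = Submodule.span F {v, A v} := by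
    rw [Submodule.map_span, Set.image_singleton, ← Submodule.span_union]; rfl
  have h5 : Disjoint (Submodule.span F {v, A v}) W' := by
    rw [Submodule.disjoint_def]
    intro x hx hx'
    obtain ⟨a, b, rfl⟩ := Submodule.mem_span_pair.1 hx
    have e1 := hx'.1.2
    have e2 := hx'.2
    simp only [SetLike.mem_coe, LinearMap.mem_ker, LinearMap.comp_apply, map_add, map_smul, h1,
      h3, hAA, smul_eq_mul, mul_zero, mul_one, zero_add, add_zero] at e1 e2
    simp [e1, e2]
  have h6 : Submodule.span F {v, A v} ⊔ W' = W := by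
    refine le_antisymm (sup_le (Submodule.span_le.2 ?_) (inf_le_left.trans inf_le_left)) ?_
    · rintro x (rfl | rfl)
      exacts [hv, hW v hv]
    · intro w hw
      rw [← add_sub_cancel (φ (A w) • v + φ w • A v) w]
      refine Submodule.add_mem_sup (Submodule.mem_span_pair.2 ⟨_, _, rfl⟩) ⟨⟨?_, ?_⟩, ?_⟩
      · exact sub_mem hw (add_mem (W.smul_mem _ hv) (W.smul_mem _ (hW v hv)))
      · simp [h1, h3]
      · simp [h1, h3, hAA]
  have h7 : finrank F (Submodule.span F {v, A v}) = 2 := by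
    rw [← h4, finrank_sup_of_disjoint, finrank_map_of_injective hA, finrank_span_singleton hv0]
    rw [Submodule.map_span, Set.image_singleton]
    exact (Submodule.disjoint_span_singleton_of_notMem hv')
  have h8 := finrank_sup_of_disjoint h5
  rw [h6] at h8
  have := (DecOn.swap (f := zeroForm F V) hA (map_map_eq_of_sq hc h2 _) (finrank_span_singleton hv0)
    (by simp [zeroForm_perp])).sup (ih (n - 1) (by omega) W' hW' (by omega)) (by simp [zeroForm_perp])
  rwa [h4, h6, show 2 + (n - 1) = n + 1 by omega] at this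

/-- A symplectic map whose square is a scalar permutes the planes of an orthogonal frame. -/
theorem decOn_planes [FiniteDimensional F V] {f : Form (FormType.alt F) V}
    (hA : Function.Injective A) (hI : ∀ x y, f.B (A x) (A y) = f.B x y) {c : F} (hc : c ≠ 0)
    (h2 : A ^ 2 = algebraMap F _ c) (n : ℕ) : ∀ W : Submodule F V, Inv A W → ND f W →
      finrank F W = 2 * n → DecOn f A W 2 n := by
  have hAA : ∀ x, A (A x) = c • x := fun x => by
    simpa [sq] using congrArg (· x) h2
  have plane : ∀ {u v : V}, f.B u v ≠ 0 → finrank F (Submodule.span F {u, v}) = 2 ∧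
      ND f (Submodule.span F {u, v}) := by
    intro u v h
    have h1 : f.B u ((f.B u v)⁻¹ • v) = 1 := by rw [B_smul_right, inv_mul_cancel₀ h]
    have h3 : Submodule.span F {u, (f.B u v)⁻¹ • v} = Submodule.span F {u, v} := by
      rw [Submodule.span_insert, Submodule.span_insert,
        Submodule.span_singleton_smul_eq (inv_ne_zero h).isUnit]
    rw [← h3]
    exact ⟨finrank_span_pair f (alt_q _ _) (alt_q _ _) h1,
      nd_of_nondeg (restrict_nondeg_pair f (alt_q _ _) (alt_q _ _) h1)⟩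
  induction n using Nat.strong_induction_on with
  | _ n ih =>
  intro W hW hN hn
  rcases n with _ | n
  · rw [Submodule.finrank_eq_zero.1 hn]; exact DecOn.zero _
  suffices h : ∃ U ≤ W, ∃ s, 0 < s ∧ Inv A U ∧ ND f U ∧ finrank F U = 2 * s ∧ DecOn f A U 2 s by
    obtain ⟨U, h1, s, h3, h4, h5, h6, h7⟩ := h
    have h8 := h5.finrank_inf_perp h1
    have := h7.sup (ih (n + 1 - s) (by omega) _ (hW.inf (h5.inv_perp hI h4)) (hN.inf_perp h5 h1)
      (by omega)) ((le_perp_comm f).1 inf_le_right)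
    rwa [h5.sup_inf_perp h1, show s + (n + 1 - s) = n + 1 by omega] at this
  have pl : ∀ {u v : V}, u ∈ W → v ∈ W → Submodule.span F {u, v} ≤ W := fun hu hv =>
    Submodule.span_le.2 (Set.insert_subset hu (Set.singleton_subset_iff.2 hv))
  by_cases h : ∀ v ∈ W, A v ∈ F ∙ v
  · obtain ⟨u, hu, hu0⟩ := Submodule.exists_mem_ne_zero_of_ne_bot (p := W)
      (by rintro rfl; simp at hn)
    obtain ⟨v, hv, huv⟩ := nd_iff.1 hN u hu hu0
    have h1 := inv_of_forall_mem_span h (pl hu hv)
    exact ⟨_, pl hu hv, 1, one_pos, h1, (plane huv).2, (plane huv).1,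
      DecOn.single (h1.map_eq hA) (plane huv).1⟩
  by_cases h' : ∃ v ∈ W, f.B v (A v) ≠ 0
  · obtain ⟨v, hv, hv'⟩ := h'
    have h1 : Inv A (Submodule.span F {v, A v}) := by
      rw [inv_iff_map_le, Submodule.map_span_le]
      rintro x (rfl | rfl)
      · exact Submodule.subset_span (by simp)
      · rw [hAA]; exact Submodule.smul_mem _ _ (Submodule.subset_span (by simp))
    exact ⟨_, pl hv (hW v hv), 1, one_pos, h1, (plane hv').2, (plane hv').1,
      DecOn.single (h1.map_eq hA) (plane hv').1⟩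
  push Not at h h'
  obtain ⟨v, hv, hv'⟩ := h
  have hvA : v ∉ F ∙ A v := fun hm => by
    obtain ⟨a, ha⟩ := Submodule.mem_span_singleton.1 hm
    have ha0 : a ≠ 0 := by rintro rfl; rw [zero_smul] at ha; subst ha; simp at hv'
    exact hv' (Submodule.mem_span_singleton.2 ⟨a⁻¹, by rw [← ha, smul_smul]; simp [ha0, ha]⟩)
  obtain ⟨u, hu1, hu2⟩ := hN.nondeg.exists_perp_eq (H := F ∙ (⟨A v, hW v hv⟩ : W)) (x := ⟨v, hv⟩)
    (fun hm => hvA (by
      obtain ⟨a, ha⟩ := Submodule.mem_span_singleton.1 hm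
      exact Submodule.mem_span_singleton.2 ⟨a, congrArg Subtype.val ha⟩)) 1
  have hu3 : f.B u (A v) = 0 := hu1 _ (Submodule.mem_span_singleton_self _)
  have huv : f.B u v ≠ 0 := by rw [show f.B u v = 1 from hu2]; exact one_ne_zero
  have hu4 : f.B v (A u) = 0 := by
    have := h' (u + v) (add_mem u.2 hv)
    simpa [h' u u.2, h' v hv, hu3] using this
  have ho : Submodule.span F {(u : V), v} ≤ f.perp ((Submodule.span F {(u : V), v}).map A) := by
    rw [Submodule.map_span, Set.image_pair, Submodule.span_le]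
    rintro x (rfl | rfl) <;> rw [SetLike.mem_coe, mem_perp_span_pair]
    · exact ⟨f.B_eq_zero_symm (h' _ u.2), f.B_eq_zero_symm hu3⟩
    · exact ⟨f.B_eq_zero_symm hu4, f.B_eq_zero_symm (h' _ hv)⟩
  have h3 := (plane huv).2.map hI
  refine ⟨_, sup_le (pl u.2 hv) ((Submodule.map_mono (pl u.2 hv)).trans (inv_iff_map_le.1 hW)), 2,
    two_pos, ?_, (plane huv).2.sup h3 ho, ?_,
    DecOn.swap hA (map_map_eq_of_sq hc h2 _) (plane huv).1 ho⟩
  · rw [inv_iff_map_le, Submodule.map_sup, map_map_eq_of_sq hc h2, sup_comm]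
  · rw [finrank_sup_of_disjoint (h3.disjoint_of_le ho).symm, finrank_map_of_injective hA,
      (plane huv).1]

end Invol

/-! ### Transitivity on decompositions -/

section Trans

variable {ι : Type*} [Fintype ι] {D D' : ι → Submodule F V}

theorem exists_equiv_dec (hi : iSupIndep D) (ht : iSup D = ⊤) (hi' : iSupIndep D')
    (ht' : iSup D' = ⊤) (e : ∀ j, D j ≃ₗ[F] D' j) :
    ∃ g : V ≃ₗ[F] V, (∀ j (x : D j), g x = e j x) ∧ ∀ j, mp g (D j) = D' j := by
  classical
  have h1 : Function.Bijective (DirectSum.coeLinearMap D) :=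
    DirectSum.isInternal_submodule_of_iSupIndep_of_iSup_eq_top hi ht
  have h2 : Function.Bijective (DirectSum.coeLinearMap D') :=
    DirectSum.isInternal_submodule_of_iSupIndep_of_iSup_eq_top hi' ht'
  let g := ((LinearEquiv.ofBijective (DirectSum.coeLinearMap D) h1).symm.trans
    (DirectSum.congrLinearEquiv e)).trans (LinearEquiv.ofBijective (DirectSum.coeLinearMap D') h2)
  have key : ∀ j (x : D j), g x = e j x := fun j x => by
    have : (LinearEquiv.ofBijective (DirectSum.coeLinearMap D) h1).symm x =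
        DirectSum.lof F ι (fun j => D j) j x := by
      rw [LinearEquiv.symm_apply_eq]; simp
    simp only [g, LinearEquiv.trans_apply, this]
    simp [DirectSum.coe_congrLinearEquiv]
  refine ⟨g, key, fun j => le_antisymm ?_ fun y hy => ?_⟩
  · rintro _ ⟨x, hx, rfl⟩
    have := key j ⟨x, hx⟩
    simp only [LinearEquiv.coe_coe] at this ⊢
    rw [this]; exact (e j _).2
  · exact ⟨(e j).symm ⟨y, hy⟩, ((e j).symm _).2, by simpa using key j ((e j).symm ⟨y, hy⟩)⟩

theorem exists_mp_eq_dec [FiniteDimensional F V] (hi : iSupIndep D) (ht : iSup D = ⊤)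
    (hi' : iSupIndep D') (ht' : iSup D' = ⊤) (h : ∀ j, finrank F (D j) = finrank F (D' j)) :
    ∃ g : V ≃ₗ[F] V, ∀ j, mp g (D j) = D' j :=
  (exists_equiv_dec hi ht hi' ht' fun j => LinearEquiv.ofFinrankEq _ _ (h j)).imp fun _ h => h.2

theorem exists_O_dec (hi : iSupIndep D) (ht : iSup D = ⊤) (hi' : iSupIndep D')
    (ht' : iSup D' = ⊤) (ho : ∀ j j', j ≠ j' → D j ≤ f.perp (D j'))
    (ho' : ∀ j j', j ≠ j' → D' j ≤ f.perp (D' j'))
    (h : ∀ j, ∃ e : D j ≃ₗ[F] D' j, IsIsom (f.restrict _) (f.restrict _) e) :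
    ∃ g ∈ f.O, ∀ j, mp g (D j) = D' j := by
  choose e he using h
  obtain ⟨g, h1, h2⟩ := exists_equiv_dec hi ht hi' ht' e
  refine ⟨g, isIsom_of_span f f (g : V →ₗ[F] V) (s := ⋃ j, D j) ?_ ?_ ?_, h2⟩
  · rw [← Submodule.iSup_eq_span, ht]
  · simp only [Set.mem_iUnion]
    rintro x ⟨j, hx⟩ y ⟨k, hy⟩
    have e1 := h1 j ⟨x, hx⟩
    have e2 := h1 k ⟨y, hy⟩
    simp only [LinearEquiv.coe_coe] at e1 e2 ⊢
    rw [e1, e2]
    by_cases hjk : j = k
    · subst hjk; exact (he j).1 ⟨x, hx⟩ ⟨y, hy⟩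
    · rw [(mem_perp' f).1 (ho j k hjk hx) y hy, (mem_perp' f).1 (ho' j k hjk (e j _).2) _ (e k _).2]
  · simp only [Set.mem_iUnion]
    rintro x ⟨j, hx⟩
    have e1 := h1 j ⟨x, hx⟩
    simp only [LinearEquiv.coe_coe] at e1 ⊢
    rw [e1]; exact (he j).2 ⟨x, hx⟩

omit [Fintype ι] in
theorem iSupIndep_mp (g : V ≃ₗ[F] V) (hi : iSupIndep D) : iSupIndep fun j => mp g (D j) :=
  hi.map_orderIso (Submodule.orderIsoMapComap g)

omit [Fintype ι] in
theorem iSup_mp (g : V ≃ₗ[F] V) (ht : iSup D = ⊤) : ⨆ j, mp g (D j) = ⊤ := by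
  rw [← Submodule.map_iSup, show ⨆ j, D j = ⊤ from ht, Submodule.map_top, LinearEquiv.range]

end Trans

/-! ### Elements of prime order -/

theorem decOn_of_split (S : Submodule F V → ℕ → ℕ → Prop) {d c : ℕ} (hda : d ∣ a) (hdc : d ∣ c)
    (h0 : ∀ W, S W 0 0 → W = ⊥)
    (hs : ∀ W e m e₁ m₁, S W e m → e₁ ≤ e → m₁ ≤ m → d ∣ e₁ → ∃ U W', U ⊔ W' = W ∧
      U ≤ f.perp W' ∧ U.map A = U ∧ finrank F U = e₁ + c * m₁ ∧ S W' (e - e₁) (m - m₁))
    (hc : 0 < c) (t : ℕ) : ∀ W e m, S W e m → e + c * m = a * t → t * (a % c) ≤ e →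
      DecOn f A W a t := by
  induction t with
  | zero =>
    intro W e m h1 h2 _
    obtain ⟨rfl, h3⟩ := Nat.add_eq_zero_iff.1 h2
    obtain rfl : m = 0 := (Nat.mul_eq_zero.1 h3).resolve_left hc.ne'
    rw [h0 W h1]; exact DecOn.zero _
  | succ t ih =>
    intro W e m h1 h2 h3
    have h4 := Nat.mod_add_div a c
    obtain ⟨e₁, m₁, h5, h6, h7, h8⟩ : ∃ e₁ m₁, e₁ ≤ e ∧ m₁ ≤ m ∧ e₁ + c * m₁ = a ∧
        t * (a % c) ≤ e - e₁ := by
      rw [Nat.succ_mul] at h3
      rw [Nat.mul_succ] at h2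
      by_cases hm : a / c ≤ m
      · exact ⟨a % c, a / c, by omega, hm, h4, by omega⟩
      · have h5 := Nat.mul_le_mul_left c (le_of_not_ge hm)
        have h6 := Nat.mul_le_mul_left t (Nat.mod_le a c)
        rw [mul_comm t a] at h6
        exact ⟨a - c * m, m, by omega, le_rfl, by omega, by omega⟩
    obtain ⟨U, W', rfl, h9, h10, h11, h12⟩ := hs W e m e₁ m₁ h1 h5 h6
      ((Nat.dvd_add_left (hdc.mul_right m₁)).1 (h7 ▸ hda))
    have := (DecOn.single h10 (h11.trans h7)).sup (ih W' _ _ h12 (by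
      rw [Nat.mul_sub, Nat.mul_succ] at *
      have := Nat.mul_le_mul_left c h6
      omega) h8) h9
    rwa [add_comm] at this

section Lin

variable [FiniteDimensional F V]

theorem decOn_split {c : ℕ} (hc : 0 < c) (hA : A.IsSemisimple) (hinj : Function.Injective A)
    {C M : Submodule F V} (hC : C ≤ LinearMap.ker (A - 1)) (hM : Inv A M) (hH : Hom c A M)
    (hd : Disjoint C M) {m : ℕ} (hm : finrank F M = c * m) (h1 : finrank F C + c * m = a * t)
    (h2 : t * (a % c) ≤ finrank F C) : DecOn (zeroForm F V) A (C ⊔ M) a t := by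
  refine decOn_of_split (fun W e m => ∃ C' ≤ C, ∃ M' ≤ M, Inv A M' ∧ finrank F C' = e ∧
    finrank F M' = c * m ∧ C' ⊔ M' = W) (one_dvd a) (one_dvd c) ?_ ?_ hc t _ _ m
    ⟨C, le_rfl, M, le_rfl, hM, rfl, hm, rfl⟩ h1 h2
  · rintro _ ⟨C', -, M', -, -, h3, h4, rfl⟩
    rw [Submodule.finrank_eq_zero.1 h3, Submodule.finrank_eq_zero.1 h4, bot_sup_eq]
  · rintro _ e m e₁ m₁ ⟨C', h3, M', h4, h5, rfl, h6, rfl⟩ h7 h8 -
    obtain ⟨C₁, h9, rfl⟩ := exists_finrank_le h7
    obtain ⟨C₂, h10, h11, rfl⟩ := exists_compl_le h9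
    obtain ⟨M₁, h12, h13, h14⟩ := (hH.mono h4).exists_sub hA h5 (j := m₁)
      (h6 ▸ Nat.mul_le_mul_left c h8)
    obtain ⟨M₂, h15, h16, h17, rfl⟩ := exists_inv_compl_le hA h12 h5 h13
    rw [finrank_sup_of_disjoint h17, h14] at h6
    refine ⟨C₁ ⊔ M₁, C₂ ⊔ M₂, sup_sup_sup_comm _ _ _ _, by simp [zeroForm_perp],
      ((inv_of_le_fixed (h9.trans (h3.trans hC))).sup h12).map_eq hinj, ?_, C₂, h10.trans h3, M₂,
      h16.trans h4, h15, ?_, ?_, rfl⟩
    · rw [finrank_sup_of_disjoint (hd.mono (h9.trans h3) (h13.trans h4)), h14]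
    · rw [finrank_sup_of_disjoint h11]; omega
    · rw [Nat.mul_sub]; omega

omit [FiniteDimensional F V] in
theorem Irr.iSup_pow_eq {U₁ : Submodule F V} (h : Irr A U₁) {k : ℕ} (hk : 0 < k) {c : F}
    (hA : A ^ k = algebraMap F _ c) {v : V} (hv : v ∈ U₁) (h0 : v ≠ 0) :
    ⨆ i : Fin k, (F ∙ v).map (A ^ (i : ℕ)) = U₁ := by
  refine h.2.2 _ (iSup_le fun i => ?_) (inv_iSup_pow hk ?_) fun h1 => h0 ?_
  · exact (Submodule.map_mono ((Submodule.span_singleton_le_iff_mem _ _).2 hv)).trans
      (inv_iff_map_le.1 (h.inv.pow i))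
  · rintro _ ⟨x, hx, rfl⟩
    rw [hA]; exact Submodule.smul_mem _ _ hx
  · have := iSup_eq_bot.1 h1 ⟨0, hk⟩
    simpa [Module.End.one_eq_id] using this

theorem exists_generating (hA : A.IsSemisimple) {k : ℕ} (hk : 0 < k) {c : F}
    (h : A ^ k = algebraMap F _ c) (hH : Hom k A ⊤) (m : ℕ) : ∀ W, Inv A W → finrank F W = k * m →
      ∃ U ≤ W, finrank F U = m ∧ ⨆ i : Fin k, U.map (A ^ (i : ℕ)) = W := by
  induction m with
  | zero => exact fun W _ h1 => ⟨⊥, bot_le, by simp, by simp [Submodule.finrank_eq_zero.1 h1]⟩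
  | succ m ih =>
    intro W hW h1
    obtain ⟨U₁, h2, h3⟩ := exists_irr hW (by
      rintro rfl; rw [finrank_bot] at h1; exact (Nat.mul_pos hk m.succ_pos).ne h1)
    obtain ⟨W', h4, h5, h6, rfl⟩ := exists_inv_compl_le hA h3.inv hW h2
    rw [finrank_sup_of_disjoint h6, hH U₁ le_top h3, Nat.mul_succ] at h1
    obtain ⟨U, h7, h8, h9⟩ := ih W' h4 (by omega)
    obtain ⟨v, hv, h0⟩ := Submodule.exists_mem_ne_zero_of_ne_bot h3.ne_bot
    have h10 := (Submodule.span_singleton_le_iff_mem _ _).2 hv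
    refine ⟨(F ∙ v) ⊔ U, sup_le_sup h10 h7, ?_, ?_⟩
    · rw [finrank_sup_of_disjoint (h6.mono h10 h7), finrank_span_singleton h0, h8, add_comm]
    · simp only [Submodule.map_sup, iSup_sup_eq, h9, h3.iSup_pow_eq hk h hv h0]

theorem decOn_typeB {r : ℕ} [Fact r.Prime] {c : F} (hc : c ≠ 0) (hinj : Function.Injective A)
    (h : A ^ r = algebraMap F _ c) (hi : Irreducible (X ^ r - C c : F[X]))
    (hV : finrank F V = a * t) : DecOn (zeroForm F V) A ⊤ a t := by
  have hr : r.Prime := Fact.out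
  have hss := ss_of_irreducible hi (aeval_X_pow_sub_C h)
  have hH := hom_top_of_irreducible h hi
  have h1 := hH.dvd hss (inv_top A)
  rw [finrank_top, hV] at h1
  rcases (Nat.Prime.dvd_mul hr).1 h1 with h2 | ⟨s, rfl⟩
  · obtain ⟨m, hm⟩ := h1
    have := decOn_split (a := a) (t := t) hr.pos hss hinj (C := ⊥) bot_le (inv_top A) hH
      disjoint_bot_left (m := m) (by rw [finrank_top, hV, hm]) (by simp [hm])
      (by simp [Nat.mod_eq_zero_of_dvd h2])
    rwa [bot_sup_eq] at this
  · suffices ∀ W, Inv A W → finrank F W = a * (r * s) → DecOn (zeroForm F V) A W a (r * s) from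
      this ⊤ (inv_top A) (by rw [finrank_top, hV])
    clear hV h1
    induction s with
    | zero => intro W _ h1; rw [Submodule.finrank_eq_zero.1 h1]; exact DecOn.zero _
    | succ s ih =>
      intro W hW h1
      obtain ⟨W₁, h2, h3, h4⟩ := (hH.mono le_top).exists_sub hss hW (j := a) (by rw [h1]; nlinarith)
      obtain ⟨W', h5, -, h6, rfl⟩ := exists_inv_compl_le hss h2 hW h3
      obtain ⟨U, -, h7, h8⟩ := exists_generating hss hr.pos h hH a W₁ h2 h4
      rw [finrank_sup_of_disjoint h6, h4] at h1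
      have := (DecOn.cycle hinj hr.pos (by rw [h, map_algebraMap_eq hc]) h7).sup
        (ih W' h5 (by nlinarith)) (by simp [zeroForm_perp])
      rwa [h8, add_comm, ← Nat.mul_succ] at this

theorem decOn_cycles {r : ℕ} (hr : 1 < r) (h : A ^ r = 1) (hA : A.IsSemisimple)
    (hH : Hom (r - 1) A (LinearMap.range (A - 1))) (m : ℕ) : ∀ C M : Submodule F V,
      C ≤ LinearMap.ker (A - 1) → Inv A M → M ≤ LinearMap.range (A - 1) →
      finrank F M = (r - 1) * m → m ≤ finrank F C →
      DecOn (zeroForm F V) A (C ⊔ M) 1 (finrank F C + (r - 1) * m) := by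
  have hinj : Function.Injective A :=
    ((Module.End.isUnit_iff _).1 (.of_pow_eq_one h (by omega))).1
  have hd := (isCompl_ker_range hA).disjoint
  induction m with
  | zero =>
    intro C M h1 h2 h3 h4 _
    exact decOn_split one_pos hA hinj h1 h2 (by
      rw [Submodule.finrank_eq_zero.1 h4]; exact fun U hU hU' => absurd (eq_bot_iff.2 hU) hU'.ne_bot)
      (hd.mono h1 h3) (m := 0) h4 (by simp) (by simp)
  | succ m ih =>
    intro C M h1 h2 h3 h4 h5
    obtain ⟨M₁, h6, h7⟩ := exists_irr h2 (by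
      rintro rfl; rw [finrank_bot] at h4; exact (Nat.mul_pos (by omega) m.succ_pos).ne h4)
    obtain ⟨M₂, h8, h9, h10, rfl⟩ := exists_inv_compl_le hA h7.inv h2 h6
    rw [finrank_sup_of_disjoint h10, hH M₁ (h6.trans h3) h7, Nat.mul_succ] at h4
    obtain ⟨u, hu, hu0⟩ := Submodule.exists_mem_ne_zero_of_ne_bot (p := C) (by
      rintro rfl; simp at h5)
    have hu1 := (Submodule.span_singleton_le_iff_mem _ _).2 hu
    obtain ⟨C₂, h11, h12, rfl⟩ := exists_compl_le hu1
    rw [finrank_sup_of_disjoint h12, finrank_span_singleton hu0] at h5 ⊢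
    obtain ⟨v, hv, hv0⟩ := Submodule.exists_mem_ne_zero_of_ne_bot h7.ne_bot
    have hu2 : A u = u := by simpa [sub_eq_zero] using h1 hu
    have hne : u + v ≠ 0 := fun h0 => hv0 (Submodule.disjoint_def.1 hd v
      (by rw [eq_neg_of_add_eq_zero_right h0]; exact neg_mem (h1 hu)) (h3 (h6 hv)))
    have key : ⨆ i : Fin r, (F ∙ (u + v)).map (A ^ (i : ℕ)) = (F ∙ u) ⊔ M₁ := by
      have hI : Inv A (⨆ i : Fin r, (F ∙ (u + v)).map (A ^ (i : ℕ))) :=
        inv_iSup_pow (by omega) (by simp [h, Module.End.one_eq_id])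
      have hm : u + v ∈ ⨆ i : Fin r, (F ∙ (u + v)).map (A ^ (i : ℕ)) :=
        Submodule.mem_iSup_of_mem ⟨0, by omega⟩ (by simp [Module.End.one_eq_id])
      have h13 : M₁ ≤ ⨆ i : Fin r, (F ∙ (u + v)).map (A ^ (i : ℕ)) := by
        refine (h7.le_or_disjoint hI).resolve_right fun h14 => hv0 ?_
        have h15 := Submodule.disjoint_def.1 h14 (A v - v) (sub_mem (h7.inv v hv) hv) (by
          have := sub_mem (hI _ hm) hm
          rwa [map_add, hu2, add_sub_add_left_eq_sub] at this)
        exact Submodule.disjoint_def.1 hd v (by simpa using h15) (h3 (h6 hv))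
      refine le_antisymm (iSup_le fun i => ?_) (sup_le ?_ h13)
      · refine (Submodule.map_mono ?_).trans
          (inv_iff_map_le.1 (((inv_of_le_fixed (hu1.trans h1)).sup h7.inv).pow i))
        rw [Submodule.span_singleton_le_iff_mem]
        exact Submodule.add_mem_sup (Submodule.mem_span_singleton_self u) hv
      · rw [Submodule.span_singleton_le_iff_mem]
        simpa using sub_mem hm (h13 hv)
    have := (DecOn.cycle hinj (k := r) (by omega) (by simp [h, Module.End.one_eq_id])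
      (finrank_span_singleton hne)).sup (ih C₂ M₂ (h11.trans h1) h8 (h9.trans h3) (by omega)
      (by omega)) (by simp [zeroForm_perp])
    rw [key, sup_sup_sup_comm] at this
    convert this using 1
    rw [Nat.mul_succ]; omega

/-- If all summands are invariant, their fixed parts add up. -/
theorem mod_eq_of_all_fixed {ι : Type*} [Fintype ι] {D : ι → Submodule F V} (hi : iSupIndep D)
    (ha : ∀ j, finrank F (D j) = a) {c : ℕ} {C : Submodule F V}
    (h : ∀ j, ∃ m, finrank F (D j) = finrank F (D j ⊓ C : Submodule F V) + c * m)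
    (hC : finrank F C < c) : (a * Fintype.card ι) % c = Fintype.card ι * (a % c) := by
  have h1 : ∀ j, finrank F (D j ⊓ C : Submodule F V) = a % c := fun j => by
    obtain ⟨m, hm⟩ := h j
    exact (mod_eq_of_eq_add ((ha j).symm.trans hm)
      ((Submodule.finrank_mono inf_le_right).trans_lt hC)).symm
  have h2 := sum_finrank_inf_le hi C
  simp only [h1, Finset.sum_const, Finset.card_univ, smul_eq_mul] at h2
  refine mod_eq_of_eq_add (j := Fintype.card ι * (a / c)) ?_ (h2.trans_lt hC)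
  conv_lhs => rw [← Nat.mod_add_div a c]
  ring

theorem le_of_all_fixed {ι : Type*} {D : ι → Submodule F V} (ht : iSup D = ⊤)
    (ha : ∀ j, finrank F (D j) = a) {c : ℕ} {C : Submodule F V}
    (h : ∀ j, ∃ m, finrank F (D j) = finrank F (D j ⊓ C : Submodule F V) + c * m)
    (hC : C ≠ ⊤) : c ≤ a := by
  by_contra! hlt
  refine hC (eq_top_iff.2 (ht ▸ iSup_le fun j => ?_))
  obtain ⟨m, hm⟩ := h j
  obtain rfl : m = 0 := by
    by_contra h0
    have := Nat.le_mul_of_pos_right c (Nat.pos_of_ne_zero h0)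
    have := ha j
    omega
  exact inf_eq_left.1 (Submodule.eq_of_le_of_finrank_eq inf_le_left (by simpa using hm.symm))

variable [Fintype F] (p : ℕ) [Fact p.Prime] [CharP F p] {r : ℕ} [Fact r.Prime]

include p in
theorem elu_dec (hr : r ≠ p) (ha : 0 < a) (ht : 0 < t) (hV : finrank F V = a * t)
    (hle : orderOf ((Fintype.card F : ℕ) : ZMod r) ≤ finrank F V) :
    (∀ A : Module.End F V, LinearMap.det A = 1 → (∃ c, A ^ r = algebraMap F _ c) →
      (∀ c, A ≠ algebraMap F _ c) → DecOn (zeroForm F V) A ⊤ a t) ↔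
    ((a = 1 ∧ 1 < orderOf ((Fintype.card F : ℕ) : ZMod r) ∧
      orderOf ((Fintype.card F : ℕ) : ZMod r) = r - 1 ∧
      finrank F V ≤ finrank F V % orderOf ((Fintype.card F : ℕ) : ZMod r) * r) ∨
     (orderOf ((Fintype.card F : ℕ) : ZMod r) ≤ a ∧
      finrank F V % orderOf ((Fintype.card F : ℕ) : ZMod r) =
        t * (a % orderOf ((Fintype.card F : ℕ) : ZMod r)))) := by
  have hi0 := ord_pos (F := F) p hr
  have hr2 := (Fact.out : r.Prime).two_le
  have hi1 := Nat.le_of_dvd (by omega) (ord_dvd (F := F) p hr)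
  have : Nontrivial V := Module.nontrivial_of_finrank_pos (R := F) (by omega)
  set c := orderOf ((Fintype.card F : ℕ) : ZMod r) with hc
  constructor
  · intro h
    by_cases hi : c = 1
    · exact Or.inr ⟨by omega, by simp [hi, Nat.mod_one]⟩
    have key : ∀ A : Module.End F V, A ^ r = 1 → A ≠ 1 → ∃ (D : Fin t → Submodule F V)
        (σ : Equiv.Perm (Fin t)), (∀ j, finrank F (D j) = a) ∧ iSupIndep D ∧ iSup D = ⊤ ∧
        (∀ j, (D j).map A = D (σ j)) ∧ σ ^ r = 1 ∧ ∀ j, σ j = j → ∃ m, finrank F (D j) =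
          finrank F (D j ⊓ LinearMap.ker (A - 1) : Submodule F V) + c * m := by
      intro A h1 h2
      obtain ⟨D, σ, h3, h4, h5, -, h6⟩ := (h A (det_eq_one_of_pow hi h1) ⟨1, by simpa using h1⟩
        (ne_algebraMap_of_ord hi h1 h2)).toFin (by rw [finrank_top, hV])
      refine ⟨D, σ, h3, h4, h5, h6, perm_pow_eq_one h4 (fun j hj => ?_) h6 one_ne_zero
        (by simpa using h1), fun j hj => ?_⟩
      · have := h3 j; rw [hj, finrank_bot] at this; omega
      · exact ((inv_of_map_eq (by rw [h6, hj])).exists_finrank_eq p hr h1).imp fun m hm => hm.1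
    have h1 : c ≤ a ∨ (a = 1 ∧ c = r - 1) := by
      obtain ⟨A, h1, h2⟩ := exists_pow_eq_one (F := F) (V := V) p hr (e := finrank F V - c) (k := 1)
        (by omega)
      have h3 : A ≠ 1 := ne_one_of_finrank_ker (by omega)
      obtain ⟨D, σ, h4, h5, h6, h7, h8, h9⟩ := key A h1 h3
      by_cases hσ : σ = 1
      · exact Or.inl (le_of_all_fixed h6 h4 (fun j => h9 j (by simp [hσ])) (by
          intro h10; rw [h10, finrank_top] at h2; omega))
      · have h10 := mul_le_finrank_range_of_ne_one h5 h4 h7 h1 h8 hσ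
        have h11 := finrank_ker_add_range (A - 1)
        have h12 : a = 1 := by
          by_contra h12
          have := Nat.mul_le_mul_right (r - 1) (show 2 ≤ a by omega)
          omega
        subst h12
        exact Or.inr ⟨rfl, by omega⟩
    obtain ⟨A, h2, -, h3, h4⟩ := exists_min_fixed p hr hi hle
    have h5 := Nat.mod_lt (finrank F V) hi0
    rw [← hc] at h4
    obtain ⟨D, σ, h6, h7, h8, h9, h10, h11⟩ := key A h2 (by simpa using h3 1)
    rcases h1 with h1 | ⟨rfl, h1⟩
    · refine Or.inr ⟨h1, ?_⟩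
      by_cases hσ : σ = 1
      · simpa [hV] using mod_eq_of_all_fixed h7 h6 (fun j => h11 j (by simp [hσ])) (h4 ▸ h5)
      · have := le_finrank_ker_of_ne_one h7 h6 h9 h2 h10 hσ
        omega
    · refine Or.inl ⟨rfl, by omega, h1, ?_⟩
      have := finrank_le_mul_ker h7 h6 h9 h2 h10 fun j hj => by
        obtain ⟨m, hm⟩ := h11 j hj
        obtain rfl : m = 0 := by
          by_contra h0
          have := Nat.le_mul_of_pos_right c (Nat.pos_of_ne_zero h0)
          have := h6 j
          omega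
        exact inf_eq_left.1 (Submodule.eq_of_le_of_finrank_eq inf_le_left (by simpa using hm.symm))
      rwa [h4, Fintype.card_fin, ← hV, mul_comm] at this
  · rintro h A h1 ⟨z, h2⟩ -
    have hu := isUnit_of_det_eq_one h1
    rcases typeA_or_typeB hu h2 with ⟨b, hb, h4⟩ | h4
    · refine DecOn.of_smul (inv_ne_zero hb) ?_
      obtain ⟨k, h5, h6⟩ := exists_finrank_range_eq p hr h4
      have hss := ss_of_pow p hr h4
      have h7 : finrank F V % c ≤ finrank F (LinearMap.ker (b⁻¹ • A - 1)) := by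
        rw [h6, Nat.add_mul_mod_self_left]; exact Nat.mod_le _ _
      rw [← (isCompl_ker_range hss).sup_eq_top]
      rcases h with ⟨rfl, -, h8, h9⟩ | ⟨-, h8⟩
      · rw [← hc, h8] at h5 h6
        have := decOn_cycles (by omega) h4 hss (h8 ▸ hom_range p hr h4) k _ _ le_rfl
          (inv_range_sub_one _) le_rfl h5 (by
            have := h9.trans (Nat.mul_le_mul_right r h7)
            obtain ⟨s, rfl⟩ : ∃ s, r = s + 2 := ⟨r - 2, by omega⟩
            rw [h6, show s + 2 - 1 = s + 1 from rfl] at this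
            nlinarith)
        rwa [← h6, hV, one_mul] at this
      · exact decOn_split hi0 hss ((Module.End.isUnit_iff _).1 (.of_pow_eq_one h4 (by omega))).1
          le_rfl (inv_range_sub_one _) (hom_range p hr h4) (isCompl_ker_range hss).disjoint h5
          (h6.symm.trans hV) (h8 ▸ h7)
    · refine decOn_typeB (fun h0 => ?_) ((Module.End.isUnit_iff _).1 hu).1 h2 h4 hV
      rw [h0, map_zero] at h2
      exact (hu.pow r).ne_zero h2

omit [Fintype F] in
theorem finrank_range_pow_eq_count {μ : Multiset ℕ} (h : HasJT A 1 μ) {k : ℕ}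
    (hμ : ∀ b ∈ μ, b ≤ k + 1) :
    finrank F (LinearMap.range ((A - 1) ^ k)) = μ.count (k + 1) := by
  have h1 := h.finrank_ker_pow k
  have h2 := finrank_ker_add_range ((A - 1) ^ k)
  rw [map_one] at h1
  rw [h1, ← h.sum_eq] at h2
  suffices (μ.map (min k)).sum + μ.count (k + 1) = μ.sum by omega
  clear h h1 h2
  induction μ using Multiset.induction_on with
  | empty => simp
  | cons b μ ih =>
    have h1 := ih fun c hc => hμ c (Multiset.mem_cons_of_mem hc)
    have h2 := hμ b (Multiset.mem_cons_self _ _)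
    simp only [Multiset.map_cons, Multiset.sum_cons, Multiset.count_cons]
    split_ifs <;> omega

omit [Fintype F] in
theorem exists_le_sum_of_decOn (ha : 0 < a) (ht : 0 < t) (hV : finrank F V = a * t)
    {μ : Multiset ℕ} (h : HasJT A 1 μ) (hμ : ∀ b ∈ μ, b ≤ p) (hc : μ.count p < a)
    (hD : DecOn f A ⊤ a t) : ∃ ν ≤ μ, ν.sum = a := by
  classical
  obtain ⟨D, σ, h1, h2, h3, -, h4⟩ := hD.toFin (by rw [finrank_top, hV])
  have hp := (Fact.out : p.Prime).pos
  have h5 := pow_eq_one_of_hasJT p h hμ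
  have h6 := perm_pow_eq_one h2 (fun j hj => by
    have := h1 j; rw [hj, finrank_bot] at this; omega) h4 one_ne_zero (by simpa using h5)
  obtain rfl : σ = 1 := by
    by_contra hσ
    have h7 := le_finrank_range_aeval ((Module.End.isUnit_iff _).1 (.of_pow_eq_one h5 hp.ne')).1
      h2 h1 h4 h6 hσ (pow_ne_zero (p - 1) (X_sub_C_ne_zero (1 : F)))
    rw [natDegree_pow, natDegree_X_sub_C, map_pow, aeval_X_sub_one, finrank_range_pow_eq_count h
      (by rwa [Nat.sub_add_cancel hp]), Nat.sub_add_cancel hp, mul_one, Nat.sub_sub_self hp] at h7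
    omega
  have h7 : ∀ j, Inv A (D j) := fun j => inv_of_map_eq (h4 j)
  have h8 : IsCompl (D ⟨0, ht⟩) (⨆ (j) (_ : j ≠ ⟨0, ht⟩), D j) :=
    ⟨h2 _, by rw [codisjoint_iff, ← iSup_split_single D, h3]⟩
  exact (h.exists_isCompl_iff a).1 ⟨_, _, h8, h1 _, h7 _,
    inv_iSup fun j => inv_iSup fun _ => h7 j⟩

end Lin

end CL.Elus
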