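import Mathlib
import Cfsg.Prelude.Def_GeometricClasses
import Cfsg.Agent.CLAS.Elus3
import Cfsg.Agent.KSG.GLnSylow
import Cfsg.Agent.KSG.PrimeClass

/-! Elements of prime order of `PSL_n(q)` conjugate into a subgroup of `GL_n(q)`: vocabulary,
index computations and eigenvalue multisets. -/

set_option autoImplicit false
set_option linter.unusedSectionVars false

namespace CL.ElusL

open Matrix Polynomial Cfsg.Geo CL.GLn CL.Elus

variable {F : Type*} [Field F] {ι : Type} [Fintype ι] [DecidableEq ι]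

/-- Some conjugate of the matrix `x` lies in `H`. -/
def Into (H : Subgroup (GL ι F)) (x : Matrix ι ι F) : Prop :=
  ∃ h ∈ H, IsConj x (h : Matrix ι ι F)

/-- Some conjugate of the matrix `x` by a matrix of determinant one lies in `H`. -/
def IntoS (H : Subgroup (GL ι F)) (x : Matrix ι ι F) : Prop :=
  ∃ h ∈ H, ∃ g : GL ι F, (g : Matrix ι ι F).det = 1 ∧
    (g : Matrix ι ι F) * x = (h : Matrix ι ι F) * g

/-- Every element of order `r` of `PSL` is conjugate into `H`. -/
def Elu (H : Subgroup (GL ι F)) (r : ℕ) : Prop :=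
  ∀ x : Matrix ι ι F, x.det = 1 → (∃ z : F, x ^ r = z • (1 : Matrix ι ι F)) →
    (∀ z : F, x ≠ z • (1 : Matrix ι ι F)) → IntoS H x

variable {H : Subgroup (GL ι F)} {x y : Matrix ι ι F} {r : ℕ}

theorem isConj_of_mul_eq (g : GL ι F) (h : (g : Matrix ι ι F) * x = y * g) : IsConj x y :=
  ⟨g, h⟩

theorem IntoS.into (h : IntoS H x) : Into H x := by
  obtain ⟨k, hk, g, -, h⟩ := h
  exact ⟨k, hk, isConj_of_mul_eq g h⟩

theorem Into.of_isConj (h : Into H y) (hxy : IsConj x y) : Into H x := by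
  obtain ⟨k, hk, h⟩ := h
  exact ⟨k, hk, hxy.trans h⟩

theorem Into.intoS (h : Into H x) (hx : ∀ c : F, c ≠ 0 → ∃ g : GL ι F,
    (g : Matrix ι ι F) * x = x * g ∧ (g : Matrix ι ι F).det = c) : IntoS H x := by
  obtain ⟨k, hk, h⟩ := h
  obtain ⟨g, h1, h2⟩ := exists_conj_det h hx one_ne_zero
  exact ⟨k, hk, g, h2, h1⟩

theorem Into.intoS_ss [Finite F] [Nonempty ι] (h : Into H x)
    (hx : Module.End.IsSemisimple (toLin' x)) : IntoS H x :=
  h.intoS (exists_gl_commute_det_of_isSemisimple hx)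

theorem isConj_smul (h : IsConj x y) (c : F) : IsConj (c • x) (c • y) := by
  obtain ⟨g, hg⟩ := h
  exact ⟨g, by rw [SemiconjBy, Matrix.mul_smul, Matrix.smul_mul, hg.eq]⟩

theorem Into.smul (hH : scalars ι F ≤ H) (h : Into H x) {c : F} (hc : c ≠ 0) : Into H (c • x) := by
  obtain ⟨k, hk, h⟩ := h
  let s : GL ι F := GeneralLinearGroup.scalar ι (Units.mk0 c hc)
  have hs : (s : Matrix ι ι F) = c • 1 := by simp [s, Matrix.smul_one_eq_diagonal]
  refine ⟨s * k, H.mul_mem (hH ((mem_scalars_iff _).2 ⟨Units.mk0 c hc, hs⟩)) hk, ?_⟩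
  rw [Units.val_mul, hs, Matrix.smul_mul, Matrix.one_mul]
  exact isConj_smul h c

theorem Into.of_smul (hH : scalars ι F ≤ H) {c : F} (hc : c ≠ 0) (h : Into H (c • x)) :
    Into H x := by
  simpa [smul_smul, hc] using h.smul hH (inv_ne_zero hc)

theorem into_self (g : GL ι F) (hg : g ∈ H) : Into H (g : Matrix ι ι F) := ⟨g, hg, IsConj.refl _⟩

theorem mem_SL {g : GL ι F} : g ∈ specialLinear ι F ↔ (g : Matrix ι ι F).det = 1 := by
  rw [specialLinear, MonoidHom.mem_ker, Units.ext_iff]; rfl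

theorem intoS_iff (g : GL ι F) : IntoS H (g : Matrix ι ι F) ↔
    ∃ k ∈ specialLinear ι F, k⁻¹ * g * k ∈ H := by
  constructor
  · rintro ⟨h, hh, k, h1, h2⟩
    refine ⟨k⁻¹, (specialLinear ι F).inv_mem (mem_SL.2 h1), ?_⟩
    have : k * g = h * k := Units.ext h2
    rwa [inv_inv, this, mul_inv_cancel_right]
  · rintro ⟨k, h1, h2⟩
    refine ⟨_, h2, k⁻¹, mem_SL.1 ((specialLinear ι F).inv_mem h1), ?_⟩
    rw [← Units.val_mul, ← Units.val_mul, mul_inv_cancel_right]

theorem elu_iff_GL : (∀ x ∈ specialLinear ι F,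
    (∃ z : F, ((x ^ r : GL ι F) : Matrix ι ι F) = z • (1 : Matrix ι ι F)) →
    (∀ z : F, (x : Matrix ι ι F) ≠ z • (1 : Matrix ι ι F)) →
    ∃ g ∈ specialLinear ι F, g⁻¹ * x * g ∈ H) ↔ Elu H r := by
  constructor
  · intro h x h1 h2 h3
    let g : GL ι F := GeneralLinearGroup.mkOfDetNeZero x (by rw [h1]; exact one_ne_zero)
    exact (intoS_iff g).2 (h g (mem_SL.2 h1) (by rw [Units.val_pow_eq_pow_val]; exact h2) h3)
  · intro h x h1 h2 h3
    exact (intoS_iff x).1 (h x (mem_SL.1 h1) (by rw [← Units.val_pow_eq_pow_val]; exact h2) h3)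

theorem intoS_iff_SL (x : SpecialLinearGroup ι F) : IntoS H (x : Matrix ι ι F) ↔
    ∃ P : SpecialLinearGroup ι F, P⁻¹ * x * P ∈
      H.comap (SpecialLinearGroup.toGL : SpecialLinearGroup ι F →* GL ι F) := by
  refine (intoS_iff (SpecialLinearGroup.toGL x)).trans ⟨?_, ?_⟩
  · rintro ⟨k, h1, h2⟩
    let P : SpecialLinearGroup ι F := ⟨k, mem_SL.1 h1⟩
    have : SpecialLinearGroup.toGL P = k := Units.ext rfl
    exact ⟨P, by rwa [Subgroup.mem_comap, map_mul, map_mul, map_inv, this]⟩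
  · rintro ⟨P, h⟩
    exact ⟨SpecialLinearGroup.toGL P, mem_SL.2 P.2, by
      rwa [Subgroup.mem_comap, map_mul, map_mul, map_inv] at h⟩

theorem elu_iff_SL : (∀ x : SpecialLinearGroup ι F,
    (∃ z : F, ((x ^ r : SpecialLinearGroup ι F) : Matrix ι ι F) = z • (1 : Matrix ι ι F)) →
    (∀ z : F, (x : Matrix ι ι F) ≠ z • (1 : Matrix ι ι F)) →
    ∃ P : SpecialLinearGroup ι F, P⁻¹ * x * P ∈
      H.comap (SpecialLinearGroup.toGL : SpecialLinearGroup ι F →* GL ι F)) ↔ Elu H r := by
  constructor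
  · intro h x h1 h2 h3
    let g : SpecialLinearGroup ι F := ⟨x, h1⟩
    exact (intoS_iff_SL g).2 (h g h2 h3)
  · intro h x h2 h3
    exact (intoS_iff_SL x).1 (h x x.2 h2 h3)

theorem index_comap_eq : (H.comap (SpecialLinearGroup.toGL : SpecialLinearGroup ι F →* GL ι F)).index =
    H.relIndex (specialLinear ι F) := by
  rw [Subgroup.index_comap, CL.SL.range_toGL_eq_ker_det]; rfl

theorem card_specialLinear : Nat.card (specialLinear ι F) = Nat.card (SpecialLinearGroup ι F) :=
  (Nat.card_congr CL.SL.slEquivKerDet.toEquiv).symm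

/-- The index is prime to `r` as soon as `H` has a subgroup of large enough `r`-part. -/
theorem not_dvd_relIndex_of_le [Finite F] [Fact r.Prime] {K : Subgroup (GL ι F)} (hK : K ≤ H)
    {m : ℕ} (hm : m ≠ 0) (hd : ∀ g ∈ K, (g : Matrix ι ι F).det ^ m = 1)
    (h : padicValNat r (Nat.card (SpecialLinearGroup ι F)) + padicValNat r m ≤
      padicValNat r (Nat.card K)) : ¬ r ∣ H.relIndex (specialLinear ι F) := by
  intro hr
  let φ : K →* Fˣ := (GeneralLinearGroup.det : GL ι F →* Fˣ).comp K.subtype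
  have h1 : Nat.card φ.ker * Nat.card φ.range = Nat.card K := by
    rw [← Subgroup.index_ker, Subgroup.card_mul_index]
  have h2 : Nat.card φ.range ∣ m := by
    rw [← IsCyclic.exponent_eq_card, Monoid.exponent_dvd_iff_forall_pow_eq_one]
    rintro ⟨_, g, rfl⟩
    exact Subtype.ext (Units.ext (hd g g.2))
  have h3 : Nat.card φ.ker ∣ Nat.card (H.subgroupOf (specialLinear ι F)) := by
    let ψ : φ.ker →* H.subgroupOf (specialLinear ι F) :=
      { toFun := fun g => ⟨⟨g.1.1, g.2⟩, hK g.1.2⟩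
        map_one' := rfl
        map_mul' := fun _ _ => rfl }
    exact Subgroup.card_dvd_of_injective ψ fun a b hab =>
      Subtype.ext (Subtype.ext (congrArg (·.1.1) hab))
  have h4 := (H.subgroupOf (specialLinear ι F)).card_mul_index
  rw [card_specialLinear] at h4
  have p1 : Nat.card φ.ker ≠ 0 := Nat.card_pos.ne'
  have p2 : Nat.card φ.range ≠ 0 := Nat.card_pos.ne'
  have p3 : Nat.card (H.subgroupOf (specialLinear ι F)) ≠ 0 := Nat.card_pos.ne'
  have p4 : (H.subgroupOf (specialLinear ι F)).index ≠ 0 := Subgroup.index_ne_zero_of_finite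
  rw [← h1, ← h4, padicValNat.mul p1 p2, padicValNat.mul p3 p4] at h
  have q1 := (padicValNat_dvd_iff_le p3).1 ((pow_padicValNat_dvd (p := r)).trans h3)
  have q2 := (padicValNat_dvd_iff_le hm).1 ((pow_padicValNat_dvd (p := r)).trans h2)
  have q3 := one_le_padicValNat_of_dvd p4 hr
  omega

/-- The `r`-adic valuation of `|GL_n(q)|` for `r` prime to `q`. -/
def vGL (r q n : ℕ) : ℕ := ∑ i ∈ Finset.Ioc 0 n, padicValNat r (q ^ i - 1)

theorem not_dvd_card [Fintype F] (p : ℕ) [Fact p.Prime] [CharP F p] [Fact r.Prime] (hr : r ≠ p) :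
    ¬ r ∣ Fintype.card F := by
  obtain ⟨k, -, hk⟩ := FiniteField.card F p
  rw [hk]
  exact fun h => hr ((Nat.prime_dvd_prime_iff_eq Fact.out Fact.out).1
    ((Fact.out : r.Prime).dvd_of_dvd_pow h))

theorem cast_ne_zero (p : ℕ) [Fact p.Prime] [CharP F p] [Fact r.Prime] (hr : r ≠ p) :
    (r : F) ≠ 0 := fun h => hr ((Nat.prime_dvd_prime_iff_eq Fact.out Fact.out).1
      ((CharP.cast_eq_zero_iff F p r).1 h)).symm

theorem vGL_eq_card_GL [Fintype F] [Fact r.Prime] (hr : ¬ r ∣ Fintype.card F) (n : ℕ) :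
    padicValNat r (Nat.card (GL (Fin n) F)) = vGL r (Fintype.card F) n := by
  rw [card_GL_field, padicValNat_prod_pow_sub_pow Fact.out hr Fintype.one_lt_card, vGL]

theorem vGL_eq_card_SL [Fintype F] [Fact r.Prime] (hr : ¬ r ∣ Fintype.card F) {n : ℕ}
    (hn : 1 ≤ n) : padicValNat r (Nat.card (SpecialLinearGroup (Fin n) F)) +
      padicValNat r (Fintype.card F - 1) = vGL r (Fintype.card F) n := by
  have h1 := CL.SL.card_SL_mul (F := F) n hn
  have h2 := Fintype.one_lt_card (α := F)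
  rw [vGL, ← padicValNat_prod_pow_sub_pow Fact.out hr h2, ← h1,
    padicValNat.mul (by omega) Nat.card_pos.ne', add_comm]

theorem ord_le_of_dvd [Fintype F] [Fact r.Prime] (hr : ¬ r ∣ Fintype.card F) {n : ℕ}
    (hn : 1 ≤ n) {H : Subgroup (GL (Fin n) F)} (h : r ∣ H.relIndex (specialLinear (Fin n) F)) :
    orderOf ((Fintype.card F : ℕ) : ZMod r) ≤ n := by
  have h1 : r ∣ Nat.card (SpecialLinearGroup (Fin n) F) := by
    rw [← card_specialLinear]
    exact h.trans (Subgroup.index_dvd_card _)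
  have h2 := vGL_eq_card_SL hr hn
  have h3 := one_le_padicValNat_of_dvd Nat.card_pos.ne' h1
  obtain ⟨i, hi, h4⟩ := Finset.exists_ne_zero_of_sum_ne_zero
    (show vGL r (Fintype.card F) n ≠ 0 by omega)
  rw [Finset.mem_Ioc] at hi
  refine (Nat.le_of_dvd hi.1 (orderOf_dvd_of_pow_eq_one ?_)).trans hi.2
  have h5 := dvd_of_one_le_padicValNat (Nat.one_le_iff_ne_zero.2 h4)
  rw [← ZMod.natCast_eq_zero_iff, Nat.cast_sub (Nat.one_le_pow _ _ Fintype.card_pos)] at h5
  simpa [sub_eq_zero] using h5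

/-! ### Eigenvalues in the algebraic closure -/

section Ev

variable {κ : Type*} [Fintype κ] [DecidableEq κ] {x y : Matrix κ κ F}

/-- The multiset of eigenvalues in the algebraic closure. -/
noncomputable def ev (x : Matrix κ κ F) : Multiset (AlgebraicClosure F) :=
  x.charpoly.aroots (AlgebraicClosure F)

local notation "𝕂" => AlgebraicClosure F
local notation "ι₀" => algebraMap F (AlgebraicClosure F)

theorem prod_ev (x : Matrix κ κ F) :
    x.charpoly.map ι₀ = ((ev x).map fun a => X - C a).prod :=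
  (IsAlgClosed.splits _).eq_prod_roots_of_monic (x.charpoly_monic.map _)

theorem ev_eq_of_prod {s : Multiset 𝕂} (h : x.charpoly.map ι₀ = (s.map fun a => X - C a).prod) :
    ev x = s := by
  rw [ev, aroots_def, h, roots_multiset_prod_X_sub_C]

theorem card_ev (x : Matrix κ κ F) : (ev x).card = Fintype.card κ := by
  have := congrArg natDegree (prod_ev x)
  rw [natDegree_map, charpoly_natDegree_eq_dim, natDegree_multiset_prod_X_sub_C_eq_card] at this
  exact this.symm

theorem prod_ev_eq_det (x : Matrix κ κ F) : (ev x).prod = ι₀ x.det := by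
  rw [RingHom.map_det, det_eq_prod_roots_charpoly, RingHom.mapMatrix_apply, charpoly_map]; rfl

theorem charpoly_eq_of_ev {κ' : Type*} [Fintype κ'] [DecidableEq κ'] {y : Matrix κ' κ' F}
    (h : ev x = ev y) : x.charpoly = y.charpoly :=
  map_injective _ (algebraMap F 𝕂).injective (by rw [prod_ev, prod_ev, h])

theorem ev_eq_of_isConj (h : IsConj x y) : ev x = ev y := by
  rw [ev, charpoly_eq_of_isConj h, ev]

theorem isConj_of_ev (hx : Module.End.IsSemisimple (toLin' x))
    (hy : Module.End.IsSemisimple (toLin' y)) (h : ev x = ev y) : IsConj x y :=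
  isConj_of_isSemisimple_of_charpoly_eq hx hy (charpoly_eq_of_ev h)

theorem ev_transpose (x : Matrix κ κ F) : ev xᵀ = ev x := by rw [ev, charpoly_transpose, ev]

theorem ev_diagonal (d : κ → F) : ev (diagonal d) = Finset.univ.val.map fun i => ι₀ (d i) :=
  ev_eq_of_prod (by
    rw [charpoly_diagonal, Polynomial.map_prod, Multiset.map_map, Finset.prod_eq_multiset_prod]
    simp)

theorem det_sub_eq (x : Matrix κ κ F) (t : 𝕂) :
    (t • (1 : Matrix κ κ 𝕂) - x.map ι₀).det = ((ev x).map fun a => t - a).prod := by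
  have := congrArg (eval t) (prod_ev x)
  rw [← charpoly_map, eval_charpoly, eval_multiset_prod, Multiset.map_map] at this
  simpa [Matrix.smul_one_eq_diagonal] using this

theorem ev_eq_of_det {s : Multiset 𝕂} (h : ∀ t : 𝕂, t ≠ 0 →
    (t • (1 : Matrix κ κ 𝕂) - x.map ι₀).det = (s.map fun a => t - a).prod) : ev x = s := by
  refine ev_eq_of_prod (eq_of_infinite_eval_eq _ _
    ((Set.infinite_univ.sdiff (Set.finite_singleton (0 : 𝕂))).mono fun t ht => ?_))
  rw [Set.mem_ofPred_eq, prod_ev, eval_multiset_prod, eval_multiset_prod, Multiset.map_map,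
    Multiset.map_map]
  simpa [← det_sub_eq] using h t ht.2

theorem ev_smul (x : Matrix κ κ F) {c : F} (hc : c ≠ 0) :
    ev (c • x) = (ev x).map (ι₀ c * ·) := by
  refine ev_eq_of_det fun t _ => ?_
  have hc' : ι₀ c ≠ 0 := (_root_.map_ne_zero _).2 hc
  have : t • (1 : Matrix κ κ 𝕂) - (c • x).map ι₀ =
      ι₀ c • (((ι₀ c)⁻¹ * t) • (1 : Matrix κ κ 𝕂) - x.map ι₀) := by
    ext i j; simp [mul_sub, ← mul_assoc, hc']
  rw [this, det_smul, det_sub_eq, ← card_ev x, ← Multiset.prod_replicate, ← Multiset.map_const',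
    ← Multiset.prod_map_mul, Multiset.map_map]
  exact congrArg _ (Multiset.map_congr rfl fun a _ => by simp [mul_sub, hc'])

theorem ne_zero_of_mem_ev (hx : x.det ≠ 0) {a : 𝕂} (ha : a ∈ ev x) : a ≠ 0 := by
  rintro rfl
  have := prod_ev_eq_det x
  rw [Multiset.prod_eq_zero ha] at this
  exact hx ((map_eq_zero _).1 this.symm)

theorem ev_inv (h : y * x = 1) : ev y = (ev x).map (·⁻¹) := by
  have hx : x.det ≠ 0 := fun h0 => by simpa [h0] using congrArg det h
  refine ev_eq_of_det fun t ht => ?_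
  have h1 : (t • (1 : Matrix κ κ 𝕂) - y.map ι₀) * x.map ι₀ =
      (-t) • (t⁻¹ • (1 : Matrix κ κ 𝕂) - x.map ι₀) := by
    rw [Matrix.sub_mul, ← Matrix.map_mul, h, Matrix.map_one _ (map_zero _) (map_one _), smul_sub,
      smul_smul, neg_mul, mul_inv_cancel₀ ht]
    simp [sub_eq_add_neg, add_comm]
  have h2 := congrArg det h1
  rw [det_mul, det_smul, det_sub_eq, det_sub_eq, ← card_ev x, ← Multiset.prod_replicate,
    ← Multiset.map_const', ← Multiset.prod_map_mul, ← RingHom.mapMatrix_apply, ← RingHom.map_det,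
    ← prod_ev_eq_det] at h2
  have h3 : (ev x).prod ≠ 0 := by rw [prod_ev_eq_det]; exact (_root_.map_ne_zero _).2 hx
  rw [det_sub_eq]
  refine mul_right_cancel₀ h3 (h2.trans ?_)
  conv_rhs => rw [← Multiset.map_id' (ev x), Multiset.map_map, Multiset.map_map,
    ← Multiset.prod_map_mul]
  refine congrArg _ (Multiset.map_congr rfl fun a ha => ?_)
  have := ne_zero_of_mem_ev hx ha
  simp only [Function.comp_apply]
  field_simp
  ring

theorem ev_map (x : Matrix κ κ F) (σ : F →+* F) (τ : 𝕂 →+* 𝕂) (h : ∀ a, τ (ι₀ a) = ι₀ (σ a)) :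
    ev (x.map σ) = (ev x).map τ := by
  refine ev_eq_of_prod ?_
  have : (ι₀).comp σ = τ.comp ι₀ := RingHom.ext fun a => (h a).symm
  rw [charpoly_map, Polynomial.map_map, this, ← Polynomial.map_map, prod_ev,
    Polynomial.map_multiset_prod, Multiset.map_map, Multiset.map_map]
  simp

theorem ev_map_pow (p : ℕ) [Fact p.Prime] [CharP F p] (x : Matrix κ κ F) (σ : F →+* F) {e s : ℕ}
    (hs : s = p ^ e) (h : ∀ a, σ a = a ^ s) : ev (x.map σ) = (ev x).map (· ^ s) := by
  have := charP_of_injective_algebraMap (algebraMap F 𝕂).injective p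
  rw [ev_map x σ (iterateFrobenius 𝕂 p e) fun a => by rw [h, map_pow, hs, iterateFrobenius_def]]
  exact Multiset.map_congr rfl fun a _ => by rw [hs, iterateFrobenius_def]

theorem ev_map_card [Fintype F] (x : Matrix κ κ F) : (ev x).map (· ^ Fintype.card F) = ev x := by
  obtain ⟨p, hp⟩ := CharP.exists F
  have : Fact p.Prime := ⟨CharP.char_is_prime F p⟩
  obtain ⟨e, -, he⟩ := FiniteField.card F p
  rw [← ev_map_pow p x (RingHom.id F) he fun a => (FiniteField.pow_card a).symm]; rfl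

theorem aeval_eq_zero_of_mem_ev {a : 𝕂} (ha : a ∈ ev x) {P : F[X]} (hP : aeval x P = 0) :
    aeval a P = 0 := by
  have h1 : aeval a (minpoly F x) = 0 := by
    have h2 := (mem_aroots.1 ha).2
    have h3 : spectrum 𝕂 (x.map ι₀) a := by
      refine Matrix.mem_spectrum_iff_isRoot_charpoly.2 ?_
      rw [charpoly_map, IsRoot, eval_map_algebraMap, h2]
    have h4 := spectrum.subset_polynomial_aeval (x.map ι₀) ((minpoly F x).map ι₀) ⟨a, h3, rfl⟩
    have h5 : aeval (x.map ι₀) ((minpoly F x).map ι₀) = 0 := by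
      rw [aeval_map_algebraMap]
      have := aeval_algHom_apply (AlgHom.mapMatrix (Algebra.ofId F 𝕂)) x (minpoly F x)
      rw [minpoly.aeval, map_zero] at this
      exact this
    rw [h5] at h4
    have : Nonempty κ := by
      rw [← Fintype.card_pos_iff, ← card_ev x]; exact Multiset.card_pos_iff_exists_mem.2 ⟨a, ha⟩
    simpa [eval_map_algebraMap] using h4
  exact aeval_eq_zero_of_dvd_aeval_eq_zero (minpoly.dvd F x hP) h1

theorem pow_eq_of_mem_ev {a : 𝕂} (ha : a ∈ ev x) {z : F} (h : x ^ r = z • (1 : Matrix κ κ F)) :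
    a ^ r = ι₀ z := by
  have := aeval_eq_zero_of_mem_ev ha (P := X ^ r - C z) (by
    simp [h, Algebra.algebraMap_eq_smul_one])
  simpa [sub_eq_zero] using this

end Ev

end CL.ElusL
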