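import Mathlib
import Cfsg.Agent.CLAS.ElusL1

/-! Semisimple elements of prime order of `PSL_n(q)` and subgroups whose elements have a twisted
symmetry of their eigenvalues. -/

set_option autoImplicit false
set_option linter.unusedSectionVars false

namespace CL.ElusL

open Matrix Polynomial Cfsg.Geo CL.GLn CL.Elus CL.PrimeCl

/-! ### Cyclic groups -/

theorem exists_pow_eq_of_val_lt {G : Type*} [CommGroup G] [Finite G] [IsCyclic G] {r n : ℕ}
    [Fact r.Prime] (h : padicValNat r n < padicValNat r (Nat.card G)) (hn : n ≠ 0) {w : G}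
    (hw : w ^ r = 1) : ∃ c : G, c ^ n = w := by
  obtain ⟨g, hg⟩ := IsCyclic.exists_monoid_generator (α := G)
  obtain ⟨k, rfl⟩ := hg w
  have hN : orderOf g = Nat.card G := orderOf_eq_card_of_forall_mem_powers hg
  have h0 : Nat.card G ≠ 0 := Nat.card_pos.ne'
  have h1 : Nat.card G ∣ k * r := by rw [← hN, orderOf_dvd_iff_pow_eq_one, pow_mul]; exact hw
  have h2 : n.gcd (Nat.card G) * r ∣ Nat.card G := by
    obtain ⟨m, hm⟩ := Nat.gcd_dvd_right n (Nat.card G)
    have h3 := (padicValNat_dvd_iff_le hn).1 ((pow_padicValNat_dvd (p := r)).trans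
      (Nat.gcd_dvd_left n (Nat.card G)))
    have h4 : m ≠ 0 := fun h => h0 (by rw [hm, h, mul_zero])
    have h5 := congrArg (padicValNat r) hm
    rw [padicValNat.mul (Nat.gcd_pos_of_pos_right _ Nat.card_pos).ne' h4] at h5
    conv_rhs => rw [hm]
    exact Nat.mul_dvd_mul_left _ (dvd_of_one_le_padicValNat (by omega))
  obtain ⟨l, rfl⟩ := Nat.dvd_of_mul_dvd_mul_right (Fact.out : r.Prime).pos (h2.trans h1)
  refine ⟨(g ^ n.gcdA (Nat.card G)) ^ l, ?_⟩
  have : g ^ n.gcd (Nat.card G) = (g ^ n.gcdA (Nat.card G)) ^ n := by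
    rw [← zpow_natCast, Nat.gcd_eq_gcd_ab, _root_.zpow_add, _root_.zpow_mul g (Nat.card G),
      zpow_natCast, pow_card_eq_one', _root_.one_zpow, mul_one, mul_comm, _root_.zpow_mul,
      zpow_natCast]
  simp only
  rw [pow_mul g, this, ← pow_mul, ← pow_mul, mul_comm]

theorem eq_one_of_val_le {G : Type*} [Group G] [Finite G] {r n : ℕ} [Fact r.Prime]
    (h : padicValNat r (Nat.card G) ≤ padicValNat r n) {c : G} (hw : (c ^ n) ^ r = 1) :
    c ^ n = 1 := by
  obtain ⟨a, m, h1, h2⟩ := Nat.exists_eq_pow_mul_and_not_dvd (Nat.card_pos (α := G)).ne' r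
    (Fact.out : r.Prime).ne_one
  have h3 : padicValNat r (Nat.card G) = a := by
    rw [h2, padicValNat.mul (pow_ne_zero _ (Fact.out : r.Prime).ne_zero)
      (by rintro rfl; exact h1 (dvd_zero r)), padicValNat.prime_pow, padicValNat.eq_zero_of_not_dvd h1,
      add_zero]
  obtain ⟨n', rfl⟩ : r ^ a ∣ n := (pow_dvd_pow r (h3 ▸ h)).trans pow_padicValNat_dvd
  have h4 : (c ^ (r ^ a * n')) ^ m = 1 := by
    rw [← pow_mul, mul_right_comm, ← h2, pow_mul, pow_card_eq_one', one_pow]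
  have := pow_gcd_eq_one.2 ⟨hw, h4⟩
  rwa [((Fact.out : r.Prime).coprime_iff_not_dvd.2 h1), pow_one] at this

variable {F : Type*} [Field F] [Fintype F] {r n : ℕ} [Fact r.Prime]

theorem card_units_eq : Nat.card Fˣ = Fintype.card F - 1 := by
  rw [Nat.card_units, Nat.card_eq_fintype_card]

theorem exists_pow_eq_of_lt (h : padicValNat r n < padicValNat r (Fintype.card F - 1)) (hn : n ≠ 0)
    {w : F} (hw : w ^ r = 1) : ∃ c : F, c ≠ 0 ∧ c ^ n = w := by
  have h0 : w ≠ 0 := by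
    rintro rfl; rw [zero_pow (Fact.out : r.Prime).ne_zero] at hw; exact zero_ne_one hw
  obtain ⟨c, hc⟩ := exists_pow_eq_of_val_lt (G := Fˣ) (card_units_eq (F := F) ▸ h) hn
    (w := Units.mk0 w h0) (Units.ext hw)
  exact ⟨c, c.ne_zero, congrArg Units.val hc⟩

theorem pow_eq_one_of_le (h : padicValNat r (Fintype.card F - 1) ≤ padicValNat r n) {c : F}
    (hc : c ≠ 0) (hw : (c ^ n) ^ r = 1) : c ^ n = 1 :=
  congrArg Units.val (eq_one_of_val_le (G := Fˣ) (card_units_eq (F := F) ▸ h)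
    (c := Units.mk0 c hc) (Units.ext hw))

theorem eq_one_of_not_dvd (h : ¬ r ∣ Fintype.card F - 1) {c : F} (hc : c ^ r = 1) : c = 1 := by
  have h0 : c ≠ 0 := by
    rintro rfl; rw [zero_pow (Fact.out : r.Prime).ne_zero] at hc; exact zero_ne_one hc
  simpa using pow_eq_one_of_le (n := 1) (r := r) (by
    rw [padicValNat.eq_zero_of_not_dvd h]; exact Nat.zero_le _) h0 (by simpa using hc)

theorem exists_isPrimitiveRoot (h : r ∣ Fintype.card F - 1) : ∃ ζ : F, IsPrimitiveRoot ζ r := by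
  obtain ⟨g, hg⟩ := exists_prime_orderOf_dvd_card' (G := Fˣ) r (card_units_eq (F := F) ▸ h)
  exact ⟨g, IsPrimitiveRoot.coe_units_iff.2 (hg ▸ IsPrimitiveRoot.orderOf g)⟩

/-! ### Types of elements -/

variable {ι : Type} [Fintype ι] [DecidableEq ι] {H : Subgroup (GL ι F)} {x y : Matrix ι ι F}

omit [Fintype F] [Fact r.Prime] in
theorem ne_zero_of_pow_eq [Nonempty ι] (hx : x.det ≠ 0) {z : F}
    (h : x ^ r = z • (1 : Matrix ι ι F)) : z ≠ 0 := by
  rintro rfl
  have := congrArg det h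
  rw [det_pow, zero_smul, det_zero] at this
  exact hx (pow_eq_zero_iff'.1 this).1

omit [Fintype F] [Fact r.Prime] in
theorem smul_pow_eq_one' {b : F} (hb : b ≠ 0) (h : x ^ r = b ^ r • (1 : Matrix ι ι F)) :
    (b⁻¹ • x) ^ r = 1 := by
  rw [_root_.smul_pow, h, smul_smul, ← mul_pow, inv_mul_cancel₀ hb, one_pow, one_smul]

omit [Fintype F] in
theorem ss_of_pow_eq (p : ℕ) [Fact p.Prime] [CharP F p] (hr : r ≠ p) [Nonempty ι] (hx : x.det ≠ 0)
    {z : F} (h : x ^ r = z • (1 : Matrix ι ι F)) : Module.End.IsSemisimple (toLin' x) :=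
  ss_of_pow_eq_algebraMap p hr ((LinearMap.isUnit_iff_isUnit_det _).2 (by
    rw [LinearMap.det_toLin']; exact hx.isUnit)) ((pow_eq_smul_iff x r z).1 h)

theorem typeA_of_noB [Nonempty ι] (hB : NoB (Fintype.card F) (Fintype.card ι) r) (hx : x.det = 1)
    {z : F} (h : x ^ r = z • (1 : Matrix ι ι F)) : ∃ b : F, b ≠ 0 ∧ b ^ r = z := by
  rcases irreducible_or_root (r := r) z with ⟨b, hb⟩ | hi
  · refine ⟨b, ?_, hb⟩
    rintro rfl
    exact ne_zero_of_pow_eq (hx ▸ one_ne_zero) h (by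
      rw [← hb, zero_pow (Fact.out : r.Prime).ne_zero])
  · exact absurd (by simpa using hB) (not_noB_of_typeB (A := toLin' x)
      (by rw [LinearMap.det_toLin', hx]) ((pow_eq_smul_iff x r z).1 h) hi)

theorem typeA_of_not_dvd [Nonempty ι] (hB : ¬ r ∣ Fintype.card F - 1) (hx : x.det ≠ 0)
    {z : F} (h : x ^ r = z • (1 : Matrix ι ι F)) : ∃ b : F, b ≠ 0 ∧ b ^ r = z := by
  obtain ⟨b, hb⟩ := exists_pow_eq_of_not_dvd hB z
  refine ⟨b, ?_, hb⟩
  rintro rfl
  exact ne_zero_of_pow_eq hx h (by rw [← hb, zero_pow (Fact.out : r.Prime).ne_zero])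

theorem exists_typeB' [Nonempty ι] (hr : r ∣ Fintype.card F - 1)
    (hB : ¬ NoB (Fintype.card F) (Fintype.card ι) r) : ∃ (x : Matrix ι ι F) (z : F), x.det = 1 ∧
      x ^ r = z • (1 : Matrix ι ι F) ∧ (∀ c : F, x ≠ c • (1 : Matrix ι ι F)) ∧
      ∀ b : F, b ^ r ≠ z := by
  obtain ⟨A, z, h1, h2, h3, h4⟩ := exists_typeB (V := ι → F) hr (by simpa using hB)
  obtain ⟨x, rfl⟩ := (toLin' : Matrix ι ι F ≃ₗ[F] _).surjective A
  refine ⟨x, z, by rwa [LinearMap.det_toLin'] at h1, (pow_eq_smul_iff x r z).2 h2,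
    fun c hc => h3 c ((toLin'_eq_algebraMap_iff x c).1 hc), fun b hb => ?_⟩
  have := (X_pow_sub_C_irreducible_iff_of_prime Fact.out).1 h4 b
  exact this hb

/-! ### Twisted symmetry of the eigenvalues -/

local notation "𝕂" => AlgebraicClosure F
local notation "ι₀" => algebraMap F (AlgebraicClosure F)

/-- The eigenvalues of the elements of `H` are permuted by a map `a ↦ l a ^ u`. -/
def Nec (H : Subgroup (GL ι F)) (u : ℤ) : Prop :=
  ∀ g ∈ H, ∃ l : F, l ≠ 0 ∧
    (ev (g : Matrix ι ι F)).map (fun a => ι₀ l * a ^ u) = ev (g : Matrix ι ι F)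

omit [Fintype F] in
theorem Nec.into {u : ℤ} (h : Nec H u) (hx : Into H x) :
    ∃ l : F, l ≠ 0 ∧ (ev x).map (fun a => ι₀ l * a ^ u) = ev x := by
  obtain ⟨g, hg, h1⟩ := hx
  rw [ev_eq_of_isConj h1]
  exact h g hg

theorem exists_fun_of_card {α : Type*} (A : Multiset α) (h : A.card = Fintype.card ι) :
    ∃ a : ι → α, Finset.univ.val.map a = A := by
  induction A using Quotient.inductionOn with | _ l => ?_
  let e : ι ≃ Fin l.length := Fintype.equivFinOfCardEq h.symm
  refine ⟨l.get ∘ e, ?_⟩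
  rw [← Multiset.map_map, Multiset.map_univ_val_equiv, Fin.univ_val_map, List.ofFn_get]; rfl

theorem exists_map_eq {α β : Type*} {f : α → β} {s : Multiset β} (h : ∀ b ∈ s, ∃ a, f a = b) :
    ∃ t : Multiset α, t.map f = s := by
  choose g hg using h
  exact ⟨s.attach.map fun b => g b.1 b.2, by simp [Multiset.map_map, hg]⟩

section Root

variable {K : Type*} [Field K] {ζ : K} (hζ : IsPrimitiveRoot ζ r)
include hζ

theorem val_pow_add (s t : ZMod r) : ζ ^ (s + t).val = ζ ^ s.val * ζ ^ t.val := by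
  rw [← pow_add, ZMod.val_add, ← pow_eq_pow_mod _ hζ.pow_eq_one]

theorem val_pow_inj {s t : ZMod r} (h : ζ ^ s.val = ζ ^ t.val) : s = t :=
  ZMod.val_injective r (hζ.pow_inj (ZMod.val_lt s) (ZMod.val_lt t) h)

theorem val_pow_ne_zero (s : ZMod r) : ζ ^ s.val ≠ 0 :=
  pow_ne_zero _ (hζ.ne_zero (Fact.out : r.Prime).ne_zero)

theorem val_pow_pow (s : ZMod r) : (ζ ^ s.val) ^ r = 1 := by
  rw [← pow_mul, mul_comm, pow_mul, hζ.pow_eq_one, one_pow]

theorem val_pow_sub (s t : ZMod r) : ζ ^ (s - t).val = ζ ^ s.val * (ζ ^ t.val)⁻¹ := by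
  rw [eq_mul_inv_iff_mul_eq₀ (val_pow_ne_zero hζ t), ← val_pow_add hζ, sub_add_cancel]

theorem val_pow_sum (A : Multiset (ZMod r)) : ζ ^ A.sum.val = (A.map fun t => ζ ^ t.val).prod := by
  induction A using Multiset.induction_on with
  | empty => simp
  | cons a A ih => rw [Multiset.sum_cons, val_pow_add hζ, ih, Multiset.map_cons, Multiset.prod_cons]

omit hζ in
theorem zpow_eq_val {a : K} (ha : a ^ r = 1) (u : ℤ) : a ^ u = a ^ (u : ZMod r).val := by
  have h0 : a ≠ 0 := by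
    rintro rfl; rw [zero_pow (Fact.out : r.Prime).ne_zero] at ha; exact zero_ne_one ha
  rw [← zpow_natCast, ZMod.val_intCast]
  conv_lhs => rw [← Int.mul_ediv_add_emod u r, zpow_add₀ h0, _root_.zpow_mul, zpow_natCast, ha,
    _root_.one_zpow, one_mul]

theorem val_pow_zpow (u : ℤ) (t : ZMod r) : (ζ ^ t.val) ^ u = ζ ^ ((u : ZMod r) * t).val := by
  rw [zpow_eq_val (val_pow_pow hζ t), ← pow_mul, ZMod.val_mul, ← pow_eq_pow_mod _ hζ.pow_eq_one,
    mul_comm]

theorem exists_val_eq {a : K} (ha : a ^ r = 1) : ∃ t : ZMod r, ζ ^ t.val = a := by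
  obtain ⟨i, hi, rfl⟩ := hζ.eq_pow_of_pow_eq_one ha
  exact ⟨i, by rw [ZMod.val_cast_of_lt hi]⟩

end Root

omit [Fintype F] in
/-- Diagonal elements with prescribed exponents. -/
theorem exists_diag {ζ : F} (hζ : IsPrimitiveRoot ζ r) (A : Multiset (ZMod r))
    (hA : A.card = Fintype.card ι) {c : F} (hc0 : c ≠ 0)
    (hc : c ^ Fintype.card ι * ζ ^ A.sum.val = 1) (hne : ∃ s ∈ A, ∃ t ∈ A, s ≠ t) :
    ∃ a : ι → ZMod r, Finset.univ.val.map a = A ∧
      (diagonal fun i => c * ζ ^ (a i).val).det = 1 ∧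
      (diagonal fun i => c * ζ ^ (a i).val) ^ r = c ^ r • (1 : Matrix ι ι F) ∧
      ∀ z : F, (diagonal fun i => c * ζ ^ (a i).val) ≠ z • (1 : Matrix ι ι F) := by
  obtain ⟨a, rfl⟩ := exists_fun_of_card A hA
  refine ⟨a, rfl, ?_, ?_, fun z hz => ?_⟩
  · rw [det_diagonal, Finset.prod_mul_distrib, Finset.prod_const, Finset.card_univ, ← hc,
      val_pow_sum hζ, Multiset.map_map]; rfl
  · rw [diagonal_pow, smul_one_eq_diagonal]
    congr 1; funext i
    rw [Pi.pow_apply, mul_pow, val_pow_pow hζ, mul_one]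
  · obtain ⟨s, hs, t, ht, hst⟩ := hne
    obtain ⟨i, -, rfl⟩ := Multiset.mem_map.1 hs
    obtain ⟨j, -, rfl⟩ := Multiset.mem_map.1 ht
    rw [smul_one_eq_diagonal] at hz
    have := diagonal_injective hz
    exact hst (val_pow_inj hζ (mul_left_cancel₀ hc0
      ((congrFun this i).trans (congrFun this j).symm)))

omit [Fintype F] in
theorem Nec.stable {u : ℤ} (hN : Nec H u) (h : Elu H r) {ζ : F} (hζ : IsPrimitiveRoot ζ r)
    (A : Multiset (ZMod r)) (hA : A.card = Fintype.card ι) {c : F} (hc0 : c ≠ 0)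
    (hc : c ^ Fintype.card ι * ζ ^ A.sum.val = 1) (hne : ∃ s ∈ A, ∃ t ∈ A, s ≠ t) :
    ∃ b : ZMod r, A.map (fun t => u * t + b) = A := by
  obtain ⟨a, h1, h2, h3, h4⟩ := exists_diag hζ A hA hc0 hc hne
  obtain ⟨l, -, hl⟩ := hN.into (h _ h2 ⟨_, h3⟩ h4).into
  have hξ : IsPrimitiveRoot (ι₀ ζ) r := hζ.map_of_injective (algebraMap F 𝕂).injective
  have hc' : ι₀ c ≠ 0 := (_root_.map_ne_zero _).2 hc0
  have he : ev (diagonal fun i => c * ζ ^ (a i).val) = A.map fun t => ι₀ c * ι₀ ζ ^ t.val := by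
    rw [ev_diagonal, ← h1, Multiset.map_map]; simp
  rw [he, Multiset.map_map] at hl
  obtain ⟨s, hs, -⟩ := hne
  obtain ⟨t, -, ht⟩ := Multiset.mem_map.1 (hl ▸ Multiset.mem_map_of_mem _ hs)
  simp only [Function.comp_apply, mul_zpow, val_pow_zpow hξ] at ht hl
  refine ⟨t - u * s, Multiset.map_injective (f := fun t : ZMod r => ι₀ c * ι₀ ζ ^ t.val)
    (fun s t h => val_pow_inj hξ (mul_left_cancel₀ hc' h)) ?_⟩
  rw [← hl, Multiset.map_map]
  refine Multiset.map_congr rfl fun w _ => ?_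
  have := val_pow_ne_zero hξ (u * s)
  rw [Function.comp_apply, val_pow_add hξ, val_pow_sub hξ, mul_left_comm, ← mul_assoc (ι₀ c), ht]
  field_simp

omit [Fact r.Prime] in
theorem map_eq_of_add_replicate {R : Type*} [Ring R] {B : Multiset R} {m : ℕ} (hm : B.card < m)
    {u b : R} (h : (B + Multiset.replicate m 0).map (fun t => u * t + b) =
      B + Multiset.replicate m 0) : B.map (u * ·) = B := by
  classical
  have hb : b = 0 := by
    by_contra hb
    have := congrArg (Multiset.count b) h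
    rw [Multiset.map_add, Multiset.map_replicate, Multiset.count_add, Multiset.count_add,
      Multiset.count_replicate, Multiset.count_replicate, mul_zero, zero_add, if_pos rfl,
      if_neg (Ne.symm hb)] at this
    have := Multiset.count_le_card b B
    omega
  subst hb
  simpa using h

theorem sym_five : ∀ a : Fin 5 → ZMod 5, ∑ i, a i = 0 → ∃ s : ZMod 5,
    (Finset.univ.val.map a).map (fun t => 2 * s - t) = Finset.univ.val.map a := by
  decide +kernel

theorem sym_three : ∀ a : Fin 3 → ZMod 3, ∑ i, a i = 0 → ∃ s : ZMod 3,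
    (Finset.univ.val.map a).map (fun t => 2 * s - t) = Finset.univ.val.map a := by
  decide +kernel

theorem zmod_three_eq : ∀ v : ZMod 3, v ≠ 0 → v ≠ 1 → v = -1 := by decide

theorem sym_of_sum (hr : r = 3 ∨ r = 5) {A : Multiset (ZMod r)} (hA : A.card = r)
    (h : A.sum = 0) : ∃ s : ZMod r, A.map (fun t => 2 * s - t) = A := by
  obtain ⟨a, rfl⟩ := exists_fun_of_card (ι := Fin r) A (by simpa using hA)
  rcases hr with rfl | rfl
  · exact sym_three a h
  · exact sym_five a h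

variable (p : ℕ) [Fact p.Prime] [CharP F p]

/-- An element of order `r` with a single non-trivial constituent. -/
theorem exists_min_orbit (hr : r ≠ p) (hi : orderOf ((Fintype.card F : ℕ) : ZMod r) ≠ 1)
    {P : F[X]} (hP : P ∈ cycFactors F r) {j k : ℕ} (hj : j ≠ 0)
    (h : orderOf ((Fintype.card F : ℕ) : ZMod r) * j + k = Fintype.card ι) :
    ∃ x : Matrix ι ι F, x.det = 1 ∧ x ^ r = (1 : F) • (1 : Matrix ι ι F) ∧
      (∀ z : F, x ≠ z • (1 : Matrix ι ι F)) ∧ HasM r (toLin' x) (Multiset.replicate j P) k := by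
  obtain ⟨A, hA⟩ := exists_hasM_of_finrank (V := ι → F) (cast_ne_zero p hr)
    (m := Multiset.replicate j P) (fun Q hQ => Multiset.eq_of_mem_replicate hQ ▸ hP) (k := k)
    (by simpa using h)
  obtain ⟨x, rfl⟩ := (toLin' : Matrix ι ι F ≃ₗ[F] _).surjective A
  refine ⟨x, ?_, (pow_eq_smul_iff x r 1).2 (by rw [hA.pow_eq_one, map_one]), fun z hz => ?_, hA⟩
  · rw [← LinearMap.det_toLin']; exact det_eq_one_of_pow hi hA.pow_eq_one
  · refine ne_algebraMap_of_ord hi hA.pow_eq_one (fun h1 => ?_) z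
      ((toLin'_eq_algebraMap_iff x z).1 hz)
    exact hj (by simpa using congrArg Multiset.card ((hA.eq_one_iff (cast_ne_zero p hr)).1 h1))

omit [Fintype F] in
theorem exists_mem_ev_ne (hx : Module.End.IsSemisimple (toLin' x)) {c : F}
    (h : x ≠ c • (1 : Matrix ι ι F)) : ∃ a ∈ ev x, a ≠ ι₀ c := by
  by_contra! h1
  have h2 : IsConj x (diagonal fun _ => c) := isConj_of_ev hx (by
    rw [← smul_one_eq_diagonal, (toLin'_eq_algebraMap_iff _ c).1 rfl]
    exact Module.End.isSemisimple_of_squarefree_aeval_eq_zero (irreducible_X_sub_C c).squarefree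
      (by simp)) (by
    rw [ev_diagonal, Multiset.map_const', Finset.card_val, Finset.card_univ, ← card_ev x]
    exact Multiset.eq_replicate_card.2 h1)
  obtain ⟨g, hg⟩ := h2
  refine h (g.isUnit.mul_left_cancel (hg.eq.trans ?_))
  rw [← smul_one_eq_diagonal, Matrix.mul_smul, Matrix.smul_mul, Matrix.mul_one, Matrix.one_mul]

theorem exists_eq_pow_of_aeval (hr : r ≠ p) {P : F[X]} (hP : P ∈ cycFactors F r) {a : 𝕂}
    (ha : aeval a P = 0) {c : ℕ} (hc : aeval (a ^ c) P = 0) :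
    ∃ j : ℕ, (c : ZMod r) = (Fintype.card F : ℕ) ^ j := by
  have hi := (mem_cycFactors.1 hP).1
  have := Fact.mk hi
  refine (tw_eq_self_iff (cast_ne_zero p hr) hP).1 (tw_eq_of_aeval hi hi (mem_cycFactors.1 hP).2.1 ?_)
  let φ : AdjoinRoot P →ₐ[F] 𝕂 := AdjoinRoot.liftAlgHom P (Algebra.ofId F 𝕂) a ha
  refine φ.toRingHom.injective ?_
  change φ _ = φ _
  rw [← aeval_algHom_apply, map_pow, map_zero, show φ (AdjoinRoot.root P) = a from
    AdjoinRoot.liftAlgHom_root _ _ _ _, hc]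

/-- Necessary conditions for elusivity. -/
theorem Nec.of_elu {H : Subgroup (GL (Fin n) F)} {u : ℤ} (hN : Nec H u) (h : Elu H r)
    (hr2 : r ≠ 2) (hr : r ≠ p) (hn : 2 ≤ n) (hgap : ¬ (n = 6 ∧ r = 3))
    (hi : orderOf ((Fintype.card F : ℕ) : ZMod r) ≤ n) (hu0 : (u : ZMod r) ≠ 0)
    (hu : ¬ ∃ j : ℕ, (u : ZMod r) = (Fintype.card F : ℕ) ^ j) :
    r ∣ Fintype.card F - 1 ∧ (u : ZMod r) = -1 ∧
      (n = 2 ∨ (n = r ∧ (r = 3 ∨ r = 5) ∧ padicValNat r (Fintype.card F - 1) = 1)) := by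
  classical
  have hu1 : (u : ZMod r) ≠ 1 := fun h1 => hu ⟨0, by simpa using h1⟩
  have : Nonempty (Fin n) := ⟨⟨0, by omega⟩⟩
  by_cases h1 : orderOf ((Fintype.card F : ℕ) : ZMod r) = 1
  swap
  · exfalso
    obtain ⟨P, hP⟩ := cycFactors_nonempty (F := F) p hr
    obtain ⟨x, x1, x2, x3, x4⟩ := exists_min_orbit (ι := Fin n) p hr h1 hP one_ne_zero
      (k := n - orderOf ((Fintype.card F : ℕ) : ZMod r)) (by simp; omega)
    have hev : ∀ a ∈ ev x, a ≠ 1 → aeval a P = 0 := fun a ha h1 => by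
      have := aeval_eq_zero_of_mem_ev ha (P := P * (X - 1)) (by
        refine (toLin' : Matrix _ _ F ≃ₗ[F] _).injective ?_
        rw [map_zero, ← (x4.ed.aeval_eq_zero_iff (P * (X - 1))).2 fun y hy => ?_]
        · exact (aeval_algHom_apply (toLinAlgEquiv' : Matrix _ _ F ≃ₐ[F] _) x _).symm
        · obtain ⟨h2, h3 | h3⟩ := mem_edOf hy
          · simp [h2, h3]
          · simp [h2, Multiset.eq_of_mem_replicate h3])
      simpa [sub_eq_zero, h1] using this
    obtain ⟨a, ha, ha1⟩ := exists_mem_ev_ne (ss_of_pow_eq p hr (x1 ▸ one_ne_zero) x2) (x3 1)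
    rw [map_one] at ha1
    obtain ⟨l, -, hl⟩ := hN.into (h x x1 ⟨_, x2⟩ x3).into
    have h2 : ι₀ l * a ^ u ∈ ev x := hl ▸ Multiset.mem_map_of_mem _ ha
    have h3 := pow_eq_of_mem_ev ha x2
    have h4 := pow_eq_of_mem_ev h2 x2
    rw [map_one] at h3 h4
    rw [mul_pow, ← zpow_natCast (a ^ u), ← _root_.zpow_mul, mul_comm u, _root_.zpow_mul,
      zpow_natCast, h3, _root_.one_zpow, mul_one, ← map_pow, ← map_one ι₀] at h4
    rw [eq_one_of_not_dvd (fun h => h1 ((ord_eq_one_iff Fintype.card_pos).2 h))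
      ((algebraMap F 𝕂).injective h4), map_one, one_mul, zpow_eq_val h3] at h2
    have h5 : IsPrimitiveRoot a r := orderOf_eq_prime h3 ha1 ▸ IsPrimitiveRoot.orderOf a
    obtain ⟨j, hj⟩ := exists_eq_pow_of_aeval p hr hP (hev a ha ha1) (hev _ h2 fun h6 =>
      hu0 (val_pow_inj h5 (by simpa using h6)))
    exact hu ⟨j, by simpa using hj⟩
  have h2 := (ord_eq_one_iff Fintype.card_pos).1 h1
  obtain ⟨ζ, hζ⟩ := exists_isPrimitiveRoot h2
  have hq := Fintype.one_lt_card (α := F)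
  have h3 := one_le_padicValNat_of_dvd (by omega) h2
  have h20 : (2 : ZMod r) ≠ 0 := fun h => hr2 ((Nat.prime_dvd_prime_iff_eq Fact.out
    Nat.prime_two).1 ((ZMod.natCast_eq_zero_iff 2 r).1 (by simpa using h)))
  refine ⟨h2, ?_⟩
  rcases lt_or_ge (padicValNat r n) (padicValNat r (Fintype.card F - 1)) with h4 | h4
  · obtain ⟨c, hc0, hc⟩ := exists_pow_eq_of_lt h4 (by omega) hζ.inv.pow_eq_one
    obtain ⟨b, hb⟩ := hN.stable h hζ ({1} + Multiset.replicate (n - 1) 0) (by simp; omega) hc0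
      (by simp [hc, ZMod.val_one, hζ.ne_zero (Fact.out : r.Prime).ne_zero])
      ⟨1, by simp, 0, Multiset.mem_add.2 (Or.inr (Multiset.mem_replicate.2 ⟨by omega, rfl⟩)),
        one_ne_zero⟩
    rcases eq_or_lt_of_le hn with rfl | hn
    · refine ⟨?_, Or.inl rfl⟩
      simp only [Nat.add_one_sub_one, Multiset.replicate_one, Multiset.singleton_add,
        Multiset.map_cons, Multiset.map_singleton, mul_one, mul_zero, zero_add] at hb
      rcases Multiset.cons_eq_cons.1 hb with ⟨h5, h6⟩ | ⟨-, s, h5, h6⟩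
      · rw [Multiset.singleton_inj.1 h6, add_zero] at h5; exact absurd h5 hu1
      · have h7 := (Multiset.singleton_eq_cons_iff _).1 h5
        have h8 := (Multiset.singleton_eq_cons_iff _).1 h6
        rw [h7.1] at h8
        exact eq_neg_of_add_eq_zero_left h8.1.symm
    · exact absurd (by simpa using map_eq_of_add_replicate (by simp; omega) hb) hu1
  have h5 : r ∣ n := dvd_of_one_le_padicValNat (by omega)
  have h6 : n ≤ 6 := by
    by_contra! h6
    obtain ⟨b, hb⟩ := hN.stable h hζ ({1, 1, -2} + Multiset.replicate (n - 3) 0) (by simp; omega)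
      one_ne_zero (by simp; norm_num) ⟨1, by simp, 0, Multiset.mem_add.2 (Or.inr (Multiset.mem_replicate.2 ⟨by omega, rfl⟩)),
        one_ne_zero⟩
    have := congrArg (Multiset.count (u : ZMod r)) (map_eq_of_add_replicate (by simp; omega) hb)
    simp [Multiset.count_singleton, hu1] at this
    split_ifs at this <;> omega
  have h7 : n = r ∧ (r = 3 ∨ r = 5) := by
    have := (Fact.out : r.Prime).two_le
    have := Nat.le_of_dvd (by omega) h5
    have h8 : r ≠ 4 := by rintro rfl; exact absurd (Fact.out : Nat.Prime 4) (by norm_num)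
    have h9 : r ≠ 6 := by rintro rfl; exact absurd (Fact.out : Nat.Prime 6) (by norm_num)
    have h10 : r = 3 ∨ r = 5 := by omega
    exact ⟨by rcases h10 with rfl | rfl <;> omega, h10⟩
  obtain ⟨rfl, h7⟩ := h7
  rw [padicValNat_self] at h4
  refine ⟨?_, Or.inr ⟨rfl, h7, by omega⟩⟩
  rcases h7 with rfl | rfl
  · exact zmod_three_eq _ hu0 hu1
  · obtain ⟨b, hb⟩ := hN.stable h hζ ({1, -1} + Multiset.replicate 3 0) (by simp)
      one_ne_zero (by simp) ⟨1, by simp, 0, by simp, one_ne_zero⟩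
    have h8 := map_eq_of_add_replicate (by simp) hb
    have : (u : ZMod 5) ∈ ({1, -1} : Multiset (ZMod 5)) := by rw [← h8]; simp
    simpa [hu1] using this

omit [Fintype F] in
theorem exists_ev_eq {ζ : F} (hζ : IsPrimitiveRoot ζ r) (h : x ^ r = 1) :
    ∃ A : Multiset (ZMod r), A.card = Fintype.card ι ∧ x.det = ζ ^ A.sum.val ∧
      ev x = A.map fun t => ι₀ ζ ^ t.val := by
  have hξ : IsPrimitiveRoot (ι₀ ζ) r := hζ.map_of_injective (algebraMap F 𝕂).injective
  obtain ⟨A, hA⟩ : ∃ A : Multiset (ZMod r), A.map (fun t => ι₀ ζ ^ t.val) = ev x :=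
    exists_map_eq fun a ha => exists_val_eq hξ (by
      simpa using pow_eq_of_mem_ev ha (z := 1) (by simpa using h))
  refine ⟨A, by rw [← card_ev x, ← hA, Multiset.card_map], (algebraMap F 𝕂).injective ?_, hA.symm⟩
  rw [← prod_ev_eq_det, ← hA, map_pow, val_pow_sum hξ]

/-- Sufficient conditions for elusivity in dimensions three and five. -/
theorem elu_of_sym {H : Subgroup (GL (Fin r) F)} (hr : r = 3 ∨ r = 5)
    (hv : padicValNat r (Fintype.card F - 1) = 1) (hS : scalars (Fin r) F ≤ H)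
    (h : ∀ y : Matrix (Fin r) (Fin r) F, y ^ r = 1 → (ev y).map (·⁻¹) = ev y → Into H y) :
    Elu H r := by
  rintro x x1 ⟨z, x2⟩ -
  have : Nonempty (Fin r) := ⟨⟨0, by omega⟩⟩
  have h1 : r ∣ Fintype.card F - 1 := dvd_of_one_le_padicValNat hv.ge
  have hq := Fintype.one_lt_card (α := F)
  obtain ⟨p, _⟩ := CharP.exists F
  have : Fact p.Prime := ⟨CharP.char_is_prime F p⟩
  have hp : r ≠ p := by
    rintro rfl
    obtain ⟨k, -, hk⟩ := FiniteField.card F r
    have h2 : r ∣ Fintype.card F := hk ▸ dvd_pow_self r k.ne_zero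
    exact (Fact.out : r.Prime).not_dvd_one ((Nat.dvd_sub_iff_right hq.le h2).1 h1)
  obtain ⟨b, hb, rfl⟩ := typeA_of_noB ⟨by simp [hv], by omega⟩ x1 x2
  obtain ⟨ζ, hζ⟩ := exists_isPrimitiveRoot h1
  have hξ : IsPrimitiveRoot (ι₀ ζ) r := hζ.map_of_injective (algebraMap F 𝕂).injective
  have h2 := smul_pow_eq_one' hb x2
  obtain ⟨A, A1, A2, A3⟩ := exists_ev_eq hζ h2
  rw [det_smul, x1, mul_one, Fintype.card_fin] at A2
  obtain ⟨s, hs⟩ := sym_of_sum hr (A := A) (by simpa using A1) (val_pow_inj hζ (by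
    rw [← A2, ZMod.val_zero, pow_zero]
    exact pow_eq_one_of_le (r := r) (by simp [hv]) (inv_ne_zero hb) (by
      rw [A2, val_pow_pow hζ])))
  have h3 := inv_ne_zero (val_pow_ne_zero hζ s)
  refine (((h ((ζ ^ s.val)⁻¹ • b⁻¹ • x) ?_ ?_).of_smul hS h3).of_smul hS
    (inv_ne_zero hb)).intoS_ss (ss_of_pow_eq p hp (x1 ▸ one_ne_zero) x2)
  · rw [_root_.smul_pow, h2, inv_pow, val_pow_pow hζ, _root_.inv_one, one_smul]
  · rw [ev_smul _ h3, A3]
    conv_rhs => rw [← hs]
    simp only [Multiset.map_map]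
    refine Multiset.map_congr rfl fun t _ => ?_
    have := val_pow_ne_zero hξ s
    have := val_pow_ne_zero hξ t
    simp only [Function.comp_apply, two_mul, val_pow_sub hξ, val_pow_add hξ, map_inv₀, map_pow]
    field_simp

end CL.ElusL
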