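import Cfsg.Agent.CLAS.FiveK1
import Cfsg.Agent.CLAS.FiveU
import Cfsg.Agent.S0482

/-!
# Block A: odd characteristic without reflections
-/

set_option autoImplicit false

namespace CL.Five

open Matrix Cfsg Cfsg.Geo CL.Asch
open scoped MatrixGroups

variable {k : Type*} [Field k] [IsAlgClosed k] {P : Subgroup (G5 k)}

omit [IsAlgClosed k] in
theorem noRf_sum (h2 : (2 : k) ≠ 0) (C : Core P) (h : ¬ HasRf P) (b : Module.Basis (Fin 5) k (V5 k)) {g : P}
    (h1 : pr P g ≠ 1) {s : Fin 5 → ℤˣ} (hs : ∀ i, (g.1 : M5 k) *ᵥ b i = ((s i : ℤ) : k) • b i) :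
    ∑ i, (s i : ℤ) = 1 := by
  have e : LinearMap.toMatrix b b (toLin' (g.1 : M5 k)) = diagonal fun i => ((s i : ℤ) : k) := by
    ext i j
    by_cases hij : i = j <;> simp [LinearMap.toMatrix_apply, hs, hij]
  have hd := LinearMap.det_toMatrix b (toLin' (g.1 : M5 k))
  rw [e, LinearMap.det_toLin', C.det g.2, det_diagonal, ← Int.cast_prod, ← Units.coe_prod] at hd
  have k3 : ∀ s : Fin 5 → ℤˣ, ∏ i, s i = -1 ∨ (∀ i, s i = 1) ∨ (∃ j, ∀ i, s i = if i = j then 1 else -1) ∨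
    ∑ i, (s i : ℤ) = 1 := by decide +kernel
  rcases k3 s with a | a | ⟨j, a⟩ | a
  · exact (h2 (by rw [a] at hd; push_cast at hd; linear_combination -hd)).elim
  · refine (h1 (pr_eq_one.2 (mem_scalars'.2 ⟨1, toLin'.injective (b.ext fun i => ?_)⟩))).elim
    simp [hs, a]
  · have k4 : ∀ v, (fun l => 2 * b.coord j (Pi.single l 1)) ⬝ᵥ v = 2 * b.coord j v := fun v => by
      conv_rhs => rw [pi_eq_sum_univ' v, map_sum, Finset.mul_sum]
      exact Finset.sum_congr rfl fun l _ => by simp only [map_smul, smul_eq_mul]; ring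
    refine (h ⟨g, g.2, b j, _, (k4 _).trans (by simp), toLin'.injective (b.ext fun i => ?_)⟩).elim
    rw [toLin'_apply, toLin'_apply, hs, a, sub_mulVec, vecMulVec_mulVec, k4, one_mulVec]
    by_cases hij : i = j
    · subst hij; ext l; simp; ring
    · simp [hij]
  · exact a

theorem noRf_case (h2 : (2 : k) ≠ 0) (C : Core P) (h : ¬ HasRf P) : ListO (Bar P) := by
  have := C.finite_bar
  have := C.simple
  have hr : PRankLE 2 2 (Bar P) := fun A hc hA => not_lt.1 fun h4 => by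
    classical
    have k0 : ∀ S : Finset (Bar P), S.card ≤ 4 → ∃ a ∈ A, a ∉ S := fun S hS => by
      by_contra! e
      exact absurd ((Set.ncard_le_ncard (show (A : Set (Bar P)) ⊆ S from e)).trans_eq (Set.ncard_coe_finset S))
        (not_le.2 (hS.trans_lt h4))
    have k1 : ∀ a ∈ A, ∃ x : P, pr P x = a ∧ x.1 ^ 2 = 1 := fun a ha => by
      obtain ⟨x, rfl⟩ := pr_surj a
      refine ⟨x ^ 5, by rw [map_pow, pow_succ, show 4 = 2 * 2 from rfl, pow_mul, hA _ ha, one_pow, one_mul], ?_⟩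
      rw [Subgroup.coe_pow, ← pow_mul, mul_comm, pow_mul]
      exact C.scalar_pow (pow_mem x.2 2) (pr_eq_one (A := x ^ 2).1 (by rw [map_pow, hA _ ha]))
    have k2 : ∀ x y : P, pr P x ∈ A → pr P y ∈ A → x.1 ^ 2 = 1 → x.1 * y = y * x := fun x y hx hy e => by
      have h1 : (x * y * (y * x)⁻¹).1 ∈ scalars (Fin 5) k := pr_eq_one.1 (by
        rw [map_mul, map_inv, mul_inv_eq_one, map_mul, map_mul]
        exact congrArg Subtype.val (hc.is_comm.comm (⟨_, hx⟩ : A) ⟨_, hy⟩))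
      have h3 := C.scalar_pow (x * y * (y * x)⁻¹).2 h1
      obtain ⟨z, hz⟩ : ∃ z, z = (x * y * (y * x)⁻¹).1 := ⟨_, rfl⟩
      rw [← hz] at h1 h3
      have h5 : x.1 * y = z * (y * x) := by simp [hz, mul_assoc]
      have h6 : z ^ 2 = 1 := mul_right_cancel (b := y.1 * x.1 ^ 2) (by
        rw [sq, sq, mul_assoc, ← mul_assoc y.1, ← mul_assoc z (_ * _), ← h5, mul_assoc, ← mul_assoc z,
          scalars_comm h1, mul_assoc, ← h5, ← mul_assoc, ← sq, e]; simp [mul_assoc, ← sq, e])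
      rw [h5, show z = 1 by rw [← h3, pow_succ, show 4 = 2 * 2 from rfl, pow_mul, h6, one_pow, one_mul], one_mul]
    obtain ⟨a, ha, a1⟩ := k0 {1} (by simp)
    obtain ⟨b, hb, b1⟩ := k0 {1, a} (Finset.card_le_two.trans (by simp))
    obtain ⟨c, hc', c1⟩ := k0 {1, a, b, a * b} Finset.card_le_four
    obtain ⟨x, rfl, hx⟩ := k1 a ha
    obtain ⟨y, rfl, hy⟩ := k1 b hb
    obtain ⟨z, rfl, hz⟩ := k1 c hc'
    obtain ⟨B, d, hd⟩ := K.exists_basis (σ := P.subtype) ![x, y, z] (fun i j => k2 _ _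
      (by fin_cases i <;> assumption) (by fin_cases j <;> assumption) (by fin_cases i <;> assumption)) (n := 2)
      (by simpa using h2) fun j => by fin_cases j <;> assumption
    have k5 : ∀ j, ∃ s : Fin 5 → ℤˣ, ∀ i, ((![x, y, z] j).1 : M5 k) *ᵥ B i = ((s i : ℤ) : k) • B i := fun j => by
      have : ∀ i, ∃ s : ℤˣ, d j i = (s : ℤ) := fun i => by
        have e := congrArg (fun g : G5 k => (g : M5 k) *ᵥ B i) (show (![x, y, z] j).1 ^ 2 = 1 by
          fin_cases j <;> assumption)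
        have e' : ((![x, y, z] j).1 : M5 k) *ᵥ B i = _ := hd j i
        simp only [sq, Units.val_mul, ← mulVec_mulVec, e', mulVec_smul, smul_smul, Units.val_one, one_mulVec] at e
        rcases mul_self_eq_one_iff.1 (smul_left_injective k (B.ne_zero i) (e.trans (one_smul k _).symm)) with a | a
        exacts [⟨1, by simp [a]⟩, ⟨-1, by simp [a]⟩]
      choose s hs using this
      exact ⟨s, fun i => hs i ▸ hd j i⟩
    obtain ⟨s, hs⟩ : ∃ s : Fin 5 → ℤˣ, ∀ i, (x.1 : M5 k) *ᵥ B i = _ := k5 0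
    obtain ⟨t, ht⟩ : ∃ s : Fin 5 → ℤˣ, ∀ i, (y.1 : M5 k) *ᵥ B i = _ := k5 1
    obtain ⟨u, hu⟩ : ∃ s : Fin 5 → ℤˣ, ∀ i, (z.1 : M5 k) *ᵥ B i = _ := k5 2
    have k6 : ∀ {x y : P} {s t : Fin 5 → ℤˣ}, (∀ i, (x.1 : M5 k) *ᵥ B i = ((s i : ℤ) : k) • B i) →
        (∀ i, (y.1 : M5 k) *ᵥ B i = ((t i : ℤ) : k) • B i) →
        ∀ i, ((x * y).1 : M5 k) *ᵥ B i = (((s * t) i : ℤ) : k) • B i := fun a b i => by
      rw [Subgroup.coe_mul, Units.val_mul, ← mulVec_mulVec, b, mulVec_smul, a, smul_smul, mul_comm]; simp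
    have k7 : ∀ u ∈ A, ∀ v, u ≠ v → v * u ≠ 1 := fun u hu v a b =>
      a (mul_right_cancel ((sq u).symm.trans ((hA u hu).trans b.symm)))
    simp only [Finset.mem_insert, Finset.mem_singleton, not_or] at a1 b1 c1
    have e1 := noRf_sum h2 C h B a1 hs
    have e2 := noRf_sum h2 C h B b1.1 ht
    have e3 := noRf_sum h2 C h B c1.1 hu
    have e4 := noRf_sum h2 C h B (k7 _ hb _ b1.2) (k6 hs ht)
    have e5 := noRf_sum h2 C h B (k7 _ hc' _ c1.2.1) (k6 hs hu)
    have e6 := noRf_sum h2 C h B (k7 _ hc' _ c1.2.2.1) (k6 ht hu)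
    have e7 := noRf_sum h2 C h B (g := x * y * z) (k7 _ hc' _ c1.2.2.2) (k6 (k6 hs ht) hu)
    have k8 : ∀ a b c : ℤˣ, (8 : ℤ) ∣ 1 + a + b + c + (a * b : ℤˣ) + (a * c : ℤˣ) + (b * c : ℤˣ) + (a * b * c : ℤˣ) := by
      decide
    have := Finset.dvd_sum (s := Finset.univ) fun i _ => k8 (s i) (t i) (u i)
    simp only [Finset.sum_add_distrib, Pi.mul_apply] at this e4 e5 e6 e7
    rw [e1, e2, e3, e4, e5, e6, e7] at this
    exact absurd this (by decide)
  rcases Cfsg.Agent.S0482.result C.nonabelian hr with ⟨K, _, _, -, -, e⟩ | h | ⟨K, _, _, q, h1, h2, e⟩ | h | h | h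
  · exact .inl ⟨K, _, ‹_›, e⟩
  · exact .inr (.inl h)
  · exact .inr (.inr (.inl ⟨q, h2, K, _, _, h1, e⟩))
  · exact .inr (.inr (.inr (.inl h)))
  · exact .inr (.inr (.inr (.inr (.inl h))))
  · exact .inr (.inr (.inr (.inr (.inr h))))

end CL.Five
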