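/-
Simple groups in `PGL₃(2^a)` with transvection groups of order two.
-/
import Cfsg.Agent.CLAS.MHProj
import Cfsg.Agent.S0848
import Cfsg.Agent.S0206

set_option autoImplicit false

namespace CL.MH

open Matrix Cfsg.Geo CL.Dk CL.PGL2
open scoped MatrixGroups

variable {F : Type*} [Field F] {G : Type*} [Group G]

theorem subfield_eq_of_card [Finite F] {k k' : Subfield F} (h : Nat.card k = Nat.card k') :
    k = k' := by
  obtain ⟨σ, h1, h2⟩ := exists_frob k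
  obtain ⟨τ, h3, h4⟩ := exists_frob k'
  ext a
  rw [← h2, ← h4, h1, h3, h]

theorem add_self_vec (h2 : (2 : F) = 0) (v : V3 F) : v + v = 0 := by
  rw [← two_smul F, h2, zero_smul]

section Centre

variable [Finite F] {K : Subgroup (GL (Fin 3) F)}

theorem ev_field (S : TS (TV K)) (h2 : (2 : F) = 0) {x u θ : V3 F} (hx : TwoAx (TV K) x)
    (hu : TV K u θ) (e : θ ⬝ᵥ x ≠ 0) (hxu : cr x u ≠ 0)
    (opp : ∀ ψ, TV K x ψ → ψ ⬝ᵥ u = 0 → ψ = 0) :
    ∃ c : F, c ≠ 0 ∧ ∃ k : Subfield F, ∀ a, (∃ ψ, TV K x ψ ∧ ψ ⬝ᵥ c • u = a) ↔ a ∈ k := by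
  refine ⟨θ ⬝ᵥ x, e, ?_⟩
  obtain ⟨u', hu'⟩ : ∃ u', u' = (θ ⬝ᵥ x) • u := ⟨_, rfl⟩
  rw [← hu']
  have opp' : ∀ ψ, TV K x ψ → ψ ⬝ᵥ u' = 0 → ψ = 0 := fun ψ h1 h0 => opp ψ h1 (by
    rw [hu', dotProduct_smul, smul_eq_zero] at h0; exact h0.resolve_left e)
  have hxu' : cr x u' ≠ 0 := by rw [hu', cr_smul_right]; exact smul_ne_zero e hxu
  obtain ⟨w, hw⟩ := exists_trip_ne hxu'
  obtain ⟨β, hβ⟩ := exists_dualB hw
  have b00 : β 0 ⬝ᵥ x = 1 := hβ 0 0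
  have b10 : β 1 ⬝ᵥ x = 0 := hβ 1 0
  have b11 : β 1 ⬝ᵥ u' = 1 := hβ 1 1
  have b12 : β 1 ⬝ᵥ w = 0 := hβ 1 2
  have b20 : β 2 ⬝ᵥ x = 0 := hβ 2 0
  have b21 : β 2 ⬝ᵥ u' = 0 := hβ 2 1
  have b22 : β 2 ⬝ᵥ w = 1 := hβ 2 2
  have b2u : β 2 ⬝ᵥ u = 0 := by
    rw [hu', dotProduct_smul, smul_eq_zero] at b21; exact b21.resolve_left e
  have haff : ∀ ψ, TV K x ψ → aff 1 (ψ ⬝ᵥ u') ∈ planeP (fixD K (β 2)) x u' := by
    rintro ψ ⟨h0, g, hg, h1⟩
    refine aff_mem_planeP (g := g) ⟨hg, fun v => ?_⟩ ?_ (h1 u')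
    · rw [h1, dotProduct_add, dotProduct_smul, b20, smul_zero, add_zero]
    · rw [h1, h0, zero_smul, add_zero]
  have hlow : low 1 ∈ planeP (fixD K (β 2)) x u' := by
    obtain ⟨h0, g, hg, h1⟩ := hu
    refine low_mem_planeP (g := g) ⟨hg, fun v => ?_⟩ ?_ ?_
    · rw [h1, dotProduct_add, dotProduct_smul, b2u, smul_zero, add_zero]
    · rw [h1, hu', dotProduct_smul, h0, smul_zero, zero_smul, add_zero]
    · rw [h1, one_smul, hu']
  obtain ⟨φ, φ', h1, h1', hc⟩ := hx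
  have m0 : φ ⬝ᵥ u' ≠ 0 := fun h => ne_zero_of_cr_left hc (opp' φ h1 h)
  obtain ⟨k, hk, -⟩ | ⟨-, hk, -⟩ | ⟨h3, -⟩ := pair_pgl _ hlow m0 (haff φ h1)
  · refine ⟨k, fun a => ⟨?_, fun ha => ?_⟩⟩
    · rintro ⟨ψ, hψ, rfl⟩
      exact (hk _).1 (haff ψ hψ)
    by_cases ha0 : a = 0
    · exact ⟨0, S.zero x, by rw [ha0, zero_dotProduct]⟩
    obtain ⟨g, ⟨hg, hW⟩, g1, g2⟩ := exists_of_aff_mem ((hk a).2 ha)
    obtain ⟨r, s, t, g3⟩ := exists_coords hw (ac g w)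
    have ht : t = 1 := by
      have := hW w
      rw [g3] at this
      simpa [b20, b21, b22] using this
    subst ht
    have hs : s = 0 := by
      have : IsR (g * g) x ((s * a) • β 2) := forall_of_basis hw
        (by rw [ac_mul, g1, g1]; simp [b20])
        (by
          rw [ac_mul, g2, ac_add, ac_smul, g2, g1, add_assoc, add_self_vec h2]; simp [b21])
        (by
          rw [ac_mul, g3, ac_add, ac_add, ac_smul, ac_smul, ac_smul, g1, g2, g3, smul_dotProduct,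
            b22, smul_eq_mul]
          linear_combination (norm := module) h2 • (r • x + s • u'))
      have := opp' _ ⟨by simp [b20], _, K.mul_mem hg hg, this⟩ (by simp [b21])
      have := congrArg (· ⬝ᵥ w) this
      simpa [b22, ha0] using this
    subst hs
    refine ⟨a • β 1 + r • β 2, ⟨by simp [b10, b20], g, hg, forall_of_basis hw ?_ ?_ ?_⟩,
      by simp [b11, b21]⟩
    · simp [g1, b10, b20]
    · simp [g2, b11, b21]
    · simp [g3, b12, b22, add_comm]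
  · exfalso
    rcases hk _ (haff φ' h1') with h | h
    · exact ne_zero_of_cr_right hc (opp' φ' h1' h)
    · have := opp' _ (S.sub_right h1' h1) (by rw [sub_dotProduct, h, sub_self])
      rw [sub_eq_zero.1 this, cr_self] at hc
      exact hc rfl
  · exact absurd (by linear_combination h3 - h2) (one_ne_zero (α := F))

theorem not_caseA_of_comm (S : TS (TV K)) (h2 : (2 : F) = 0) (hs : Small2 (TV K))
    (NN : ∀ x φ u θ, NT (TV K) x φ → NT (TV K) u θ → φ ⬝ᵥ u = 0 → θ ⬝ᵥ x = 0) :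
    ¬ CaseA (TV K) := by
  rintro ⟨x, hx0, hx⟩
  obtain ⟨φ, φ', h1, h1', hc⟩ := id hx
  have n1 : NT (TV K) x φ := ⟨h1, hx0, ne_zero_of_cr_left hc⟩
  have n1' : NT (TV K) x φ' := ⟨h1', hx0, ne_zero_of_cr_right hc⟩
  have opp0 : ∀ u θ, NT (TV K) u θ → cr x u ≠ 0 → θ ⬝ᵥ x ≠ 0 := fun u θ hu hxu e =>
    hc (cr_eq_zero_of_dots hxu (S.dot h1) (NN _ _ _ _ hu n1 e) (S.dot h1') (NN _ _ _ _ hu n1' e))
  have opp : ∀ u θ, NT (TV K) u θ → cr x u ≠ 0 → ∀ ψ, TV K x ψ → ψ ⬝ᵥ u = 0 → ψ = 0 := by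
    intro u θ hu hxu ψ hψ e
    by_contra h0
    exact opp0 u θ hu hxu (NN _ _ _ _ ⟨hψ, hx0, h0⟩ hu e)
  obtain ⟨u1, θ1, t1, hθ1, e1⟩ := S.hL φ n1.2.2
  have c1 : cr x u1 ≠ 0 := by
    rw [Ne, cr_eq_zero_comm]; exact cr_ne_zero_of_dot hx0 (S.dot h1) e1
  obtain ⟨u2, θ2, t2, hθ2, e2⟩ := S.hL _ c1
  have tr : trip x u1 u2 ≠ 0 := e2
  have n2 : NT (TV K) u1 θ1 := ⟨t1, ne_zero_of_cr_right c1, hθ1⟩
  have n3 : NT (TV K) u2 θ2 := ⟨t2, ne_zero_of_trip tr, hθ2⟩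
  have c2 := cr_ne_left_of_trip tr
  obtain ⟨e, he, θ3, t3, hθ3⟩ : ∃ e : F, e ≠ 0 ∧ ∃ θ3, TV K (u1 + e • u2) θ3 ∧ θ3 ≠ 0 := by
    by_cases h : θ2 ⬝ᵥ u1 = 0
    · obtain ⟨l, hl⟩ := exists_smul_of_cr hθ1 (cr_eq_zero_of_dots (cr_ne_right_of_trip tr) h
        (S.dot t2) (S.dot t1) (NN _ _ _ _ n3 n2 h))
      rw [hl, ← S.smul] at t2
      exact ⟨l, by rintro rfl; exact hθ2 (by rw [hl, zero_smul]), θ1, S.add_left t1 t2, hθ1⟩
    · exact ⟨_, h, _, (S.NT_conj n2 t2).1, (S.NT_conj n2 t2).2.2⟩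
  have tr3 : trip x u1 (u1 + e • u2) ≠ 0 := by rw [trip_mid_add]; exact mul_ne_zero he tr
  have c3 := cr_ne_left_of_trip tr3
  have n4 : NT (TV K) (u1 + e • u2) θ3 := ⟨t3, ne_zero_of_trip tr3, hθ3⟩
  obtain ⟨a1, ha1, k1, hk1⟩ := ev_field S h2 hx t1 (opp0 _ _ n2 c1) c1 (opp _ _ n2 c1)
  obtain ⟨a2, ha2, k2, hk2⟩ := ev_field S h2 hx t2 (opp0 _ _ n3 c2) c2 (opp _ _ n3 c2)
  obtain ⟨a3, ha3, k3, hk3⟩ := ev_field S h2 hx t3 (opp0 _ _ n4 c3) c3 (opp _ _ n4 c3)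
  have card : ∀ {u : V3 F} {a : F} {k : Subfield F}, a ≠ 0 →
      (∀ ψ, TV K x ψ → ψ ⬝ᵥ u = 0 → ψ = 0) →
      (∀ b, (∃ ψ, TV K x ψ ∧ ψ ⬝ᵥ a • u = b) ↔ b ∈ k) → Nat.card {ψ // TV K x ψ} = Nat.card k := by
    intro u a k ha ho hk
    refine Nat.card_eq_of_bijective (fun ψ => ⟨ψ.1 ⬝ᵥ a • u, (hk _).1 ⟨ψ.1, ψ.2, rfl⟩⟩)
      ⟨fun ψ ψ' h => Subtype.ext (sub_eq_zero.1 (ho _ (S.sub_right ψ.2 ψ'.2) ?_)), fun b => ?_⟩
    · have := congrArg Subtype.val h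
      simp only [dotProduct_smul, smul_eq_mul] at this
      rw [sub_dotProduct, mul_left_cancel₀ ha this, sub_self]
    · obtain ⟨ψ, h1, h2⟩ := (hk b).2 b.2
      exact ⟨⟨ψ, h1⟩, Subtype.ext h2⟩
  have q1 := card ha1 (opp _ _ n2 c1) hk1
  obtain rfl : k2 = k1 := subfield_eq_of_card ((card ha2 (opp _ _ n3 c2) hk2).symm.trans q1)
  obtain rfl : k3 = k2 := subfield_eq_of_card ((card ha3 (opp _ _ n4 c3) hk3).symm.trans q1)
  have m1 : ∀ ψ, TV K x ψ → a1 * ψ ⬝ᵥ u1 ∈ k3 := fun ψ h =>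
    (hk1 _).1 ⟨ψ, h, by rw [dotProduct_smul, smul_eq_mul]⟩
  have m2 : ∀ ψ, TV K x ψ → a2 * ψ ⬝ᵥ u2 ∈ k3 := fun ψ h =>
    (hk2 _).1 ⟨ψ, h, by rw [dotProduct_smul, smul_eq_mul]⟩
  have m3 : ∀ ψ, TV K x ψ → a3 * (ψ ⬝ᵥ u1 + e * ψ ⬝ᵥ u2) ∈ k3 := fun ψ h =>
    (hk3 _).1 ⟨ψ, h, by rw [dotProduct_smul, dotProduct_add, dotProduct_smul]; rfl⟩
  have ind : ∀ ψ ψ', TV K x ψ → TV K x ψ' →
      (ψ ⬝ᵥ u1) * (ψ' ⬝ᵥ u2) = (ψ' ⬝ᵥ u1) * (ψ ⬝ᵥ u2) → cr ψ ψ' = 0 := by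
    intro ψ ψ' h h' e
    obtain ⟨l, hl⟩ := exists_smul_of_cr hx0 (cr_eq_zero_comm.1 (cr_cr_eq_zero (φ := x) (x := ψ)
      (y := ψ') (by rw [dotProduct_comm]; exact S.dot h) (by rw [dotProduct_comm]; exact S.dot h')))
    have := cr_dot_cr u1 u2 ψ ψ'
    rw [e, sub_self, hl, dotProduct_smul, smul_eq_zero] at this
    rcases this with h0 | h0
    · rw [hl, h0, zero_smul]
    · exact absurd ((trip_cyc x u1 u2).symm.trans h0) tr
  have hΔ : (φ ⬝ᵥ u1) * (φ' ⬝ᵥ u2) - (φ' ⬝ᵥ u1) * (φ ⬝ᵥ u2) ≠ 0 := fun h =>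
    hc (ind _ _ h1 h1' (sub_eq_zero.1 h))
  have hD := k3.sub_mem (k3.mul_mem (m1 _ h1) (m2 _ h1')) (k3.mul_mem (m1 _ h1') (m2 _ h1))
  have hα : a3 / a1 ∈ k3 := by
    convert k3.div_mem (k3.sub_mem (k3.mul_mem (m3 _ h1) (m2 _ h1'))
      (k3.mul_mem (m3 _ h1') (m2 _ h1))) hD using 1
    rw [div_eq_div_iff ha1 (by
      convert mul_ne_zero (mul_ne_zero ha1 ha2) hΔ using 1; ring)]
    ring
  have hβ : a3 * e / a2 ∈ k3 := by
    convert k3.div_mem (k3.sub_mem (k3.mul_mem (m1 _ h1) (m3 _ h1'))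
      (k3.mul_mem (m1 _ h1') (m3 _ h1))) hD using 1
    rw [div_eq_div_iff ha2 (by
      convert mul_ne_zero (mul_ne_zero ha1 ha2) hΔ using 1; ring)]
    ring
  let r : {ψ // TV K x ψ} → k3 := fun ψ =>
    ⟨(a1 * ψ.1 ⬝ᵥ u1) / (a2 * ψ.1 ⬝ᵥ u2), k3.div_mem (m1 _ ψ.2) (m2 _ ψ.2)⟩
  have z2 : ∀ ψ, TV K x ψ → ψ ≠ 0 → ψ ⬝ᵥ u2 ≠ 0 := fun ψ h h0 e => h0 (opp _ _ n3 c2 ψ h e)
  have z1 : ∀ ψ, TV K x ψ → ψ ≠ 0 → ψ ⬝ᵥ u1 ≠ 0 := fun ψ h h0 e => h0 (opp _ _ n2 c1 ψ h e)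
  have r0 : ∀ ψ : {ψ // TV K x ψ}, (r ψ).1 = 0 → ψ.1 = 0 := fun ψ h => by
    by_contra h0
    exact div_ne_zero (mul_ne_zero ha1 (z1 _ ψ.2 h0)) (mul_ne_zero ha2 (z2 _ ψ.2 h0)) h
  have r0' : ∀ ψ : {ψ // TV K x ψ}, ψ.1 = 0 → (r ψ).1 = 0 := fun ψ h => by simp [r, h]
  have hr : Function.Injective r := by
    intro ψ ψ' h
    have h' := congrArg Subtype.val h
    refine Subtype.ext ?_
    by_cases h0 : ψ.1 = 0
    · rw [h0, r0 ψ' (h' ▸ r0' ψ h0)]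
    have h0' : ψ'.1 ≠ 0 := fun e => h0 (r0 ψ (h' ▸ r0' ψ' e))
    rw [div_eq_div_iff (mul_ne_zero ha2 (z2 _ ψ.2 h0)) (mul_ne_zero ha2 (z2 _ ψ'.2 h0'))] at h'
    obtain ⟨l, hl⟩ := exists_smul_of_cr h0' (ind _ _ ψ.2 ψ'.2
      (mul_left_cancel₀ (mul_ne_zero ha1 ha2) (by linear_combination h')))
    rcases hs x ψ'.1 l ψ'.2 hx0 h0' (hl ▸ ψ.2) with e | e
    · exact absurd (by rw [hl, e, zero_smul]) h0
    · rw [hl, e, one_smul]
  obtain ⟨ψ, hψ⟩ := ((Nat.bijective_iff_injective_and_card r).2 ⟨hr, q1⟩).2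
    ⟨_, k3.div_mem hβ hα⟩
  have hψ' := congrArg Subtype.val hψ
  have h0 : ψ.1 ≠ 0 := fun h0 => by
    rw [r0' ψ h0] at hψ'
    exact div_ne_zero (div_ne_zero (mul_ne_zero ha3 he) ha2) (div_ne_zero ha3 ha1) hψ'.symm
  refine h0 (opp _ _ n4 c3 _ ψ.2 ?_)
  have := z2 _ ψ.2 h0
  simp only [r] at hψ'
  field_simp at hψ'
  rw [dotProduct_add, dotProduct_smul, smul_eq_mul]
  linear_combination hψ' + (e * ψ.1 ⬝ᵥ u2) * h2

end Centre

/-- the inverse transpose automorphism -/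
def itr : GL (Fin 3) F →* GL (Fin 3) F where
  toFun g := ⟨((g⁻¹ : GL (Fin 3) F) : Matrix (Fin 3) (Fin 3) F)ᵀ, (g : Matrix (Fin 3) (Fin 3) F)ᵀ,
    by rw [← transpose_mul, Units.mul_inv, transpose_one],
    by rw [← transpose_mul, Units.inv_mul, transpose_one]⟩
  map_one' := Units.ext (by simp)
  map_mul' g h := Units.ext (by simp)

theorem ac_itr (g : GL (Fin 3) F) (v : V3 F) : ac (itr g) v = dc g v := mulVec_transpose _ _

theorem itr_itr (g : GL (Fin 3) F) : itr (itr g) = g := Units.ext (transpose_transpose _)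

theorem IsR.itr {g : GL (Fin 3) F} {x φ : V3 F} (h : IsR g x φ) : IsR (itr g⁻¹) φ x := by
  refine isR_of_coe ?_
  change ((g⁻¹⁻¹ : GL (Fin 3) F) : Matrix (Fin 3) (Fin 3) F)ᵀ = _
  rw [inv_inv, h.coe_eq, transpose_add, transpose_one, transpose_vecMulVec]

theorem tv_comap_itr (K : Subgroup (GL (Fin 3) F)) :
    TV (K.comap itr) = fun φ x => TV K x φ := by
  funext φ x
  refine propext ⟨fun ⟨h0, g, hg, h⟩ => ⟨by rwa [dotProduct_comm], _, ?_, h.itr⟩,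
    fun ⟨h0, g, hg, h⟩ => ⟨by rwa [dotProduct_comm], _, ?_, h.itr⟩⟩
  · rw [map_inv]; exact K.inv_mem hg
  · rw [Subgroup.mem_comap, itr_itr]; exact K.inv_mem hg

section Main

variable {ρ : G →* PGL(3, F)}

theorem centre_cases {T : V3 F → V3 F → Prop} (S : TS T) (hs : Small2 T) {x φ u θ : V3 F}
    (h1 : NT T x φ) (h2 : NT T u θ) (e1 : φ ⬝ᵥ u = 0) (e2 : θ ⬝ᵥ x ≠ 0) {ψ : V3 F} (h : T u ψ) :
    ψ = 0 ∨ ψ = (θ ⬝ᵥ x) • φ ∨ ψ = θ ∨ ψ = θ + (θ ⬝ᵥ x) • φ := by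
  have hz := S.comm_left h1.1 h2.1 e1
  have hz0 := smul_ne_zero e2 h1.2.2
  have hxu := cr_ne_zero_of_dot h2.2.1 (S.dot h2.1) e2
  have key : ∀ c : F, T u (c • φ) → c = 0 ∨ c = θ ⬝ᵥ x := fun c hc => by
    rcases hs u _ (c / θ ⬝ᵥ x) hz h2.2.1 hz0 (by rwa [smul_smul, div_mul_cancel₀ _ e2]) with h | h
    · exact Or.inl ((div_eq_zero_iff.1 h).resolve_right e2)
    · exact Or.inr ((div_eq_one_iff_eq e2).1 h)
  have key2 : ∀ ψ, T u ψ → ψ ⬝ᵥ x = 0 → ψ = 0 ∨ ψ = (θ ⬝ᵥ x) • φ := fun ψ h h0 => by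
    obtain ⟨c, rfl⟩ := exists_smul_of_cr h1.2.2
      (cr_eq_zero_of_dots hxu h0 (S.dot h) (S.dot h1.1) e1)
    rcases key c h with rfl | rfl
    · exact Or.inl (zero_smul _ _)
    · exact Or.inr rfl
  rcases key _ (S.comm_left h1.1 h e1) with h0 | h0
  · rcases key2 ψ h h0 with h | h
    · exact Or.inl h
    · exact Or.inr (Or.inl h)
  · rcases key2 _ (S.sub_right h h2.1) (by rw [sub_dotProduct, h0, sub_self]) with h | h
    · exact Or.inr (Or.inr (Or.inl (sub_eq_zero.1 h)))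
    · exact Or.inr (Or.inr (Or.inr (by rw [← h, add_sub_cancel])))

theorem card_of_noncomm [Finite G] [IsSimpleGroup G] (hG : ¬ IsMulCommutative G)
    (hρ : Function.Injective ρ) (S : TS (TV (lf ρ))) (h2 : (2 : F) = 0) (hs : Small2 (TV (lf ρ)))
    {x φ u θ : V3 F} (h1 : NT (TV (lf ρ)) x φ) (h1' : NT (TV (lf ρ)) u θ) (e1 : φ ⬝ᵥ u = 0)
    (e2 : θ ⬝ᵥ x ≠ 0) : Nat.card G = 168 ∨ Nat.card G = 360 := by
  obtain ⟨a, ha⟩ := hr_lf.1 h1.1.2
  obtain ⟨b, hb⟩ := hr_lf.1 h1'.1.2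
  obtain ⟨z, hz⟩ := hr_lf.1 (S.comm_left h1.1 h1'.1 e1).2
  have d1 := h1.1.1
  have d2 := h1'.1.1
  set c := θ ⬝ᵥ x with hc
  have hz' : RR ρ z (c • u) φ := (RR.smul_iff c).2 hz
  have hxu : cr x u ≠ 0 := cr_ne_zero_of_dot h1'.2.1 d2 e2
  have hφθ : cr θ φ ≠ 0 := cr_ne_zero_of_dot' h1.2.2 d1 e2
  have sq : ∀ {g : G} {y η : V3 F}, RR ρ g y η → η ⬝ᵥ y = 0 → g * g = 1 := fun {g y η} h h0 => by
    have := h.mul_right h
    rw [h0, add_zero, one_smul, add_self_vec h2] at this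
    exact this.unique hρ (rr_one ρ y)
  have a2 := sq ha d1
  have b2 := sq hb d2
  have z2 := sq hz' (by rw [dotProduct_smul, e1, smul_zero])
  have a1 : a ≠ 1 := fun h => by simpa [h1.2.1, h1.2.2] using (ha.eq_one_iff hρ).1 h
  have b1 : b ≠ 1 := fun h => by simpa [h1'.2.1, h1'.2.2] using (hb.eq_one_iff hρ).1 h
  have z1 : z ≠ 1 := fun h => by simpa [h1'.2.1, h1.2.2, e2] using (hz.eq_one_iff hρ).1 h
  have hbz : RR ρ (b * z) u (θ + c • φ) := by simpa [d2] using hb.mul_right hz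
  have haz : RR ρ (z * a) (x + c • u) φ := by simpa [d1] using hz'.mul_left ha
  have za : z * a = a * z := (ha.comm_of_dot hρ hz' (by rw [dotProduct_smul, e1, smul_zero]) d1)
  have zb : z * b = b * z := (hb.comm_of_dot hρ hz d2 (by rw [smul_dotProduct, e1, smul_zero]))
  have bab : b * a * b⁻¹ = z * a := by
    have := ha.conj' hb
    rw [e1, zero_mul, zero_smul, sub_zero] at this
    exact this.unique hρ haz
  have ia : a⁻¹ = a := inv_eq_of_mul_eq_one_right a2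
  have ib : b⁻¹ = b := inv_eq_of_mul_eq_one_right b2
  have ba : b * a = z * (a * b) := by
    rw [← mul_assoc, ← bab, mul_assoc, inv_mul_cancel, mul_one]
  have ab2 : (a * b) ^ 2 = z := by
    calc (a * b) ^ 2 = a * (b * a) * b := by simp only [pow_two, mul_assoc]
      _ = (a * z) * a * (b * b) := by rw [ba]; simp only [mul_assoc]
      _ = z := by rw [← za, b2, mul_one, mul_assoc, a2, mul_one]
  have hab : a ≠ b := by
    rintro rfl
    rw [a2, one_pow] at ab2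
    exact z1 ab2.symm
  have o4 : orderOf (a * b) = 4 := by
    refine orderOf_eq_prime_pow (p := 2) (n := 1) (by rw [pow_one, ab2]; exact z1) ?_
    rw [show 2 ^ (1 + 1) = 2 * 2 by norm_num, pow_mul, ab2, pow_two, z2]
  obtain ⟨e⟩ := Cfsg.Agent.S0206.result a b (orderOf_eq_prime (by rw [pow_two, a2]) a1)
    (orderOf_eq_prime (by rw [pow_two, b2]) b1) hab
  rw [o4] at e
  set D := Subgroup.closure ({a, b} : Set G)
  have aD : a ∈ D := Subgroup.subset_closure (by simp)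
  have bD : b ∈ D := Subgroup.subset_closure (by simp)
  have zD : z ∈ D := ab2 ▸ D.pow_mem (D.mul_mem aD bD) 2
  have fin : ∀ g : G, g * a = a * g → g * b = b * g → g ∈ D := by
    intro g ga gb
    obtain ⟨A, hA⟩ := exists_lift ρ g
    obtain ⟨l, hl, f1, f2⟩ := ha.fix_of_comm h1.2.1 h1.2.2 hA ga
    obtain ⟨l', -, f3, f4⟩ := hb.fix_of_comm h1'.2.1 h1'.2.2 hA gb
    obtain rfl : l = l' := by
      have := f4 x
      rw [f1, dotProduct_smul, smul_eq_mul] at this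
      exact mul_right_cancel₀ e2 this
    obtain ⟨w, hw⟩ := exists_trip_ne hxu
    have φw : φ ⬝ᵥ w ≠ 0 := fun h => h1.2.2 (eq_zero_of_dot_basis hw d1 e1 h)
    set B := sc l⁻¹ (inv_ne_zero hl) A
    have g1 : ∀ η : V3 F, (∀ v, η ⬝ᵥ ac A v = l * η ⬝ᵥ v) → (ac B w - w) ⬝ᵥ η = 0 := fun η h => by
      rw [dotProduct_comm, dotProduct_sub, ac_sc, dotProduct_smul, h, smul_eq_mul, ← mul_assoc,
        inv_mul_cancel₀ hl, one_mul, sub_self]
    obtain ⟨s, hs'⟩ := exists_smul_of_cr h1'.2.1 (cr_eq_zero_of_dots hφθ (g1 θ f4) (g1 φ f2)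
      (by rwa [dotProduct_comm]) (by rwa [dotProduct_comm]))
    have hB : IsR B u ((s / φ ⬝ᵥ w) • φ) := forall_of_basis hw
      (by rw [ac_sc, f1, smul_smul, inv_mul_cancel₀ hl]; simp [d1])
      (by rw [ac_sc, f3, smul_smul, inv_mul_cancel₀ hl]; simp [e1])
      (by rw [smul_dotProduct, smul_eq_mul, div_mul_cancel₀ _ φw, ← hs', add_sub_cancel])
    have hg : RR ρ g u _ := ⟨B, by rw [pm_sc, hA], hB⟩
    rcases centre_cases S hs h1 h1' e1 e2 (hg.tv (by simp [e1])) with h | h | h | h <;>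
      rw [h] at hg
    · rw [hg.unique hρ (rr_one ρ u)]; exact D.one_mem
    · rw [hg.unique hρ hz]; exact zD
    · rw [hg.unique hρ hb]; exact bD
    · rw [hg.unique hρ hbz]; exact D.mul_mem bD zD
  have hC : Subgroup.centralizer ({z} : Set G) = D := by
    refine le_antisymm (fun g hg => ?_) ((Subgroup.closure_le _).2 ?_)
    swap
    · rintro _ (rfl | rfl)
      · exact Subgroup.mem_centralizer_singleton_iff.2 za.symm
      · exact Subgroup.mem_centralizer_singleton_iff.2 zb.symm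
    have gz := Subgroup.mem_centralizer_singleton_iff.1 hg
    obtain ⟨A, hA⟩ := exists_lift ρ g
    obtain ⟨l, hl, f1, f2⟩ := hz.fix_of_comm h1'.2.1 (smul_ne_zero e2 h1.2.2) hA gz
    have ne : ∀ {t : G}, t ≠ 1 → t ≠ z → g * t * g⁻¹ ≠ 1 ∧ g * t * g⁻¹ ≠ z := fun {t} t1 t2 =>
      ⟨fun h => t1 (by simpa using h), fun h => t2 (by
        rw [mul_inv_eq_iff_eq_mul, ← gz] at h; exact mul_left_cancel h)⟩
    have az : a ≠ z := by
      rintro rfl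
      rw [← zb, mul_inv_cancel_right, a2] at bab
      exact a1 bab
    have bz : b ≠ z := by
      rintro rfl
      rw [mul_inv_eq_iff_eq_mul, left_eq_mul] at bab
      exact b1 bab
    have cb : g * b * g⁻¹ = b ∨ g * b * g⁻¹ = b * z := by
      have h := hb.conj hA
      rw [f1, RR.smul_iff] at h
      rcases centre_cases S hs h1 h1' e1 e2 (h.tv (by
        rw [smul_dotProduct, ← dotProduct_smul, ← f1, dc_dot_ac, d2])) with h' | h' | h' | h' <;>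
        rw [h'] at h
      · exact absurd (h.unique hρ (rr_one ρ u)) (ne b1 bz).1
      · exact absurd (h.unique hρ hz) (ne b1 bz).2
      · exact Or.inl (h.unique hρ hb)
      · exact Or.inr (h.unique hρ hbz)
    have ca : g * a * g⁻¹ = a ∨ g * a * g⁻¹ = z * a := by
      have h := ha.conj hA
      have f3 : dc A φ = l⁻¹ • φ := eq_of_forall_dot fun v => by
        have := f2 (ac A⁻¹ v)
        rw [ac_ac_inv, smul_dotProduct, smul_dotProduct, smul_eq_mul, smul_eq_mul] at this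
        rw [dc_dot, smul_dotProduct, smul_eq_mul, eq_inv_mul_iff_mul_eq₀ hl]
        exact mul_left_cancel₀ e2 (by linear_combination -this)
      have d3 := dc_dot_ac A φ x
      rw [f3, ← RR.smul_iff] at h
      rw [f3, smul_dotProduct, ← dotProduct_smul, d1] at d3
      rcases centre_cases S.flip (S.small2_flip hs) (x := θ) (φ := u) (u := φ) (θ := x)
        ⟨h1'.1, h1'.2.2, h1'.2.1⟩ ⟨h1.1, h1.2.2, h1.2.1⟩ (by rwa [dotProduct_comm])
        (by rwa [dotProduct_comm]) (h.tv d3) with h' | h' | h' | h' <;>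
        rw [h'] at h
      · exact absurd ((h.eq_one_iff hρ).2 (Or.inl rfl)) (ne a1 az).1
      · rw [dotProduct_comm] at h
        exact absurd (h.unique hρ hz') (ne a1 az).2
      · exact Or.inl (h.unique hρ ha)
      · rw [dotProduct_comm] at h
        exact Or.inr (h.unique hρ haz)
    simp only [mul_inv_eq_iff_eq_mul] at ca cb
    have zz : ∀ t, z * (z * t) = t := fun t => by rw [← mul_assoc, z2, one_mul]
    have gz' : ∀ t, g * (z * t) = z * (g * t) := fun t => by rw [← mul_assoc, gz, mul_assoc]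
    have az' : ∀ t, a * (z * t) = z * (a * t) := fun t => by rw [← mul_assoc, ← za, mul_assoc]
    have bz' : ∀ t, b * (z * t) = z * (b * t) := fun t => by rw [← mul_assoc, ← zb, mul_assoc]
    have ba' : ∀ t, b * (a * t) = z * (a * (b * t)) := fun t => by
      rw [← mul_assoc, ba, mul_assoc, mul_assoc]
    have mv : ∀ {s s' : G}, g * s = s' * g → ∀ t, g * (s * t) = s' * (g * t) := fun h t => by
      rw [← mul_assoc, h, mul_assoc]
    rcases ca with ca | ca <;> rcases cb with cb | cb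
    · exact fin g ca cb
    · refine (D.mul_mem_cancel_right aD).1 (fin (g * a) ?_ ?_)
      · rw [ca, mul_assoc, ca]
      · have : a * b = z * (b * a) := by rw [ba, zz]
        rw [mul_assoc, this, gz', mv cb, mul_assoc, bz', zz]
    · refine (D.mul_mem_cancel_right bD).1 (fin (g * b) ?_ ?_)
      · rw [mul_assoc, ba, gz', mv ca, mul_assoc, zz]
      · rw [cb, mul_assoc, cb]
    · refine (D.mul_mem_cancel_right (D.mul_mem aD bD)).1 (fin (g * (a * b)) ?_ ?_)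
      · rw [mul_assoc, mul_assoc, ba, az', gz', mv ca, mul_assoc, zz]
      · have : a * b * b = z * (b * (a * b)) := by rw [ba', zz, mul_assoc]
        rw [mul_assoc, this, gz', mv cb, mul_assoc, bz', zz]
  exact Cfsg.Agent.S0848.result (commutator_eq_top_of_simple hG) z
    (orderOf_eq_prime (by rw [pow_two, z2]) z1) ((MulEquiv.subgroupCongr hC).trans e)

theorem card_of_small2 [Finite F] [Finite G] [IsSimpleGroup G] (hG : ¬ IsMulCommutative G)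
    (hρ : Function.Injective ρ) (S : TS (TV (lf ρ))) (h2 : (2 : F) = 0)
    (hs : Small2 (TV (lf ρ))) : Nat.card G = 168 ∨ Nat.card G = 360 := by
  by_contra hn
  have NN : ∀ x φ u θ, NT (TV (lf ρ)) x φ → NT (TV (lf ρ)) u θ → φ ⬝ᵥ u = 0 → θ ⬝ᵥ x = 0 := by
    intro x φ u θ h1 h1' e1
    by_contra e2
    exact hn (card_of_noncomm hG hρ S h2 hs h1 h1' e1 e2)
  have hA := not_caseA_of_comm S h2 hs NN
  have hA' : ¬ CaseA (fun φ x => TV (lf ρ) x φ) := by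
    rw [← tv_comap_itr]
    refine not_caseA_of_comm (by rw [tv_comap_itr]; exact S.flip) h2
      (by rw [tv_comap_itr]; exact S.small2_flip hs) ?_
    rw [tv_comap_itr]
    intro x φ u θ h1 h1' e
    rw [dotProduct_comm] at e ⊢
    exact NN _ _ _ _ ⟨h1'.1, h1'.2.2, h1'.2.1⟩ ⟨h1.1, h1.2.2, h1.2.1⟩ e
  obtain ⟨P⟩ : Nonempty (Sylow 2 G) := inferInstance
  obtain ⟨z, -, hz, hc, g, hg, hne⟩ := exists_four hG P
  have : CharP F 2 := (CharP.charP_iff_prime_eq_zero Nat.prime_two).2 (by exact_mod_cast h2)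
  have z1 : z ≠ 1 := by rintro rfl; simp at hz
  obtain ⟨x, φ, h1, h0⟩ := exists_rr_of_invol (ρ := ρ) (g := z)
    (fun c => let ⟨s, hs⟩ := FiniteField.isSquare_of_char_two (ringChar.eq F 2) c; ⟨s, hs.symm⟩)
    (by rw [← pow_two, ← hz, pow_orderOf_eq_one])
  have h3 := (h1.eq_one_iff hρ).not.1 z1
  push Not at h3
  have d : φ ⬝ᵥ x = 0 := by
    rcases h0 with h | h | h
    · rw [h, h2, neg_zero]
    · exact absurd h h3.1
    · exact absurd h h3.2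
  obtain ⟨A, hA1⟩ := exists_lift ρ g
  obtain ⟨Z, hZ, hZ'⟩ := id h1
  have h4 := h1.conj hA1
  have n1 : NT (TV (lf ρ)) x φ := ⟨h1.tv d, h3⟩
  have n2 : NT (TV (lf ρ)) (ac A x) (dc A φ) :=
    ⟨h4.tv (by rw [dc_dot_ac, d]), ac_ne_zero A h3.1, dc_ne_zero A h3.2⟩
  obtain ⟨l, hl, f1, -⟩ := h4.fix_of_comm n2.2.1 n2.2.2 hZ (hc _ hg).symm
  rw [hZ'] at f1
  have e : φ ⬝ᵥ ac A x = 0 := by
    by_contra e
    have c : cr x (ac A x) = 0 := cr_eq_zero_of_smul (c := (φ ⬝ᵥ ac A x)⁻¹ * (l - 1)) (by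
      rw [← smul_smul, sub_smul, ← f1, one_smul, add_sub_cancel_left, smul_smul,
        inv_mul_cancel₀ e, one_smul])
    exact e (dot_eq_zero_of_cr' h3.1 (cr_eq_zero_comm.1 c) d)
  obtain ⟨c1, c2, -⟩ := S.same_of_zero ⟨hA, hA'⟩ n1 n2 e
  obtain ⟨s, hs1⟩ := exists_smul_of_cr h3.1 (cr_eq_zero_comm.1 c1)
  obtain ⟨t, ht⟩ := exists_smul_of_cr h3.2 (cr_eq_zero_comm.1 c2)
  rw [hs1, ht, RR.smul_iff, smul_smul] at h4
  rcases hs x φ _ n1.1 h3.1 h3.2 (h4.tv (by simp [d])) with h | h <;> rw [h] at h4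
  · rw [zero_smul] at h4
    exact z1 (by simpa using h4.unique hρ (rr_one ρ x))
  · rw [one_smul] at h4
    exact hne (h4.unique hρ h1)

end Main

end CL.MH
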