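/-
Perfect linear covers of projective groups of degree three.
-/
import Cfsg.Agent.CLAS.MHTrace
import Cfsg.Agent.CLAS.MHTwo
import Cfsg.Agent.PLOC.Fusion

set_option autoImplicit false

namespace CL.MH

open Matrix Cfsg.Geo CL.Asch
open scoped MatrixGroups commutatorElement

variable {F : Type*} [Field F] {G : Type*} [Group G]

/-- scalar matrices -/
abbrev sz : Fˣ →* GL (Fin 3) F := GeneralLinearGroup.scalar (Fin 3)

theorem coe_sz (u : Fˣ) : (sz u : Matrix (Fin 3) (Fin 3) F) = (u : F) • 1 := by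
  simp [smul_one_eq_diagonal]

theorem coe_sz_mul (u : Fˣ) (A : GL (Fin 3) F) :
    ((sz u * A : GL (Fin 3) F) : Matrix (Fin 3) (Fin 3) F) = (u : F) • (A : Matrix _ _ F) := by
  rw [Units.val_mul, coe_sz, smul_mul_assoc, one_mul]

theorem sz_comm (u : Fˣ) (A : GL (Fin 3) F) : Commute (sz u) A := scalars_comm ⟨u, rfl⟩ A

theorem sz_conj (u : Fˣ) (A B : GL (Fin 3) F) : B * (sz u * A) * B⁻¹ = sz u * (B * A * B⁻¹) := by
  rw [← mul_assoc B, ← (sz_comm u B).eq]; simp only [mul_assoc]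

theorem sz_mul_pow (u : Fˣ) (A : GL (Fin 3) F) (n : ℕ) : (sz u * A) ^ n = sz (u ^ n) * A ^ n := by
  rw [(sz_comm u A).mul_pow, map_pow]

theorem sz_mul_inv (u : Fˣ) (A : GL (Fin 3) F) : (sz u * A)⁻¹ = sz u⁻¹ * A⁻¹ := by
  rw [_root_.mul_inv_rev, ← map_inv, (sz_comm _ _).eq]

theorem tr_sz_mul (u : Fˣ) (A : GL (Fin 3) F) : tr (sz u * A) = u * tr A := by
  rw [tr, coe_sz_mul, trace_smul, smul_eq_mul]

theorem det_sz_mul (u : Fˣ) (A : GL (Fin 3) F) :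
    ((sz u * A : GL (Fin 3) F) : Matrix (Fin 3) (Fin 3) F).det = u ^ 3 * (A : Matrix (Fin 3) (Fin 3) F).det := by
  rw [coe_sz_mul, det_smul, Fintype.card_fin]

theorem ac_sz_mul (u : Fˣ) (A : GL (Fin 3) F) (v : V3 F) : ac (sz u * A) v = (u : F) • ac A v := by
  rw [ac, coe_sz_mul, smul_mulVec]

theorem pm_sz_mul (u : Fˣ) (A : GL (Fin 3) F) : pm (sz u * A) = pm A := by
  rw [map_mul, ProjGenLinGroup.mk_scalar, one_mul]

theorem sz_injective : Function.Injective (sz : Fˣ → GL (Fin 3) F) := fun a b h => by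
  have := congrArg (fun A : GL (Fin 3) F => (A : Matrix (Fin 3) (Fin 3) F) 0 0) h
  exact Units.ext (by simpa using this)

theorem exists_sz {A B : GL (Fin 3) F} (h : pm A = pm B) : ∃ u : Fˣ, A = sz u * B :=
  let ⟨u, hu⟩ := ProjGenLinGroup.mk_eq_mk_iff.1 h.symm; ⟨u, by rw [← hu, (sz_comm u B).eq]⟩

theorem exists_sz' {A B : GL (Fin 3) F} (h : pm A = pm B) (hA : (A : Matrix (Fin 3) (Fin 3) F).det = 1)
    (hB : (B : Matrix (Fin 3) (Fin 3) F).det = 1) : ∃ u : Fˣ, u ^ 3 = 1 ∧ A = sz u * B := by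
  obtain ⟨u, rfl⟩ := exists_sz h
  rw [det_sz_mul, hB, mul_one] at hA
  exact ⟨u, Units.ext hA, rfl⟩

theorem eq_one_of_cube {M : Type*} [Group M] {u : M} {n : ℕ} (h3 : u ^ 3 = 1) (hn : u ^ n = 1)
    (h : ¬ 3 ∣ n) : u = 1 := by
  simpa [(Nat.Prime.coprime_iff_not_dvd Nat.prime_three).2 h] using pow_gcd_eq_one.2 ⟨h3, hn⟩

theorem det_conj_eq (A B : GL (Fin 3) F) : ((B * A * B⁻¹ : GL (Fin 3) F) : Matrix (Fin 3) (Fin 3) F).det =
    (A : Matrix (Fin 3) (Fin 3) F).det := by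
  rw [Units.val_mul, Units.val_mul, det_units_conj]

/-- lifts of order prime to three are unique -/
theorem eq_of_pm_of_pow {A B : GL (Fin 3) F} (h : pm A = pm B)
    (hA : (A : Matrix (Fin 3) (Fin 3) F).det = 1) (hB : (B : Matrix (Fin 3) (Fin 3) F).det = 1) {n : ℕ}
    (hn : ¬ 3 ∣ n) (h1 : A ^ n = 1) (h2 : B ^ n = 1) : A = B := by
  obtain ⟨u, hu, rfl⟩ := exists_sz' h hA hB
  rw [sz_mul_pow, h2, mul_one, ← map_one sz] at h1
  rw [eq_one_of_cube hu (sz_injective h1) hn, map_one, one_mul]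

theorem IsR.pow {A : GL (Fin 3) F} {x φ : V3 F} (h : IsR A x φ) (h0 : φ ⬝ᵥ x = 0) (n : ℕ) :
    IsR (A ^ n) x ((n : F) • φ) := by
  induction n with
  | zero => simpa using isR_one x
  | succ n ih =>
    have := h.mul_right ih
    rw [h0, add_zero, one_smul] at this
    rw [pow_succ', Nat.cast_succ, add_smul, one_smul, add_comm]
    exact this

/-- `P` is a perfect group of matrices with image `ρ(G)` -/
structure Cv (ρ : G →* PGL(3, F)) (P : Subgroup (GL (Fin 3) F)) : Prop where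
  inj : Function.Injective ρ
  lift : ∀ g, ∃ A ∈ P, ρ g = pm A
  proj : ∀ A ∈ P, ∃ g, ρ g = pm A
  perf : ⁅P, P⁆ = P

theorem map_eq_one_of_perfect {M N : Type*} [Group M] [CommGroup N] {P : Subgroup M}
    (hP : ⁅P, P⁆ = P) (χ : P →* N) (g : P) : χ g = 1 := by
  have : commutator P = ⊤ := Subgroup.map_injective P.subtype_injective (by
    rw [Subgroup.map_subtype_commutator, hP, ← MonoidHom.range_eq_map, Subgroup.range_subtype])
  exact Abelianization.commutator_subset_ker χ (this.ge (Subgroup.mem_top g))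

namespace Cv

variable {ρ : G →* PGL(3, F)} {P : Subgroup (GL (Fin 3) F)} (hC : Cv ρ P) {A B : GL (Fin 3) F}
  {g h : G}
include hC

theorem det (hA : A ∈ P) : (A : Matrix (Fin 3) (Fin 3) F).det = 1 :=
  congrArg Units.val (map_eq_one_of_perfect hC.perf (GeneralLinearGroup.det.comp P.subtype) ⟨A, hA⟩)

theorem le_SL : P ≤ specialLinear (Fin 3) F := fun _ hA => Units.ext (hC.det hA)

theorem lift_eq (hA : A ∈ P) (hB : B ∈ P) (h : pm A = pm B) :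
    ∃ u : Fˣ, u ^ 3 = 1 ∧ sz u ∈ P ∧ A = sz u * B := by
  obtain ⟨u, hu, rfl⟩ := exists_sz' h (hC.det hA) (hC.det hB)
  exact ⟨u, hu, (P.mul_mem_cancel_right hB).1 hA, rfl⟩

theorem cube {u : Fˣ} (hu : sz u ∈ P) : u ^ 3 = 1 := by
  have := hC.det (P.mul_mem hu P.one_mem)
  rw [det_sz_mul, Units.val_one, det_one, mul_one] at this
  exact Units.ext this

theorem pow_eq (hA : A ∈ P) (hg : ρ g = pm A) {n : ℕ} (h : g ^ n = 1) :
    ∃ u : Fˣ, u ^ 3 = 1 ∧ sz u ∈ P ∧ A ^ n = sz u := by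
  simpa using hC.lift_eq (P.pow_mem hA n) P.one_mem (by rw [map_pow, ← hg, ← map_pow, h]; simp)

theorem exists_conj (hA : A ∈ P) (hB : B ∈ P) (hg : ρ g = pm A) (hh : ρ h = pm B) (e : IsConj g h) :
    ∃ C ∈ P, ∃ u : Fˣ, u ^ 3 = 1 ∧ sz u ∈ P ∧ C * A * C⁻¹ = sz u * B := by
  obtain ⟨c, rfl⟩ := isConj_iff.1 e
  obtain ⟨C, hC', hc⟩ := hC.lift c
  exact ⟨C, hC', hC.lift_eq (P.mul_mem (P.mul_mem hC' hA) (P.inv_mem hC')) hB
    (by simp [← hh, hg, hc])⟩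

theorem real_lift (hr : IsConj g g⁻¹) : ∃ A ∈ P, ρ g = pm A ∧ IsConj A A⁻¹ ∧
    ∀ n : ℕ, g ^ n = 1 → A ^ n = 1 := by
  obtain ⟨A, hA, hg⟩ := hC.lift g
  obtain ⟨C, -, u, hu, hu', e⟩ := hC.exists_conj hA (P.inv_mem hA) hg (by simp [hg]) hr
  have e' : IsConj (sz u * A) (sz u * A)⁻¹ := isConj_iff.2 ⟨C, by
    rw [sz_conj, e, sz_mul_inv, ← mul_assoc, ← map_mul,
      eq_inv_of_mul_eq_one_left (show u * u * u = 1 by rw [← hu, pow_three'])]⟩
  refine ⟨_, P.mul_mem hu' hA, by rw [pm_sz_mul, hg], e', fun n hn => ?_⟩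
  obtain ⟨v, hv, -, e2⟩ := hC.pow_eq (P.mul_mem hu' hA) (by rw [pm_sz_mul, hg]) hn
  obtain ⟨D, hD⟩ := isConj_iff.1 (e'.pow n)
  rw [inv_pow, e2, ← (sz_comm v D).eq, mul_inv_cancel_right, ← map_inv] at hD
  rw [e2, eq_one_of_cube hv (n := 2) (by rw [pow_two]; exact mul_eq_one_iff_eq_inv.2 (sz_injective hD))
    (by norm_num), map_one]

theorem pow_lift {n : ℕ} (hn : ¬ 3 ∣ n) (h : g ^ n = 1) : ∃ A ∈ P, ρ g = pm A ∧ A ^ n = 1 := by
  obtain ⟨A, hA, hg⟩ := hC.lift g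
  obtain ⟨u, hu, hu', e⟩ := hC.pow_eq hA hg h
  refine ⟨sz (u ^ (2 * n)) * A, P.mul_mem (map_pow sz u _ ▸ P.pow_mem hu' _) hA,
    by rw [pm_sz_mul, hg], ?_⟩
  obtain ⟨m, hm⟩ : 3 ∣ 2 * n * n + 1 := by
    rcases (by omega : n % 3 = 1 ∨ n % 3 = 2) with h | h <;>
      simp [Nat.dvd_iff_mod_eq_zero, Nat.add_mod, Nat.mul_mod, h]
  rw [sz_mul_pow, e, ← map_mul, ← pow_mul, ← pow_succ, hm, pow_mul, hu, one_pow, map_one]

theorem isConj_lift (hA : A ∈ P) (hB : B ∈ P) (hg : ρ g = pm A) (hh : ρ h = pm B) (e : IsConj g h)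
    {n : ℕ} (hn : ¬ 3 ∣ n) (h1 : A ^ n = 1) (h2 : B ^ n = 1) : IsConj A B := by
  obtain ⟨C, -, u, -, -, e⟩ := hC.exists_conj hA hB hg hh e
  exact isConj_iff.2 ⟨C, eq_of_pm_of_pow (by rw [e, pm_sz_mul]) (by rw [det_conj_eq, hC.det hA])
    (hC.det hB) hn (by rw [conj_pow, h1, mul_one, mul_inv_cancel]) h2⟩

theorem exists_proj : ∃ π : P →* G, Function.Surjective π ∧ ∀ A, ρ (π A) = pm A := by
  choose π hπ using fun A : P => hC.proj A A.2
  refine ⟨MonoidHom.mk' π fun a b => hC.inj (by simp [hπ]), fun g => ?_, hπ⟩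
  obtain ⟨A, hA, hg⟩ := hC.lift g
  exact ⟨⟨A, hA⟩, hC.inj ((hπ _).trans hg.symm)⟩

/-- transfer: the scalars vanish if the lifts of a subgroup of index prime to three commute -/
theorem sz_eq_one [Finite G] (U : Subgroup G) (hU : ¬ 3 ∣ U.index)
    (hc : ∀ a ∈ U, ∀ b ∈ U, ∀ A ∈ P, ∀ B ∈ P, ρ a = pm A → ρ b = pm B → A * B = B * A) {u : Fˣ}
    (hu : sz u ∈ P) : u = 1 := by
  obtain ⟨π, hπ, e⟩ := hC.exists_proj
  have hi := U.index_comap_of_surjective hπ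
  have : (U.comap π).FiniteIndex := ⟨hi ▸ Subgroup.FiniteIndex.index_ne_zero⟩
  have := CL.Tr.pow_index_eq_one_of_mem_center_commutator (H := U.comap π) (z := ⟨_, hu⟩)
    ⟨⟨fun a b => Subtype.ext (Subtype.ext (hc _ a.2 _ b.2 _ a.1.2 _ b.1.2 (e _) (e _)))⟩⟩
    (Subgroup.mem_center_iff.2 fun g => Subtype.ext (sz_comm u g).eq.symm)
    ((QuotientGroup.eq_one_iff _).1 (map_eq_one_of_perfect hC.perf Abelianization.of _))
  refine eq_one_of_cube (hC.cube hu) (sz_injective ?_) hU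
  rw [map_pow, map_one, ← hi]
  exact congrArg Subtype.val this

theorem sz_eq_one_of_cyclic [Finite G] (U : Subgroup G) (hU : ¬ 3 ∣ U.index) [IsCyclic U] {u : Fˣ}
    (hu : sz u ∈ P) : u = 1 := by
  obtain ⟨c, hc⟩ := IsCyclic.exists_monoid_generator (α := U)
  obtain ⟨C, hC', e⟩ := hC.lift c
  have key : ∀ a ∈ U, ∀ A, ρ a = pm A → ∃ v n, A = sz v * C ^ n := fun a ha A h => by
    obtain ⟨n, hn⟩ := hc ⟨a, ha⟩
    obtain ⟨v, hv⟩ := exists_sz (A := A) (B := C ^ n) (by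
      rw [← h, map_pow, ← e, ← map_pow]; exact congrArg (fun x : U => ρ x) hn.symm)
    exact ⟨v, n, hv⟩
  refine hC.sz_eq_one U hU (fun a ha b hb A _ B _ h1 h2 => ?_) hu
  obtain ⟨v, n, rfl⟩ := key a ha A h1
  obtain ⟨w, m, rfl⟩ := key b hb B h2
  exact (sz_comm v _).mul_left ((sz_comm w _).symm.mul_right (Commute.pow_pow_self C n m))

theorem le_of_normal [IsSimpleGroup G] {T : Subgroup (GL (Fin 3) F)} (hT : NormBy P T)
    (hA : A ∈ T) (hA' : A ∈ P) (h1 : pm A ≠ 1) : P ≤ T := by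
  have hn : ((T.map pm).comap ρ).Normal := ⟨by
    rintro a ⟨B, hB, e⟩ c
    obtain ⟨C, hC', hc⟩ := hC.lift c
    exact ⟨_, hT C hC' B hB, by simp [hc, e]⟩⟩
  obtain ⟨g, hg⟩ := hC.proj A hA'
  have ht := hn.eq_bot_or_eq_top.resolve_left fun h => h1 (by
    rw [← hg, Subgroup.mem_bot.1 (h.le (⟨A, hA, hg.symm⟩ : g ∈ (T.map pm).comap ρ)), map_one])
  have key : ∀ B ∈ P, ∃ u, ∃ D ∈ T, B = sz u * D := fun B hB => by
    obtain ⟨b, hb⟩ := hC.proj B hB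
    obtain ⟨D, hD, e⟩ := ht.ge (Subgroup.mem_top b)
    obtain ⟨u, hu⟩ := exists_sz (hb.symm.trans e.symm)
    exact ⟨u, D, hD, hu⟩
  rw [← hC.perf, Subgroup.commutator_le]
  intro a ha b hb
  obtain ⟨u, a, ha', rfl⟩ := key a ha
  obtain ⟨v, b, hb', rfl⟩ := key b hb
  rw [commutatorElement_def, sz_mul_inv, sz_mul_inv, mul_assoc (sz u * a * _), ← mul_assoc (sz u * a),
    mul_assoc (sz u) a, ← (sz_comm v a).eq]
  have e : sz u * (sz v * a) * b * (sz u⁻¹ * a⁻¹ * (sz v⁻¹ * b⁻¹)) = a * b * a⁻¹ * b⁻¹ := by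
    rw [mul_assoc (sz u⁻¹), ← mul_assoc a⁻¹, ← (sz_comm v⁻¹ a⁻¹).eq, mul_assoc (sz u), mul_assoc (sz v),
      mul_assoc (sz u), ← mul_assoc _ (sz u⁻¹), ← (sz_comm u⁻¹ _).eq, mul_assoc (sz u⁻¹), map_inv,
      mul_inv_cancel_left, mul_assoc (sz v⁻¹), ← mul_assoc _ (sz v⁻¹), ← (sz_comm v⁻¹ _).eq, map_inv,
      inv_mul_cancel_left, mul_assoc (a * b)]
  rw [e]
  exact T.mul_mem (T.mul_mem (T.mul_mem ha' hb') (T.inv_mem ha')) (T.inv_mem hb')

theorem genTv [IsSimpleGroup G] (h0 : ∃ x φ, NT (TV P) x φ) : GenTv P := fun M hM => by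
  obtain ⟨x, φ, ⟨h1, A, hA, h2⟩, hx, hφ⟩ := h0
  let S : Set (GL (Fin 3) F) := {g | g ∈ P ∧ ∃ x φ, φ ⬝ᵥ x = 0 ∧ IsR g x φ}
  refine (hC.le_of_normal (T := Subgroup.closure S) (fun c hc => ?_)
    (Subgroup.subset_closure ⟨hA, x, φ, h1, h2⟩) hA fun e => ?_).trans
    ((Subgroup.closure_le _).2 fun g ⟨hg, x, φ, h1, h2⟩ => hM g hg x φ h1 h2)
  · refine (Subgroup.closure_le ((Subgroup.closure S).comap (MulAut.conj c).toMonoidHom)).2 ?_
    rintro g ⟨hg, x, φ, h1, h2⟩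
    exact Subgroup.subset_closure ⟨P.mul_mem (P.mul_mem hc hg) (P.inv_mem hc), _, _,
      by rw [dc_dot_ac, h1], h2.conj c⟩
  · exact (h2.eq_one_iff.1 (h2.eq_of_pm (isR_one x) (e.trans (map_one _).symm))).elim hx hφ

theorem tv_lf [Finite F] : TV (lf ρ) = TV P := by
  funext x φ
  refine propext ⟨fun ⟨h0, A, ⟨g, hg⟩, h⟩ => ⟨h0, ?_⟩, fun ⟨h0, A, hA, h⟩ => ⟨h0, A, hC.proj A hA, h⟩⟩
  obtain ⟨B, hB, e⟩ := hC.lift g
  obtain ⟨u, rfl⟩ := exists_sz (e.symm.trans hg)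
  obtain ⟨n, h1, h2⟩ := exists_pow_trick u.ne_zero
  refine ⟨_, P.pow_mem hB n, ?_⟩
  have := h.pow h0 n
  rw [h2, one_smul] at this
  rwa [sz_mul_pow, show u ^ n = 1 from Units.ext h1, map_one, one_mul]

theorem map {k : Type*} [Field k] (f : F →+* k) :
    Cv ((ProjGenLinGroup.map f).comp ρ) (P.map (GeneralLinearGroup.map f)) where
  inj := (injective_iff_map_eq_one _).2 fun g hg => by
    obtain ⟨A, -, e⟩ := hC.lift g
    rw [MonoidHom.comp_apply, e, ProjGenLinGroup.map_mk] at hg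
    obtain ⟨u, hu⟩ := exists_sz (hg.trans (map_one pm).symm)
    have h := fun i j => congrArg (fun A : GL (Fin 3) k => (A : Matrix (Fin 3) (Fin 3) k) i j) hu
    simp only [coe_sz_mul, GeneralLinearGroup.map_apply] at h
    refine hC.inj (e.trans ((pm_eq_one_iff_scalars.2 (mem_scalars'.2
      ⟨(A : Matrix (Fin 3) (Fin 3) F) 0 0, ?_⟩)).trans (map_one _).symm))
    ext i j
    refine f.injective ?_
    by_cases hij : i = j <;> simp [h, hij]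
  lift g := let ⟨A, hA, e⟩ := hC.lift g; ⟨_, ⟨A, hA, rfl⟩, by rw [MonoidHom.comp_apply, e]; rfl⟩
  proj := by
    rintro _ ⟨A, hA, rfl⟩
    obtain ⟨g, e⟩ := hC.proj A hA
    exact ⟨g, by rw [MonoidHom.comp_apply, e]; rfl⟩
  perf := by rw [← Subgroup.map_commutator, hC.perf]

end Cv

end CL.MH
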