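import Mathlib
import Cfsg.Prelude.Def_GeometricClasses
import Cfsg.Prelude.Def_Sz
import Cfsg.Prelude.Def_Sporadic
import Cfsg.Prelude.Def_Spor_Mathieu
import Cfsg.Agent.CLAS.AschGrp
import Cfsg.Agent.CLAS.AschSub
import Cfsg.Agent.CLAS.MHTrace
import Cfsg.Agent.CLAS.MHCov
import Cfsg.Agent.CLAS.Four6

/-!
# Quasisimple irreducible subgroups of `SL₅`: the vocabulary
-/

set_option autoImplicit false

namespace CL.Five

open Matrix Cfsg Cfsg.Geo CL.Asch
open scoped MatrixGroups commutatorElement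

abbrev V5 (k : Type*) := Fin 5 → k

abbrev M5 (k : Type*) := Matrix (Fin 5) (Fin 5) k

abbrev G5 (k : Type*) [Field k] := GL (Fin 5) k

variable {k : Type*} [Field k]

/-- `P` modulo scalars -/
abbrev Bar (P : Subgroup (G5 k)) := P ⧸ (scalars (Fin 5) k).subgroupOf P

/-- a finite quasisimple absolutely irreducible subgroup of `GL₅(k)` -/
structure Core (P : Subgroup (G5 k)) : Prop where
  fin : Finite P
  perfect : ⁅P, P⁆ = P
  simple : IsSimpleGroup (Bar P)
  nonabelian : ¬ IsMulCommutative (Bar P)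
  alg : alg P = ⊤

/-- `P` is realisable over no proper subfield -/
def NoSub (P : Subgroup (G5 k)) : Prop :=
  ∀ F₀ : Subfield k, F₀ ≠ ⊤ → ¬ RealisableOver F₀ (matrixSet P)

abbrev tr (A : G5 k) : k := (A : M5 k).trace

/-- `P` contains a transvection -/
def HasTv (P : Subgroup (G5 k)) : Prop :=
  ∃ g ∈ P, ∃ v φ : V5 k, v ≠ 0 ∧ φ ≠ 0 ∧ φ ⬝ᵥ v = 0 ∧ (g : M5 k) = 1 + vecMulVec v φ

/-- `P` contains the negative of a reflection -/
def HasRf (P : Subgroup (G5 k)) : Prop :=
  ∃ g ∈ P, ∃ v φ : V5 k, φ ⬝ᵥ v = 2 ∧ (g : M5 k) = vecMulVec v φ - 1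

/-- the character of `P` is real -/
def Ort (P : Subgroup (G5 k)) : Prop := ∀ A ∈ P, tr A⁻¹ = tr A

/-- the character has values `a + b θ`, `θ² + θ + c = 0`, and inversion acts as `θ ↦ -1 - θ` -/
def Quad (P : Subgroup (G5 k)) (c : ℤ) : Prop :=
  ∃ θ : k, θ ^ 2 + θ + c = 0 ∧
    ∀ A ∈ P, ∃ a b : ℤ, tr A = a + b * θ ∧ tr A⁻¹ = a + b * (-1 - θ)

/-- the character has values in the prime field -/
def Prm (P : Subgroup (G5 k)) : Prop := ∀ A ∈ P, ∃ a : ℤ, tr A = a

def IsL2 (G : Type*) [Group G] : Prop :=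
  ∃ (K : Type) (_ : Field K) (_ : Fintype K), Nonempty (G ≃* PSL(2, K))

def IsL3 (G : Type*) [Group G] : Prop :=
  ∃ (K : Type) (_ : Field K) (_ : Fintype K), Odd (Fintype.card K) ∧ Nonempty (G ≃* PSL(3, K))

def IsU3 (G : Type*) [Group G] (q : ℕ) : Prop :=
  ∃ (K : Type) (_ : Field K) (_ : Fintype K), Fintype.card K = q ^ 2 ∧ Nonempty (G ≃* PSU 3 K q)

def IsA7 (G : Type*) [Group G] : Prop := Nonempty (G ≃* alternatingGroup (Fin 7))

def IsL11 (G : Type*) [Group G] : Prop := Nonempty (G ≃* PSL(2, ZMod 11))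

def IsU42 (G : Type*) [Group G] : Prop :=
  ∃ (K : Type) (_ : Field K) (_ : Fintype K), Fintype.card K = 4 ∧ Nonempty (G ≃* PSU 4 K 2)

/-- the list in characteristic two -/
def ListE (G : Type*) [Group G] : Prop :=
  IsL2 G ∨ IsA7 G ∨ Lie.IsoSuzuki G ∨ ∃ q, Even q ∧ 4 ≤ q ∧ IsU3 G q

/-- the list in odd characteristic without reflections -/
def ListO (G : Type*) [Group G] : Prop :=
  IsL2 G ∨ IsL3 G ∨ (∃ q, Odd q ∧ IsU3 G q) ∨ IsU3 G 4 ∨ IsA7 G ∨ IsM11 G

theorem core_of [Finite k] {H P : Subgroup (G5 k)} (h : IsResidualCore H P) : Core P :=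
  ⟨inferInstance, h.perfect, h.simple, h.nonabelian, CL.Four.alg_eq_top4 h.absIrred⟩

theorem tr_conj {A B : G5 k} (h : IsConj A B) : tr A = tr B := by
  obtain ⟨c, rfl⟩ := isConj_iff.1 h
  rw [tr, tr, Units.val_mul, Units.val_mul, trace_mul_cycle, Units.inv_mul, one_mul]

namespace Core

variable {P : Subgroup (G5 k)} (C : Core P) {A : G5 k}
include C

theorem irr : Irr P := irr_of_alg_top C.alg

theorem det (hA : A ∈ P) : (A : M5 k).det = 1 := by
  have h : GeneralLinearGroup.det A = 1 := MH.map_eq_one_of_perfect C.perfect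
    (GeneralLinearGroup.det.comp P.subtype) ⟨A, hA⟩
  rw [← GeneralLinearGroup.val_det_apply, h, Units.val_one]

/-- scalars in `P` are fifth roots of unity -/
theorem pow_five {c : k} (hA : A ∈ P) (h : (A : M5 k) = c • (1 : M5 k)) : c ^ 5 = 1 := by
  simpa [h] using C.det hA

theorem scalar_pow (hA : A ∈ P) (h : A ∈ scalars (Fin 5) k) : A ^ 5 = 1 := by
  obtain ⟨c, hc⟩ := mem_scalars'.1 h
  ext1
  rw [Units.val_pow_eq_pow_val, hc, smul_pow, C.pow_five hA hc, one_pow, one_smul, Units.val_one]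

/-- an element commuting with `P` is a scalar -/
theorem scalar_of_comm (h : ∀ x ∈ P, A * x = x * A) : A ∈ scalars (Fin 5) k :=
  mem_scalars'.2 (scalar_of_alg_top C.alg _ fun x hx => congrArg Units.val (h x hx))

/-- a subgroup normalised by `P` and containing a non-scalar element of `P` contains `P` -/
theorem le_of_normal {T : Subgroup (G5 k)} (hT : NormBy P T) (h1 : A ∈ T) (h2 : A ∈ P)
    (h3 : A ∉ scalars (Fin 5) k) : P ≤ T := by
  have := C.simple
  let π := QuotientGroup.mk' ((scalars (Fin 5) k).subgroupOf P)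
  have hn : (T.subgroupOf P).Normal := ⟨fun x hx g => hT _ g.2 _ hx⟩
  rcases (hn.map π (QuotientGroup.mk'_surjective _)).eq_bot_or_eq_top with e | e
  · exact absurd ((QuotientGroup.eq_one_iff (⟨A, h2⟩ : P)).1
      (e.le (Subgroup.mem_map_of_mem π (show (⟨A, h2⟩ : P) ∈ T.subgroupOf P from h1)))) h3
  · have key : ∀ x ∈ P, ∃ t ∈ T, ∃ z ∈ scalars (Fin 5) k, x = t * z := fun x hx => by
      obtain ⟨t, ht, e'⟩ := e.ge (Subgroup.mem_top (π ⟨x, hx⟩))
      have e'' : t⁻¹ * ⟨x, hx⟩ ∈ (scalars (Fin 5) k).subgroupOf P :=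
        QuotientGroup.eq.1 (show (t : Bar P) = ((⟨x, hx⟩ : P) : Bar P) from e')
      exact ⟨t, ht, _, e'', by simp⟩
    rw [← C.perfect, Subgroup.commutator_le]
    intro a ha b hb
    obtain ⟨t, ht, z, hz, rfl⟩ := key a ha
    obtain ⟨t', ht', z', hz', rfl⟩ := key b hb
    have : ⁅t * z, t' * z'⁆ = ⁅t, t'⁆ := by
      have h1 := scalars_comm hz
      have h2 := scalars_comm hz'
      calc _ = t * (z * (t' * z')) * z⁻¹ * t⁻¹ * (z'⁻¹ * t'⁻¹) := by
            rw [commutatorElement_def]; group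
        _ = t * t' * (z' * t⁻¹) * (z'⁻¹ * t'⁻¹) := by rw [h1]; group
        _ = _ := by rw [h2, commutatorElement_def]; group
    rw [this, commutatorElement_def]
    exact T.mul_mem (T.mul_mem (T.mul_mem ht ht') (T.inv_mem ht)) (T.inv_mem ht')

end Core

section Map

variable {K : Type*} [Field K] (f : k →+* K) {P : Subgroup (G5 k)}

/-- extension of scalars -/
abbrev ext (P : Subgroup (G5 k)) : Subgroup (G5 K) := P.map (GeneralLinearGroup.map f)

theorem map_inj : Function.Injective (GeneralLinearGroup.map (n := Fin 5) f) := fun A B h => by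
  ext i j
  exact f.injective (congrArg (fun X : G5 K => (X : M5 K) i j) h)

theorem map_mem_scalars {A : G5 k} :
    GeneralLinearGroup.map f A ∈ scalars (Fin 5) K ↔ A ∈ scalars (Fin 5) k := by
  rw [mem_scalars', mem_scalars']
  constructor
  · rintro ⟨c, hc⟩
    have h := fun i j => congrFun (congrFun hc i) j
    simp only [GeneralLinearGroup.map_apply] at h
    refine ⟨(A : M5 k) 0 0, ?_⟩
    ext i j
    refine f.injective ?_
    by_cases hij : i = j <;> simp [h, hij]
  · rintro ⟨c, hc⟩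
    refine ⟨f c, ?_⟩
    ext i j
    by_cases hij : i = j <;> simp [GeneralLinearGroup.map_apply, hc, hij]

/-- `P` modulo scalars does not change under extension of scalars -/
noncomputable def barExt (P : Subgroup (G5 k)) : Bar P ≃* Bar (ext f P) :=
  QuotientGroup.congr _ _ (P.equivMapOfInjective _ (map_inj f)) (by
    ext ⟨_, A, hA, rfl⟩
    constructor
    · rintro ⟨B, hB, e⟩
      have : GeneralLinearGroup.map f B = GeneralLinearGroup.map f A := congrArg Subtype.val e
      have h := (map_mem_scalars f (A := B)).2 hB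
      rw [this] at h
      exact h
    · exact fun h => ⟨⟨A, hA⟩, (map_mem_scalars f).1 h, rfl⟩)

theorem tr_map (A : G5 k) : tr (GeneralLinearGroup.map f A) = f (tr A) := by
  simp [tr, trace]

theorem Core.ext (C : Core P) : Core (ext f P) where
  fin := have := C.fin; Finite.of_equiv _ (P.equivMapOfInjective _ (map_inj f)).toEquiv
  perfect := by rw [← Subgroup.map_commutator, C.perfect]
  simple := have := C.simple; (barExt f P).symm.isSimpleGroup
  nonabelian h := C.nonabelian ⟨⟨fun a b => (barExt f P).injective (by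
    rw [map_mul, map_mul, h.is_comm.comm])⟩⟩
  alg := by
    have h : ∀ y : M5 k, y.map f ∈ Asch.alg (Five.ext f P) := fun y => by
      let W : Submodule k (M5 k) :=
        { carrier := {y | y.map f ∈ Asch.alg (Five.ext f P)}
          add_mem' := fun {a b} ha hb => by
            simpa only [Set.mem_ofPred_eq, Matrix.map_add _ (map_add f)] using add_mem ha hb
          zero_mem' := by simp
          smul_mem' := fun c a ha => by
            have e : (c • a).map f = f c • a.map f := by ext i j; simp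
            rw [Set.mem_ofPred_eq, e]
            exact Subalgebra.smul_mem _ ha (f c) }
      exact alg_le_submodule (W := W) (fun x hx => mem_alg (Subgroup.mem_map_of_mem _ hx)) y
        (by rw [C.alg]; trivial)
    refine top_unique fun y _ => ?_
    rw [matrix_eq_sum_single y]
    refine sum_mem fun i _ => sum_mem fun j _ => ?_
    have := Subalgebra.smul_mem _ (h (single i j 1)) (y i j)
    rwa [map_single, map_one, smul_single, smul_eq_mul, mul_one] at this

theorem ort_ext : Ort (ext f P) ↔ Ort P := by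
  refine ⟨fun h A hA => f.injective ?_, ?_⟩
  · rw [← tr_map, ← tr_map, map_inv]; exact h _ (Subgroup.mem_map_of_mem _ hA)
  · rintro h _ ⟨A, hA, rfl⟩
    rw [← map_inv, tr_map, tr_map, h A hA]

theorem HasTv.of_ext (h : HasTv (ext f P)) : HasTv P := by
  obtain ⟨_, ⟨g, hg, rfl⟩, v, φ, hv, hφ, h0, e⟩ := h
  have e' : ∀ i j, f (((g : M5 k) - 1 : M5 k) i j) = v i * φ j := fun i j => by
    have := congrFun (congrFun e i) j
    rw [GeneralLinearGroup.map_apply, Matrix.add_apply, vecMulVec_apply] at this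
    rw [Matrix.sub_apply, map_sub, this]
    by_cases hij : i = j <;> simp [hij, one_apply]
  obtain ⟨a, ha⟩ := Function.ne_iff.1 hv
  obtain ⟨b, hb⟩ := Function.ne_iff.1 hφ
  set N : M5 k := (g : M5 k) - 1 with hN
  have hab : N a b ≠ 0 := fun h => mul_ne_zero ha hb (by rw [← e', h, map_zero])
  have hf : f (N a b) ≠ 0 := (map_ne_zero f).2 hab
  refine ⟨g, hg, fun i => N i b, fun j => N a j / N a b, fun h => hab (congrFun h a),
    fun h => by simpa [hab] using congrFun h b, f.injective ?_, ?_⟩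
  · rw [dotProduct] at h0 ⊢
    simp only [map_sum, map_mul, map_div₀, e', map_zero]
    have : ∀ i, v a * φ i / (v a * φ b) * (v i * φ b) = φ i * v i := fun i => by
      have : v a ≠ 0 := ha
      have : φ b ≠ 0 := hb
      field_simp
    simp only [this, h0]
  · rw [← sub_eq_iff_eq_add', ← hN]
    ext i j
    refine f.injective ?_
    have : v a ≠ 0 := ha
    have : φ b ≠ 0 := hb
    rw [vecMulVec_apply, map_mul, map_div₀, e', e', e', e']
    field_simp

end Map

end CL.Five
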