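import Cfsg.Agent.CLAS.FiveRA
import Cfsg.Agent.CLAS.FiveRH
import Cfsg.Agent.CLAS.FiveRB3

/-!
# Block RB: frames exist
-/

set_option autoImplicit false
set_option linter.unusedSectionVars false

namespace CL.FR

open Module

variable {k W G : Type*} [Field k] [AddCommGroup W] [Module k W] [Group G] [DistribMulAction G W]
  [SMulCommClass G k W] [Finite G] [IsAlgClosed k]

theorem RB.Nf.false (p : ℕ) [Fact p.Prime] [CharP k p] (c : Ctx k W G) {S : Sylow 2 G}
    {t s e : Rt k W G} {i j : G} (N : RB.Nf S t s e i j) : False := by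
  obtain ⟨h, h1, hx, xi, hz⟩ := N.exists_h c
  have px := N.u.pi.conj c h
  have nx := (N.nr c).conj h
  have is := (N.u.symm c).fix_j c N.hs
  have hj : h * j * h⁻¹ = h * i * h⁻¹ * t.g := by
    rw [← N.u.it' c, mul_assoc _ h⁻¹, (Commute.inv_left h1).eq]; group
  have xw : (h * i * h⁻¹) • (s.conj h).v = (s.conj h).v := by rw [Rt.conj_v, conj_smul, is]
  have zi : h⁻¹ * i * h ≠ i := fun e => xi (by conv_lhs => rw [← e]
                                               group)
  have iw : i • (s.conj h).v = h • (h⁻¹ * i * h) • s.v := by simp [mul_smul]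
  have pz : Pl k W (h⁻¹ * i * h) := by simpa using N.u.pi.conj c h⁻¹
  have nz : RB.NR k W (h⁻¹ * i * h) := by simpa using (N.nr c).conj h⁻¹
  have nt : ¬ RB.NR k W (h * i * h⁻¹ * t.g) := fun e =>
    N.not_nr_j c (RB.NR.of_conj h (hj ▸ e))
  generalize h * i * h⁻¹ = x at hx px nx xi xw nt
  generalize h⁻¹ * i * h = z at hz pz nz zi iw
  obtain ⟨u, v, y, ρ, B, hd, xu, xv, hy, ny, e1, hρ, n1, n2⟩ := N.exists_rho c hx px nx xi nt
  have dg : ∀ σ : Rt k W G, σ.g ∈ S → j • σ.v = -σ.v → RB.Dg2 k σ.g u v := fun σ h2 h3 =>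
    (hd _ h2).resolve_right (N.not_swap c hx px nx xi B xu xv hy ny e1 hρ n1 h2 h3)
  have cm : ∀ σ : Rt k W G, σ.g ∈ S → j • σ.v = -σ.v → ∀ g ∈ S, RB.Dg2 k g u v →
      g * σ.g = σ.g * g := fun σ h2 h3 g hg ⟨a, b, q1, q2⟩ => by
    obtain ⟨a', b', q3, q4⟩ := dg σ h2 h3
    refine RB.ext2 c N.u.pj B (fun w hw => ?_) ?_ ?_
    · rw [mul_smul, mul_smul, σ.perp (RB.phi_fix c h3 hw), smul_neg,
        σ.perp (RB.phi_fix c h3 (RB.fix_comm (N.cj c hg) hw))]
    · rw [mul_smul, mul_smul, q1, q3, smul_sm, smul_sm, q1, q3, smul_comm]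
    · rw [mul_smul, mul_smul, q2, q4, smul_sm, smul_sm, q2, q4, smul_comm]
  have rt : ∀ σ : Rt k W G, σ.g ∈ S → j • σ.v = -σ.v → σ.g = s.g ∨ σ.g = e.g := fun σ h2 h3 =>
    N.u.pj.root_eq c N.hs N.he N.se h3 (cm σ h2 h3 _ N.sS (dg s N.sS N.hs))
  have sw : ∀ x ∈ S, Pl k W x → RB.NR k W x → x ≠ i → (s.conj x).g = e.g := fun x hx px nx xi =>
    (rt (s.conj x) (mul_mem (mul_mem hx N.sS) (inv_mem hx)) (RB.neg_comm (N.cj c hx) N.hs)).resolve_left
      fun e => N.x_root c hx px nx xi N.hs (mul_inv_eq_iff_eq_mul.1 e)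
  obtain ⟨a, a0, xs, -⟩ := Rt.line_of_eq c (sw x hx px nx xi)
  obtain ⟨b, -, zs, -⟩ := Rt.line_of_eq c (sw z hz pz nz zi)
  rw [Rt.conj_v] at xs zs
  have xe : x • e.v = a⁻¹ • s.v := by
    rw [← RB.eig_inv a0 xs, px.inv c]
  have tw : t.φ (s.conj h).v = 0 := by
    obtain ⟨d, hd⟩ := (Rt.comm_iff c).1 h1
    rw [Rt.conj_v, Rt.φ_smul c hd, (N.u.symm c).perp c N.hs, mul_zero]
  have ww : (s.conj h).φ (i • (s.conj h).v) = 0 := by
    rw [iw, zs, Rt.conj_φ, inv_smul_smul, map_smul, N.se, smul_zero]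
  generalize s.conj h = w at xw tw ww
  have m1 : mu s w = 1 := by
    have f1 : i • (w.v + i • w.v) = w.v + i • w.v := by
      rw [smul_add, ← mul_smul, N.u.pi.1, one_smul, add_comm]
    have f2 := N.u.neg_j c f1 (by
      rw [map_add, Rt.φ_smul c (a := 1) (N.u.it.trans (one_smul k _).symm), tw]; simp)
    have f3 : x • (w.v + i • w.v) = w.v + i • w.v := by
      rw [smul_add, ← mul_smul, N.ci c hx, mul_smul, xw]
    have f4 : s.φ (w.v + i • w.v) / 2 = s.φ w.v := by
      rw [map_add, Rt.φ_smul c (a := 1) (is.trans (one_smul k _).symm)]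
      have := c.two; field_simp; ring
    have f5 : w.φ (w.v + i • w.v) = 2 := by rw [map_add, ww, w.two, add_zero]
    have f6 := N.u.pj.exp c N.hs N.he N.se f2
    rw [f4] at f6
    generalize e.φ (w.v + i • w.v) / 2 = β at f6
    rw [f6] at f3 f5
    have f7 := congrArg e.φ f3
    simp only [smul_add, smul_sm, xs, xe, map_add, map_smul, e.two, Rt.symm c N.se, smul_eq_mul,
      mul_zero, add_zero, zero_add] at f7
    have f8 := Rt.φ_smul c (a := 1) (xw.trans (one_smul k _).symm) s.v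
    rw [xs, map_smul, smul_eq_mul, one_mul] at f8
    simp only [map_add, map_smul, smul_eq_mul] at f5
    have f9 : β = s.φ w.v * a := mul_right_cancel₀ c.two (by linear_combination -f7)
    rw [mu]
    exact mul_left_cancel₀ c.two (by rw [f9] at f5; linear_combination f5 - s.φ w.v * f8)
  have xw' : x * w.g = w.g * x := (Rt.comm_iff c).2 ⟨1, by rw [xw, one_smul]⟩
  have m2 : mu e w = 1 := by
    rw [mu_congr c (sw x hx px nx xi).symm, mu_symm,
      ← mu_congr c (a := w) (a' := w.conj x) (mul_inv_eq_iff_eq_mul.2 xw'), mu_conj, mu_symm, m1]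
  obtain ⟨g, g1, g2⟩ := N.u.extr c e (Q := (S : Subgroup G) ⊓ Subgroup.centralizer {e.g})
    S.isPGroup'.to_inf_left fun x hx => Subgroup.mem_centralizer_singleton_iff.1 hx.2
  have g3 : (s.conj g).g ∈ S := g2 _ ⟨N.sS, Subgroup.mem_centralizer_singleton_iff.2
    (Rt.comm_of_perp c N.se)⟩
  have g4 := N.root c g3 fun e => Rt.ne_of_perp c N.se (by simpa using e.trans g1.symm)
  have dρ : RB.Dg2 k ρ u v := by
    obtain ⟨α, β, -, q⟩ := hρ.2.2; exact ⟨α, β, q⟩
  obtain ⟨γ, r1⟩ := (Rt.comm_iff c).1 (cm s N.sS N.hs ρ hρ.1 dρ)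
  obtain ⟨δ, r2⟩ := (Rt.comm_iff c).1 (cm e (N.eS c) N.he ρ hρ.1 dρ)
  obtain ⟨d, d0, d1, d2⟩ := Rt.line_of_eq c (s := e.conj g) (r := t) g1
  have hγ := homology p c (t := t) (y := s.conj g) (w := w) ((N.u.symm c).perp c g4) tw
    (by rcases rt _ g3 g4 with e | e <;> rw [mu_congr c e] <;> assumption)
    (fun e => N.x_root c hx px nx xi g4 (e ▸ xw')) (g := g * ρ * g⁻¹) (γ := γ) (δ := δ)
    (by
      have : t.v = d⁻¹ • g • e.v := by
        rw [← Rt.conj_v, d1, smul_smul, inv_mul_cancel₀ d0, one_smul]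
      rw [this, smul_sm, conj_smul, r2, smul_sm, smul_comm])
    (by rw [Rt.conj_v, conj_smul, r1, smul_sm])
    fun w q1 q2 => by
      rw [d2] at q1
      rw [mul_smul, mul_smul, hρ.2.1 (g⁻¹ • w) ((N.u.pj.fix_iff c N.hs N.he N.se).2
        ⟨q2, (mul_eq_zero.1 q1).resolve_left d0⟩), smul_inv_smul]
  have δ0 := RB.eig_ne (e.ne c) r2
  have r3 := congrArg (· • s.v) (N.x_inv c hx px nx xi B xu xv hρ)
  simp only [mul_smul, xs, r1, smul_sm, RB.eig_inv δ0 r2] at r3
  rw [smul_smul, smul_smul] at r3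
  have r4 : δ⁻¹ = γ := mul_left_cancel₀ a0 (by
    rw [smul_left_injective k (e.ne c) r3, mul_comm])
  refine n2 (RB.ext2 c N.u.pj ⟨N.hs, N.he, fun _ _ => Rt.li c N.se⟩
    (fun w hw => by rw [mul_smul, hρ.2.1 w hw, hρ.2.1 w hw, one_smul]) ?_ ?_)
  · rw [mul_smul, r1, smul_sm, r1, smul_smul, ← pow_two, hγ, one_smul, one_smul]
  · rw [mul_smul, r2, smul_sm, r2, smul_smul, ← pow_two, ← inv_inv δ, r4, inv_pow, hγ, inv_one,
      one_smul, one_smul]

/-- Port of `Sp4O4`. Take `Su S t i j`; `c.zs` and `Su.extr` give a second root of `S`; if both planes contain roots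
of `S`, `Pl.root`, `Su.cross`, `fr_of` give a frame. Otherwise (`Su.symm`) a root `s` of `S` lies in `Π_j`, `e = s * j`
is its partner; assume there is no frame. (1) No root `r` of `G` has `i • r.v = -r.v` (else `r, r * i, t, s, e`:
roots fixed by `i` are orthogonal to roots negated by `i`); the same for every conjugate of `i` (class `I`), while
conjugates of `j` (class `J`) do negate a root, so `I ≠ J`. (2) `i, j` are central in `S`. (3) `C(i)` is transitive on
the roots fixed by `i` (conjugate `⟨i, r⟩` into `S` by `Su.extr`, Burnside-type argument as `Sp4O.cen_trans`).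
(4) `c.zs` gives `x = h * i * h⁻¹ ∈ S`, `x ≠ i`, `h ∈ C(t.g)`; `x` fixes `t.v` and is a reflection on both planes
(lines `ℓ_i, ℓ_j` negated, `ℓ_i', ℓ_j'` fixed, none of them a root centre); `x * t.g = h * j * h⁻¹ ∈ J`.
`x` commutes with no root of `S` in `Π_j`; in the dihedral `2`-group `⟨x, s.g⟩` we get `x ∼ x * j`, and by symmetry in
`i, x` also `x * i = (x * j) * t.g ∈ J`. (5) `S` fixes no line of `Π_i` (`line_root`), so some `x' = a * x * a⁻¹`, `a ∈ S`, is
`-x` on `Π_i` (dihedral group generated by `x` and a conjugate, acting on `Π_i`). Then `ρ' = i * x * x'` is trivial on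
`t` and `Π_i`, `x * ρ' = i * x' ∈ J`, so `ρ' ≠ 1, j`, and `ρ'` is diagonal, `(γ, γ⁻¹)`, `γ ^ 2 ≠ 1`, for two lines
`u, u'` of `Π_j` interchanged by `x`; these lines are permuted by `S`-elements normalising `⟨ρ'⟩`; take the cyclic
`2`-group `R = ⟨ρ₀⟩` of all elements of `S` trivial on `t, Π_i` and diagonal for `u, u'`: `x * ρ₀ ^ m ∈ I` for even `m`, so
`ρ'` is an odd power and `x * ρ₀ ^ m ∈ J` is conjugate to `i * x'` for odd `m`. The image of `S` in `PGL(Π_j)` is a dihedral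
`2`-group in which `x` is not central, so every root `σ` of `S` in `Π_j` either interchanges `u, u'` or fixes both.
(6) If `σ` interchanges them, `(x * σ) ^ 2 ∈ R` and `σ x σ = x * (x σ) ^ (∓2) ∈ I` forces an even power `ρ₀ ^ (2 m)`, so
`x * ρ₀ ^ (± m) = ± σ` on `Π_j`, and a root centre is an eigenline of a conjugate of `x` or `x'` in `Π_j`: impossible.
(7) Otherwise the roots of `S` are `t, s, e` with `{u, u'} = {s, e}`; an element conjugating `e` to `t` and
`⟨t, s, e⟩` into `S` permutes `{t, s, e}`, `x` interchanges `s, e`, so `diag (γ^{∓1}, γ^{±1})` on `(t, s)` is in `G`; the root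
`w = s.conj h` is orthogonal to `t`, lies in the plane `ℓ_i' + ℓ_j'` where `i` interchanges it with `e.conj h`, so
`mu s w = 1`, contradicting `homology`. -/
theorem exists_fr (p : ℕ) [Fact p.Prime] [CharP k p] (c : Ctx k W G) (u : Rt k W G) :
    ∃ e : Fin 5 → Rt k W G, Fr e := by
  by_contra H
  obtain ⟨S⟩ : Nonempty (Sylow 2 G) := inferInstance
  obtain ⟨t, i, j, su⟩ := exists_su c S u
  obtain ⟨g, h1, h2⟩ := RA.zstar c S (t.sq c) (t.ne_one c) su.cen
  have key : ∀ {i j : G}, Su S t i j → j • (t.conj g).v ≠ -(t.conj g).v := fun su h => by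
    obtain ⟨e, q1, q2, q3⟩ := su.pj.root c h
    exact RB.Nf.false p c ⟨su, h1, h, q2, q1, q3, H⟩
  rcases su.root c (r := t.conj g) h1 with h | h | h
  · exact h2 h
  · exact key (su.symm c) h
  · exact key su h

end CL.FR
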