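import Cfsg.Agent.CLAS.FiveRM1
import Cfsg.Agent.SYL.P4Con

/-!
# Rotations of the two planes: the model of the Sylow 2-subgroup and the bound for its order
-/

set_option autoImplicit false
set_option linter.unusedSectionVars false

namespace CL.FR

open Module

variable {k W G : Type*} [Field k] [AddCommGroup W] [Module k W] [Group G] [DistribMulAction G W]
  [SMulCommClass G k W]

/-- the sum of two members of a frame -/
def vp (e : Fin 5 → Rt k W G) (a b : Fin 5) : W := (e a).v + (e b).v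

/-- the difference of two members of a frame -/
def vm (e : Fin 5 → Rt k W G) (a b : Fin 5) : W := (e a).v - (e b).v

/-- diagonal for the basis `e 0, e 1 ± e 2, e 3 ± e 4` -/
structure Dn (e : Fin 5 → Rt k W G) (g : G) (χ α α' β β' : k) : Prop where
  h0 : g • (e 0).v = χ • (e 0).v
  h1 : g • vp e 1 2 = α • vp e 1 2
  h2 : g • vm e 1 2 = α' • vm e 1 2
  h3 : g • vp e 3 4 = β • vp e 3 4
  h4 : g • vm e 3 4 = β' • vm e 3 4

/-- interchanges the two planes -/
structure Sw (e : Fin 5 → Rt k W G) (g : G) : Prop where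
  h0 : g • (e 0).v = (e 0).v
  h1 : g • (e 1).v = (e 3).v
  h2 : g • (e 2).v = (e 4).v
  h3 : g • (e 3).v = (e 1).v
  h4 : g • (e 4).v = (e 2).v

/-- the frame with the two planes interchanged -/
def sw (e : Fin 5 → Rt k W G) : Fin 5 → Rt k W G := e ∘ ![0, 3, 4, 1, 2]

variable (c : Ctx k W G) {e : Fin 5 → Rt k W G} {g h π : G} {χ α α' β β' χ₁ α₁ α₁' β₁ β₁' : k} {w : W}

theorem Fr.sw (f : Fr e) : Fr (sw e) := f.comp (by decide)

theorem Sw.sw (p : Sw e π) : Sw (sw e) π := ⟨p.h0, p.h3, p.h4, p.h1, p.h2⟩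

theorem Dn.sw (p : Dn e g χ α α' β β') : Dn (sw e) g χ β β' α α' := ⟨p.h0, p.h3, p.h4, p.h1, p.h2⟩

theorem Dn.of_sw (p : Dn (FR.sw e) g χ β β' α α') : Dn e g χ α α' β β' := ⟨p.h0, p.h3, p.h4, p.h1, p.h2⟩

theorem Dn.congr (p : Dn e g χ α α' β β') (h0 : χ = χ₁) (h1 : α = α₁) (h2 : α' = α₁') (h3 : β = β₁)
    (h4 : β' = β₁') : Dn e g χ₁ α₁ α₁' β₁ β₁' := by subst h0 h1 h2 h3 h4; exact p

theorem Dn.one : Dn e 1 1 1 1 1 1 := by constructor <;> simp

theorem Dn.mul (p : Dn e g χ α α' β β') (q : Dn e h χ₁ α₁ α₁' β₁ β₁') :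
    Dn e (g * h) (χ * χ₁) (α * α₁) (α' * α₁') (β * β₁) (β' * β₁') := by
  constructor <;> simp only [mul_smul g, p.h0, p.h1, p.h2, p.h3, p.h4, q.h0, q.h1, q.h2, q.h3, q.h4, smul_sm] <;>
    rw [smul_smul, mul_comm]

theorem Dn.pow (p : Dn e g χ α α' β β') (n : ℕ) : Dn e (g ^ n) (χ ^ n) (α ^ n) (α' ^ n) (β ^ n) (β' ^ n) := by
  induction n with
  | zero => simpa using Dn.one
  | succ n ih => simpa only [pow_succ] using ih.mul p

theorem Sw.vp (p : Sw e π) : π • vp e 1 2 = vp e 3 4 := by simp [FR.vp, p.h1, p.h2]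
theorem Sw.vm (p : Sw e π) : π • vm e 1 2 = vm e 3 4 := by simp [FR.vm, smul_sub, p.h1, p.h2]
theorem Sw.vp' (p : Sw e π) : π • FR.vp e 3 4 = FR.vp e 1 2 := p.sw.vp
theorem Sw.vm' (p : Sw e π) : π • FR.vm e 3 4 = FR.vm e 1 2 := p.sw.vm

theorem Dn.swap (p : Dn e g χ α α' β β') (q : Sw e π) : Dn e (π * g * π) χ β β' α α' := by
  constructor <;> simp only [mul_smul, q.h0, q.vp, q.vm, q.vp', q.vm', p.h0, p.h1, p.h2, p.h3, p.h4, smul_sm]

namespace Fr

variable (f : Fr e)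
include f

theorem act_vp {a b : Fin 5} (hab : a ≠ b) (x : Fin 5) :
    (e x).g • vp e a b = if x = a then vm e a b else if x = b then -vm e a b else -vp e a b := by
  simp only [vp, vm, smul_add, f.act]
  split_ifs <;> first | abel1 | simp_all

theorem act_vm {a b : Fin 5} (hab : a ≠ b) (x : Fin 5) :
    (e x).g • vm e a b = if x = a then vp e a b else if x = b then -vp e a b else -vm e a b := by
  simp only [vp, vm, smul_sub, f.act]
  split_ifs <;> first | abel1 | simp_all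

theorem refl1 (p : Dn e g χ α α' β β') : Dn e ((e 1).g * g * (e 1).g) χ α' α β β' := by
  constructor <;> simp [mul_smul, f.act, f.act_vp, f.act_vm, p.h0, p.h1, p.h2, p.h3, p.h4, smul_sm]

theorem refl3 (p : Dn e g χ α α' β β') : Dn e ((e 3).g * g * (e 3).g) χ α α' β' β := (f.sw.refl1 p.sw).of_sw

theorem dn12 : Dn e ((e 1).g * (e 2).g) 1 (-1) (-1) 1 1 := by
  constructor <;> simp [mul_smul, f.act, f.act_vp, f.act_vm]

theorem dn34 : Dn e ((e 3).g * (e 4).g) 1 1 1 (-1) (-1) := f.sw.dn12.of_sw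

include c

theorem li' : LinearIndependent k ![(e 0).v, vp e 1 2, vm e 1 2, vp e 3 4, vm e 3 4] :=
  Fintype.linearIndependent_iff.2 fun x hx => by
    have h := fun a => congrArg (e a).φ hx
    have h0 := h 0
    have h1 := h 1
    have h2 := h 2
    have h3 := h 3
    have h4 := h 4
    have two := c.two
    have four : (4 : k) ≠ 0 := by rw [show (4 : k) = 2 * 2 by norm_num]; exact mul_ne_zero two two
    simp [Fin.sum_univ_succ, vp, vm, f.φ_eq, two] at h0 h1 h2 h3 h4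
    intro a
    fin_cases a
    exacts [h0, (mul_eq_zero.1 (by linear_combination h1 + h2 : 4 * x 1 = 0)).resolve_left four,
      (mul_eq_zero.1 (by linear_combination h1 - h2 : 4 * x 2 = 0)).resolve_left four,
      (mul_eq_zero.1 (by linear_combination h3 + h4 : 4 * x 3 = 0)).resolve_left four,
      (mul_eq_zero.1 (by linear_combination h3 - h4 : 4 * x 4 = 0)).resolve_left four]

/-- the basis `e 0, e 1 ± e 2, e 3 ± e 4` -/
noncomputable def nb : Basis (Fin 5) k W :=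
  basisOfLinearIndependentOfCardEqFinrank (f.li' c) (by simp [c.dim])

theorem nb_apply : ⇑(f.nb c) = ![(e 0).v, vp e 1 2, vm e 1 2, vp e 3 4, vm e 3 4] := by simp [nb]

theorem ext' (h0 : g • (e 0).v = h • (e 0).v) (h1 : g • vp e 1 2 = h • vp e 1 2)
    (h2 : g • vm e 1 2 = h • vm e 1 2) (h3 : g • vp e 3 4 = h • vp e 3 4) (h4 : g • vm e 3 4 = h • vm e 3 4) :
    g = h := c.ext fun w => LinearMap.congr_fun ((f.nb c).ext (f₁ := DistribSMul.toLinearMap k W g)
      (f₂ := DistribSMul.toLinearMap k W h) fun a => by rw [nb_apply]; fin_cases a <;> assumption) w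

theorem exp' (w : W) : ∃ x y y' z z' : k,
    w = x • (e 0).v + y • vp e 1 2 + y' • vm e 1 2 + z • vp e 3 4 + z' • vm e 3 4 :=
  ⟨_, _, _, _, _, by simpa [nb_apply, Fin.sum_univ_succ, add_assoc] using ((f.nb c).sum_repr w).symm⟩

theorem coef {x y y' z z' : k}
    (h : x • (e 0).v + y • vp e 1 2 + y' • vm e 1 2 + z • vp e 3 4 + z' • vm e 3 4 = 0) :
    x = 0 ∧ y = 0 ∧ y' = 0 ∧ z = 0 ∧ z' = 0 := by
  have := Fintype.linearIndependent_iff.1 (f.li' c) ![x, y, y', z, z'] (by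
    simpa [Fin.sum_univ_succ, add_assoc] using h)
  exact ⟨this 0, this 1, this 2, this 3, this 4⟩

theorem vp_ne : vp e 1 2 ≠ 0 := (f.li' c).ne_zero 1
theorem vm_ne : vm e 1 2 ≠ 0 := (f.li' c).ne_zero 2

theorem dn_det (p : Dn e g χ α α' β β') : χ * α * α' * β * β' = 1 := by
  have := c.det_eq (f.nb c) g (Matrix.diagonal ![χ, α, α', β, β']) fun a => by
    rw [Finset.sum_eq_single a (fun x _ hx => by simp [Matrix.diagonal_apply_ne _ hx]) (by simp), nb_apply]
    fin_cases a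
    exacts [p.h0, p.h1, p.h2, p.h3, p.h4]
  simpa [Fin.prod_univ_succ, mul_assoc] using this

theorem dn_ne (p : Dn e g χ α α' β β') : χ ≠ 0 ∧ α ≠ 0 ∧ α' ≠ 0 ∧ β ≠ 0 ∧ β' ≠ 0 := by
  have := ne_zero_of_eq_one (f.dn_det c p)
  simpa only [mul_ne_zero_iff, and_assoc] using this

theorem dn_eq (p : Dn e g χ α α' β β') (q : Dn e h χ α α' β β') : g = h :=
  f.ext' c (p.h0.trans q.h0.symm) (p.h1.trans q.h1.symm) (p.h2.trans q.h2.symm) (p.h3.trans q.h3.symm)
    (p.h4.trans q.h4.symm)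

theorem dn_inv (p : Dn e g χ α α' β β') : Dn e g⁻¹ χ⁻¹ α⁻¹ α'⁻¹ β⁻¹ β'⁻¹ := by
  obtain ⟨h0, h1, h2, h3, h4⟩ := f.dn_ne c p
  constructor <;> rw [inv_smul_eq_iff, smul_sm]
  exacts [p.h0 ▸ (inv_smul_smul₀ h0 _).symm, p.h1 ▸ (inv_smul_smul₀ h1 _).symm,
    p.h2 ▸ (inv_smul_smul₀ h2 _).symm, p.h3 ▸ (inv_smul_smul₀ h3 _).symm, p.h4 ▸ (inv_smul_smul₀ h4 _).symm]

theorem dn_pow {n : ℕ} (p : Dn e g χ α α' β β') (hg : g ^ n = 1) : χ ^ n = 1 ∧ α ^ n = 1 ∧ β ^ n = 1 := by
  have q := hg ▸ p.pow n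
  exact ⟨smul_left_injective k ((e 0).ne c) (q.h0.symm.trans (by simp)),
    smul_left_injective k (f.vp_ne c) (q.h1.symm.trans (by simp)),
    smul_left_injective k (f.sw.vp_ne c) (q.h3.symm.trans ((one_smul G _).trans (one_smul k _).symm))⟩

omit f in
theorem scal {a b : Fin 5} (h1 : g • vp e a b = α • vp e a b) (h2 : g • vm e a b = α • vm e a b) :
    g • (e a).v = α • (e a).v ∧ g • (e b).v = α • (e b).v := by
  simp only [vp, vm, smul_add, smul_sub] at h1 h2
  generalize g • (e a).v = x, g • (e b).v = y at h1 h2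
  exact ⟨smul_right_injective W c.two (by linear_combination (norm := module) h1 + h2),
    smul_right_injective W c.two (by linear_combination (norm := module) h1 - h2)⟩

omit f in
theorem dn_dg (p : Dn e g χ α α β β) : Dg e g ![χ, α, α, β, β] := fun a => by
  fin_cases a
  exacts [p.h0, (scal c p.h1 p.h2).1, (scal c p.h1 p.h2).2, (scal c p.h3 p.h4).1, (scal c p.h3 p.h4).2]

theorem sw_sq (p : Sw e π) : π * π = 1 := f.ext c fun a => by
  fin_cases a <;> simp [mul_smul, p.h0, p.h1, p.h2, p.h3, p.h4]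

/-- the model -/
theorem model {n : ℕ} (p : Sw e π) (q : Dn e g 1 α α⁻¹ α⁻¹ α) (hα : α ^ (2 * 2 ^ n) = -1) :
    ∃ φ : P4S.P (ZMod (4 * 2 ^ n)) →* G, Function.Injective φ := by
  have E : ∀ a b x, (e a).g * ((e b).g * (e x).g) ∈ Eg e := fun a b x =>
    mul_mem (f.mem a) (mul_mem (f.mem b) (f.mem x))
  have pp := f.sw_sq c p
  have qa := f.refl3 q
  have h1 : α⁻¹ ^ (2 * 2 ^ n) = -1 := by rw [inv_pow, hα, inv_neg_one]
  have h2 := (qa.pow (2 * 2 ^ n)).congr (one_pow _) hα h1 hα h1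
  have h3 : π * ((e 3).g * ((e 1).g * (e 2).g)) * π ∈ Eg e := fun a => by
    fin_cases a <;> simp [mul_smul, f.act, p.h0, p.h1, p.h2, p.h3, p.h4]
  obtain ⟨φ, hφ⟩ := P4S.exists_hom (k := 2 ^ n) (by positivity) (a := (e 3).g * g * (e 3).g) (b := g)
    (σ := (e 3).g * ((e 1).g * (e 2).g)) (π := π)
    (by
      rw [show 4 * 2 ^ n = 2 * 2 ^ n + 2 * 2 ^ n by ring, pow_add]
      exact f.dn_eq c (h2.mul h2) (Dn.one.congr (by ring) (by ring) (by ring) (by ring) (by ring)))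
    (f.dn_eq c (qa.mul q) ((q.mul qa).congr (by ring) (by ring) (by ring) (by ring) (by ring)))
    (f.dn_eq c h2 ((q.pow _).congr (one_pow _) hα h1 h1 hα)) (f.sq c (E _ _ _)) pp (f.comm c (E _ _ _) h3)
    (by
      rw [inv_eq_of_mul_eq_one_right (f.sq c (E _ _ _))]
      refine f.dn_eq c ?_ q
      constructor <;> simp [mul_smul, f.act, f.act_vp, f.act_vm, q.h0, q.h1, q.h2, q.h3, q.h4, smul_sm])
    (by rw [inv_eq_of_mul_eq_one_right pp]; exact f.dn_eq c (qa.swap p) qa)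
    (by
      rw [inv_eq_of_mul_eq_one_right pp]
      exact f.dn_eq c (q.swap p) ((f.dn_inv c q).congr inv_one rfl (inv_inv _) (inv_inv _) rfl))
  refine ⟨φ, P4S.injective_of fun h => f.vp_ne c (c.zero_of_neg ?_)⟩
  have := h2.h1
  rwa [← hφ, h, one_smul, neg_one_smul] at this

end Fr

include c in
/-- the bound for the order of the Sylow subgroup -/
theorem card_le [Finite G] (f : Fr e) {S : Sylow 2 G} {i j : G} (s : Su S (e 0) i j) {m : ℕ} (hm : 0 < m)
    (H : ∀ h ∈ S, h * i = i * h → ∃ (x y : Bool) (α β : k), α ^ (2 * m) = 1 ∧ α ^ m = β ^ m ∧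
      Dn e (h * ((bif x then (e 1).g else 1) * bif y then (e 3).g else 1)) 1 α α⁻¹ β β⁻¹) :
    Nat.card S ≤ 16 * m ^ 2 := by
  have : NeZero m := ⟨hm.ne'⟩
  let C := Subgroup.centralizer ({i} : Set G)
  have h1 : C.relIndex S ∣ 2 := Subgroup.relIndex_dvd_two_iff.2 (by
    by_cases h : ∃ a ∈ S, a * j = i * a
    · obtain ⟨a, ha, h⟩ := h
      refine ⟨a, ha, fun b hb => ((s.symm c).cj b hb).symm.imp (fun h1 => ?_) fun h1 => ?_⟩ <;>
        rw [Subgroup.mem_centralizer_singleton_iff]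
      · have h2 : ∀ {x : G}, x ∈ S → x * j = i * x → x * i = j * x := fun {x} hx h => by
          rw [← (s.symm c).it' c, ← mul_assoc, h, mul_assoc, s.cen _ hx, ← mul_assoc, s.it' c]
        rw [mul_assoc, h2 ha h, ← mul_assoc, h1, mul_assoc]
      · exact (s.symm c).comm_j c h1 (s.cen b hb)
    · exact ⟨1, one_mem _, fun b hb => .inr (Subgroup.mem_centralizer_singleton_iff.2 ((s.symm c).comm_j c
        (((s.symm c).cj b hb).resolve_right fun h1 => h ⟨b, hb, h1⟩) (s.cen b hb)))⟩)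
  choose x y α β h2 h3 h4 using fun g : C.subgroupOf S =>
    H g.1 g.1.2 (Subgroup.mem_centralizer_singleton_iff.1 g.2)
  have h5 : ∀ g, (β g / α g) ^ m = 1 := fun g => by
    rw [div_pow, ← h3, div_self (pow_ne_zero _ (f.dn_ne c (h4 g)).2.1)]
  have h6 := Nat.card_le_card_of_injective (fun g => (x g, y g, rootsOfUnity.mkOfPowEq _ (h2 g),
      rootsOfUnity.mkOfPowEq _ (h5 g))) fun g g' e => by
    simp only [Prod.mk.injEq] at e
    have e1 : α g = α g' := congrArg (fun z : rootsOfUnity (2 * m) k => ((z : kˣ) : k)) e.2.2.1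
    have e2 : β g / α g = β g' / α g' := congrArg (fun z : rootsOfUnity m k => ((z : kˣ) : k)) e.2.2.2
    rw [e1, div_left_inj' (f.dn_ne c (h4 g')).2.1] at e2
    have := f.dn_eq c (h4 g) (by rw [e1, e2]; exact h4 g')
    rw [e.1, e.2.1] at this
    exact Subtype.ext (Subtype.ext (mul_right_cancel this))
  rw [Nat.card_prod, Nat.card_prod, Nat.card_prod, Nat.card_eq_fintype_card (α := Bool), Fintype.card_bool] at h6
  have h7 := Nat.mul_le_mul (card_rootsOfUnity k (2 * m)) (card_rootsOfUnity k m)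
  have h8 := (C.subgroupOf S).card_mul_index
  have h9 := Nat.le_of_dvd two_pos h1
  rw [Subgroup.relIndex] at h9
  change Nat.card (S : Subgroup G) ≤ _
  rw [← h8]
  nlinarith

end CL.FR
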