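import Cfsg.Agent.CLAS.FiveRM2
import Cfsg.Agent.CLAS.FiveRC

/-!
# The Sylow 2-subgroup when there are no edges
-/

set_option autoImplicit false
set_option linter.unusedSectionVars false

namespace CL.FR

open Module Equiv

variable {k W G : Type*} [Field k] [AddCommGroup W] [Module k W] [Group G] [DistribMulAction G W]
  [SMulCommClass G k W] [Finite G] [IsAlgClosed k]

/-- a frame adapted to the Sylow subgroup -/
structure Se (S : Sylow 2 G) (e : Fin 5 → Rt k W G) : Prop where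
  f : Fr e
  le : Eg e ≤ S
  s : Su S (e 0) ((e 1).g * (e 2).g) ((e 3).g * (e 4).g)

variable (c : Ctx k W G) {e : Fin 5 → Rt k W G} {S : Sylow 2 G} {g h i j : G} {d : Fin 5 → k}
  {t t' : Rt k W G}

theorem sq_of_ten {x : k} {n : ℕ} (h : x ^ 10 = 1) (h' : x ^ 2 ^ n = 1) : x ^ 2 = 1 := by
  have h1 : (x ^ 2) ^ 5 = 1 := by rw [← pow_mul, h]
  have h2 : (x ^ 2) ^ 2 ^ n = 1 := by rw [← pow_mul, mul_comm, pow_mul, h', one_pow]
  simpa [(Nat.Coprime.pow_right n (by norm_num : Nat.Coprime 5 2)).gcd_eq_one] using pow_gcd_eq_one.2 ⟨h1, h2⟩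

theorem exists_pow (hg : g ∈ S) : ∃ n : ℕ, g ^ 2 ^ n = 1 :=
  (S.isPGroup' ⟨g, hg⟩).imp fun _ h => congrArg Subtype.val h

theorem Eg_comp {π : Fin 5 → Fin 5} (hπ : Function.Surjective π) : Eg (e ∘ π) = Eg e :=
  Subgroup.ext fun g => (hπ.forall (p := fun a => g • (e a).v = (e a).v ∨ g • (e a).v = -(e a).v)).symm

include c

theorem eig_pow {w : W} {x : k} {n : ℕ} (hw : w ≠ 0) (h : g • w = x • w) (hg : g ^ n = 1) : x ^ n = 1 := by
  have : ∀ n : ℕ, g ^ n • w = x ^ n • w := fun n => by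
    induction n with
    | zero => simp
    | succ n ih => rw [pow_succ, mul_smul, h, smul_sm, ih, smul_smul, ← pow_succ']
  exact smul_left_injective k hw ((this n).symm.trans (by simp [hg]))

theorem Su.congr (s : Su S t i j) (h : t'.g = t.g) : Su S t' i j := by
  obtain ⟨x, -, hx, -⟩ := Rt.line_of_eq c h
  exact ⟨h ▸ s.cen, s.iS, s.jS, h ▸ s.ij, by rw [hx, smul_sm, s.it], by rw [hx, smul_sm, s.jt], s.pi, s.pj, s.cj⟩

theorem neg_congr (h : t'.g = t.g) (hi : i • t.v = -t.v) : i • t'.v = -t'.v := by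
  obtain ⟨x, -, hx, -⟩ := Rt.line_of_eq c h
  rw [hx, smul_sm, hi, smul_neg]

theorem Fr.mem_of_dg (f : Fr e) (hT : TL e) (p : Dg e g d) {n : ℕ} (h : d 0 ^ 2 ^ n = 1) : g ∈ Eg e := fun a => by
  have h1 := congrArg (· ^ 2) (f.prod c p)
  simp only [← Finset.prod_pow, hT g d p _ 0, Finset.prod_const, Finset.card_univ, Fintype.card_fin, ← pow_mul,
    one_pow] at h1
  rcases sq_eq_one_iff_of_ne_zero_aux (hT g d p a 0 ▸ sq_of_ten h1 h) with h2 | h2 <;> simp [p a, h2]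
where sq_eq_one_iff_of_ne_zero_aux {x : k} (h : x ^ 2 = 1) : x = 1 ∨ x = -1 := sq_eq_one_iff.1 h

theorem se_of (f : Fr e) (hE : Eg e ≤ S) (s : Su S (e 0) i j) (h1 : i • (e 1).v = -(e 1).v)
    (h2 : i • (e 2).v = -(e 2).v) : Se S e := by
  have e1 := s.pi.eq_mul c h1 h2 (f 1 2 (by decide))
  have e2 := s.pj.eq_mul c (a := e 3) (b := e 4) (s.neg_j c (by simp [e1, mul_smul, f.act]) (f 0 3 (by decide)))
    (s.neg_j c (by simp [e1, mul_smul, f.act]) (f 0 4 (by decide))) (f 3 4 (by decide))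
  exact ⟨f, hE, e1 ▸ e2 ▸ s⟩

theorem Fr.into (f : Fr e) {Q : Subgroup G} (hQ : IsPGroup 2 Q) (hE : Eg e ≤ Q)
    (h0 : ∀ x ∈ Q, x * (e 0).g = (e 0).g * x) : ∃ (g : G) (S : Sylow 2 G) (i j : G),
      Su S ((e 0).conj g) i j ∧ (∀ x ∈ Q, g * x * g⁻¹ ∈ S) ∧ Eg (fun a => (e a).conj g) ≤ S ∧
        i • ((e 1).conj g).v = -((e 1).conj g).v := by
  obtain ⟨S⟩ : Nonempty (Sylow 2 G) := inferInstance
  obtain ⟨t, i, j, s⟩ := exists_su c S (e 0)
  obtain ⟨g, h1, h2⟩ := s.extr c (e 0) hQ h0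
  replace s := s.congr c (t' := (e 0).conj g) h1
  have h3 : Eg (fun a => (e a).conj g) ≤ S := fun x hx => by
    have := h2 (g⁻¹ * x * g) (hE ((Eg_conj g).1 (by simpa [mul_assoc] using hx)))
    rwa [show g * (g⁻¹ * x * g) * g⁻¹ = x by group] at this
  rcases s.root c (r := (e 1).conj g) (h3 ((f.conj g).mem 1)) with h | h | h
  exacts [absurd ((f.conj g).inj c h) (by decide), ⟨g, S, i, j, s, h2, h3, h⟩, ⟨g, S, j, i, s.symm c, h2, h3, h⟩]

namespace Se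

variable (s : Se S e)
include s

theorem sw : Se S (sw e) := ⟨s.f.sw, (Eg_comp (by decide)).trans_le s.le, s.s.symm c⟩

theorem sc (x : Fin 5 → k) (hx : ∀ a, x a ≠ 0) : Se S fun a => (e a).sc (x a) (hx a) :=
  ⟨s.f.sc x hx, fun _ hg => s.le ((s.f.mem_iff c).2 (((s.f.sc x hx).mem_iff c).1 hg)), s.s.congr c rfl⟩

theorem comm (hh : h ∈ S) (hi : h * ((e 1).g * (e 2).g) = (e 1).g * (e 2).g * h) :
    h * ((e 3).g * (e 4).g) = (e 3).g * (e 4).g * h := s.s.comm_j c hi (s.s.cen h hh)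

theorem pair (H : NoEd k W G) (hh : h ∈ S) (hi : h * ((e 1).g * (e 2).g) = (e 1).g * (e 2).g * h) :
    h * (e 1).g * h⁻¹ = (e 1).g ∧ h * (e 2).g * h⁻¹ = (e 2).g ∨
      h * (e 1).g * h⁻¹ = (e 2).g ∧ h * (e 2).g * h⁻¹ = (e 1).g := by
  have f := s.f
  obtain ⟨a, ha⟩ := H.uq c f s.le (r := (e 1).conj h) (mul_mem (mul_mem hh (s.le (f.mem 1))) (inv_mem hh))
  have h1 : h * (e 1).g * h⁻¹ * (h * (e 2).g * h⁻¹) = (e 1).g * (e 2).g := by
    rw [conj_mul, hi, mul_inv_cancel_right]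
  refine (s.s.pi.root_eq c (a := e 1) (b := e 2) (r := (e 1).conj h) (by simp [mul_smul, f.act])
    (by simp [mul_smul, f.act]) (f 1 2 (by decide)) (by
      rw [Rt.conj_v, ← mul_smul, ← hi, mul_smul]; simp [mul_smul, f.act])
    (ha ▸ f.comm c (f.mem 1) (f.mem a))).imp (fun h2 => ⟨h2, ?_⟩) fun h2 => ⟨h2, ?_⟩ <;>
    rw [show h * (e 1).g * h⁻¹ = _ from h2] at h1
  exacts [mul_left_cancel h1, mul_left_cancel (h1.trans (f.comm c (f.mem 1) (f.mem 2)))]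

end Se

/-- no `2`-element induces a transposition -/
theorem NoEd.no_tr (H : NoEd k W G) (f : Fr e) (hD : Dd e) (hT : TL e) {n : ℕ} (hn : h ^ 2 ^ n = 1)
    (h0 : h * (e 0).g * h⁻¹ = (e 0).g) (h1 : h * (e 1).g * h⁻¹ = (e 2).g) (h2 : h * (e 2).g * h⁻¹ = (e 1).g)
    (h3 : h * (e 3).g * h⁻¹ = (e 3).g) (h4 : h * (e 4).g * h⁻¹ = (e 4).g) : False := by
  have M : Mn e h (swap 1 2) := fun a => by fin_cases a <;> assumption
  obtain ⟨x0, n0, k0⟩ := line_of_conj c h0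
  obtain ⟨x1, n1, k1⟩ := line_of_conj c h1
  obtain ⟨x2, n2, k2⟩ := line_of_conj c h2
  obtain ⟨x3, n3, k3⟩ := line_of_conj c h3
  obtain ⟨x4, n4, k4⟩ := line_of_conj c h4
  have key : ∀ {a b : Fin 5} {x y : k}, [0, a, 1, 2].Nodup → [0, a, 1, 2, b].Nodup → h • (e a).v = x • (e a).v →
      h • (e b).v = y • (e b).v → x ^ 2 = x0 ^ 2 := fun {a b x y} n1 n2 ha hb => by
    obtain ⟨u, hu⟩ := hD _ _ _ _ n1
    obtain ⟨p1, p2, p3⟩ := (by decide : ∀ a b : Fin 5, [0, a, 1, 2, b].Nodup → (fun π : Perm (Fin 5) =>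
      π 0 = a ∧ π b = b ∧ ∀ l, π (swap 1 2 l) = swap 1 2 (π l)) (swap 0 a * swap 1 2)) a b n2
    obtain ⟨d, hd⟩ := (f.dg_iff c (g := (u * h)⁻¹ * (h * u))).2 fun l => by
      have := (hu.mul M l).trans ((congrArg (fun l => (e l).g) (p3 l)).trans (M.mul hu l).symm)
      calc _ = (u * h)⁻¹ * (h * u * (e l).g * (h * u)⁻¹) * (h * u) := by group
        _ = _ := by rw [← this]; group
    have q : ∀ {l l' : Fin 5} {y z : k}, (swap 0 a * swap 1 2 : Perm (Fin 5)) l = l' → h • (e l).v = y • (e l).v →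
        h • (e l').v = z • (e l').v → d l * y = z := fun {l l' y z} p hy hz => by
      obtain ⟨s, hs, ks⟩ := line_of_conj c ((hu l).trans (congrArg (fun l => (e l).g) p))
      have := hd l
      rw [mul_smul, inv_smul_eq_iff, mul_smul, mul_smul, smul_sm, hy, smul_sm, smul_sm, ks, smul_sm, hz,
        smul_smul, smul_smul, smul_smul] at this
      exact mul_right_cancel₀ hs (by rw [← smul_left_injective k ((e l').ne c) this, mul_comm])
    have q1 := q p1 k0 ha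
    have q2 := q p2 hb hb
    rw [mul_left_eq_self₀, or_iff_left fun h0 => (e b).ne c ((smul_eq_zero_iff_eq h).1 (by simp [hb, h0]))] at q2
    rw [← q1, mul_pow, hT _ d hd 0 b, q2, one_pow, one_mul]
  have e3 := key (a := 3) (b := 4) (by decide) (by decide) k3 k4
  have e4 := key (a := 4) (b := 3) (by decide) (by decide) k4 k3
  have hh : Dg e (h * h) ![x0 * x0, x1 * x2, x2 * x1, x3 * x3, x4 * x4] := fun a => by
    fin_cases a <;> simp [mul_smul, k0, k1, k2, k3, k4, smul_sm]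
  have e1 := hT _ _ hh 1 0
  have e2 := f.prod c hh
  simp only [Fin.prod_univ_five, Matrix.cons_val] at e1 e2
  have e0 : x0 ^ 2 = 1 := sq_of_ten (by
    linear_combination e2 - x0 ^ 2 * x3 ^ 2 * x4 ^ 2 * e1 - x0 ^ 6 * x4 ^ 2 * e3 - x0 ^ 8 * e4)
      (eig_pow c ((e 0).ne c) k0 hn)
  classical
  obtain ⟨s, hs, h5⟩ := f.signs c 1 (Finset.univ.filter fun l => ![x0, 0, 0, x3, x4] l = 1)
  have sg : ∀ (l : Fin 5) (x : k), l ≠ 1 → ![x0, 0, 0, x3, x4] l = x → x ^ 2 = 1 → h • (e l).v = x • (e l).v →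
      (h * s) • (e l).v = -(e l).v := fun l x hl p q r => by
    rw [mul_smul, h5 l hl]
    rcases sq_eq_one_iff.1 q with rfl | rfl
    · simp [p, r]
    · simp [p, r, show (-1 : k) ≠ 1 from fun e => c.two (by linear_combination -e)]
  have g0 := sg 0 x0 (by decide) rfl e0 k0
  have g3 := sg 3 x3 (by decide) rfl (e3.trans e0) k3
  have g4 := sg 4 x4 (by decide) rfl (e4.trans e0) k4
  have g2 : (h * s) • (e 2).v = x2 • (e 1).v := by simp [mul_smul, h5 2 (by decide), k2]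
  obtain ⟨y, g1⟩ : ∃ y : k, (h * s) • (e 1).v = y • (e 2).v := by
    rcases hs 1 with p | p
    exacts [⟨x1, by rw [mul_smul, p, k1]⟩, ⟨-x1, by rw [mul_smul, p, smul_neg, k1, neg_smul]⟩]
  generalize h * s = g at g0 g1 g2 g3 g4
  have dt := f.det c g !![-1, 0, 0, 0, 0; 0, 0, x2, 0, 0; 0, y, 0, 0, 0; 0, 0, 0, -1, 0; 0, 0, 0, 0, -1]
    fun a => by fin_cases a <;> simp [Fin.sum_univ_succ, g0, g1, g2, g3, g4]
  simp [Matrix.det_succ_row_zero, Fin.sum_univ_succ, Fin.succAbove] at dt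
  obtain ⟨r, rfl⟩ := f.rt_of_neg c (g := g) (f.ext c fun a => by
    fin_cases a <;> simp [mul_smul, g0, g1, g2, g3, g4, smul_sm, smul_smul, dt, mul_comm y x2])
    (a := 0) (b := 3) (x := 4) (by decide) g0 g3 g4
  exact H _ _ (f 1 2 (by decide)) ⟨r, conj_of_line c g1⟩

/-- the sign changes are rotations up to reflections -/
theorem Fr.eg_dn (f : Fr e) (hg : g ∈ Eg e) : ∃ (x y : Bool) (α β : k), α ^ 2 = 1 ∧ β ^ 2 = 1 ∧
    Dn e (g * ((bif x then (e 1).g else 1) * bif y then (e 3).g else 1)) 1 α α⁻¹ β β⁻¹ := by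
  have key : ∀ {g : G}, g ∈ Eg e → (g • (e 1).v = (e 1).v ∧ g • (e 2).v = (e 2).v ∨
      g • (e 1).v = -(e 1).v ∧ g • (e 2).v = -(e 2).v) → (g • (e 3).v = (e 3).v ∧ g • (e 4).v = (e 4).v ∨
      g • (e 3).v = -(e 3).v ∧ g • (e 4).v = -(e 4).v) →
      ∃ α β : k, α ^ 2 = 1 ∧ β ^ 2 = 1 ∧ Dn e g 1 α α⁻¹ β β⁻¹ := fun {g} hg ha hb => by
    obtain ⟨χ, h0⟩ := (Rt.comm_iff c).1 (f.comm c hg (f.mem 0))
    have D : ∀ α β : k, α ^ 2 = 1 → β ^ 2 = 1 → g • (e 1).v = α • (e 1).v → g • (e 2).v = α • (e 2).v →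
        g • (e 3).v = β • (e 3).v → g • (e 4).v = β • (e 4).v →
        ∃ α β : k, α ^ 2 = 1 ∧ β ^ 2 = 1 ∧ Dn e g 1 α α⁻¹ β β⁻¹ := fun α β ha hb h1 h2 h3 h4 => by
      have D : Dn e g χ α α β β := ⟨h0, by simp [vp, h1, h2], by simp [vm, smul_sub, h1, h2],
        by simp [vp, h3, h4], by simp [vm, smul_sub, h3, h4]⟩
      exact ⟨α, β, ha, hb, D.congr (by linear_combination f.dn_det c D - χ * β ^ 2 * ha - χ * hb) rfl
        (eq_inv_of_mul_eq_one_left (by rwa [← pow_two])) rfl (eq_inv_of_mul_eq_one_left (by rwa [← pow_two]))⟩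
    rcases ha with ⟨h1, h2⟩ | ⟨h1, h2⟩ <;> rcases hb with ⟨h3, h4⟩ | ⟨h3, h4⟩
    exacts [D 1 1 (by simp) (by simp) (by simpa) (by simpa) (by simpa) (by simpa),
      D 1 (-1) (by simp) (by simp) (by simpa) (by simpa) (by simpa) (by simpa),
      D (-1) 1 (by simp) (by simp) (by simpa) (by simpa) (by simpa) (by simpa),
      D (-1) (-1) (by simp) (by simp) (by simpa) (by simpa) (by simpa) (by simpa)]
  have m : ∀ x y : Bool, g * ((bif x then (e 1).g else 1) * bif y then (e 3).g else 1) ∈ Eg e := fun x y =>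
    mul_mem hg (mul_mem (by cases x; exacts [one_mem _, f.mem 1]) (by cases y; exacts [one_mem _, f.mem 3]))
  rcases hg 1 with h1 | h1 <;> rcases hg 2 with h2 | h2 <;> rcases hg 3 with h3 | h3 <;> rcases hg 4 with h4 | h4 <;>
    first
    | refine ⟨false, false, key (m _ _) ?_ ?_⟩ <;> (simp [h1, h2, h3, h4]; done)
    | refine ⟨true, false, key (m _ _) ?_ ?_⟩ <;> (simp [mul_smul, f.act, h1, h2, h3, h4]; done)
    | refine ⟨false, true, key (m _ _) ?_ ?_⟩ <;> (simp [mul_smul, f.act, h1, h2, h3, h4]; done)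
    | refine ⟨true, true, key (m _ _) ?_ ?_⟩ <;> simp [mul_smul, f.act, h1, h2, h3, h4]

theorem NoEd.exists_se (H : NoEd k W G) (f : Fr e) : ∃ (S : Sylow 2 G) (e : Fin 5 → Rt k W G), Se S e := by
  obtain ⟨g, S, i, j, s, -, hE, h1⟩ := f.into c (f.isP c) le_rfl fun x hx => f.comm c hx (f.mem 0)
  replace f := f.conj g
  obtain ⟨b, b1, b2, b3⟩ := s.pi.root c h1
  obtain ⟨a, ha⟩ := H.uq c f hE (r := b) (b1 ▸ mul_mem (hE (f.mem 1)) s.iS)
  have a0 : a ≠ 0 := by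
    rintro rfl; exact Rt.ne_of_perp c (s.perp c b2) ha.symm
  have a1 : a ≠ 1 := by
    rintro rfl; exact Rt.ne_of_perp c b3 ha.symm
  refine ⟨S, _, se_of c (f.comp (swap 2 a).injective) ((Eg_comp (swap 2 a).surjective).trans_le hE)
    (i := i) (j := j) ?_ ?_ ?_⟩ <;> rw [Function.comp]
  · rwa [swap_apply_of_ne_of_ne (by decide) a0.symm]
  · rwa [swap_apply_of_ne_of_ne (by decide) a1.symm]
  · rw [swap_apply_left]; exact neg_congr c ha.symm b2

theorem NoEd.model (p : ℕ) [Fact p.Prime] [CharP k p] (H : NoEd k W G) (f : Fr e) :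
    ∃ (n : ℕ) (φ : P4S.P (ZMod (4 * 2 ^ n)) →* G) (S : Sylow 2 G), Function.Injective φ ∧
      Nat.card S ≤ 16 * (2 * 2 ^ n) ^ 2 := by
  obtain ⟨S, e, s⟩ := H.exists_se c f
  obtain ⟨e, s, w, w0, w1⟩ : ∃ e : Fin 5 → Rt k W G, Se S e ∧ ∃ w : Rt k W G, (e 0).φ w.v = 0 ∧
      ∀ l, l ≠ 0 → (e l).φ w.v = 1 ∧ w.φ (e l).v = 1 :=
    let ⟨z, hz, h⟩ := (H.hf c s.f 0).norm c; ⟨_, s.sc c z hz, h⟩
  obtain ⟨d, d0, d1, d2, d3, d4⟩ := s.f.dt c (m := 0) (a := 1) (b := 2) (x := 3) (y := 4) (by decide) w0 w1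
  obtain ⟨π, p0, p1, p2, p3, p4⟩ := s.f.dt c (m := 0) (a := 1) (b := 3) (x := 2) (y := 4) (by decide) w0 w1
  obtain ⟨I, hI⟩ := IsAlgClosed.exists_pow_nat_eq (-1 : k) two_pos
  have I0 : I ≠ 0 := by rintro rfl; simp at hI
  have I1 : I⁻¹ = -I := inv_eq_of_mul_eq_one_right (by linear_combination -hI)
  have hx : ∀ a, ![1, 1, I, 1, I] a ≠ 0 := fun a => by fin_cases a <;> simp [I0]
  have f := s.f
  have hs := s.sc c _ hx
  have hπ : Sw (fun a => (e a).sc _ (hx a)) π := by constructor <;> simp [smul_sm, *]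
  have hb : Dn (fun a => (e a).sc _ (hx a)) (d * ((e 2).g * (e 3).g)) 1 (-I) (-I)⁻¹ (-I)⁻¹ (-I) := by
    constructor <;> simp [vp, vm, mul_smul, smul_sub, smul_sm, f.act, d0, d1, d2, d3, d4, I1] <;>
      match_scalars <;> first | ring1 | linear_combination hI | linear_combination -hI
  have m0 : d * ((e 2).g * (e 3).g) * (e 0).g * _⁻¹ = (e 0).g :=
    conj_of_line c (x := 1) (by simp [mul_smul, f.act, d0])
  have m1 : d * ((e 2).g * (e 3).g) * (e 1).g * _⁻¹ = (e 2).g :=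
    conj_of_line c (x := 1) (by simp [mul_smul, f.act, d1])
  have m2 : d * ((e 2).g * (e 3).g) * (e 2).g * _⁻¹ = (e 1).g :=
    conj_of_line c (x := -1) (by simp [mul_smul, f.act, d2])
  have m3 : d * ((e 2).g * (e 3).g) * (e 3).g * _⁻¹ = (e 4).g :=
    conj_of_line c (x := -1) (by simp [mul_smul, f.act, d3])
  have m4 : d * ((e 2).g * (e 3).g) * (e 4).g * _⁻¹ = (e 3).g :=
    conj_of_line c (x := 1) (by simp [mul_smul, f.act, d4])
  generalize d * ((e 2).g * (e 3).g) = b at hb m0 m1 m2 m3 m4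
  have M : Mn (fun a => (e a).sc _ (hx a)) b ![0, 2, 1, 4, 3] := fun a => by fin_cases a <;> assumption
  clear m0 m1 m2 m3 m4 f s d0 d1 d2 d3 d4 p0 p1 p2 p3 p4
  generalize (fun a => (e a).sc _ (hx a)) = e at hs hπ hb M
  have f := hs.f
  have hT : ∀ {e : Fin 5 → Rt k W G}, Fr e → TL e := fun f => tl_of_hf c p f (H.hf c f)
  have hD : ∀ {e : Fin 5 → Rt k W G}, Fr e → Dd e := fun f => dd_of_hf c f (H.hf c f)
  obtain ⟨φ, hφ⟩ := f.model c (n := 0) hπ hb (by simpa using hI)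
  refine ⟨0, φ, S, hφ, card_le c f hs.s (m := 2) two_pos fun h hh hi => ?_⟩
  obtain ⟨n, hn⟩ := exists_pow hh
  have h0 : h * (e 0).g * h⁻¹ = (e 0).g := mul_inv_eq_iff_eq_mul.2 (hs.s.cen h hh)
  obtain ⟨χ, -, hχ⟩ := line_of_conj c h0
  have key : ∀ {g : G}, (∀ a, g * (e a).g * g⁻¹ = (e a).g) → g • (e 0).v = χ • (e 0).v → g ∈ Eg e :=
    fun {g} h1 h2 => by
    obtain ⟨d, hd⟩ := (f.dg_iff c).2 fun a => mul_inv_eq_iff_eq_mul.1 (h1 a)
    exact f.mem_of_dg c (hT f) hd (n := n) (by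
      rw [smul_left_injective k ((e 0).ne c) ((hd 0).symm.trans h2)]; exact eig_pow c ((e 0).ne c) hχ hn)
  rcases hs.pair c H hh hi with ⟨h1, h2⟩ | ⟨h1, h2⟩ <;>
    rcases (hs.sw c).pair c H hh (hs.comm c hh hi) with ⟨h3, h4⟩ | ⟨h3, h4⟩
  · obtain ⟨x, y, α, β, a1, a2, a3⟩ := f.eg_dn c (key (fun a => by fin_cases a <;> assumption) hχ)
    exact ⟨x, y, α, β, by rw [pow_mul, a1, one_pow], a1.trans a2.symm, a3⟩
  · exact (H.no_tr c f.sw (hD f.sw) (hT f.sw) hn h0 h3 h4 h1 h2).elim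
  · exact (H.no_tr c f (hD f) (hT f) hn h0 h1 h2 h3 h4).elim
  have M' : Mn e h ![0, 2, 1, 4, 3] := fun a => by fin_cases a <;> assumption
  obtain ⟨x, y, α, β, a1, a2, a3⟩ := f.eg_dn c (key (g := b⁻¹ * h) (fun a => by
    rw [mul_inv_rev, inv_inv, mul_assoc b⁻¹, mul_assoc b⁻¹, ← mul_assoc _ h⁻¹, M' a, ← M a]; group)
    (by rw [mul_smul, hχ, smul_sm, (f.dn_inv c hb).h0, inv_one, one_smul]))
  refine ⟨x, y, -I * α, (-I)⁻¹ * β, by rw [pow_mul, mul_pow, a1, neg_sq, hI]; simp,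
    by rw [mul_pow, mul_pow, a1, a2, inv_pow, neg_sq, hI, inv_neg_one], ?_⟩
  have := hb.mul a3
  rw [mul_assoc b⁻¹, mul_inv_cancel_left] at this
  exact this.congr (mul_one _) rfl (mul_inv _ _).symm rfl (by rw [mul_inv, inv_inv])

end CL.FR
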