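import Cfsg.Agent.S0215
import Cfsg.Agent.SOLV.CoprimeGen
import Cfsg.Agent.INV.BaerSuzuki

/-!
# Overgroups of `3⁴ : Sp₄(3)`, part 1: general lemmas and the finite model
-/

set_option autoImplicit false

namespace CL.He9

open Subgroup

section Gen

variable {G : Type*} [Group G] [Finite G]

/-- Burnside's normal complement together with coprime action. -/
theorem burn {p : ℕ} [hp : Fact p.Prime] {L P E H : Subgroup G} (hP : IsPGroup p P) (hPL : P ≤ L)
    (hmax : ∀ Q : Subgroup G, IsPGroup p Q → P ≤ Q → Q ≤ L → Q ≤ P)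
    (hN : ∀ g ∈ L, g ∈ normalizer (P : Set G) → ∀ x ∈ P, x * g = g * x)
    (hE : IsPGroup p E) [IsMulCommutative E] (hc : ¬ IsCyclic E) (hEL : E ≤ normalizer (L : Set G))
    (h : ∀ a ∈ E, a ≠ 1 → L ⊓ centralizer {a} ≤ H) (hPH : P ≤ H) : L ≤ H := by
  let S : Sylow p L := ⟨P.subgroupOf L, hP.comap_subtype, fun {Q} hQ hle => le_antisymm
    (map_le_iff_le_comap.1 (hmax _ (hQ.map _) (by
      rw [← map_subgroupOf_eq_of_le hPL]; exact map_mono hle) (map_subtype_le _))) hle⟩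
  have hS : normalizer (S : Set L) ≤ centralizer (S : Set L) := fun g hg x hx => Subtype.ext
    (hN g g.2 (by
      have : g ∈ normalizer ((P.subgroupOf L : Subgroup L) : Set L) := hg
      rwa [← subgroupOf_normalizer_eq hPL] at this) x hx)
  let f := MonoidHom.transferSylow S hS
  have hK := MonoidHom.not_dvd_card_ker_transferSylow S hS
  have hKH : f.ker.map L.subtype ≤ H := by
    refine coprime_le_of_forall_centralizer_le E _ H hc (fun e he => mem_normalizer_fintype ?_) ?_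
      fun a ha h1 => (inf_le_inf_right _ (map_subtype_le _)).trans (h a ha h1)
    · rintro _ ⟨k, hk, rfl⟩
      refine ⟨⟨_, (mem_normalizer_iff.1 (hEL he) k).1 k.2⟩, ?_, rfl⟩
      obtain ⟨m, hm⟩ := S.2 (f ⟨_, (mem_normalizer_iff.1 (hEL he) k).1 k.2⟩)
      refine (MonoidHom.mem_ker).2 (orderOf_eq_one_iff.1 (Nat.eq_one_of_dvd_coprimes
        (((Nat.Prime.coprime_iff_not_dvd hp.out).2 hK).pow_left m) (orderOf_dvd_of_pow_eq_one hm)
        ((orderOf_map_dvd f _).trans (orderOf_dvd_of_pow_eq_one (Subtype.ext ?_)))))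
      have := congrArg (fun x : f.ker => ((x : L) : G)) (pow_card_eq_one' (x := (⟨k, hk⟩ : f.ker)))
      simp only [coe_pow, OneMemClass.coe_one] at this ⊢
      rw [conj_pow, this, mul_one, mul_inv_cancel]
    · obtain ⟨m, hm⟩ := hE.exists_card_eq
      rw [hm, card_map_of_injective L.subtype_injective]
      exact ((Nat.Prime.coprime_iff_not_dvd hp.out).2 hK).pow_left m
  intro g hg
  obtain ⟨⟨k, s⟩, e, -⟩ := (MonoidHom.ker_transferSylow_isComplement' S hS).existsUnique ⟨g, hg⟩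
  have : g = (k : L) * (s : L) := (congrArg Subtype.val e).symm
  exact this ▸ H.mul_mem (hKH ⟨_, k.2, rfl⟩) (hPH s.2)

/-- Counting with a group all of whose non-trivial elements have the same fixed points. -/
theorem card_free {E K S : Subgroup G} (hEK : E ≤ normalizer (K : Set G))
    (h : ∀ e ∈ E, e ≠ 1 → K ⊓ centralizer {e} = S) :
    Nat.card E ∣ Nat.card K + (Nat.card E - 1) * Nat.card S := by
  classical
  have := Fintype.ofFinite E
  have := Fintype.ofFinite K
  let _ : MulAction E K := MulAction.compHom K (K.normalizerMonoidHom.comp (inclusion hEK))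
  have hs : ∀ (e : E) (k : K), ((e • k : K) : G) = e * k * (e : G)⁻¹ := fun _ _ => rfl
  have := Fintype.ofFinite (Quotient (MulAction.orbitRel E K))
  have b := MulAction.sum_card_fixedBy_eq_card_orbits_mul_card_group E K
  rw [← Finset.add_sum_erase _ _ (Finset.mem_univ 1), Finset.sum_congr rfl (g := fun _ => Nat.card S)
    fun e he => ?_] at b
  · simp only [Finset.sum_const, Finset.card_erase_of_mem (Finset.mem_univ _), Finset.card_univ,
      smul_eq_mul, ← Nat.card_eq_fintype_card, MulAction.fixedBy_one_eq_univ, Nat.card_univ] at b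
    exact b ▸ Dvd.intro_left _ rfl
  rw [← h e e.2 fun e1 => Finset.ne_of_mem_erase he (Subtype.ext e1), ← Nat.card_eq_fintype_card]
  refine Nat.card_congr ⟨fun d => ⟨d.1, d.1.2, mem_centralizer_singleton_iff.2 ?_⟩,
    fun d => ⟨⟨d, d.2.1⟩, Subtype.ext ?_⟩, fun _ => rfl, fun _ => rfl⟩
  · exact (mul_inv_eq_iff_eq_mul.1 ((hs e d.1).symm.trans (congrArg Subtype.val d.2))).symm
  · exact (hs _ _).trans (mul_inv_eq_iff_eq_mul.2 (mem_centralizer_singleton_iff.1 d.2.2).symm)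

/-- A fixed-point-free involution inverts. -/
theorem inv_of_fpf {C : Subgroup G} {u : G} (hu : u * u = 1) (h : ∀ c ∈ C, u * c * u⁻¹ ∈ C)
    (hf : ∀ c ∈ C, u * c = c * u → c = 1) {c : G} (hc : c ∈ C) : u * c * u⁻¹ = c⁻¹ := by
  obtain ⟨d, e⟩ := Finite.surjective_of_injective
    (f := fun d : C => (⟨_, C.mul_mem (C.inv_mem d.2) (h d d.2)⟩ : C)) (fun a b e => by
      have e : (a : G)⁻¹ * (u * a * u⁻¹) = (b : G)⁻¹ * (u * b * u⁻¹) := congrArg Subtype.val e
      refine Subtype.ext (mul_inv_eq_one.1 (hf _ (C.mul_mem a.2 (C.inv_mem b.2)) ?_))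
      calc _ = a * ((a : G)⁻¹ * (u * a * u⁻¹)) * (u * (b : G)⁻¹) := by group
        _ = _ := by rw [e]; group) ⟨c, hc⟩
  obtain rfl : (d : G)⁻¹ * (u * d * u⁻¹) = c := congrArg Subtype.val e
  calc _ = u * (d : G)⁻¹ * u⁻¹ * (u * u) * d * (u * u)⁻¹ := by group
    _ = _ := by rw [hu]; group

omit [Finite G] in
theorem comm_of_cube {g a : G} {m : ℕ} (hg : g ^ 2 ^ m = 1) (h : g ^ 3 * a = a * g ^ 3) :
    g * a = a * g := by
  obtain ⟨k, hk⟩ := exists_pow_eq_self_of_coprime (x := g) (n := 3)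
    (Nat.Coprime.coprime_dvd_right (orderOf_dvd_of_pow_eq_one hg) (Nat.Coprime.pow_right m (by norm_num)))
  exact hk ▸ (Commute.pow_left h k)

end Gen

/-- The plane over `𝔽₃`. -/
abbrev V2 := ZMod 3 × ZMod 3
/-- The four-space over `𝔽₃`. -/
abbrev V4 := V2 × V2
/-- Matrices of size two, as pairs of rows. -/
abbrev M2 := V2 × V2

/-- Action of a matrix. -/
def ap (m : M2) (v : V2) : V2 := (m.1.1 * v.1 + m.1.2 * v.2, m.2.1 * v.1 + m.2.2 * v.2)
/-- Product of matrices. -/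
def mu (m n : M2) : M2 :=
  ((m.1.1 * n.1.1 + m.1.2 * n.2.1, m.1.1 * n.1.2 + m.1.2 * n.2.2),
   (m.2.1 * n.1.1 + m.2.2 * n.2.1, m.2.1 * n.1.2 + m.2.2 * n.2.2))
/-- Determinant. -/
def dt (m : M2) : ZMod 3 := m.1.1 * m.2.2 - m.1.2 * m.2.1
/-- Adjugate. -/
def ad (m : M2) : M2 := ((m.2.2, -m.1.2), (-m.2.1, m.1.1))
/-- Identity. -/
def m1 : M2 := ((1, 0), (0, 1))
/-- Minus the identity. -/
def mn : M2 := ((-1, 0), (0, -1))
/-- A transvection. -/
def mt : M2 := ((1, 1), (0, 1))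
/-- An element of order four. -/
def mU : M2 := ((0, 1), (-1, 0))
/-- The quaternion group. -/
def Q8 (m : M2) : Prop := dt m = 1 ∧ (mu m m = m1 ∨ mu m m = mn)
instance : DecidablePred Q8 := fun m => by unfold Q8; infer_instance
/-- Block maps. -/
def bm (a b : M2) (v : V4) : V4 := (ap a v.1, ap b v.2)

theorem ap_mu (a b : M2) (v : V2) : ap (mu a b) v = ap a (ap b v) := by
  simp only [ap, mu, Prod.mk.injEq]; constructor <;> ring

theorem dt_mu (a b : M2) : dt (mu a b) = dt a * dt b := by simp only [dt, mu]; ring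

theorem ap_m1 (v : V2) : ap m1 v = v := by simp [ap, m1]

theorem ap_mn (v : V2) : ap mn v = -v := by simp [ap, mn, Prod.ext_iff]

theorem ap_zero (a : M2) : ap a 0 = 0 := by simp [ap]

theorem ap_inj {a b : M2} (h : ∀ v, ap a v = ap b v) : a = b := by
  have h1 := h (1, 0)
  have h2 := h (0, 1)
  simp only [ap, mul_one, mul_zero, add_zero, zero_add, Prod.mk.injEq] at h1 h2
  exact Prod.ext (Prod.ext h1.1 h2.1) (Prod.ext h1.2 h2.2)

theorem exists_ap (f : V2 →+ V2) : ∃ a, ∀ v, f v = ap a v :=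
  ⟨(((f (1, 0)).1, (f (0, 1)).1), ((f (1, 0)).2, (f (0, 1)).2)), fun v => by
    have : ∀ v : V2, v = v.1.val • (1, 0) + v.2.val • (0, 1) := by decide
    rw [this v, map_add, map_nsmul, map_nsmul, ← this v]
    simp [ap, Prod.ext_iff, mul_comm]⟩

/-- Words in two generators. -/
def ev : List Bool → M2
  | [] => m1
  | b :: l => mu (if b then mt else mu (mu mU mt) (ad mU)) (ev l)

theorem exists_word : ∀ s, dt s = 1 → ∃ l ∈ ([1, 3, 2, 7, 5, 6, 4, 11, 13, 9, 14, 12, 27, 19, 29, 25,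
    22, 28, 59, 51, 45, 57, 91, 115] : List ℕ), ev (Nat.bits l).dropLast = s := by
  decide +kernel

theorem card_sl : Nat.card {s : M2 // dt s = 1} = 24 := by
  rw [Nat.card_eq_fintype_card]; decide +kernel

theorem dt_ne : ∀ a, (∀ v, ap a v = 0 → v = 0) → dt a = 1 ∨
    ∃ s, dt s = 1 ∧ mu (mu a s) mt = mu (ad mt) (mu a s) := by decide +kernel

theorem ad_mu : ∀ a, dt a = 1 → mu a (ad a) = m1 ∧ dt (ad a) = 1 ∧ mu (ad a) a = m1 := by
  decide +kernel

theorem trans_sl : ∀ v : V2, v ≠ 0 → ∃ s, dt s = 1 ∧ ap s (1, 0) = v := by decide +kernel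

theorem cent_sl : ∀ a, mu a mt = mu mt a → mu a mU = mu mU a → (∀ v, ap a v = 0 → v = 0) →
    a = m1 ∨ a = mn := by decide +kernel

set_option synthInstance.maxSize 512 in
theorem ord_three : ∀ s, dt s = 1 → mu s (mu s s) = m1 → s = m1 ∨
    ∃ a, Q8 a ∧ (mu a s = mu mt a ∨ mu a s = mu (ad mt) a) := by decide +kernel

theorem ord_four : ∀ s, dt s = 1 → mu s s = mn → mu (mu s mt) (mu (mu s mt) (mu s mt)) = m1 →
    s = mU ∨ mu s mt = mu mt mU ∨ mu mt s = mu mU mt := by decide +kernel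

theorem q8_mu : ∀ a b, Q8 a → Q8 b → Q8 (mu a b) := by decide +kernel

set_option synthInstance.maxSize 512 in
theorem q8_ad : ∀ a, Q8 a → Q8 (ad a) ∧ mu (mu a a) (mu a a) = m1 ∧
    (mu a a = m1 → a = m1 ∨ a = mn) ∧ ∀ b, mu a b = m1 → ad a = b := by decide +kernel

theorem odd_sl : ∀ s, dt s = 1 → s = m1 ∨ s = mn ∨ mu s s = mn ∨ mu s (mu s s) = mn ∨
    mu (mu (mu mU s) (mu (ad mU) (ad s))) (mu (mu mU s) (mu (ad mU) (ad s))) = mn := by decide +kernel

end CL.He9
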