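import Cfsg.Agent.CLAS.U3Min9
import Cfsg.Agent.CLAS.ElusL2
import Cfsg.Agent.FUS.Rk2Calc
import Cfsg.Agent.KSG.SpUUnitary

/-!
# Extraspecial subgroups of order 27 in `GL₃` and their normalisers
-/

set_option autoImplicit false

namespace CL.Heis3

open Matrix Cfsg Cfsg.Geo CL.ElusL
open scoped commutatorElement

variable {F : Type*} [Field F]

/-- `ω` is a primitive cube root of unity. -/
def W (ω : F) : Prop := ω ^ 2 + ω + 1 = 0 ∧ (3 : F) ≠ 0

theorem W.cube {ω : F} (h : W ω) : ω ^ 3 = 1 := by linear_combination (ω - 1) * h.1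

theorem W.ne_one {ω : F} (h : W ω) : ω ≠ 1 := by
  rintro rfl; exact h.2 (by linear_combination h.1)

theorem W.sq {ω : F} (h : W ω) : W (ω ^ 2) := ⟨by linear_combination (ω ^ 2 - ω + 1) * h.1, h.2⟩

theorem W.cases {ω : F} (h : W ω) {e : F} (he : e ^ 3 = 1) : e = 1 ∨ e = ω ∨ e = ω ^ 2 := by
  have : (e - 1) * ((e - ω) * (e - ω ^ 2)) = 0 := by
    linear_combination he + (e - e ^ 2 - 1) * h.1 + (e - 1) * h.cube + h.1
  simpa only [mul_eq_zero, sub_eq_zero] using this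

/-- The diagonal generator. -/
def D {ω : F} (h : W ω) : GL (Fin 3) F :=
  ⟨diagonal ![1, ω, ω ^ 2], diagonal ![1, ω ^ 2, ω], by
    rw [diagonal_mul_diagonal, ← diagonal_one]; congr 1; ext i
    fin_cases i <;> simp <;> linear_combination h.cube, by
    rw [diagonal_mul_diagonal, ← diagonal_one]; congr 1; ext i
    fin_cases i <;> simp <;> linear_combination h.cube⟩

/-- The cyclic generator. -/
def P (F : Type*) [Field F] : GL (Fin 3) F :=
  ⟨!![0, 0, 1; 1, 0, 0; 0, 1, 0], !![0, 1, 0; 0, 0, 1; 1, 0, 0], by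
    ext i j; fin_cases i <;> fin_cases j <;> simp [Matrix.mul_apply, Fin.sum_univ_three], by
    ext i j; fin_cases i <;> fin_cases j <;> simp [Matrix.mul_apply, Fin.sum_univ_three]⟩

/-- An involution inverting both generators. -/
def T (F : Type*) [Field F] : GL (Fin 3) F :=
  ⟨!![-1, 0, 0; 0, 0, -1; 0, -1, 0], !![-1, 0, 0; 0, 0, -1; 0, -1, 0], by
    ext i j; fin_cases i <;> fin_cases j <;> simp [Matrix.mul_apply, Fin.sum_univ_three], by
    ext i j; fin_cases i <;> fin_cases j <;> simp [Matrix.mul_apply, Fin.sum_univ_three]⟩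

theorem coe_D {ω : F} (h : W ω) : (D h).1 = diagonal ![1, ω, ω ^ 2] := rfl
theorem coe_P : (P F).1 = !![0, 0, 1; 1, 0, 0; 0, 1, 0] := rfl
theorem coe_T : (T F).1 = !![-1, 0, 0; 0, 0, -1; 0, -1, 0] := rfl

theorem det_D {ω : F} (h : W ω) : (D h).1.det = 1 := by
  rw [coe_D, det_diagonal, Fin.prod_univ_three]; simp; linear_combination h.cube
theorem det_P : (P F).1.det = 1 := by simp [coe_P, det_fin_three]
theorem det_T : (T F).1.det = 1 := by simp [coe_T, det_fin_three]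

theorem scalar_of_comm {ω : F} (h : W ω) {A : Matrix (Fin 3) (Fin 3) F} (h1 : A * (D h).1 = (D h).1 * A)
    (h2 : A * (P F).1 = (P F).1 * A) : ∃ c : F, A = c • 1 := by
  have k : ∀ i j, (![1, ω, ω ^ 2] : Fin 3 → F) i ≠ ![1, ω, ω ^ 2] j → A i j = 0 := fun i j hij => by
    have := congrFun (congrFun h1 i) j
    rw [coe_D, mul_diagonal, diagonal_mul, mul_comm] at this
    exact (mul_eq_mul_right_iff.1 this).resolve_left hij.symm
  have n1 := h.ne_one
  have n2 := h.sq.ne_one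
  have n3 : ω ≠ ω ^ 2 := fun e => n2 (by linear_combination h.cube + ω * e)
  have a1 := congrFun (congrFun h2 1) 0
  have a2 := congrFun (congrFun h2 2) 1
  simp [coe_P, Matrix.mul_apply, Fin.sum_univ_three] at a1 a2
  refine ⟨A 0 0, ?_⟩
  ext i j
  fin_cases i <;> fin_cases j <;> simp [a1, a2] <;> apply k <;> simp [n1, n2, n3, n1.symm, n2.symm, n3.symm]

/-- The standard basis attached to a pair of generators. -/
theorem exists_basis {ω : F} (h : W ω) {x y c : GL (Fin 3) F} (x3 : x ^ 3 = 1) (y3 : y ^ 3 = 1)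
    (e : x * y = c * (y * x)) (cx : c * x = x * c) (cy : c * y = y * c) {u : Fin 3 → F} (u0 : u ≠ 0)
    (hu : c.1 *ᵥ u = ω • u) : ∃ g : GL (Fin 3) F, x * g = g * D h ∧ y * g = g * P F := by
  have hc : ∀ z : GL (Fin 3) F, z ^ 3 = 1 → ∀ v, z.1 *ᵥ (z.1 *ᵥ (z.1 *ᵥ v)) = v := fun z hz v => by
    rw [mulVec_mulVec, mulVec_mulVec, ← pow_three', ← Units.val_pow_eq_pow_val, hz, Units.val_one, one_mulVec]
  have cm : ∀ z : GL (Fin 3) F, c * z = z * c → ∀ v, c.1 *ᵥ v = ω • v → c.1 *ᵥ (z.1 *ᵥ v) = ω • z.1 *ᵥ v :=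
    fun z hz v hv => by
      rw [mulVec_mulVec, ← Units.val_mul, hz, Units.val_mul, ← mulVec_mulVec, hv, mulVec_smul]
  have h1 : ∀ v (a : F), c.1 *ᵥ v = ω • v → x.1 *ᵥ v = a • v → x.1 *ᵥ (y.1 *ᵥ v) = (a * ω) • y.1 *ᵥ v :=
    fun v a hv ha => by
      rw [mulVec_mulVec, ← Units.val_mul, e, Units.val_mul, Units.val_mul, ← mulVec_mulVec, ← mulVec_mulVec,
        ha, mulVec_smul, mulVec_smul, cm y cy v hv, smul_smul]
  have hy0 : ∀ v, y.1 *ᵥ v = 0 → v = 0 := fun v hv => by rw [← hc y y3 v, hv]; simp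
  have w1 := h.1
  have w3 := h.cube
  obtain ⟨v, hv0, hcv, hv⟩ : ∃ v, v ≠ 0 ∧ c.1 *ᵥ v = ω • v ∧ x.1 *ᵥ v = v := by
    by_contra h0
    have e0 : ∀ v, c.1 *ᵥ v = ω • v → x.1 *ᵥ v = v → v = 0 := fun v hc hv =>
      by_contra fun h => h0 ⟨v, h, hc, hv⟩
    have e1 : ∀ v, c.1 *ᵥ v = ω • v → x.1 *ᵥ v = ω ^ 2 • v → v = 0 := fun v hc hv =>
      hy0 _ (e0 _ (cm y cy v hc) (by rw [h1 v _ hc hv, ← pow_succ, w3, one_smul]))
    have e2 : ∀ v, c.1 *ᵥ v = ω • v → x.1 *ᵥ v = ω • v → v = 0 := fun v hc hv =>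
      hy0 _ (e1 _ (cm y cy v hc) (by rw [h1 v _ hc hv, sq]))
    have c1 := cm x cx u hu
    have c2 := cm x cx _ c1
    have t0 := e0 (u + x.1 *ᵥ u + x.1 *ᵥ (x.1 *ᵥ u)) (by simp only [mulVec_add, hu, c1, c2, smul_add])
      (by simp only [Matrix.mulVec_add, hc x x3]; abel)
    have t1 := e1 (u + ω • x.1 *ᵥ u + ω ^ 2 • x.1 *ᵥ (x.1 *ᵥ u))
      (by simp only [mulVec_add, mulVec_smul, hu, c1, c2]; module) (by
      simp only [Matrix.mulVec_add, Matrix.mulVec_smul, hc x x3]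
      match_scalars <;> grind)
    have t2 := e2 (u + ω ^ 2 • x.1 *ᵥ u + ω • x.1 *ᵥ (x.1 *ᵥ u))
      (by simp only [mulVec_add, mulVec_smul, hu, c1, c2]; module) (by
      simp only [Matrix.mulVec_add, Matrix.mulVec_smul, hc x x3]
      match_scalars <;> grind)
    refine u0 ((smul_eq_zero.mp (?_ : (3 : F) • u = 0)).resolve_left h.2)
    linear_combination (norm := skip) t0 + t1 + t2
    match_scalars <;> grind
  have a1 := h1 v 1 hcv (by rw [hv, one_smul])
  have a2 := h1 _ _ (cm y cy v hcv) a1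
  let g : Matrix (Fin 3) (Fin 3) F := (of ![v, y.1 *ᵥ v, y.1 *ᵥ (y.1 *ᵥ v)])ᵀ
  have gv : ∀ t : Fin 3 → F, g *ᵥ t = t 0 • v + t 1 • y.1 *ᵥ v + t 2 • y.1 *ᵥ (y.1 *ᵥ v) := fun t => by
    ext i; simp [g, mulVec, dotProduct, Fin.sum_univ_three, mul_comm]
  have g1 : x.1 * g = g * (D h).1 := ext_of_mulVec_single fun i => by
    rw [← mulVec_mulVec, ← mulVec_mulVec, gv, gv]
    fin_cases i <;> simp [-mulVec_mulVec, coe_D, hv, a1, a2, sq]
  have g2 : y.1 * g = g * (P F).1 := ext_of_mulVec_single fun i => by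
    rw [← mulVec_mulVec, ← mulVec_mulVec, gv, gv]
    fin_cases i <;> simp [-mulVec_mulVec, coe_P, hc y y3]
  have k0 : ∀ t, g *ᵥ t = 0 → t 0 = 0 := fun t ht => by
    have b1 : g *ᵥ ((D h).1 *ᵥ t) = 0 := by rw [mulVec_mulVec, ← g1, ← mulVec_mulVec, ht, mulVec_zero]
    have b2 : g *ᵥ ((D h).1 *ᵥ ((D h).1 *ᵥ t)) = 0 := by
      rw [mulVec_mulVec, ← g1, ← mulVec_mulVec, b1, mulVec_zero]
    rw [gv] at ht b1 b2
    simp only [coe_D, mulVec_diagonal, cons_val] at b1 b2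
    have : (3 * t 0) • v = 0 := by
      linear_combination (norm := skip) ht + b1 + b2
      match_scalars <;> grind
    exact (mul_eq_zero.1 ((smul_eq_zero.1 this).resolve_right hv0)).resolve_left h.2
  have k1 : ∀ t, g *ᵥ t = 0 → g *ᵥ ((P F).1 *ᵥ t) = 0 := fun t ht => by
    rw [mulVec_mulVec, ← g2, ← mulVec_mulVec, ht, mulVec_zero]
  have hd : g.det ≠ 0 := fun hd => by
    obtain ⟨t, t0, ht⟩ := exists_mulVec_eq_zero_iff.2 hd
    have b0 := k0 t ht
    have b1 := k0 _ (k1 t ht)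
    have b2 := k0 _ (k1 _ (k1 t ht))
    simp [coe_P, mulVec, dotProduct, Fin.sum_univ_three] at b1 b2
    exact t0 (funext fun i => by fin_cases i <;> simp [b0, b1, b2])
  exact ⟨GeneralLinearGroup.mkOfDetNeZero g hd, Units.ext g1, Units.ext g2⟩

/-- The scalar matrices. -/
abbrev sc (a : Fˣ) : GL (Fin 3) F := GeneralLinearGroup.scalar (Fin 3) a

theorem coe_sc (a : Fˣ) : (sc a).1 = (a : F) • (1 : Matrix (Fin 3) (Fin 3) F) := by
  simp [Matrix.smul_one_eq_diagonal]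

theorem sc_comm (a : Fˣ) (g : GL (Fin 3) F) : sc a * g = g * sc a :=
  Units.ext (by simp only [Units.val_mul, coe_sc, smul_mul, Matrix.mul_smul, one_mul, mul_one])

theorem W.ne_zero {ω : F} (h : W ω) : ω ≠ 0 := by
  rintro rfl; simpa using h.1

theorem D_mul_P {ω : F} (h : W ω) : D h * P F = sc (Units.mk0 ω h.ne_zero) * (P F * D h) :=
  Units.ext (by
    simp only [Units.val_mul, coe_sc, coe_D, coe_P]
    ext i j
    fin_cases i <;> fin_cases j <;> simp [Matrix.mul_apply, Fin.sum_univ_three, sq, vecMul_diagonal]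
    linear_combination -h.cube)

theorem D_cube {ω : F} (h : W ω) : D h ^ 3 = 1 := Units.ext (by
  rw [Units.val_pow_eq_pow_val, coe_D, diagonal_pow, Units.val_one, ← diagonal_one]; congr 1; ext i
  fin_cases i <;> simp [h.cube, h.sq.cube])

theorem P_cube : P F ^ 3 = 1 := Units.ext (by
  rw [Units.val_pow_eq_pow_val, coe_P, pow_three, Units.val_one]
  ext i j; fin_cases i <;> fin_cases j <;> simp [Matrix.mul_apply, Fin.sum_univ_three])

theorem sc_ne_one {ω : F} (h : W ω) : sc (Units.mk0 ω h.ne_zero) ≠ 1 := fun e => h.ne_one (by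
  have := (coe_sc _).symm.trans (congrArg Units.val e)
  simpa using congrFun (congrFun this 0) 0)

theorem sc_cube {ω : F} (h : W ω) : sc (Units.mk0 ω h.ne_zero) ^ 3 = 1 := by
  rw [← map_pow, show Units.mk0 ω h.ne_zero ^ 3 = 1 from Units.ext (by simpa using h.cube), map_one]

theorem exists_std {ω₀ : F} (h₀ : W ω₀) {R : Subgroup (GL (Fin 3) F)} (hR : Nat.card R = 27)
    (hRe : Monoid.exponent R = 3) (hRna : ¬ IsMulCommutative R) :
    ∃ (ω : F) (h : W ω) (g : GL (Fin 3) F), g * D h * g⁻¹ ∈ R ∧ g * P F * g⁻¹ ∈ R := by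
  have : Finite R := Nat.finite_of_card_ne_zero (by omega)
  have : Fact (Nat.Prime 3) := ⟨by norm_num⟩
  have hc := (CL.PG.card_center_of_cube (p := 3) hR hRna).2
  have hp : ∀ x : R, x.1 ^ 3 = 1 := fun x => by
    have := Monoid.pow_exponent_eq_one x
    rw [hRe] at this
    exact congrArg Subtype.val this
  obtain ⟨x, y, hxy⟩ : ∃ x y : R, x * y ≠ y * x := by
    by_contra! h; exact hRna ⟨⟨h⟩⟩
  have hz := Subgroup.mem_center_iff.1 (hc (Subgroup.commutator_mem_commutator (Subgroup.mem_top x)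
    (Subgroup.mem_top y)))
  have e : x * y = ⁅x, y⁆ * (y * x) := by rw [commutatorElement_def]; group
  generalize ⁅x, y⁆ = c at hz e
  have c1 : c.1.1 - 1 ≠ 0 := fun h => hxy (by
    rw [e, show c = 1 from Subtype.ext (Units.ext (sub_eq_zero.1 h)), one_mul])
  obtain ⟨w, hw⟩ : ∃ w, (c.1.1 - 1) *ᵥ w ≠ 0 := by
    by_contra! h
    exact c1 (ext_of_mulVec_single fun i => by rw [h, zero_mulVec])
  have c3 : c.1.1 *ᵥ (c.1.1 *ᵥ (c.1.1 *ᵥ w)) = w := by
    rw [mulVec_mulVec, mulVec_mulVec, ← pow_three', ← Units.val_pow_eq_pow_val, hp, Units.val_one, one_mulVec]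
  rw [sub_mulVec, one_mulVec] at hw
  obtain ⟨ω, h, u, u0, hu⟩ : ∃ ω, W ω ∧ ∃ u, u ≠ 0 ∧ c.1.1 *ᵥ u = ω • u := by
    by_cases h : c.1.1 *ᵥ (c.1.1 *ᵥ w - w) = ω₀ ^ 2 • (c.1.1 *ᵥ w - w)
    · exact ⟨_, h₀.sq, _, hw, h⟩
    · refine ⟨_, h₀, _, sub_ne_zero.2 h, ?_⟩
      simp only [mulVec_sub, mulVec_smul, c3]
      have := h₀.1
      match_scalars <;> grind
  obtain ⟨g, g1, g2⟩ := exists_basis h (hp x) (hp y) (congrArg Subtype.val e)
    (congrArg Subtype.val (hz x).symm) (congrArg Subtype.val (hz y).symm) u0 hu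
  exact ⟨ω, h, g, by rw [← g1, mul_inv_cancel_right]; exact x.2, by rw [← g2, mul_inv_cancel_right]; exact y.2⟩

section Std

variable {ω : F} (h : W ω) {K : Subgroup (GL (Fin 3) F)} (hK : Nat.card K = 27) (hD : D h ∈ K) (hP : P F ∈ K)
include hD hP

theorem sc_mem : sc (Units.mk0 ω h.ne_zero) ∈ K := by
  rw [← mul_inv_eq_iff_eq_mul.2 (D_mul_P h)]
  exact K.mul_mem (K.mul_mem hD hP) (K.inv_mem (K.mul_mem hP hD))

theorem diag_mem {n : GL (Fin 3) F} {e : Fin 3 → F} (hn : n.1 = diagonal e) (he : ∀ i, e i ^ 3 = 1)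
    (hp : e 0 * e 1 * e 2 = 1) : n ∈ K := by
  have w1 := h.1
  have w3 := h.cube
  obtain ⟨i, hi⟩ : ∃ i : ℕ, e 0 = ω ^ i := by
    rcases h.cases (he 0) with e | e | e
    exacts [⟨0, by simpa using e⟩, ⟨1, by simpa using e⟩, ⟨2, e⟩]
  obtain ⟨j, hj⟩ : ∃ j : ℕ, e 0 ^ 2 * e 1 = ω ^ j := by
    rcases h.cases (e := e 0 ^ 2 * e 1) (by rw [mul_pow, pow_right_comm, he, he]; simp) with e | e | e
    exacts [⟨0, by simpa using e⟩, ⟨1, by simpa using e⟩, ⟨2, e⟩]
  have : n = sc (Units.mk0 ω h.ne_zero) ^ i * D h ^ j := Units.ext (by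
    rw [hn, Units.val_mul, ← map_pow, coe_sc, Units.val_pow_eq_pow_val, Units.val_pow_eq_pow_val, coe_D,
      diagonal_pow, smul_mul, one_mul, ← diagonal_smul]
    congr 1; ext k
    have a0 := he 0
    have a1 := he 1
    have a2 := he 2
    fin_cases k <;> simp [← hi, pow_right_comm ω 2, ← hj] <;> grind)
  rw [this]
  exact K.mul_mem (K.pow_mem (sc_mem h hD hP) _) (K.pow_mem hD _)

include hK

theorem le_of_gen {L : Subgroup (GL (Fin 3) F)} (h1 : D h ∈ L) (h2 : P F ∈ L) : K ≤ L := by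
  have : Finite K := Nat.finite_of_card_ne_zero (by omega)
  have : Fact (Nat.Prime 3) := ⟨by norm_num⟩
  have := CL.U3M.cube_dvd_card (p := 3) (K := L.subgroupOf K) (x := ⟨_, hD⟩) (y := ⟨_, hP⟩)
    (c := ⟨_, sc_mem h hD hP⟩) h1 h2 (sc_mem h h1 h2) (Subtype.ext (D_cube h)) (Subtype.ext P_cube)
    (Subtype.ext (sc_cube h)) (Subtype.ext (D_mul_P h)) (Subtype.ext (sc_comm _ _))
    (Subtype.ext (sc_comm _ _)) fun e => sc_ne_one h (congrArg Subtype.val e)
  exact Subgroup.subgroupOf_eq_top.1 (Subgroup.eq_top_of_le_card _ (hK ▸ Nat.le_of_dvd Nat.card_pos this))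

theorem mem_norm {n : GL (Fin 3) F} (h1 : n * D h * n⁻¹ ∈ K) (h2 : n * P F * n⁻¹ ∈ K) :
    n ∈ subgroupNormalizer K := by
  have : Finite K := Nat.finite_of_card_ne_zero (by omega)
  exact Subgroup.mem_normalizer_fintype fun a ha =>
    le_of_gen h hK hD hP (L := K.comap (MulAut.conj n).toMonoidHom) h1 h2 ha

theorem diag_mem_norm {n : GL (Fin 3) F} {d : Fin 3 → F} (hn : n.1 = diagonal d) {z : F}
    (hd : ∀ i, d i ^ 3 = z) : n ∈ subgroupNormalizer K := by
  have d0 : ∀ i, d i ≠ 0 := fun i => by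
    have := n.det_ne_zero
    rw [hn, det_diagonal] at this
    exact Finset.prod_ne_zero_iff.1 this i (Finset.mem_univ i)
  have z0 : z ≠ 0 := hd 0 ▸ pow_ne_zero _ (d0 0)
  refine mem_norm h hK hD hP ?_ ?_
  · rwa [show n * D h = D h * n from Units.ext (by
      simp only [Units.val_mul, hn, coe_D, diagonal_mul_diagonal, mul_comm]), mul_inv_cancel_right]
  · rw [← K.mul_mem_cancel_right (K.inv_mem hP)]
    refine diag_mem h hD hP (e := ![d 0 / d 2, d 1 / d 0, d 2 / d 1]) ?_ (fun i => ?_) ?_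
    · rw [mul_assoc, ← _root_.mul_inv_rev, Units.val_mul, Units.mul_inv_eq_iff_eq_mul]
      simp only [Units.val_mul, hn, coe_P]
      have := d0 0
      have := d0 1
      have := d0 2
      ext i j
      fin_cases i <;> fin_cases j <;> simp [Matrix.mul_apply, Fin.sum_univ_three, vecMul_diagonal, *]
    · fin_cases i <;> simp [div_pow, hd, z0]
    · have := d0 0
      have := d0 1
      have := d0 2
      simp only [cons_val]
      field_simp

theorem scT_mem_norm (a : Fˣ) : sc a * T F ∈ subgroupNormalizer K := by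
  have k : ∀ g, sc a * T F * g * (sc a * T F)⁻¹ = T F * g * (T F)⁻¹ := fun g => by
    rw [mul_assoc (sc a), sc_comm, sc_comm a]; group
  refine mem_norm h hK hD hP ?_ ?_ <;> rw [k]
  · convert K.mul_mem hD hD using 1
    refine mul_inv_eq_iff_eq_mul.2 (Units.ext ?_)
    simp only [Units.val_mul, coe_D, coe_T]
    have := h.cube
    ext i j
    fin_cases i <;> fin_cases j <;> simp [Matrix.mul_apply, Fin.sum_univ_three] <;> grind
  · convert K.mul_mem hP hP using 1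
    refine mul_inv_eq_iff_eq_mul.2 (Units.ext ?_)
    simp only [Units.val_mul, coe_P, coe_T]
    ext i j
    fin_cases i <;> fin_cases j <;> simp [Matrix.mul_apply, Fin.sum_univ_three]

theorem scalar_of_norm {n : GL (Fin 3) F} (hn : n ∈ subgroupNormalizer K) {r : ℕ} [hr : Fact r.Prime]
    (h2 : r ≠ 2) (h3 : r ≠ 3) (hnr : n ^ r = 1) : ∃ c : F, n.1 = c • 1 := by
  have : Finite K := Nat.finite_of_card_ne_zero (by omega)
  let φ : MulAut K := K.normalizerMonoidHom ⟨n, hn⟩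
  have φv : ∀ x : K, (φ x).1 = n * x * n⁻¹ := fun _ => rfl
  have φr : φ ^ r = 1 := by rw [← map_pow, ← map_one K.normalizerMonoidHom]; congr 1; exact Subtype.ext hnr
  have hp : IsPGroup r (Subgroup.zpowers φ) := by
    rintro ⟨_, k, rfl⟩
    refine ⟨1, Subtype.ext ?_⟩
    show (φ ^ k) ^ r ^ 1 = 1
    rw [pow_one, ← _root_.zpow_natCast, ← _root_.zpow_mul, mul_comm, _root_.zpow_mul,
      _root_.zpow_natCast, φr, _root_.one_zpow]
  have hm := hp.card_modEq_card_fixedPoints K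
  let C := FixedPoints.subgroup (Subgroup.zpowers φ) K
  have hC : ∀ x, x ∈ C ↔ φ x = x := fun x =>
    ⟨fun hx => hx ⟨φ, Subgroup.mem_zpowers φ⟩, fun hx ⟨_, k, e⟩ => by
      subst e; exact (MulAction.stabilizer (MulAut K) x).zpow_mem hx k⟩
  change _ ≡ Nat.card C [MOD r] at hm
  obtain ⟨k, hk, e⟩ := (Nat.dvd_prime_pow Nat.prime_three).1
    (show Nat.card C ∣ 3 ^ 3 from C.card_subgroup_dvd_card.trans hK.dvd)
  rw [hK, e] at hm
  have hd := (Nat.modEq_iff_dvd' (Nat.pow_le_pow_right (by norm_num) hk : 3 ^ k ≤ 3 ^ 3)).1 hm.symm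
  have hr' : ∀ a b, ¬ r ∣ 2 ^ a * 3 ^ b := fun a b hd => by
    rcases (Nat.Prime.dvd_mul hr.out).1 hd with hd | hd
    · exact h2 ((Nat.prime_dvd_prime_iff_eq hr.out Nat.prime_two).1 (hr.out.dvd_of_dvd_pow hd))
    · exact h3 ((Nat.prime_dvd_prime_iff_eq hr.out Nat.prime_three).1 (hr.out.dvd_of_dvd_pow hd))
  interval_cases k
  · refine (sc_ne_one h (congrArg Subtype.val ((Subgroup.eq_bot_iff_forall C).1 (Subgroup.card_eq_one.1 e)
      ⟨_, sc_mem h hD hP⟩ ((hC _).2 (Subtype.ext ?_))))).elim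
    rw [φv, ← sc_comm, mul_inv_cancel_right]
  · exact (hr' 3 1 hd).elim
  · exact (hr' 1 2 hd).elim
  · have := Subgroup.eq_top_of_card_eq C (e.trans hK.symm)
    have k : ∀ x : K, n.1 * x.1.1 = x.1.1 * n.1 := fun x => congrArg Units.val
      (mul_inv_eq_iff_eq_mul.1 ((φv x).symm.trans (congrArg Subtype.val ((hC x).1 (this.ge trivial)))))
    exact scalar_of_comm h (k ⟨_, hD⟩) (k ⟨_, hP⟩)

end Std

theorem exists_diag_conj [Fintype F] (p : ℕ) [Fact p.Prime] [CharP F p] {r : ℕ} [hr : Fact r.Prime]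
    (hrp : r ≠ p) {ζ : F} (hζ : IsPrimitiveRoot ζ r) {x : Matrix (Fin 3) (Fin 3) F} {b : F} (hb : b ≠ 0)
    (h : x ^ r = b ^ r • (1 : Matrix (Fin 3) (Fin 3) F)) :
    ∃ d : Fin 3 → F, (∀ i, d i ^ r = b ^ r) ∧ IsConj x (diagonal d) := by
  have hx : x.det ≠ 0 := fun e => by
    have := congrArg det h
    rw [det_pow, e, zero_pow hr.out.ne_zero, det_smul, det_one, mul_one] at this
    exact pow_ne_zero _ (pow_ne_zero _ hb) this.symm
  obtain ⟨a, ha⟩ := exists_fun_of_card (ι := Fin 3) (ev x) (card_ev x)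
  have : ∀ i, ∃ d : F, d ^ r = b ^ r ∧ algebraMap F (AlgebraicClosure F) d = a i := fun i => by
    have h1 := pow_eq_of_mem_ev (ha ▸ Multiset.mem_map_of_mem a (Finset.mem_univ_val i)) h
    have hb' : algebraMap F (AlgebraicClosure F) b ≠ 0 := by simpa using hb
    obtain ⟨k, -, hk⟩ := (hζ.map_of_injective (algebraMap F (AlgebraicClosure F)).injective).eq_pow_of_pow_eq_one
      (ξ := a i / algebraMap F _ b) (by rw [div_pow, h1, map_pow, div_self (pow_ne_zero _ hb')])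
    exact ⟨ζ ^ k * b, by rw [mul_pow, pow_right_comm, hζ.pow_eq_one, one_pow, one_mul], by
      rw [map_mul, map_pow, hk, div_mul_cancel₀ _ hb']⟩
  choose d hd hd' using this
  have h2 : diagonal d ^ r = b ^ r • (1 : Matrix (Fin 3) (Fin 3) F) := by
    rw [diagonal_pow, smul_one_eq_diagonal]; congr 1; exact funext hd
  refine ⟨d, hd, isConj_of_ev (ss_of_pow_eq p hrp hx h) (ss_of_pow_eq p hrp ?_ h2) ?_⟩
  · rw [det_diagonal]
    exact Finset.prod_ne_zero_iff.2 fun i _ e => pow_ne_zero r hb (by rw [← hd i, e, zero_pow hr.out.ne_zero])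
  · rw [ev_diagonal, ← ha]; simp only [hd']

theorem ev_invol [Fintype F] (p : ℕ) [Fact p.Prime] [CharP F p] (h2 : 2 ≠ p) {x : Matrix (Fin 3) (Fin 3) F}
    (h : x ^ 2 = 1) (hd : x.det = 1) (h1 : x ≠ 1) : ev x = {1, -1, -1} := by
  have : Fact (Nat.Prime 2) := ⟨Nat.prime_two⟩
  obtain ⟨d, hd2, hc⟩ := exists_diag_conj p h2 (IsPrimitiveRoot.neg_one p h2.symm) one_ne_zero
    (x := x) (by simpa using h)
  have e : ∀ i, d i = 1 ∨ d i = -1 := fun i => sq_eq_one_iff.1 (by simpa using hd2 i)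
  have n : (-1 : F) ≠ 1 := (IsPrimitiveRoot.neg_one p h2.symm).ne_one one_lt_two
  have hd' : d 0 * d 1 * d 2 = 1 := by
    obtain ⟨g, hg⟩ := hc
    have := congrArg det hg.eq
    rw [det_mul, det_mul, hd, det_diagonal, Fin.prod_univ_three, mul_one] at this
    exact (mul_eq_right₀ (GeneralLinearGroup.det_ne_zero g)).1 this.symm
  have h1' : ¬ (d 0 = 1 ∧ d 1 = 1 ∧ d 2 = 1) := fun e => h1 (by
    rwa [show diagonal d = 1 by
      rw [← diagonal_one]; congr 1; ext i; fin_cases i <;> simp [e], isConj_one_left] at hc)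
  rw [ev_eq_of_isConj hc, ev_diagonal, Fin.univ_val_map]
  rcases e 0 with a | a <;> rcases e 1 with b | b <;> rcases e 2 with c | c <;>
    simp [a, b, c, n, List.ofFn_succ] at hd' h1' ⊢
  exacts [rfl, Quot.sound (List.Perm.swap _ _ _), Quot.sound (List.perm_append_comm (l₁ := [-1, -1]) (l₂ := [1]))]

/-- An ambient group: the general linear or general unitary group. -/
structure Amb (G : Subgroup (GL (Fin 3) F)) (m : ℕ) : Prop where
  det : ∀ g ∈ G, g.1.det ^ m = 1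
  diag : ∀ (g : GL (Fin 3) F) (d : Fin 3 → F), g.1 = diagonal d → (∀ i, d i ^ m = 1) → g ∈ G
  P : P F ∈ G
  T : T F ∈ G
  conj : ∀ a ∈ G, ∀ b ∈ G, IsConj a.1 b.1 → ∃ g ∈ G, g⁻¹ * a * g = b

/-- An invertible diagonal matrix. -/
noncomputable def dg (d : Fin 3 → F) (h : ∀ i, d i ≠ 0) : GL (Fin 3) F :=
  GeneralLinearGroup.mkOfDetNeZero (diagonal d) (by
    rw [det_diagonal]; exact Finset.prod_ne_zero_iff.2 fun i _ => h i)

theorem Amb.conj_det {G : Subgroup (GL (Fin 3) F)} {m : ℕ} (hG : Amb G m) (m0 : m ≠ 0) {a b : GL (Fin 3) F}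
    (ha : a ∈ G) (hb : b ∈ G) (h : IsConj a.1 b.1) {d : Fin 3 → F} (hd : ∀ i, d i ^ m = 1)
    (h' : IsConj a.1 (diagonal d)) : ∃ g ∈ G ⊓ specialLinear (Fin 3) F, g⁻¹ * a * g = b := by
  have d0 : ∀ i, d i ≠ 0 := fun i e => by simpa [e, m0] using hd i
  obtain ⟨g, hg, e⟩ := hG.conj a ha b hb h
  obtain ⟨k, hk, e'⟩ := hG.conj a ha (dg d d0) (hG.diag _ d rfl hd) h'
  have g0 := inv_ne_zero g.det_ne_zero
  let s := dg ![g.1.det⁻¹, 1, 1] fun i => by fin_cases i <;> simp [g0]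
  have hs : s ∈ G := hG.diag _ _ rfl fun i => by fin_cases i <;> simp [hG.det g hg]
  have hc : s * dg d d0 = dg d d0 * s := Units.ext (by
    show diagonal _ * diagonal _ = diagonal _ * diagonal _
    simp only [diagonal_mul_diagonal, mul_comm])
  refine ⟨k * s * k⁻¹ * g, ⟨G.mul_mem (G.mul_mem (G.mul_mem hk hs) (G.inv_mem hk)) hg, mem_SL.2 ?_⟩, ?_⟩
  · have : s.1.det = g.1.det⁻¹ := by
      show (diagonal _).det = _
      simp [Fin.prod_univ_three]
    rw [Units.val_mul, det_mul, Units.val_mul, Units.val_mul, det_units_conj, this, inv_mul_cancel₀ g.det_ne_zero]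
  · calc _ = g⁻¹ * k * (s⁻¹ * (k⁻¹ * a * k * s)) * k⁻¹ * g := by group
      _ = g⁻¹ * k * (k⁻¹ * a * k) * k⁻¹ * g := by rw [e', ← hc, inv_mul_cancel_left]
      _ = b := by rw [← e]; group

theorem Amb.elusive [Fintype F] (p : ℕ) [Fact p.Prime] [CharP F p] {G : Subgroup (GL (Fin 3) F)} {m : ℕ}
    (hG : Amb G m) (h6 : 6 ∣ m) (hm : m ∣ Fintype.card F - 1)
    (h81 : 81 ∣ Nat.card (G ⊓ specialLinear (Fin 3) F : Subgroup _) → 9 ∣ m) {ω : F} (h : W ω)
    {R : Subgroup (GL (Fin 3) F)} (hR : Nat.card R = 27) {g : GL (Fin 3) F} (hg : g ∈ G)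
    (h1 : g * D h * g⁻¹ ∈ R) (h2 : g * Heis3.P F * g⁻¹ ∈ R) (r : ℕ) [hr : Fact r.Prime]
    (hΩ : r ∣ (subgroupNormalizer R).relIndex (G ⊓ specialLinear (Fin 3) F)) :
    (∀ x ∈ G ⊓ specialLinear (Fin 3) F,
      (∃ z : F, ((x ^ r : GL (Fin 3) F) : Matrix (Fin 3) (Fin 3) F) = z • (1 : Matrix (Fin 3) (Fin 3) F)) →
      (∀ z : F, (x : Matrix (Fin 3) (Fin 3) F) ≠ z • (1 : Matrix (Fin 3) (Fin 3) F)) →
      ∃ k ∈ G ⊓ specialLinear (Fin 3) F, k⁻¹ * x * k ∈ subgroupNormalizer R) ↔ (r = 2 ∨ (r = 3 ∧ 9 ∣ m)) := by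
  let φ := (MulAut.conj g).toMonoidHom
  let K := R.comap φ
  have hK : Nat.card K = 27 := by
    rw [← hR]; exact Nat.card_congr ((MulAut.conj g).toEquiv.subtypeEquiv fun _ => Iff.rfl)
  have hN : ∀ n, n ∈ subgroupNormalizer K ↔ g * n * g⁻¹ ∈ subgroupNormalizer R := fun n => by
    rw [subgroupNormalizer, ← Subgroup.comap_normalizer_eq_of_surjective R (MulAut.conj g).surjective]; rfl
  have hq : 1 < Fintype.card F := Fintype.one_lt_card
  have m0 : m ≠ 0 := by rintro rfl; have := Nat.eq_zero_of_zero_dvd hm; omega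
  have hp : ∀ s, s ∣ m → s.Prime → s ≠ p := fun s hs hs' e => by
    subst e
    obtain ⟨n, -, hn⟩ := FiniteField.card F s
    have := Nat.dvd_sub (hn ▸ dvd_pow_self s n.ne_zero : s ∣ Fintype.card F) (hs.trans hm)
    rw [Nat.sub_sub_self hq.le] at this
    exact hs'.one_lt.ne' (Nat.dvd_one.1 this)
  have p2 := hp 2 (Dvd.dvd.trans (by norm_num) h6) Nat.prime_two
  have p3 := hp 3 (Dvd.dvd.trans (by norm_num) h6) Nat.prime_three
  have pw : ∀ {a : F} {k : ℕ}, k ∣ m → a ^ k = 1 → a ^ m = 1 := fun hk ha => by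
    obtain ⟨c, rfl⟩ := hk; rw [pow_mul, ha, one_pow]
  have zc : ∀ x ∈ G ⊓ specialLinear (Fin 3) F, ∀ z : F, (x ^ r).1 = z • 1 → z ^ 3 = 1 := fun x hx z hz => by
    have := congrArg Matrix.det hz
    rw [Units.val_pow_eq_pow_val, det_pow, mem_SL.1 hx.2, one_pow, det_smul, det_one, mul_one] at this
    exact this.symm
  have cj : ∀ n : GL (Fin 3) F, IsConj n.1 (g * n * g⁻¹).1 := fun n =>
    isConj_of_mul_eq g (by rw [← Units.val_mul, ← Units.val_mul, inv_mul_cancel_right])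
  constructor
  · intro H
    by_contra! hne
    by_cases h3 : r = 3
    · subst h3
      refine hne.2 rfl (h81 ?_)
      rw [CL.PG.card_eq_card_inf_mul_relIndex (subgroupNormalizer R)]
      refine Nat.mul_dvd_mul (a := 27) (hR ▸ Subgroup.card_dvd_of_le (le_inf Subgroup.le_normalizer ?_)) hΩ
      have := le_of_gen h hK h1 h2 (L := G ⊓ specialLinear (Fin 3) F) ⟨hG.diag _ _ rfl fun i => by
        fin_cases i
        exacts [one_pow _, pw (Dvd.dvd.trans (by norm_num) h6) h.cube,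
          pw (Dvd.dvd.trans (by norm_num) h6) h.sq.cube], mem_SL.2 (det_D h)⟩ ⟨hG.P, mem_SL.2 det_P⟩
      intro x hx
      have := this (x := g⁻¹ * x * g) (by show g * _ * g⁻¹ ∈ R; simpa [mul_assoc] using hx)
      refine ⟨by simpa [mul_assoc] using G.mul_mem (G.mul_mem hg this.1) (G.inv_mem hg), mem_SL.2 ?_⟩
      rw [← mem_SL.1 this.2, Units.val_mul, Units.val_mul, det_units_conj']
    obtain ⟨x, ox⟩ := exists_prime_orderOf_dvd_card' r (hΩ.trans (Subgroup.relIndex_dvd_card _ _))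
    have xr : x.1 ^ r = 1 := congrArg Subtype.val (ox ▸ pow_orderOf_eq_one x :)
    have ns : ∀ y : GL (Fin 3) F, IsConj x.1.1 y.1 → ∀ z : F, y.1 ≠ z • 1 := fun y hy z hz => by
      obtain ⟨c, hc⟩ := hy
      have e : x.1.1 = z • 1 := by
        have := hc.eq
        rw [hz, smul_mul, one_mul] at this
        rw [← c.inv_mul_cancel_left x.1.1, this, Matrix.mul_smul, c.inv_mul]
      have z3 := zc x.1 x.2 1 (by rw [xr, one_smul]; rfl)
      have d3 := mem_SL.1 x.2.2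
      rw [e, det_smul, det_one, mul_one, Fintype.card_fin] at d3
      have x3 : x ^ 3 = 1 := Subtype.ext (Units.ext (by
        rw [Subgroup.coe_pow, Units.val_pow_eq_pow_val, e, smul_pow, d3, one_pow, one_smul]; rfl))
      exact h3 ((Nat.prime_dvd_prime_iff_eq hr.out Nat.prime_three).1 (ox ▸ orderOf_dvd_of_pow_eq_one x3))
    obtain ⟨k, -, hk⟩ := H x.1 x.2 ⟨1, by rw [xr, one_smul]; rfl⟩ (ns _ (IsConj.refl _))
    obtain ⟨c, hc⟩ := scalar_of_norm h hK h1 h2 (n := (k * g)⁻¹ * x.1 * (k * g)) ((hN _).2 (by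
      simpa [mul_assoc] using hk)) hne.1 h3 (by
        have := conj_pow (a := (k * g)⁻¹) (b := x.1) (i := r)
        rwa [inv_inv, xr, mul_one, inv_mul_cancel] at this)
    exact ns _ (isConj_of_mul_eq (k * g)⁻¹ (by
      rw [← Units.val_mul, ← Units.val_mul, mul_inv_cancel_right])) c hc
  · rintro (rfl | ⟨rfl, h9⟩) x hx ⟨z, hz⟩ hns
    · have z3 := zc x hx z hz
      have z0 : z ≠ 0 := by rintro rfl; simp at z3
      rw [Units.val_pow_eq_pow_val] at hz
      obtain ⟨d, hd, hc⟩ := exists_diag_conj p p2 (IsPrimitiveRoot.neg_one p p2.symm) (pow_ne_zero 2 z0)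
        (x := x.1) (by rw [hz]; congr 1; linear_combination -z * z3)
      have t2 : (Heis3.T F).1 ^ 2 = 1 := by rw [sq]; exact (Heis3.T F).val_inv
      have y2 : (z • x.1) ^ 2 = 1 := by rw [smul_pow, hz, smul_smul, ← pow_succ, z3, one_smul]
      have yd : (z • x.1).det = 1 := by rw [det_smul, Fintype.card_fin, z3, mem_SL.1 hx.2, one_mul]
      have c1 := isConj_smul (isConj_of_ev (ss_of_pow_eq p p2 (yd ▸ one_ne_zero) (z := 1) (by rw [y2, one_smul]))
        (ss_of_pow_eq p p2 (by rw [det_T]; exact one_ne_zero) (z := 1) (by rw [t2, one_smul]))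
        ((ev_invol p p2 y2 yd fun e => hns (z ^ 2) (by
          rw [← e, smul_smul, ← pow_succ, z3, one_smul])).trans (ev_invol p p2 t2 det_T fun e => by
            simpa [coe_T] using congrFun (congrFun e 1) 1).symm)) (z ^ 2)
      rw [smul_smul, ← pow_succ, z3, one_smul] at c1
      let n := sc (Units.mk0 (z ^ 2) (pow_ne_zero 2 z0)) * Heis3.T F
      have hn : n ∈ G := G.mul_mem (hG.diag _ (fun _ => z ^ 2) (by rw [coe_sc, smul_one_eq_diagonal]; rfl)
        fun _ => pw h6 (by linear_combination (z ^ 9 + z ^ 6 + z ^ 3 + 1) * z3)) hG.T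
      obtain ⟨k, hk, e⟩ := hG.conj_det m0 hx.1 (G.mul_mem (G.mul_mem hg hn) (G.inv_mem hg))
        ((show IsConj x.1 n.1 by rwa [Units.val_mul, coe_sc, smul_mul, one_mul]).trans (cj n))
        (fun i => pw h6 (by
          rw [show 6 = 2 * 3 from rfl, pow_mul, hd]; linear_combination (z ^ 9 + z ^ 6 + z ^ 3 + 1) * z3)) hc
      exact ⟨k, hk, e ▸ (hN n).1 (scT_mem_norm h hK h1 h2 _)⟩
    · have z3 := zc x hx z hz
      rw [Units.val_pow_eq_pow_val] at hz
      obtain ⟨ζ, hζ⟩ : ∃ ζ : F, IsPrimitiveRoot ζ 9 := by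
        obtain ⟨u, hu⟩ := IsCyclic.exists_ofOrder_eq_natCard (α := Fˣ)
        rw [Nat.card_units, Nat.card_eq_fintype_card] at hu
        obtain ⟨c, hc⟩ := h9.trans hm
        exact ⟨_, (IsPrimitiveRoot.coe_units_iff.2 (IsPrimitiveRoot.iff_orderOf.2 hu)).pow (by omega)
          (hc.trans (mul_comm _ _))⟩
      have hζ3 : IsPrimitiveRoot (ζ ^ 3) 3 := hζ.pow (by norm_num) rfl
      obtain ⟨i, -, rfl⟩ := hζ3.eq_pow_of_pow_eq_one z3
      obtain ⟨d, hd, hc⟩ := exists_diag_conj p p3 hζ3 (pow_ne_zero i (hζ.ne_zero (by norm_num)))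
        (x := x.1) (by rw [hz, pow_right_comm])
      have d9 : ∀ j, d j ^ m = 1 := fun j => pw h9 (by
        rw [show 9 = 3 * 3 from rfl, pow_mul, hd, pow_right_comm ζ i, z3])
      have d0 : ∀ i, d i ≠ 0 := fun i e => by simpa [e, m0] using d9 i
      obtain ⟨k, hk, e⟩ := hG.conj_det m0 hx.1
        (G.mul_mem (G.mul_mem hg (hG.diag (dg d d0) d rfl d9)) (G.inv_mem hg)) (hc.trans (cj (dg d d0))) d9 hc
      exact ⟨k, hk, e ▸ (hN _).1 (diag_mem_norm h hK h1 h2 rfl hd)⟩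

theorem amb_top [Fintype F] : Amb (⊤ : Subgroup (GL (Fin 3) F)) (Fintype.card F - 1) where
  det g _ := FiniteField.pow_card_sub_one_eq_one _ g.det_ne_zero
  diag _ _ _ _ := trivial
  P := trivial
  T := trivial
  conj a _ b _ := fun ⟨g, hg⟩ => ⟨g⁻¹, trivial, by
    rw [inv_inv, mul_inv_eq_iff_eq_mul]; exact Units.ext hg.eq⟩

section Unitary

open CL.SpU CL.SqField

variable [Fintype F] {q : ℕ} (hF : Fintype.card F = q ^ 2)
include hF

theorem amb_GU : Amb (GU 3 F q) (q + 1) where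
  det g hg := det_pow_eq_one_of_unitary hF ((mem_GU_iff hF).1 hg)
  diag g d e hd := (mem_GU_iff hF).2 (by
    rw [e]; ext i j
    rw [mul_diagonal, ct_apply]
    by_cases h : i = j
    · subst h; rw [diagonal_apply_eq, ← pow_succ, hd, one_apply_eq]
    · rw [diagonal_apply_ne' _ h, zero_pow_q hF, zero_mul, one_apply_ne h])
  P := (mem_GU_iff hF).2 (by
    ext i j
    fin_cases i <;> fin_cases j <;> simp [coe_P, Matrix.mul_apply, Fin.sum_univ_three, ct_apply, zero_pow_q hF])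
  T := (mem_GU_iff hF).2 (by
    ext i j
    fin_cases i <;> fin_cases j <;>
      simp [coe_T, Matrix.mul_apply, Fin.sum_univ_three, ct_apply, zero_pow_q hF, neg_pow_q hF])
  conj a ha b hb h := by
    obtain ⟨g, hg⟩ := isConj_iff.1 ((isConj_GU_iff hF ⟨a, ha⟩ ⟨b, hb⟩).2 h)
    exact ⟨g⁻¹, (GU 3 F q).inv_mem g.2, by rw [inv_inv]; exact congrArg Subtype.val hg⟩

theorem exists_unitary {ω : F} (h : W ω) (h3 : 3 ∣ q + 1) {g : GL (Fin 3) F} (h1 : g * D h * g⁻¹ ∈ GU 3 F q)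
    (h2 : g * P F * g⁻¹ ∈ GU 3 F q) : ∃ g' ∈ GU 3 F q, ∀ x, g' * x * g'⁻¹ = g * x * g⁻¹ := by
  have k : ∀ x ∈ GU 3 F q, g * x * g⁻¹ ∈ GU 3 F q → ct hF g.1 * g.1 * x.1 = x.1 * (ct hF g.1 * g.1) :=
    fun x hx hy => by
      have e1 := mul_eq_one_comm.1 ((mem_GU_iff hF).1 hx)
      have e2 := (mem_GU_iff hF).1 hy
      have e3 : g.1 * x.1 = (g * x * g⁻¹).1 * g.1 := by
        rw [← Units.val_mul, ← Units.val_mul, inv_mul_cancel_right]
      generalize (g * x * g⁻¹).1 = y at e2 e3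
      calc _ = x.1 * (ct hF (g.1 * x.1) * (g.1 * x.1)) := by
            rw [ct_mul]; simp only [← Matrix.mul_assoc, e1, Matrix.one_mul]
        _ = _ := by rw [e3, ct_mul, Matrix.mul_assoc, ← Matrix.mul_assoc (ct hF y), e2, Matrix.one_mul]
  obtain ⟨c, hc⟩ := h3
  obtain ⟨N, hN⟩ := scalar_of_comm h (k _ ((amb_GU hF).diag _ _ rfl fun i => by
    rw [hc, pow_mul]
    fin_cases i <;> simp [h.cube, h.sq.cube]) h1) (k _ (amb_GU hF).P h2)
  have e := congrArg (ct hF) hN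
  rw [ct_mul, ct_ct, hN, ct_smul, ct_one] at e
  obtain ⟨a, ha⟩ := exists_norm_eq hF (μ := N) (by simpa using (congrFun (congrFun e 0) 0).symm)
  have N0 : N ≠ 0 := fun h0 => by
    have := congrArg Matrix.det hN
    rw [det_mul, det_ct, h0, zero_smul, det_zero] at this
    · exact mul_ne_zero (pow_ne_zero _ g.det_ne_zero) g.det_ne_zero this
  have a0 : a ≠ 0 := by rintro rfl; exact N0 (by rw [← ha, zero_pow (Nat.succ_ne_zero q)])
  refine ⟨sc (Units.mk0 a a0)⁻¹ * g, (mem_GU_iff hF).2 ?_, fun x => ?_⟩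
  · rw [Units.val_mul, coe_sc, smul_mul, Matrix.one_mul, ct_smul, smul_mul, Matrix.mul_smul, hN, smul_smul,
      smul_smul, ← pow_succ, ← ha]
    simp [a0]
  · rw [mul_assoc (sc _), sc_comm, sc_comm _ g]; group

theorem card_SU3' : Nat.card (GU 3 F q ⊓ specialLinear (Fin 3) F : Subgroup _) =
    q ^ 3 * ((q ^ 2 - 1) * (q ^ 3 + 1)) := by
  rw [← CL.U3.card_SU3 hF]
  exact Nat.card_congr
    { toFun := fun g => ⟨⟨g.1.1, mem_SL.1 g.2.2⟩, g.2.1⟩
      invFun := fun g => ⟨SpecialLinearGroup.toGL g.1, g.2, mem_SL.2 g.1.2⟩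
      left_inv := fun _ => Subtype.ext (Units.ext rfl)
      right_inv := fun _ => rfl }

end Unitary

end CL.Heis3
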