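import Cfsg.Agent.CLAS.Heis3
import Cfsg.Agent.CLAS.AschSu3
import Cfsg.Agent.CLAS.AschSL3
import Cfsg.Agent.CLAS.AschO4

/-!
# Maximal subgroups in dimension three: invariants of the geometric classes
-/

set_option autoImplicit false

namespace CL.L3

open Matrix Cfsg Cfsg.Geo CL.Asch CL.ElusL

variable {F : Type*} [Field F]

/-- The general linear group of dimension three. -/
abbrev G3 (F : Type*) [Field F] := GL (Fin 3) F

/-- The special linear group of dimension three. -/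
abbrev S3 (F : Type*) [Field F] : Subgroup (G3 F) := specialLinear (Fin 3) F

theorem cj_inf (g : G3 F) (A B : Subgroup (G3 F)) : cj g (A ⊓ B) = cj g A ⊓ cj g B :=
  Subgroup.map_inf _ _ _ (MulAut.conj g).injective

theorem cj_eq_of_mem {A : Subgroup (G3 F)} {g : G3 F} (hg : g ∈ A) : cj g A = A := by
  ext x
  rw [mem_cj, A.mul_mem_cancel_right hg, A.mul_mem_cancel_left (A.inv_mem hg)]

theorem cj_S3 (g : G3 F) : cj g (S3 F) = S3 F := by
  ext x
  rw [mem_cj, mem_SL, mem_SL, Units.val_mul, Units.val_mul, det_units_conj']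

theorem card_cj (g : G3 F) (A : Subgroup (G3 F)) : Nat.card (cj g A) = Nat.card A :=
  Subgroup.card_map_of_injective (MulAut.conj g).injective

theorem cj_mono (g : G3 F) {A B : Subgroup (G3 F)} (h : A ≤ B) : cj g A ≤ cj g B := Subgroup.map_mono h

theorem le_cj_inv {g : G3 F} {A B : Subgroup (G3 F)} (h : cj g A ≤ B) : A ≤ cj g⁻¹ B := by
  have := cj_mono g⁻¹ h
  rwa [cj_cj, inv_mul_cancel, cj_one] at this

theorem isMaximalIn_of {G : Type*} [Group G] [Finite G] {S H : Subgroup G} (hlt : H < S)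
    (h : ∀ M, IsMaximalIn S M → H ≤ M → Nat.card M ≤ Nat.card H) : IsMaximalIn S H := by
  refine ⟨hlt, fun K h1 h2 => or_iff_not_imp_right.2 fun hne => ?_⟩
  obtain ⟨M, hM, hmax⟩ := Finite.exists_le_maximal (p := fun L => L < S) (lt_of_le_of_ne h2 hne)
  have := h M ⟨hmax.1, fun L a b => or_iff_not_imp_right.2 fun c =>
    le_antisymm (hmax.2 (lt_of_le_of_ne b c) a) a⟩ (h1.trans hM)
  exact (Subgroup.eq_of_le_of_card_ge h1 ((Subgroup.card_le_of_le hM).trans this)).symm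

/-! ### Frames -/

/-- The monomial group. -/
def Mon (F : Type*) [Field F] : Subgroup (G3 F) :=
  decompositionStabilizer fun i : Fin 3 => F ∙ (Pi.single i 1 : Fin 3 → F)

theorem map_span_gl (g : G3 F) (v : Fin 3 → F) : (F ∙ v).map (toLin' g.1) = F ∙ (g.1 *ᵥ v) := by
  rw [Submodule.map_span, Set.image_singleton]; rfl

theorem stab_eq_cj {D : Fin 3 → Submodule F (Fin 3 → F)} {P : G3 F}
    (h : ∀ i, D i = F ∙ (P.1 *ᵥ Pi.single i 1)) : decompositionStabilizer D = cj P (Mon F) := by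
  ext g
  rw [mem_cj]
  refine exists_congr fun s => forall_congr' fun i => ?_
  rw [h, h, map_span_gl, map_span_gl, ← (Submodule.map_injective_of_injective
    (f := toLin' (P⁻¹).1) fun u v => gl_mulVec_inj P⁻¹).eq_iff, map_span_gl, map_span_gl,
    inv_mulVec_mulVec, Units.val_mul, Units.val_mul, ← mulVec_mulVec, ← mulVec_mulVec]

theorem exists_frame {D : Fin 3 → Submodule F (Fin 3 → F)} (hD : IsMDecomposition 1 D)
    {v : Fin 3 → Fin 3 → F} (hv : ∀ i, v i ∈ D i) (h0 : ∀ i, v i ≠ 0) :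
    ∃ P : G3 F, P.1 = (of v)ᵀ ∧ decompositionStabilizer D = cj P (Mon F) := by
  have e : ∀ i, D i = F ∙ v i := fun i => (Submodule.eq_of_le_of_finrank_eq
    ((Submodule.span_singleton_le_iff_mem _ _).mpr (hv i))
    (by rw [finrank_span_singleton (h0 i), hD.finrank_eq])).symm
  have c : ∀ i, (of v)ᵀ *ᵥ Pi.single i 1 = v i := fun i => by ext j; simp
  have hu : IsUnit (of v)ᵀ := mulVec_surjective_iff_isUnit.1 (LinearMap.range_eq_top (f := toLin' (of v)ᵀ).1
    (top_le_iff.1 (hD.iSup_eq_top ▸ iSup_le fun i => by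
      rw [e, Submodule.span_singleton_le_iff_mem]; exact ⟨_, c i⟩)))
  exact ⟨hu.unit, rfl, stab_eq_cj fun i => by rw [e, IsUnit.unit_spec, c]⟩

theorem exists_cj_Mon {D : Fin 3 → Submodule F (Fin 3 → F)} (hD : IsMDecomposition 1 D) :
    ∃ P : G3 F, decompositionStabilizer D = cj P (Mon F) := by
  choose v hv h0 using IsMDecomposition.exists_ne_zero hD
  exact (exists_frame hD hv h0).imp fun _ h => h.2

theorem mem_Mon {g : G3 F} : g ∈ Mon F ↔
    ∃ s : Equiv.Perm (Fin 3), ∀ i, ∃ c : F, g.1 *ᵥ Pi.single i 1 = c • Pi.single (s i) 1 := by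
  refine exists_congr fun s => forall_congr' fun i => ?_
  rw [map_span_gl]
  refine ⟨fun h => (Submodule.mem_span_singleton.1 (h.le (Submodule.mem_span_singleton_self _))).imp
    fun _ => Eq.symm, fun ⟨c, hc⟩ => ?_⟩
  rw [hc]
  refine Submodule.span_singleton_smul_eq (Ne.isUnit ?_) _
  rintro rfl
  exact gl_mulVec_ne_zero g (single_one_ne_zero i) (by rw [hc, zero_smul])

theorem diag_mem_Mon {g : G3 F} {d : Fin 3 → F} (h : g.1 = diagonal d) : g ∈ Mon F :=
  mem_Mon.2 ⟨1, fun i => ⟨d i, by rw [h, diagonal_mulVec_single]; ext j; simp [Pi.single_apply]⟩⟩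

/-- The permutation of the coordinate lines induced by a monomial matrix. -/
noncomputable def monPerm : Mon F →* Equiv.Perm (Fin 3) := MonoidHom.mk' (fun g => (mem_Mon.1 g.2).choose)
  fun g h => Equiv.ext fun i => by
    obtain ⟨a, ha⟩ := (mem_Mon.1 (g * h).2).choose_spec i
    obtain ⟨b, hb⟩ := (mem_Mon.1 h.2).choose_spec i
    obtain ⟨c, hc⟩ := (mem_Mon.1 g.2).choose_spec ((mem_Mon.1 h.2).choose i)
    have h0 := gl_mulVec_ne_zero (g * h).1 (single_one_ne_zero i)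
    have e : (g.1.1 * h.1.1) *ᵥ _ = _ := ha
    rw [← mulVec_mulVec, hb, mulVec_smul, hc, smul_smul] at e
    by_contra hne
    rw [Equiv.Perm.mul_apply] at hne
    have := congrFun e ((mem_Mon.1 (g * h).2).choose i)
    rw [Pi.smul_apply, Pi.smul_apply, Pi.single_eq_same, Pi.single_eq_of_ne hne, smul_zero, smul_eq_mul,
      mul_one] at this
    exact h0 (by rw [ha, ← this, zero_smul])

theorem diag_of_ker {g : Mon F} (h : monPerm g = 1) : g.1.1 = diagonal fun i => g.1.1 i i :=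
  ext_of_mulVec_single fun i => by
    obtain ⟨a, ha⟩ := (mem_Mon.1 g.2).choose_spec i
    rw [show (mem_Mon.1 g.2).choose = 1 from h] at ha
    have := congrFun ha i
    simp only [mulVec_single_one, col_apply, Equiv.Perm.one_apply, Pi.smul_apply, Pi.single_eq_same,
      smul_eq_mul, mul_one] at this
    rw [ha, diagonal_mulVec_single, this]; ext j; simp [Pi.single_apply]

/-- Invariants of the stabiliser of a frame. -/
structure IB [Fintype F] (M : Subgroup (G3 F)) : Prop where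
  card : Nat.card M ∣ 6 * (Fintype.card F - 1) ^ 3
  comm : ∀ x ∈ M, ∀ g ∈ M, x ^ 6 * (g * x ^ 6 * g⁻¹) = g * x ^ 6 * g⁻¹ * x ^ 6
  eig : ∀ x ∈ M, ∃ v ≠ 0, ∃ c : F, (x ^ 6).1 *ᵥ v = c • v

theorem IB.mono [Fintype F] {M N : Subgroup (G3 F)} (h : IB M) (hN : N ≤ M) : IB N :=
  ⟨(Subgroup.card_dvd_of_le hN).trans h.card, fun x hx g hg => h.comm x (hN hx) g (hN hg),
    fun x hx => h.eig x (hN hx)⟩

theorem IB.cj [Fintype F] {M : Subgroup (G3 F)} (h : IB M) (P : G3 F) : IB (cj P M) := by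
  refine ⟨card_cj P M ▸ h.card, ?_, ?_⟩
  · rintro _ ⟨x, hx, rfl⟩ _ ⟨g, hg, rfl⟩
    simpa only [map_mul, map_pow, map_inv] using congrArg (MulAut.conj P).toMonoidHom (h.comm x hx g hg)
  · rintro _ ⟨x, hx, rfl⟩
    obtain ⟨v, v0, c, hc⟩ := h.eig x hx
    refine ⟨P.1 *ᵥ v, gl_mulVec_ne_zero P v0, c, ?_⟩
    rw [← map_pow, ← mulVec_smul, ← hc, ← conj_mulVec P, conjAlgHom_coe]; rfl

theorem ib_Mon [Fintype F] : IB (Mon F) := by
  have h6 : ∀ x : Mon F, monPerm (x ^ 6) = 1 := fun x => by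
    rw [map_pow]; exact pow_card_eq_one (G := Equiv.Perm (Fin 3))
  refine ⟨?_, fun x hx g hg => Units.ext ?_, fun x hx => ⟨Pi.single 0 1, single_one_ne_zero 0, ?_⟩⟩
  · rw [← (monPerm (F := F)).ker.index_mul_card, Subgroup.index_ker]
    refine Nat.mul_dvd_mul ((Subgroup.card_subgroup_dvd_card _).trans (by simp [Fintype.card_perm, Nat.factorial])) ?_
    have h0 : ∀ (g : (monPerm (F := F)).ker) i, g.1.1.1 i i ≠ 0 := fun g i => by
      have := g.1.1.det_ne_zero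
      rw [diag_of_ker g.2, det_diagonal] at this
      exact Finset.prod_ne_zero_iff.1 this i (Finset.mem_univ i)
    let φ : (monPerm (F := F)).ker →* (Fin 3 → Fˣ) := MonoidHom.mk' (fun g i => Units.mk0 _ (h0 g i))
      fun g h => funext fun i => Units.ext (by
        show (g.1.1.1 * h.1.1.1) i i = g.1.1.1 i i * h.1.1.1 i i
        rw [diag_of_ker g.2, diagonal_mul, diagonal_apply_eq])
    refine (Subgroup.card_dvd_of_injective φ fun g h e => Subtype.ext (Subtype.ext (Units.ext ?_))).trans ?_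
    · rw [diag_of_ker g.2, diag_of_ker h.2]; congr 1
      exact funext fun i => congrArg Units.val (congrFun e i)
    · rw [Nat.card_pi, Finset.prod_const, Nat.card_units, Nat.card_eq_fintype_card]; rfl
  · have a := diag_of_ker (h6 ⟨x, hx⟩)
    have b := diag_of_ker (g := ⟨g, hg⟩ * ⟨x, hx⟩ ^ 6 * ⟨g, hg⟩⁻¹) (by
      rw [map_mul, map_mul, h6, mul_one, map_inv, mul_inv_cancel])
    change (x ^ 6).1 = _ at a
    change (g * x ^ 6 * g⁻¹).1 = _ at b
    rw [Units.val_mul, Units.val_mul (g * x ^ 6 * g⁻¹), a, b, diagonal_mul_diagonal, diagonal_mul_diagonal]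
    simp only [mul_comm]
  · have a := diag_of_ker (h6 ⟨x, hx⟩)
    change (x ^ 6).1 = _ at a
    exact ⟨_, by rw [a, diagonal_mulVec_single, mul_one, ← Pi.single_smul, smul_eq_mul, mul_one]⟩

theorem IB.pow_dvd [Fintype F] {M : Subgroup (G3 F)} (h : IB M) {n : ℕ} (h1 : n ∣ Nat.card M) {k : ℕ}
    (h2 : n ∣ Fintype.card F ^ k) : n ∣ 6 :=
  (Nat.Coprime.pow_right 3 (Nat.Coprime.coprime_dvd_left h2 (Nat.Coprime.pow_left k
    ((Nat.coprime_self_sub_right Fintype.card_pos).2 (Nat.coprime_one_right _))))).dvd_of_dvd_mul_right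
    (h1.trans h.card)

/-! ### Field extensions -/

section Fld

variable [Fintype F] {K : Subalgebra F (Matrix (Fin 3) (Fin 3) F)} (hK : IsFieldSubalgebra 3 K)
include hK

theorem mem_of_comm {y : Matrix (Fin 3) (Fin 3) F} (h : ∀ k ∈ K, y * k = k * y) : y ∈ K := by
  obtain ⟨Ψ, hΨ⟩ := exists_orbitEquiv (K := K) (by simpa using hK) (single_one_ne_zero (0 : Fin 3))
  obtain ⟨k, hk⟩ := Ψ.surjective (y *ᵥ Pi.single 0 1)
  convert k.2
  refine eq_of_mulVec fun v => ?_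
  obtain ⟨l, rfl⟩ := Ψ.surjective v
  rw [hΨ, mulVec_mulVec, h _ l.2, ← mulVec_mulVec, ← hk, hΨ, mulVec_mulVec, mulVec_mulVec, hK.comm _ l.2 _ k.2]

theorem cube_mem {g : G3 F} (hg : g ∈ subalgebraNormalizer K) : (g ^ 3).1 ∈ K := by
  let := (IsFieldSubalgebra.isField hK).toField
  have : Finite K := inferInstance
  have h3 : conjEquiv hg ^ 3 = 1 := by
    have := pow_card_eq_one' (x := conjEquiv hg)
    rwa [IsGalois.card_aut_eq_finrank, hK.finrank_eq] at this
  refine mem_of_comm hK fun k hk => (conjAlgHom_eq_self_iff _ k).1 ?_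
  rw [pow_three, conjAlgHom_mul, conjAlgHom_mul]
  have := DFunLike.congr_fun h3 ⟨k, hk⟩
  rw [pow_three, AlgEquiv.mul_apply, AlgEquiv.mul_apply, AlgEquiv.one_apply] at this
  exact congrArg Subtype.val this

theorem scalar_of_eig {k : Matrix (Fin 3) (Fin 3) F} (hk : k ∈ K) {v : Fin 3 → F} (hv : v ≠ 0) {c : F}
    (h : k *ᵥ v = c • v) : k = c • 1 :=
  sub_eq_zero.1 (IsFieldSubalgebra.eq_zero_of_mulVec hK (K.sub_mem hk (K.smul_mem K.one_mem c)) hv (by
    rw [sub_mulVec, h, smul_mulVec, one_mulVec, sub_self]))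

theorem invol_eq_one {t : G3 F} (ht : t ∈ subalgebraNormalizer K) (hs : t ∈ S3 F) (h2 : t * t = 1) :
    t = 1 := by
  have h := cube_mem hK ht
  rw [pow_three, h2, mul_one] at h
  by_contra h1
  obtain ⟨y, -, hy⟩ := hK.inv _ (K.sub_mem h K.one_mem) (sub_ne_zero.2 fun e => h1 (Units.ext e))
  have e : t.1 = (-1 : F) • 1 := by
    have : (t.1 + 1) * (t.1 - 1) = 0 := by
      rw [add_mul, mul_sub, ← Units.val_mul, h2]; simp
    have e := congrArg (· * y) this
    simp only [mul_assoc, hy, mul_one, zero_mul] at e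
    rwa [neg_one_smul, ← add_eq_zero_iff_eq_neg]
  have hd := mem_SL.1 hs
  rw [e, det_smul, det_one, Fintype.card_fin] at hd
  exact h1 (Units.ext (by rw [e, show (-1 : F) = 1 by linear_combination hd, one_smul]; rfl))

end Fld

/-! ### Subfields and forms -/

/-- The trace. -/
abbrev tr (g : G3 F) : F := g.1.trace

theorem tr_conj (P g : G3 F) : tr (P * g * P⁻¹) = tr g := by
  rw [tr, Units.val_mul, Units.val_mul, trace_units_conj]

theorem tr_inv {g : G3 F} (h : g ∈ S3 F) : tr g⁻¹ = g.1.adjugate.trace := by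
  rw [tr, coe_units_inv, inv_def, mem_SL.1 h, Ring.inverse_one, one_smul]

/-- Invariants of a subfield subgroup. -/
structure ID (F₀ : Subfield F) (M : Subgroup (G3 F)) : Prop where
  self : ∀ g ∈ M, tr g = tr g⁻¹ → tr g ∈ F₀
  cube : ∀ g ∈ M, tr g ^ 3 ∈ F₀
  pow : ∀ g ∈ M, tr (g ^ 3) ∈ F₀
  comm : ∀ g ∈ M, ∀ h ∈ M, tr (g * h * g⁻¹ * h⁻¹) ∈ F₀

theorem ID.cj {F₀ : Subfield F} {M : Subgroup (G3 F)} (h : ID F₀ M) (P : G3 F) : ID F₀ (cj P M) := by
  have e : ∀ g, tr ((MulAut.conj P).toMonoidHom g) = tr g := tr_conj P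
  refine ⟨?_, ?_, ?_, ?_⟩ <;> rintro _ ⟨g, hg, rfl⟩
  · simpa only [← map_inv, e] using h.self g hg
  · simpa only [e] using h.cube g hg
  · simpa only [← map_pow, e] using h.pow g hg
  · rintro _ ⟨k, hk, rfl⟩
    simpa only [← map_inv, ← map_mul, e] using h.comm g hg k hk

theorem id_one (F₀ : Subfield F) : ID F₀ (subfieldSubgroup F₀ 1 ⊓ S3 F) := by
  have key : ∀ g ∈ subfieldSubgroup F₀ 1 ⊓ S3 F, ∃ c : F, c ≠ 0 ∧ c ^ 3 ∈ F₀ ∧ ∃ A B : Matrix (Fin 3) (Fin 3) F₀,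
      A.map F₀.subtype = c • g.1 ∧ B.map F₀.subtype = c ^ 2 • (g⁻¹).1 := fun g hg => by
    obtain ⟨c, c0, hc⟩ := (mem_subfieldSubgroup_iff F₀ 1 g).1 hg.1
    rw [inv_one, conjAlgHom_one] at hc
    let A : Matrix (Fin 3) (Fin 3) F₀ := of fun i j => ⟨_, hc i j⟩
    have hA : F₀.subtype.mapMatrix A = c • g.1 := rfl
    refine ⟨c, c0, ?_, A, A.adjugate, hA, ?_⟩
    · have := F₀.subtype.map_det A
      rw [hA, det_smul, mem_SL.1 hg.2, mul_one, Fintype.card_fin] at this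
      exact this ▸ A.det.2
    · rw [← RingHom.mapMatrix_apply, RingHom.map_adjugate, hA, adjugate_smul, coe_units_inv, inv_def,
        mem_SL.1 hg.2, Ring.inverse_one, one_smul]; rfl
  have htr : ∀ (A : Matrix (Fin 3) (Fin 3) F₀) (c : F) (x : Matrix (Fin 3) (Fin 3) F),
      A.map F₀.subtype = c • x → c * x.trace ∈ F₀ := fun A c x h => by
    rw [← smul_eq_mul, ← trace_smul, ← h, ← AddMonoidHom.map_trace]; exact A.trace.2
  refine ⟨fun g hg h => ?_, fun g hg => ?_, fun g hg => ?_, fun g hg k hk => ?_⟩ <;>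
    obtain ⟨c, c0, c3, A, B, hA, hB⟩ := key g hg
  · by_cases h0 : tr g = 0
    · rw [h0]; exact F₀.zero_mem
    have h1 := htr _ _ _ hA
    have h2 := F₀.div_mem (htr _ _ _ hB) h1
    convert F₀.div_mem h1 h2 using 1
    rw [show (g⁻¹).1.trace = tr g from h.symm]
    field_simp
  · convert F₀.div_mem (F₀.pow_mem (htr _ _ _ hA) 3) c3 using 1
    field_simp
  · convert F₀.div_mem (htr (A ^ 3) (c ^ 3) (g ^ 3).1 (by
      rw [Matrix.map_pow, hA, smul_pow, Units.val_pow_eq_pow_val])) c3 using 1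
    field_simp
  · obtain ⟨d, d0, d3, A', B', hA', hB'⟩ := key k hk
    convert F₀.div_mem (htr (A * A' * B * B') (c ^ 3 * d ^ 3) (g * k * g⁻¹ * k⁻¹).1 (by
      simp only [Matrix.map_mul, hA, hA', hB, hB', Units.val_mul, smul_mul, Matrix.mul_smul, smul_smul]
      congr 1; ring)) (F₀.mul_mem c3 d3) using 1
    field_simp

theorem subfield_eq_cj (F₀ : Subfield F) (P : G3 F) : subfieldSubgroup F₀ P = cj P (subfieldSubgroup F₀ 1) := by
  show cj P _ = cj P (cj 1 _)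
  rw [cj_one]

theorem ID.mono {F₀ : Subfield F} {M N : Subgroup (G3 F)} (h : ID F₀ M) (hN : N ≤ M) : ID F₀ N :=
  ⟨fun g hg => h.self g (hN hg), fun g hg => h.cube g (hN hg), fun g hg => h.pow g (hN hg),
    fun g hg k hk => h.comm g (hN hg) k (hN hk)⟩

theorem id_subfield (F₀ : Subfield F) (P : G3 F) : ID F₀ (subfieldSubgroup F₀ P ⊓ S3 F) := by
  rw [subfield_eq_cj, ← cj_S3 P, ← cj_inf]; exact (id_one F₀).cj P

/-- Invariants of a similarity group. -/
structure IS (σ : F →+* F) (M : Subgroup (G3 F)) : Prop where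
  ex : ∀ g ∈ M, ∃ c : F, c ^ 3 = 1 ∧ σ c = c ∧ tr g = c * σ (tr g⁻¹)
  pow : ∀ g ∈ M, tr (g ^ 3) = σ (tr (g ^ 3)⁻¹)
  comm : ∀ g ∈ M, ∀ h ∈ M, tr (g * h * g⁻¹ * h⁻¹) = σ (tr (g * h * g⁻¹ * h⁻¹)⁻¹)

theorem IS.cj {σ : F →+* F} {M : Subgroup (G3 F)} (h : IS σ M) (P : G3 F) : IS σ (cj P M) := by
  have e : ∀ g, tr ((MulAut.conj P).toMonoidHom g) = tr g := tr_conj P
  refine ⟨?_, ?_, ?_⟩ <;> rintro _ ⟨g, hg, rfl⟩
  · simpa only [← map_inv, e] using h.ex g hg
  · simpa only [← map_pow, ← map_inv, e] using h.pow g hg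
  · rintro _ ⟨k, hk, rfl⟩
    simpa only [← map_inv, ← map_mul, e] using h.comm g hg k hk

theorem tr_of_isSim {σ : F →+* F} {G : Matrix (Fin 3) (Fin 3) F} (hG : Herm σ 1 G) {g : G3 F} {c : F}
    (h : IsSim σ G c g.1) : tr g = c * σ (tr g⁻¹) := by
  have : IsAdj σ G g.1 (c • (g⁻¹).1) := by
    rw [IsAdj, map_smul_eq, h.fixed hG, Matrix.mul_smul, ← smul_mul, ← h, Matrix.mul_assoc, ← Matrix.map_mul,
      Units.mul_inv, Matrix.map_one _ (map_zero σ) (map_one σ), Matrix.mul_one]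
  rw [tr, this.trace_eq hG.det_ne, trace_smul, smul_eq_mul, map_mul, h.fixed hG]

theorem is_sim {σ : F →+* F} {G : Matrix (Fin 3) (Fin 3) F} (hG : Herm σ 1 G) :
    IS σ (similarityGroup (gf σ G) ⊓ S3 F) := by
  have key : ∀ g ∈ similarityGroup (gf σ G) ⊓ S3 F, ∃ c : F, c ^ 3 = 1 ∧ IsSim σ G c g.1 ∧
      IsSim σ G (c ^ 2) (g⁻¹).1 := fun g hg => by
    obtain ⟨c, hc⟩ := (mem_similarityGroup hG.det_ne).1 hg.1
    obtain ⟨d, hd⟩ := (mem_similarityGroup hG.det_ne).1 (inv_mem hg.1)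
    have h3 := hc.det_eq hG.det_ne
    rw [mem_SL.1 hg.2, map_one, mul_one, Fintype.card_fin] at h3
    have h1 := hc.mul hd
    rw [Units.mul_inv, IsSim, transpose_one, Matrix.map_one _ (map_zero σ) (map_one σ), Matrix.mul_one,
      Matrix.one_mul] at h1
    obtain ⟨a, b, hab⟩ := exists_ne_zero_of_det hG.det_ne
    have h2 : c * d = 1 := (mul_eq_right₀ hab).1 (congrFun (congrFun h1 a) b).symm
    exact ⟨c, h3.symm, hc, by rwa [show c ^ 2 = d by linear_combination (-d) * h3 - c ^ 2 * h2]⟩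
  refine ⟨fun g hg => ?_, fun g hg => ?_, fun g hg k hk => ?_⟩ <;> obtain ⟨c, c3, hc, hc'⟩ := key g hg
  · exact ⟨c, c3, hc.fixed hG, tr_of_isSim hG hc⟩
  · rw [tr_of_isSim hG (g := g ^ 3) (c := c * (c * c)) (by rw [pow_three]; exact hc.mul (hc.mul hc)),
      ← pow_three, c3, one_mul]
  · obtain ⟨d, d3, hd, hd'⟩ := key k hk
    rw [tr_of_isSim hG (g := g * k * g⁻¹ * k⁻¹) (((hc.mul hd).mul hc').mul hd'),
      show c * d * c ^ 2 * d ^ 2 = 1 by linear_combination d ^ 3 * c3 + d3, one_mul]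

theorem IS.self {σ : F →+* F} (hσ : ∀ a, σ (σ a) = a) {M : Subgroup (G3 F)} (h : IS σ M) {g : G3 F}
    (hg : g ∈ M) (e : tr g = tr g⁻¹) : σ (tr g) = tr g := by
  obtain ⟨c, c3, hc, h1⟩ := h.ex g hg
  rw [← e] at h1
  have h2 := congrArg σ h1
  rw [map_mul, hc, hσ] at h2
  grind

theorem IS.cube {σ : F →+* F} {M : Subgroup (G3 F)} (h : IS σ M) {g : G3 F} (hg : g ∈ M) :
    tr g ^ 3 = σ (tr g⁻¹) ^ 3 := by
  obtain ⟨c, c3, -, h1⟩ := h.ex g hg
  rw [h1, mul_pow, c3, one_mul]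

theorem sim_eq_cj {σ : F →+* F} {G J : Matrix (Fin 3) (Fin 3) F} (hG : Herm σ 1 G) (hJ : J.det ≠ 0) {P : G3 F}
    {c : F} (hc : c ≠ 0) (h : gpull σ G P = c • J) :
    similarityGroup (gf σ G) = cj P (similarityGroup (gf σ J)) := by
  ext g
  rw [mem_cj, mem_similarityGroup hG.det_ne, mem_similarityGroup hJ]
  refine exists_congr fun d => ?_
  have := isSim_gpull (σ := σ) (G := G) (a := P) (c := d) (x := (P⁻¹ * g * P).1)
  rw [conjAlgHom_coe, show P * (P⁻¹ * g * P) * P⁻¹ = g by group, h] at this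
  rw [← this]
  refine ⟨fun e => ?_, fun e => e.smul_gram c⟩
  rw [IsSim, Matrix.mul_smul, smul_mul, smul_comm] at e
  exact smul_right_injective _ hc e

end CL.L3
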