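import Cfsg.Agent.CLAS.L3Max1

/-!
# Maximal subgroups in dimension three: irreducibility and Singer cycles
-/

set_option autoImplicit false

namespace CL.L3

open Matrix Cfsg Cfsg.Geo CL.Asch CL.ElusL CL.Heis3 Polynomial

variable {F : Type*} [Field F]

theorem Irr.cj {H : Subgroup (G3 F)} (h : Irr H) (P : G3 F) : Irr (cj P H) := fun W hW => by
  have := h (W.comap (toLin' P.1)) fun g hg v hv => by
    have := hW _ (conj_mem_cj (h := P) hg) _ hv
    rwa [← conjAlgHom_coe, toLin'_apply, conj_mulVec] at this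
  have hs : Function.Surjective (toLin' P.1) := fun v => ⟨_, mulVec_inv_mulVec P v⟩
  rw [← Submodule.map_comap_eq_of_surjective hs W]
  exact this.imp (fun e => by rw [e, Submodule.map_bot]) fun e => by
    rw [e, Submodule.map_top, LinearMap.range_eq_top.2 hs]

theorem Irr.not_le {H : Subgroup (G3 F)} (h : Irr H) {W : Submodule F (Fin 3 → F)} (h0 : W ≠ ⊥) (h1 : W ≠ ⊤) :
    ¬ H ≤ subspaceStabilizer W := fun hle =>
  (h W fun g hg v => ((mem_subspaceStabilizer W g).1 (hle hg) v).1).elim h0 h1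

theorem irr_of_single {H : Subgroup (G3 F)} (hP : P F ∈ H) {i : Fin 3} {c : F} (hc : c ≠ 0)
    (h : single i 0 c ∈ alg H) : Irr H := fun W hW => or_iff_not_imp_left.2 fun h0 => by
  obtain ⟨w, hw, w0⟩ := Submodule.exists_mem_ne_zero_of_ne_bot h0
  have k : ∀ w ∈ W, ![w 2, w 0, w 1] ∈ W := fun w hw => by
    convert hW _ hP w hw using 1
    ext j; fin_cases j <;> simp [coe_P, mulVec, dotProduct, Fin.sum_univ_three]
  have e : ∀ w ∈ W, w 0 ≠ 0 → (Pi.single i 1 : Fin 3 → F) ∈ W := fun w hw h0 => by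
    convert W.smul_mem (c * w 0)⁻¹ (mulVec_mem_of_alg hW _ h w hw) using 1
    rw [single_mulVec]; ext j; by_cases hj : j = i <;> simp [hj]
    field_simp
  have e1 : (Pi.single i 1 : Fin 3 → F) ∈ W := by
    by_contra hn
    exact w0 (funext fun j => by
      fin_cases j
      exacts [not_not.1 fun a => hn (e _ hw a), not_not.1 fun a => hn (e _ (k _ (k _ hw)) a),
        not_not.1 fun a => hn (e _ (k _ hw) a)])
  refine Submodule.eq_top_iff'.2 fun v => ?_
  convert W.add_mem (W.add_mem (W.smul_mem (v i) e1) (W.smul_mem (v (i + 1)) (k _ e1)))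
    (W.smul_mem (v (i + 2)) (k _ (k _ e1))) using 1
  ext j; fin_cases i <;> fin_cases j <;> simp [vecHead, vecTail]

theorem irr_diag {H : Subgroup (G3 F)} (hP : P F ∈ H) {g : G3 F} (hg : g ∈ H) {a b c : F}
    (h : g.1 = diagonal ![a, b, c]) (hb : a ≠ b) (hc : a ≠ c) : Irr H := by
  refine irr_of_single hP (i := 0) (mul_ne_zero (sub_ne_zero.2 hb) (sub_ne_zero.2 hc)) ?_
  convert (alg H).mul_mem ((alg H).sub_mem (mem_alg hg) ((alg H).smul_mem (alg H).one_mem b))
    ((alg H).sub_mem (mem_alg hg) ((alg H).smul_mem (alg H).one_mem c)) using 1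
  rw [h]; ext i j; fin_cases i <;> fin_cases j <;> simp [Matrix.mul_apply, Fin.sum_univ_three]

theorem tr_inv3 {g : G3 F} (h : g ∈ S3 F) : tr g⁻¹ = g.1 1 1 * g.1 2 2 - g.1 1 2 * g.1 2 1 +
    (g.1 0 0 * g.1 2 2 - g.1 0 2 * g.1 2 0) + (g.1 0 0 * g.1 1 1 - g.1 0 1 * g.1 1 0) := by
  rw [tr_inv h, adjugate_fin_three, trace_fin_three]; simp

theorem ch3 {g : G3 F} (h : g ∈ S3 F) : g.1 ^ 3 - tr g • g.1 ^ 2 + tr g⁻¹ • g.1 - 1 = 0 := by
  have := mem_SL.1 h
  rw [det_fin_three] at this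
  rw [tr_inv3 h, tr, trace_fin_three]
  ext i j
  fin_cases i <;> fin_cases j <;> simp [pow_succ, Matrix.mul_apply, Fin.sum_univ_three] <;>
    first | ring1 | linear_combination this

theorem det_sub_one {g : G3 F} (h : g ∈ S3 F) : (g.1 - 1).det = tr g - tr g⁻¹ := by
  have := mem_SL.1 h
  rw [det_fin_three] at this
  rw [tr_inv3 h, tr, trace_fin_three, det_fin_three]
  simp
  linear_combination this

theorem cube_eq_one {g : G3 F} (h : g ∈ S3 F) {c : F} (e : g.1 = c • 1) : g ^ 3 = 1 := by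
  have := mem_SL.1 h
  rw [e, det_smul, det_one, mul_one, Fintype.card_fin] at this
  exact Units.ext (by rw [Units.val_pow_eq_pow_val, e, _root_.smul_pow, this, one_pow, one_smul]; rfl)

section Fld

variable [Fintype F] {K : Subalgebra F (Matrix (Fin 3) (Fin 3) F)} (hK : IsFieldSubalgebra 3 K)
include hK

theorem le_of_mem {x : G3 F} (hs : x ∈ S3 F) (hx : x.1 ∈ K) (h3 : x ^ 3 ≠ 1)
    {A : Subalgebra F (Matrix (Fin 3) (Fin 3) F)} (hA : x.1 ∈ A) : K ≤ A := by
  let := (IsFieldSubalgebra.isField hK).toField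
  rcases (Subalgebra.isSimpleOrder_of_finrank_prime F K (hK.finrank_eq.symm ▸ Nat.prime_three)).2 (A.comap K.val)
    with e | e
  · obtain ⟨c, hc⟩ := Algebra.mem_bot.1 (e.le (show (⟨x.1, hx⟩ : K) ∈ A.comap K.val from hA))
    exact (h3 (cube_eq_one hs (c := c) (by
      rw [← Algebra.algebraMap_eq_smul_one]; exact (congrArg Subtype.val hc).symm))).elim
  · exact fun k hk => e.ge (Algebra.mem_top (x := (⟨k, hk⟩ : K)))

theorem irr_field {H : Subgroup (G3 F)} {x : G3 F} (hH : x ∈ H) (hs : x ∈ S3 F) (hx : x.1 ∈ K)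
    (h3 : x ^ 3 ≠ 1) : Irr H := fun W hW => or_iff_not_imp_left.2 fun h0 => by
  obtain ⟨w, hw, w0⟩ := Submodule.exists_mem_ne_zero_of_ne_bot h0
  obtain ⟨Ψ, hΨ⟩ := exists_orbitEquiv (K := K) (by simpa using hK) w0
  refine Submodule.eq_top_iff'.2 fun v => ?_
  obtain ⟨k, rfl⟩ := Ψ.surjective v
  exact hΨ k ▸ mulVec_mem_of_alg hW _ (le_of_mem hK hs hx h3 (mem_alg hH) k.2) w hw

theorem field_eq {K' : Subalgebra F (Matrix (Fin 3) (Fin 3) F)} (hK' : IsFieldSubalgebra 3 K') {x : G3 F}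
    (hs : x ∈ S3 F) (hx : x.1 ∈ K) (h9 : x ^ 9 ≠ 1) (h : x ∈ subalgebraNormalizer K') : K = K' :=
  Subalgebra.eq_of_le_of_finrank_eq (le_of_mem hK (pow_mem hs 3) (K.pow_mem hx 3) (by rwa [← pow_mul])
    (cube_mem hK' h)) (hK.finrank_eq.trans hK'.finrank_eq.symm)

theorem mem_norm_of_mem {x : G3 F} (hx : x.1 ∈ K) : x ∈ subalgebraNormalizer K := fun k => by
  have : (x⁻¹).1 ∈ K := mem_of_comm hK fun k hk => by
    rw [Units.inv_mul_eq_iff_eq_mul, ← Matrix.mul_assoc, hK.comm _ hx _ hk, Units.mul_inv_cancel_right]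
  refine ⟨fun h => K.mul_mem (K.mul_mem hx h) this, fun h => ?_⟩
  simpa [Matrix.mul_assoc] using K.mul_mem (K.mul_mem this h) hx

theorem eq_one_of_tr {y : G3 F} (hs : y ∈ S3 F) (hy : y.1 ∈ K) (h : tr y = tr y⁻¹) : y = 1 := by
  by_contra h1
  obtain ⟨z, -, hz⟩ := hK.inv _ (K.sub_mem hy K.one_mem) (sub_ne_zero.2 fun e => h1 (Units.ext e))
  have := congrArg det hz
  rw [det_mul, det_sub_one hs, h, sub_self, zero_mul, det_one] at this
  exact zero_ne_one this

theorem not_ib {H : Subgroup (G3 F)} {x : G3 F} (hH : x ∈ H) (hs : x ∈ S3 F) (hx : x.1 ∈ K) (h : IB H) :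
    orderOf x ∣ 18 := by
  obtain ⟨v, v0, c, hc⟩ := h.eig x hH
  exact orderOf_dvd_of_pow_eq_one ((pow_mul x 6 3).trans
    (cube_eq_one (pow_mem hs 6) (scalar_of_eig hK (K.pow_mem hx 6) v0 hc)))

theorem singer_count {x : G3 F} (hs : x ∈ S3 F) (hx : x.1 ∈ K) {α : Type*} [Finite α] (f : α → F × F)
    (h : ∀ i : ℕ, ∃ a, f a = (tr ((x ^ i) ^ 3), tr ((x ^ i) ^ 3)⁻¹)) : orderOf x ≤ 9 * Nat.card α := by
  classical
  let := (IsFieldSubalgebra.isField hK).toField
  have := Fintype.ofFinite α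
  choose a ha using h
  rw [← Finset.card_range (orderOf x), Nat.card_eq_fintype_card]
  refine Finset.card_le_mul_card_image_of_maps_to (f := a) (fun _ _ => Finset.mem_univ _) 9 fun b _ => ?_
  let p : K[X] := X ^ 9 - C (algebraMap F K (f b).1) * X ^ 6 + C (algebraMap F K (f b).2) * X ^ 3 - 1
  have hp : p.Monic := by unfold p; monicity!
  refine (Finset.card_le_card_of_injOn (t := p.roots.toFinset) (fun i => (⟨x.1, hx⟩ : K) ^ i) ?_ ?_).trans
    ((Multiset.toFinset_card_le _).trans ((card_roots' p).trans (by unfold p; compute_degree)))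
  · intro i hi
    rw [Finset.mem_coe, Multiset.mem_toFinset, mem_roots hp.ne_zero, IsRoot]
    have := ch3 (pow_mem (pow_mem hs i) 3)
    refine Subtype.ext ?_
    simp only [p, ← (Finset.mem_filter.1 hi).2, ha, eval_sub, eval_add, eval_mul, eval_pow, eval_X, eval_C, eval_one]
    rw [← Algebra.smul_def, ← Algebra.smul_def]
    simp only [Units.val_pow_eq_pow_val, ← pow_mul, mul_assoc] at this ⊢
    exact this
  · intro i hi j hj e
    exact pow_injOn_Iio_orderOf (Finset.mem_range.1 (Finset.mem_filter.1 hi).1)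
      (Finset.mem_range.1 (Finset.mem_filter.1 hj).1) (Units.ext (congrArg Subtype.val e))

theorem exists_singer : ∃ x ∈ S3 F, x.1 ∈ K ∧
    orderOf x = Fintype.card F ^ 2 + Fintype.card F + 1 := by
  let := (IsFieldSubalgebra.isField hK).toField
  have : Finite K := inferInstance
  obtain ⟨y, hy⟩ := IsCyclic.exists_ofOrder_eq_natCard (α := Kˣ)
  have hq := Fintype.one_lt_card (α := F)
  rw [Nat.card_units, Module.natCard_eq_pow_finrank (K := F), hK.finrank_eq, Nat.card_eq_fintype_card] at hy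
  let x : G3 F := Units.map K.val.toMonoidHom y
  have ox : orderOf x = orderOf y := orderOf_injective _ (Units.map_injective Subtype.val_injective) y
  refine ⟨x ^ (Fintype.card F - 1), mem_SL.2 ?_, K.pow_mem y.1.2 _, ?_⟩
  · rw [Units.val_pow_eq_pow_val, det_pow, FiniteField.pow_card_sub_one_eq_one _ x.det_ne_zero]
  · obtain ⟨k, hk⟩ : ∃ k, Fintype.card F = k + 1 := ⟨_, (Nat.sub_add_cancel hq.le).symm⟩
    rw [hk] at hy hq ⊢
    have : (k + 1) ^ 3 - 1 = k * ((k + 1) ^ 2 + (k + 1) + 1) := Nat.sub_eq_of_eq_add (by ring)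
    rw [Nat.add_sub_cancel, orderOf_pow_of_dvd (by omega) (by rw [ox, hy, this]; simp), ox, hy, this,
      Nat.mul_div_cancel_left _ (by omega)]

theorem exists_singerU {q : ℕ} (hF : Fintype.card F = q ^ 2) (ha : IsAdjointClosedFor (hermForm 3 F q) K) :
    ∃ x ∈ GU 3 F q ⊓ S3 F, x.1 ∈ K ∧ orderOf x + q = q ^ 2 + 1 := by
  have hσ := Uni.sig_apply hF
  obtain ⟨x, hx, ox, hxK, -⟩ := exists_field_elt hF hσ (herm_sig hF) hK (fun x hx => by
    simpa only [isAdj_iff, ← hermForm_eq hF] using ha x hx) (dvd_refl _)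
  have hq := two_le_q hF hσ
  refine ⟨x ^ (q + 1), ⟨GU_eq hF 3 ▸ pow_mem hx _, mem_SL.2 ?_⟩, K.pow_mem hxK _, ?_⟩
  · rw [Units.val_pow_eq_pow_val, det_pow, pow_succ', ← hσ, (mem_isoGrp.1 hx).det_eq (by simp), one_pow]
  · obtain ⟨k, rfl⟩ : ∃ k, q = k + 1 := ⟨_, (Nat.sub_add_cancel (by omega)).symm⟩
    have : (k + 1) ^ 3 + 1 = (k + 1 + 1) * (k ^ 2 + k + 1) := by ring
    rw [orderOf_pow_of_dvd (by omega) (by rw [ox, this]; simp), ox, this, Nat.mul_div_cancel_left _ (by omega)]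
    ring

end Fld

end CL.L3
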