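import Cfsg.Agent.CLAS.L3Max2

/-!
# Maximal subgroups in dimension three: normalisers of extraspecial groups of order 27
-/

set_option autoImplicit false

namespace CL.L3

open Matrix Cfsg Cfsg.Geo CL.Asch CL.ElusL CL.Heis3
open scoped commutatorElement

variable {F : Type*} [Field F]

theorem w_of_cube {a : F} (h3 : a ^ 3 = 1) (h1 : a ≠ 1) : W a :=
  ⟨mul_left_cancel₀ (sub_ne_zero.2 h1) (by linear_combination h3), fun h => h1 (sub_eq_zero.1
    (pow_eq_zero_iff (n := 3) (by simp) |>.1 (by linear_combination h3 + (a - a ^ 2) * h)))⟩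

theorem norm_cj (g : G3 F) (K : Subgroup (G3 F)) : subgroupNormalizer (cj g K) = cj g (subgroupNormalizer K) :=
  (Subgroup.map_equiv_normalizer_eq K (MulAut.conj g)).symm

theorem eight_dvd {G : Type*} [Group G] [Finite G] {N : Subgroup G} {a b : G} (ha : a ∈ N) (hb : b ∈ N)
    (h4 : orderOf a = 4) (h2 : b ^ 4 = 1) (hc : b * a * b⁻¹ = a⁻¹) : 8 ∣ Nat.card N := by
  have : Fact (Nat.Prime 2) := ⟨Nat.prime_two⟩
  have p : ∀ x : G, x ^ 4 = 1 → IsPGroup 2 (Subgroup.zpowers x) := fun x hx => by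
    obtain ⟨k, -, e⟩ := (Nat.dvd_prime_pow Nat.prime_two).1 (orderOf_dvd_of_pow_eq_one (n := 2 ^ 2) hx)
    exact .of_card (by rw [Nat.card_zpowers, e])
  obtain ⟨k, hk⟩ := IsPGroup.iff_card.1 ((p a (h4 ▸ pow_orderOf_eq_one a)).to_sup_of_normal_left' (p b h2)
    ((Subgroup.zpowers_le (H := Subgroup.normalizer _)).2 (Subgroup.mem_normalizer_fintype (by
      rintro _ ⟨i, rfl⟩
      exact ⟨-i, by simp only [← conj_zpow, hc, _root_.zpow_neg, _root_.inv_zpow]⟩))))
  have hlt : ¬ k ≤ 2 := fun hk2 => by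
    have e := Subgroup.eq_of_le_of_card_ge (le_sup_left : _ ≤ Subgroup.zpowers a ⊔ Subgroup.zpowers b)
      (by rw [hk, Nat.card_zpowers, h4]; exact Nat.pow_le_pow_right (by norm_num) hk2)
    obtain ⟨i, rfl⟩ := e.ge (Subgroup.mem_sup_right (Subgroup.mem_zpowers b))
    rw [(Commute.zpow_self a i).eq, mul_inv_cancel_right, ← mul_eq_one_iff_eq_inv, ← sq] at hc
    exact absurd (h4 ▸ orderOf_dvd_of_pow_eq_one hc) (by norm_num)
  exact (pow_dvd_pow 2 (by omega : 3 ≤ k)).trans (hk ▸ Subgroup.card_dvd_of_le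
    (sup_le (Subgroup.zpowers_le.2 ha) (Subgroup.zpowers_le.2 hb)))

/-- Invariants of the normaliser of an extraspecial group. -/
structure IE (M : Subgroup (G3 F)) : Prop where
  prime : ∀ g ∈ M, ∀ r : ℕ, r.Prime → r ≠ 2 → r ≠ 3 → g ^ r = 1 → g = 1
  four : ∀ s ∈ M, ∀ t ∈ M, s * s = 1 → t * t = 1 → s * t = t * s → s = 1 ∨ t = 1 ∨ s = t

theorem IE.cj {M : Subgroup (G3 F)} (h : IE M) (P : G3 F) : IE (cj P M) := by
  have e := (MulAut.conj P).injective
  refine ⟨?_, ?_⟩ <;> rintro _ ⟨g, hg, rfl⟩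
  · simpa only [← map_pow, MulEquiv.toMonoidHom_eq_coe, MonoidHom.coe_coe, EmbeddingLike.map_eq_one_iff]
      using h.prime g hg
  · rintro _ ⟨k, hk, rfl⟩
    simpa only [← map_mul, MulEquiv.toMonoidHom_eq_coe, MonoidHom.coe_coe, EmbeddingLike.map_eq_one_iff,
      e.eq_iff] using h.four g hg k hk

theorem IE.mono {M N : Subgroup (G3 F)} (h : IE M) (hN : N ≤ M) : IE N :=
  ⟨fun g hg => h.prime g (hN hg), fun g hg k hk => h.four g (hN hg) k (hN hk)⟩

theorem eq_one_of_scalar {g : G3 F} (hs : g ∈ S3 F) (h : ∃ c : F, g.1 = c • 1) {r : ℕ} (hr : r.Prime)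
    (h3 : r ≠ 3) (e : g ^ r = 1) : g = 1 :=
  orderOf_eq_one_iff.1 (Nat.eq_one_of_dvd_coprimes ((Nat.coprime_primes hr Nat.prime_three).2 h3)
    (orderOf_dvd_of_pow_eq_one e) (orderOf_dvd_of_pow_eq_one (cube_eq_one hs h.choose_spec)))

instance scalars_normal : (scalars (Fin 3) F).Normal :=
  ⟨fun z hz g => by rwa [← scalars_comm hz, mul_inv_cancel_right]⟩

theorem diag_of_comm {ω : F} (h : W ω) {A : Matrix (Fin 3) (Fin 3) F} (e : A * (D h).1 = (D h).1 * A) :
    A = diagonal fun i => A i i := by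
  have := h.ne_one
  have := h.sq.ne_one
  have := h.ne_zero
  ext i j
  have := congrFun (congrFun e i) j
  rw [coe_D, mul_diagonal, diagonal_mul] at this
  fin_cases i <;> fin_cases j <;> simp at this ⊢ <;> grind

/-- The standard extraspecial group. -/
structure Std {ω : F} (h : W ω) (K : Subgroup (G3 F)) : Prop where
  card : Nat.card K = 27
  D : D h ∈ K
  P : P F ∈ K

theorem exists_gen [Finite F] {R : Subgroup (G3 F)} (hR : IsSymplecticTypeGroup 3 R)
    (hi : ActsAbsolutelyIrreducibly (matrixSet R)) (hZ : Nat.card (Subgroup.center R) = 3)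
    {m : ℕ} (hm : 1 ≤ m) (hc : Nat.card R = 3 ^ (1 + 2 * m)) :
    ∃ (ω : F) (h : W ω) (g : G3 F), Std h (cj g⁻¹ R) ∧ ∀ x ∈ R, x ^ 3 = 1 := by
  have : Fact (Nat.Prime 3) := ⟨by norm_num⟩
  have hp : ∀ x : R, x.1 ^ 3 = 1 := fun x => by
    have := Monoid.pow_exponent_eq_one x
    rw [hR.exponent_eq] at this
    exact congrArg Subtype.val this
  have : Nontrivial (R ⧸ Subgroup.center R) := QuotientGroup.nontrivial_iff.2 fun e => by
    rw [e, Subgroup.card_top, hc] at hZ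
    have := Nat.pow_right_injective (by norm_num : 2 ≤ 3) (hZ.trans (pow_one 3).symm)
    omega
  obtain ⟨⟨x', hx⟩, h1⟩ := @exists_ne _ (hR.pGroup.to_quotient (Subgroup.center R)).center_nontrivial 1
  obtain ⟨x, rfl⟩ := QuotientGroup.mk_surjective x'
  have hz : ∀ y, ⁅x, y⁆ ∈ Subgroup.center R := fun y => (QuotientGroup.eq_one_iff _).1 (by
    rw [← QuotientGroup.mk'_apply, map_commutatorElement, commutatorElement_eq_one_iff_mul_comm]
    exact (Subgroup.mem_center_iff.1 hx _).symm)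
  let φ : R →* Subgroup.center R := MonoidHom.mk' (fun y => ⟨_, hz y⟩) fun y z => Subtype.ext (by
    have := Subgroup.mem_center_iff.1 (hz z) y⁻¹
    calc _ = x * y * x⁻¹ * (⁅x, z⁆ * y⁻¹) := by simp only [commutatorElement_def]; group
      _ = _ := by rw [← this]; simp only [commutatorElement_def, Subgroup.coe_mul]; group)
  obtain ⟨y, hy⟩ : ∃ y : R, ⁅x, y⁆ ≠ 1 := by
    by_contra! H
    exact h1 (Subtype.ext ((QuotientGroup.eq_one_iff _).2 (Subgroup.mem_center_iff.2 fun y =>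
      (commutatorElement_eq_one_iff_mul_comm.1 (H y)).symm)))
  have hc' := Subgroup.mem_center_iff.1 (hz y)
  obtain ⟨a, ha⟩ := hi.2 (⁅x, y⁆ : R).1.1 (by
    rintro _ ⟨k, hk, rfl⟩
    exact congrArg (fun z : R => z.1.1) (hc' ⟨k, hk⟩).symm)
  have h : W a := w_of_cube (smul_one_inj (ι := Fin 3) (by
    rw [← one_pow (M := Matrix _ _ F) 3, ← smul_pow, ← ha, ← Units.val_pow_eq_pow_val, hp]; simp))
    fun e => hy (Subtype.ext (Units.ext (by rw [ha, e, one_smul]; rfl)))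
  obtain ⟨g, g1, g2⟩ := exists_basis h (hp x) (hp y) (c := (⁅x, y⁆ : R)) (by
    rw [commutatorElement_def]; push_cast; group) (congrArg Subtype.val (hc' x).symm)
    (congrArg Subtype.val (hc' y).symm) (single_one_ne_zero 0) (by rw [ha, smul_mulVec, one_mulVec])
  refine ⟨a, h, g, ⟨?_, mem_cj.2 ?_, mem_cj.2 ?_⟩, fun x hx => hp ⟨x, hx⟩⟩
  · classical
    have k : ∀ z : φ.ker, (g⁻¹ * z * g).1 = diagonal fun i => (g⁻¹ * z * g).1 i i := fun z =>
      diag_of_comm h (by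
        have : x.1 * z.1.1 = z.1.1 * x.1 :=
          congrArg Subtype.val (commutatorElement_eq_one_iff_mul_comm.1 (congrArg Subtype.val z.2))
        rw [← Units.val_mul, ← Units.val_mul, mul_assoc, ← g1, eq_inv_mul_iff_mul_eq.2 g1.symm]
        simp only [mul_assoc, mul_inv_cancel_left]
        rw [← mul_assoc x.1, this, mul_assoc])
    have := Nat.card_le_card_of_injective (fun (z : φ.ker) (i : Fin 3) =>
      (⟨(g⁻¹ * z * g).1 i i, by
        have e : (g⁻¹ * z * g⁻¹⁻¹) ^ 3 = 1 := by rw [conj_pow, hp, mul_one, mul_inv_cancel]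
        have := congrArg Units.val e
        rw [inv_inv, Units.val_pow_eq_pow_val, k, diagonal_pow] at this
        simpa using h.cases (by simpa using congrFun (congrFun this i) i)⟩ : ({1, a, a ^ 2} : Finset F))) fun z w e => by
      refine Subtype.ext (Subtype.ext (mul_left_cancel (a := g⁻¹) (mul_right_cancel (b := g) (Units.ext ?_))))
      exact (k z).trans ((congrArg _ (funext fun i => congrArg Subtype.val (congrFun e i))).trans (k w).symm)
    rw [Nat.card_fun, Nat.card_eq_fintype_card (α := Fin 3), Fintype.card_fin, Nat.card_eq_finsetCard] at this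
    have h2 := Nat.mul_le_mul (this.trans (Nat.pow_le_pow_left Finset.card_le_three 3))
      ((Subgroup.index_ker φ).le.trans (φ.range.card_le_card_group.trans hZ.le))
    rw [Subgroup.card_mul_index, hc, ← pow_succ, Nat.pow_le_pow_iff_right (by norm_num)] at h2
    rw [card_cj, hc, show m = 1 by omega]; rfl
  · rw [inv_inv, ← g1, mul_inv_cancel_right]; exact x.2
  · rw [inv_inv, ← g2, mul_inv_cancel_right]; exact y.2

section Std

variable {ω : F} {h : W ω} {K : Subgroup (G3 F)} (hK : Std h K)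
include hK

theorem Std.eq {ω' : F} {h' : W ω'} {K' : Subgroup (G3 F)} (hK' : Std h' K') : K = K' := by
  have : Finite K' := Nat.finite_of_card_ne_zero (by rw [hK'.card]; simp)
  refine Subgroup.eq_of_le_of_card_ge (le_of_gen h hK.card hK.D hK.P (diag_mem h' hK'.D hK'.P (coe_D h)
    (fun i => ?_) ?_) hK'.P) (hK'.card.trans hK.card.symm).le
  · fin_cases i <;> simp [h.cube, h.sq.cube]
  · simpa [← pow_succ'] using h.cube

theorem Std.comm {x y : G3 F} (hx : x ∈ K) (hy : y ∈ K) : x * y * x⁻¹ * y⁻¹ ∈ scalars (Fin 3) F := by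
  let π := QuotientGroup.mk' (scalars (Fin 3) F)
  have e : Commute (π (Heis3.D h)) (π (Heis3.P F)) := by
    rw [Commute, SemiconjBy, ← map_mul, D_mul_P, map_mul, show π (sc _) = 1 from
      (QuotientGroup.eq_one_iff _).2 ⟨_, rfl⟩, one_mul, map_mul]
  have k : ∀ {y}, Commute (π (Heis3.D h)) (π y) → Commute (π (Heis3.P F)) (π y) → ∀ x ∈ K, Commute (π x) (π y) :=
    fun {y} a b x hx => Subgroup.mem_centralizer_singleton_iff.1 (le_of_gen h hK.card hK.D hK.P
      (L := (Subgroup.centralizer {π y}).comap π) (Subgroup.mem_centralizer_singleton_iff.2 a)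
      (Subgroup.mem_centralizer_singleton_iff.2 b) hx)
  refine (QuotientGroup.eq_one_iff _).1 (show π _ = 1 from ?_)
  rw [map_mul, map_mul, map_mul, map_inv, map_inv,
    (k (k (.refl _) e.symm y hy).symm (k e (.refl _) y hy).symm x hx).eq]
  group

theorem Std.not_scalar : Heis3.D h ∉ scalars (Fin 3) F := fun e =>
  sc_ne_one h (mul_right_cancel ((D_mul_P h).symm.trans ((scalars_comm e _).trans (one_mul _).symm)))

theorem Std.eq_one {c : G3 F} (hc : c ∈ K) (h2 : c * c = 1) : c = 1 :=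
  orderOf_eq_one_iff.1 (Nat.eq_one_of_dvd_coprimes (by norm_num : Nat.Coprime 2 27)
    (orderOf_dvd_of_pow_eq_one ((sq c).trans h2)) (hK.card ▸ K.orderOf_dvd_natCard hc))

theorem Std.fix [Finite F] {t x : G3 F} (ht : t ∈ subgroupNormalizer K) (hs : t ∈ S3 F) (h2 : t * t = 1) (hx : x ∈ K)
    (hn : x ∉ scalars (Fin 3) F) (e : t * x * t⁻¹ * x⁻¹ ∈ scalars (Fin 3) F) : t = 1 := by
  have : Fact (Nat.Prime 3) := ⟨Nat.prime_three⟩
  have hN : ∀ y ∈ K, t * y * t⁻¹ ∈ K := fun y hy => (Subgroup.mem_normalizer_iff.1 ht y).1 hy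
  have ti : t⁻¹ = t := inv_eq_of_mul_eq_one_right h2
  have key : ∀ y ∈ K, (y⁻¹ * (t * y * t⁻¹)) * t = t * (y⁻¹ * (t * y * t⁻¹)) → t * y = y * t := fun y hy e => by
    refine mul_inv_eq_iff_eq_mul.1 (inv_mul_eq_one.1 (hK.eq_one (K.mul_mem (K.inv_mem hy) (hN y hy)) ?_)).symm
    calc _ = y⁻¹ * t * y * (t * (y⁻¹ * (t * y * t⁻¹))) := by rw [ti]; group
      _ = _ := by rw [← e, ti]; simp [mul_assoc, h2, ← mul_assoc t t]
  have tx : t * x = x * t := key x hx (scalars_comm (by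
    simpa [mul_assoc] using scalars_normal.conj_mem _ e x⁻¹) t)
  have cm : ∀ {a b : G3 F}, a ∈ Subgroup.centralizer {b} ↔ a * b = b * a :=
    Subgroup.mem_centralizer_singleton_iff
  have hB : K ⊓ .centralizer {x} ⊓ .centralizer {t} = K ⊓ .centralizer {x} := by
    refine Subgroup.eq_of_le_of_card_ge inf_le_left ?_
    obtain ⟨i, hi, ei⟩ := (Nat.dvd_prime_pow Nat.prime_three).1 (show _ ∣ 3 ^ 3 from
      (Subgroup.card_dvd_of_le (inf_le_left : K ⊓ .centralizer {x} ≤ K)).trans hK.card.dvd)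
    obtain ⟨j, hj, ej⟩ := (Nat.dvd_prime_pow Nat.prime_three).1 (show _ ∣ 3 ^ 3 from (Subgroup.card_dvd_of_le
      (inf_le_left.trans inf_le_left : K ⊓ .centralizer {x} ⊓ .centralizer {t} ≤ K)).trans hK.card.dvd)
    have i3 : i ≠ 3 := by
      rintro rfl
      have := Subgroup.eq_of_le_of_card_ge inf_le_left (hK.card.trans ei.symm).le
      exact hn (mem_scalars'.2 (scalar_of_comm h (congrArg Units.val (cm.1 (this.ge hK.D).2).symm)
        (congrArg Units.val (cm.1 (this.ge hK.P).2).symm)))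
    have j1 : ¬ j ≤ 1 := fun j1 => by
      have := Subgroup.eq_of_le_of_card_ge (Subgroup.zpowers_le.2 (show _ ∈ K ⊓ .centralizer {x} ⊓
        .centralizer {t} from ⟨⟨sc_mem h hK.D hK.P, cm.2 (sc_comm _ _)⟩, cm.2 (sc_comm _ _)⟩)) (by
        rw [ej, Nat.card_zpowers, orderOf_eq_prime (sc_cube h) (sc_ne_one h)]
        exact Nat.pow_le_pow_right (n := 3) (by norm_num) j1)
      exact hn ((Subgroup.zpowers_le (H := scalars _ F)).2 ⟨_, rfl⟩ (this.ge ⟨⟨hx, cm.2 rfl⟩, cm.2 tx.symm⟩))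
    rw [ei, ej]; exact Nat.pow_le_pow_right (by norm_num) (by omega)
  have all : ∀ y ∈ K, t * y = y * t := fun y hy => key y hy (cm.1 (hB.ge ⟨K.mul_mem (K.inv_mem hy) (hN y hy),
    cm.2 (by
      have := scalars_comm (hK.comm hx hy) t
      calc _ = x * y⁻¹ * x⁻¹ * (x * y * x⁻¹ * y⁻¹ * t) * y * (t⁻¹ * x) := by group
        _ = x * y⁻¹ * x⁻¹ * (t * x) * y * x⁻¹ * (t⁻¹ * x) := by rw [this]; group
        _ = _ := by rw [tx, (Commute.inv_left tx).eq]; group)⟩).2)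
  exact eq_one_of_scalar hs (scalar_of_comm h (congrArg Units.val (all _ hK.D))
    (congrArg Units.val (all _ hK.P))) Nat.prime_two (by norm_num) ((sq t).trans h2)

theorem Std.ie [Fintype F] : IE (subgroupNormalizer K ⊓ S3 F) := by
  refine ⟨fun g hg r hr h2 h3 e => ?_, fun s hs t ht s2 t2 e => ?_⟩
  · have := Fact.mk hr
    exact eq_one_of_scalar hg.2 (scalar_of_norm h hK.card hK.D hK.P hg.1 h2 h3 e) hr h3 e
  have k : ∀ s ∈ subgroupNormalizer K ⊓ S3 F, s * s = 1 → s ≠ 1 →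
      Heis3.D h * (s * Heis3.D h * s⁻¹) ∈ scalars (Fin 3) F := fun s hs s2 s1 => by
    have hD := (Subgroup.mem_normalizer_iff.1 hs.1 _).1 hK.D
    refine not_not.1 fun hn => s1 (hK.fix hs.1 hs.2 s2 (K.mul_mem hK.D hD) hn ?_)
    convert hK.comm hD hK.D using 1
    rw [inv_eq_of_mul_eq_one_right s2]
    simp [mul_assoc, s2, ← mul_assoc s s, inv_eq_of_mul_eq_one_right s2]
  refine or_iff_not_imp_left.2 fun s1 => or_iff_not_imp_left.2 fun t1 => ?_
  rw [← inv_eq_of_mul_eq_one_right t2, ← mul_eq_one_iff_eq_inv]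
  refine hK.fix (mul_mem hs ht).1 (mul_mem hs ht).2 ?_ hK.D hK.not_scalar ?_
  · rw [mul_assoc, ← mul_assoc t, ← e, mul_assoc, t2, mul_one, s2]
  · convert mul_mem (scalars_normal.conj_mem _ (scalars_normal.conj_mem _ (k t ht t2 t1) (Heis3.D h)⁻¹) s)
      (inv_mem (k s hs s2 s1)) using 1
    group

end Std

theorem glOfDet_mem_S3 (g : Matrix (Fin 3) (Fin 3) F) (h : g.det = 1) : glOfDet g h ∈ S3 F := mem_SL.2 h

/-- The Fourier matrix. -/
noncomputable def U {ω : F} (h : W ω) : G3 F :=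
  glOfDet ((ω - ω ^ 2)⁻¹ • !![1, 1, 1; 1, ω, ω ^ 2; 1, ω ^ 2, ω]) (by
    have := h.1
    have : ω - ω ^ 2 ≠ 0 := by have := h.ne_one; have := h.ne_zero; grind
    rw [det_smul, det_fin_three]; simp; field_simp; grind)

/-- A diagonal matrix of order three. -/
noncomputable def δ {ω : F} (h : W ω) : G3 F := dg ![ω, 1, 1] fun i => by fin_cases i <;> simp [h.ne_zero]

theorem diag3 (a b c : F) : diagonal ![a, b, c] = !![a, 0, 0; 0, b, 0; 0, 0, c] := by
  ext i j; fin_cases i <;> fin_cases j <;> rfl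

theorem U_facts {ω : F} (h : W ω) : U h * U h = T F ∧ U h * D h = P F * P F * U h ∧ U h * P F = D h * U h ∧
    U h * δ h * U h * δ h * δ h * U h * δ h = δ h * U h ∧ δ h * δ h * δ h = 1 := by
  have h1 := h.1
  obtain ⟨s, hs, e⟩ : ∃ s : F, 3 * s * s = -1 ∧ (U h).1 = s • !![1, 1, 1; 1, ω, ω ^ 2; 1, ω ^ 2, ω] :=
    ⟨_, by have := h.ne_one; have := h.ne_zero; grind, rfl⟩
  have d : (δ h).1 = !![ω, 0, 0; 0, 1, 0; 0, 0, 1] := diag3 _ _ _
  refine ⟨?_, ?_, ?_, ?_, ?_⟩ <;> refine Units.ext ?_ <;>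
    simp only [Units.val_mul, e, d, coe_T, coe_P, coe_D, diag3, smul_mul, Matrix.mul_smul, mul_fin_three,
      smul_smul] <;>
    ext i j <;> fin_cases i <;> fin_cases j <;> simp <;> grind

theorem T_mul_T : T F * T F = 1 := Units.ext (T F).mul_inv

theorem T_ne_one : T F ≠ 1 := fun h => by simpa [coe_T] using congrArg (fun g : G3 F => g.1 1 1) h

theorem orderOf_U {ω : F} (h : W ω) : orderOf (U h) = 4 :=
  have : Fact (Nat.Prime 2) := ⟨Nat.prime_two⟩
  orderOf_eq_prime_pow (p := 2) (n := 1) (by rw [pow_one, sq, (U_facts h).1]; exact T_ne_one) (by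
    rw [show 2 ^ (1 + 1) = 2 * 2 from rfl, pow_mul, sq, sq, (U_facts h).1, T_mul_T])

/-- Subgroups containing the extension of the extraspecial group by a quaternion group. -/
structure C6 {ω : F} (h : W ω) (H : Subgroup (G3 F)) : Prop where
  D : D h ∈ H
  P : P F ∈ H
  U : U h ∈ H
  V : δ h * L3.U h * (δ h)⁻¹ ∈ H

theorem Std.c6 {ω : F} {h : W ω} {K : Subgroup (G3 F)} (hK : Std h K) {A : Subgroup (G3 F)}
    (hA : C6 h A) : C6 h (subgroupNormalizer K ⊓ A) := by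
  obtain ⟨-, a, b, -⟩ := U_facts h
  have := mem_norm h hK.card hK.D hK.P (n := U h) (by rw [a, mul_inv_cancel_right]; exact K.mul_mem hK.P hK.P)
    (by rw [b, mul_inv_cancel_right]; exact hK.D)
  have d := diag_mem_norm h hK.card hK.D hK.P (n := δ h) (z := 1) rfl fun i => by fin_cases i <;> simp [h.cube]
  exact ⟨⟨Subgroup.le_normalizer hK.D, hA.D⟩, ⟨Subgroup.le_normalizer hK.P, hA.P⟩, ⟨this, hA.U⟩,
    ⟨Subgroup.mul_mem _ (Subgroup.mul_mem _ d this) (Subgroup.inv_mem _ d), hA.V⟩⟩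

theorem c6_S3 {ω : F} (h : W ω) : C6 h (S3 F) :=
  ⟨mem_SL.2 (det_D h), mem_SL.2 det_P, glOfDet_mem_S3 _ _,
    (cj_S3 (δ h)).le (conj_mem_cj (glOfDet_mem_S3 _ _))⟩

theorem dg_mem_iso {σ : F →+* F} {g : G3 F} {a b c : F} (h : g.1 = diagonal ![a, b, c]) (ha : a * σ a = 1)
    (hb : b * σ b = 1) (hc : c * σ c = 1) : g ∈ isoGrp σ 1 := by
  rw [mem_isoGrp, IsSim, h, diag3]
  ext i j; fin_cases i <;> fin_cases j <;> simp [Matrix.mul_apply, Fin.sum_univ_three, *]

theorem P_mem_iso (σ : F →+* F) : P F ∈ isoGrp σ 1 := by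
  rw [mem_isoGrp, IsSim, coe_P]
  ext i j; fin_cases i <;> fin_cases j <;> simp [Matrix.mul_apply, Fin.sum_univ_three]

theorem T_mem_iso (σ : F →+* F) : T F ∈ isoGrp σ 1 := by
  rw [mem_isoGrp, IsSim, coe_T]
  ext i j; fin_cases i <;> fin_cases j <;> simp [Matrix.mul_apply, Fin.sum_univ_three]

theorem c6_iso {ω : F} (h : W ω) {σ : F →+* F} (hσ : σ ω = ω ^ 2) : C6 h (isoGrp σ 1) := by
  have h1 := h.1
  have hU : U h ∈ isoGrp σ 1 := by
    obtain ⟨s, hs, hs', e⟩ : ∃ s : F, 3 * s * s = -1 ∧ σ s = -s ∧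
        (U h).1 = s • !![1, 1, 1; 1, ω, ω ^ 2; 1, ω ^ 2, ω] :=
      ⟨_, by have := h.ne_one; have := h.ne_zero; grind, by
        rw [map_inv₀, map_sub, map_pow, hσ, neg_inv]; congr 1; grind, rfl⟩
    rw [mem_isoGrp, IsSim, e]
    ext i j; fin_cases i <;> fin_cases j <;> simp [Matrix.mul_apply, Fin.sum_univ_three, hσ, hs'] <;> grind
  have d : δ h ∈ isoGrp σ 1 := dg_mem_iso rfl (by grind) (by simp) (by simp)
  exact ⟨dg_mem_iso rfl (by simp) (by grind) (by rw [map_pow]; grind), P_mem_iso σ, hU,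
    mul_mem (mul_mem d hU) (inv_mem d)⟩

theorem C6.inf {ω : F} {h : W ω} {A B : Subgroup (G3 F)} (a : C6 h A) (b : C6 h B) : C6 h (A ⊓ B) :=
  ⟨⟨a.D, b.D⟩, ⟨a.P, b.P⟩, ⟨a.U, b.U⟩, ⟨a.V, b.V⟩⟩

theorem comm_DP {ω : F} (h : W ω) : tr (D h * P F * (D h)⁻¹ * (P F)⁻¹) = 3 * ω ∧
    tr (D h * P F * (D h)⁻¹ * (P F)⁻¹)⁻¹ = 3 * ω ^ 2 := by
  rw [D_mul_P, mul_assoc (sc _), mul_assoc (sc _), mul_inv_cancel_right, mul_inv_cancel, mul_one,
    ← map_inv, tr, tr, coe_sc, coe_sc]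
  simp [eq_inv_of_mul_eq_one_left ((pow_succ ω 2).symm.trans h.cube), mul_comm]

section

variable {ω : F} {h : W ω} {H : Subgroup (G3 F)} (hH : C6 h H)
include hH

theorem C6.T : T F ∈ H := (U_facts h).1 ▸ mul_mem hH.U hH.U

theorem C6.irr : Irr H := irr_diag hH.P hH.D rfl h.ne_one.symm h.sq.ne_one.symm

theorem C6.dvd [Finite F] : 216 ∣ Nat.card H := by
  obtain ⟨-, -, -, a, b⟩ := U_facts h
  have : Fact (Nat.Prime 3) := ⟨Nat.prime_three⟩
  refine (by norm_num : Nat.Coprime 8 27).mul_dvd_of_dvd_of_dvd (eight_dvd hH.U hH.V (orderOf_U h) ?_ ?_)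
    (CL.U3M.cube_dvd_card (p := 3) hH.D hH.P (sc_mem h hH.D hH.P) (D_cube h) P_cube (sc_cube h) (D_mul_P h)
      (sc_comm _ _) (sc_comm _ _) (sc_ne_one h))
  · rw [conj_pow, ← orderOf_U h, pow_orderOf_eq_one, mul_one, mul_inv_cancel]
  · rw [mul_inv_eq_iff_eq_mul, eq_inv_mul_iff_mul_eq, eq_mul_inv_iff_mul_eq, inv_eq_of_mul_eq_one_left b]
    simpa only [mul_assoc] using a

theorem C6.not_ib [Fintype F] : ¬ IB H := fun hb => by
  have e : L3.U h ^ 6 = Heis3.T F := by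
    rw [show 6 = 4 + 2 from rfl, pow_add, ← orderOf_U h, pow_orderOf_eq_one, one_mul, sq, (U_facts h).1]
  have k := congrArg (fun g : G3 F => g.1 1 1) (hb.comm _ hH.U _ hH.D)
  have h1 := h.1
  have := h.ne_one
  have := h.2
  simp [e, Heis3.D, coe_T, diag3] at k
  grind

end

end CL.L3
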