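import Cfsg.Agent.CLAS.L3Max3

/-!
# Maximal subgroups in dimension three: normal forms and residual subgroups
-/

set_option autoImplicit false

namespace CL.L3

open Matrix Cfsg Cfsg.Geo CL.Asch CL.ElusL CL.Heis3

variable {F : Type*} [Field F]

/-! ### Residual subgroups -/

/-- Invariants of a residual maximal subgroup. -/
structure IR (n : ℕ) (M : Subgroup (G3 F)) : Prop where
  card : Nat.card M ∣ 3 * n
  six : n = 360 → ∀ N ≤ M, 216 ∣ Nat.card N → Nat.card M ≤ Nat.card N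

theorem card_dvd_map [Finite F] {N : Subgroup (G3 F)} (h : N ≤ S3 F) :
    Nat.card N ∣ 3 * Nat.card (N.map (QuotientGroup.mk' (scalars (Fin 3) F))) := by
  rw [← Subgroup.relIndex_ker, QuotientGroup.ker_mk', ← ((scalars (Fin 3) F).subgroupOf N).card_mul_index,
    ← Subgroup.inf_subgroupOf_right, Nat.card_congr (Subgroup.subgroupOfEquivOfLe inf_le_right).toEquiv,
    Subgroup.inf_subgroupOf_right]
  refine Nat.mul_dvd_mul_right ?_ _
  have := isCyclic_of_le_scalars (inf_le_left : scalars (Fin 3) F ⊓ N ≤ _)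
  rw [← IsCyclic.exponent_eq_card]
  exact Monoid.exponent_dvd_of_forall_pow_eq_one fun g =>
    Subtype.ext (cube_eq_one (h g.2.2) (mem_scalars'.1 g.2.1).choose_spec)

theorem ir_of [Finite F] {M P : Subgroup (G3 F)} (hM : M ≤ S3 F) (hP : IsResidualCore M P)
    (hle : M ≤ P ⊔ scalars (Fin 3) F) {G : Type*} [Group G]
    (e : Nonempty ((P ⧸ (scalars (Fin 3) F).subgroupOf P) ≃* G)) {n : ℕ} (hn : Nat.card G = n) : IR n M := by
  obtain ⟨e⟩ := e
  let π := QuotientGroup.mk' (scalars (Fin 3) F)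
  have h1 : M.map π = P.map π := le_antisymm ((Subgroup.map_mono hle).trans (by
    rw [Subgroup.map_sup, (Subgroup.map_eq_bot_iff _).2 (QuotientGroup.ker_mk' _).ge, sup_bot_eq]))
    (Subgroup.map_mono hP.le)
  let e' : (P ⧸ (scalars (Fin 3) F).subgroupOf P) ≃* M.map π :=
    ((QuotientGroup.quotientMulEquivOfEq (by rw [← MonoidHom.comap_ker, QuotientGroup.ker_mk']; rfl)).trans
      (QuotientGroup.quotientKerEquivRange (π.comp P.subtype))).trans
      (MulEquiv.subgroupCongr (by rw [h1, MonoidHom.range_comp, Subgroup.range_subtype]))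
  have h2 : Nat.card (M.map π) = n := by rw [← hn, ← Nat.card_congr e.toEquiv, Nat.card_congr e'.toEquiv]
  have h3 := h2 ▸ card_dvd_map hM
  refine ⟨h3, ?_⟩
  rintro rfl N hN h4
  have := hP.simple
  have := e'.symm.isSimpleGroup
  let A := (N.map π).subgroupOf (M.map π)
  have hA : Nat.card A = Nat.card (N.map π) :=
    Nat.card_congr (Subgroup.subgroupOfEquivOfLe (Subgroup.map_mono hN)).toEquiv
  obtain ⟨k, hk⟩ : 72 ∣ Nat.card A := hA ▸ Nat.dvd_of_mul_dvd_mul_left (by norm_num)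
    (h4.trans (card_dvd_map (hN.trans hM)))
  have h5 := A.card_mul_index
  rw [h2, hk] at h5
  rcases (Nat.dvd_prime (by norm_num : Nat.Prime 5)).1 (show A.index ∣ 5 from ⟨k, by nlinarith⟩) with h6 | h6
  · refine (Nat.le_of_dvd (by norm_num) h3).trans (Nat.le_of_dvd Nat.card_pos ?_)
    refine Nat.lcm_dvd h4 (show 360 ∣ _ from ?_)
    rw [← h5, h6, mul_one, ← hk, hA]; exact Subgroup.card_map_dvd _ _
  · have := Subgroup.card_dvd_of_injective _ ((MonoidHom.ker_eq_bot_iff _).1 (A.normalCore_eq_ker ▸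
      (A.normalCore_normal.eq_bot_or_eq_top.resolve_right fun e => by
        rw [top_le_iff.1 (e.ge.trans A.normalCore_le), Subgroup.index_top] at h6; omega)))
    rw [h2, Nat.card_perm, ← A.index_eq_card, h6] at this
    exact absurd this (by decide)

theorem card_L32 : Nat.card (ProjectiveSpecialLinearGroup (Fin 3) (ZMod 2)) = 168 := by
  have h1 := CL.SL.card_SL_mul (F := ZMod 2) 3 (by norm_num)
  have h2 := CL.SL.card_center_mul_card_PSL (ι := Fin 3) (R := ZMod 2)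
  rw [CL.SL.card_center_SL, Nat.card_zmod] at h2
  rw [Fin.prod_univ_three, ZMod.card, ← h2] at h1
  simpa using h1

theorem card_A6 : Nat.card (alternatingGroup (Fin 6)) = 360 := by
  rw [nat_card_alternatingGroup]; simp [Nat.factorial]

/-! ### Subfields -/

theorem pow_card_of_mem [Finite F] {F₀ : Subfield F} {a : F} (h : a ∈ F₀) : a ^ Nat.card F₀ = a := by
  have := Fintype.ofFinite F₀
  rw [Nat.card_eq_fintype_card]; exact congrArg Subtype.val (FiniteField.pow_card (⟨a, h⟩ : F₀))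

theorem card_eq_pow [Finite F] {A B : Subfield F} (h : A ≤ B) : ∃ k, Nat.card B = Nat.card A ^ k := by
  let := (Subfield.inclusion h).toAlgebra
  exact ⟨_, Module.natCard_eq_pow_finrank (K := A)⟩

theorem subfield_eq [Fintype F] {A B : Subfield F} (h : A ≤ B) {r s : ℕ} (hr : r.Prime) (hs : s.Prime)
    (hA : Fintype.card F = Nat.card A ^ r) (hB : Fintype.card F = Nat.card B ^ s) : A = B ∧ r = s := by
  obtain ⟨k, hk⟩ := card_eq_pow h
  have e := Nat.pow_right_injective (Finite.one_lt_card (α := A)) (hA.symm.trans (by rw [hB, hk, ← pow_mul]))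
  have e2 := (Nat.prime_dvd_prime_iff_eq hs hr).1 ⟨k, e.trans (mul_comm _ _)⟩
  rw [show k = 1 from (mul_eq_right₀ hs.ne_zero).1 (e.symm.trans e2.symm), pow_one] at hk
  exact ⟨SetLike.coe_injective (Set.eq_of_subset_of_ncard_le h hk.le), e2.symm⟩

theorem le_of_cubes [Finite F] {A B : Subfield F} (h : ∀ t ∈ A, t ^ 3 ∈ B) : A ≤ B ∨ Nat.card A = 4 := by
  obtain ⟨k, hk⟩ := card_eq_pow (inf_le_left : A ⊓ B ≤ A)
  have := Fintype.ofFinite A
  have h1 := Finite.one_lt_card (α := ↥(A ⊓ B))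
  have h2 := Finite.one_lt_card (α := A)
  have := Nat.le_of_dvd (by omega) ((FiniteField.forall_pow_eq_one_iff A (3 * (Nat.card ↥(A ⊓ B) - 1))).1
    fun x => Units.ext (Subtype.ext (mul_right_cancel₀ (b := x.1.1 ^ 3) (by simp) (by
      have := pow_card_of_mem (F₀ := A ⊓ B) ⟨A.pow_mem x.1.2 3, h _ x.1.2⟩
      simp only [Units.val_pow_eq_pow_val, SubmonoidClass.coe_pow, pow_mul, ← pow_succ, Nat.sub_add_cancel h1.le,
        this, Units.val_one, OneMemClass.coe_one, one_mul]))))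
  rw [← Nat.card_eq_fintype_card] at this
  match k, hk with
  | 0, hk => rw [pow_zero] at hk; omega
  | 1, hk => exact .inl (inf_eq_left.1 (SetLike.coe_injective (Set.eq_of_subset_of_ncard_le
      (inf_le_left : A ⊓ B ≤ A) (hk.trans (pow_one _)).le)))
  | k + 2, hk =>
    generalize Nat.card ↥(A ⊓ B) = m at *
    have : m ^ 2 ≤ m ^ (k + 2) := Nat.pow_le_pow_right (by omega) (by omega)
    obtain rfl : m = 2 := by nlinarith [show Nat.card A + 2 ≤ 3 * m by omega]
    omega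

theorem invol_pow [Fintype F] {σ : F →+* F} (hσ : ∀ a, σ (σ a) = a) (hne : ¬ ∀ a, σ a = a) :
    ∃ q, Fintype.card F = q ^ 2 ∧ ∀ a, σ a = a ^ q := by
  obtain ⟨q, hq, h⟩ := invol_fixed σ hσ (not_forall.1 hne).choose_spec
  rw [Nat.card_eq_fintype_card] at hq
  refine ⟨q, hq, fun a => ?_⟩
  have h1 : Uni.sig hq _ = _ := (h (a * σ a)).1 (by rw [map_mul, hσ, mul_comm])
  have h2 : Uni.sig hq _ = _ := (h (a + σ a)).1 (by rw [map_add, hσ, add_comm])
  have h3 : Uni.sig hq a = a → σ a = a := (h a).2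
  rw [map_mul] at h1
  rw [map_add] at h2
  change _ = Uni.sig hq a
  grind

/-! ### Forms -/

section Forms

variable [Finite F] {σ : F →+* F} (hσ : (¬ ∀ a, σ a = a) ∨ (2 : F) ≠ 0)
include hσ

theorem congr3 {G G' : Matrix (Fin 3) (Fin 3) F} (hG : Herm σ 1 G) (hG' : Herm σ 1 G') :
    ∃ (c : F) (a : G3 F), c ≠ 0 ∧ gpull σ G a = c • G' := by
  by_cases h : ∀ a, σ a = a
  · obtain rfl : σ = RingHom.id F := RingHom.ext h
    obtain ⟨c, a, c0, e⟩ := exists_congr_odd (hσ.resolve_left (not_not.2 h)) hG hG' (by simp; decide)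
    exact ⟨c⁻¹, a, inv_ne_zero c0, by rw [e, smul_smul, inv_mul_cancel₀ c0, one_smul]⟩
  · obtain ⟨a, e⟩ := exists_congr_herm hG hG' h
    exact ⟨1, a, one_ne_zero, by rw [e, one_smul]⟩

theorem sim_std {G : Matrix (Fin 3) (Fin 3) F} (hG : Herm σ 1 G) :
    ∃ P, similarityGroup (gf σ G) ⊓ S3 F = cj P (similarityGroup (gf σ 1) ⊓ S3 F) := by
  obtain ⟨c, a, c0, e⟩ := congr3 hσ hG (herm_one hG.invol)
  exact ⟨a, by rw [sim_eq_cj hG (by simp) c0 e, cj_inf, cj_S3]⟩

variable (h2 : ∀ a, σ (σ a) = a)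
include h2

theorem exists_J : ∃ P : G3 F, ∀ g : G3 F, g.1.det = 1 →
    IsSim σ !![0, 0, 1; 0, 1, 0; 1, 0, 0] 1 g.1 → P * g * P⁻¹ ∈ suG σ 1 := by
  obtain ⟨c, a, c0, e⟩ := congr3 hσ (herm_one h2) (G' := !![0, 0, 1; 0, 1, 0; 1, 0, 0])
    ⟨h2, by simp [det_fin_three], by ext i j; fin_cases i <;> fin_cases j <;> simp, .inl rfl⟩
  refine ⟨a, fun g h1 h => mem_suG.2 ⟨?_, by rwa [Units.val_mul, Units.val_mul, det_units_conj]⟩⟩
  rw [← conjAlgHom_coe, ← isSim_gpull, e]; exact h.smul_gram c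

theorem exists_tr (t : F) : ∃ g ∈ suG σ 1, tr g = t := by
  obtain ⟨P, hP⟩ := exists_J hσ h2
  obtain ⟨s, a, b, s0, hs, h, rfl⟩ : ∃ s a b : F, s ≠ 0 ∧ σ s = s ∧ b + σ b + a * σ a = 0 ∧ s * b - 1 = t := by
    by_cases h : ∀ a, σ a = a
    · have := hσ.resolve_left (not_not.2 h)
      by_cases ht : t + 1 = 0
      · exact ⟨1, 0, 0, one_ne_zero, h _, by simp, by linear_combination -ht⟩
      · exact ⟨-(t + 1) / 2, 2, -2, div_ne_zero (neg_ne_zero.2 ht) this, h _, by rw [h, h]; ring, by field_simp; ring⟩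
    · obtain ⟨a, ha⟩ := CL.Tv.exists_norm_eq_of_involution (ne_id_of h) h2 (b := -(t + 1 + σ (t + 1)))
        (by rw [map_neg, map_add, h2, add_comm])
      exact ⟨1, a, t + 1, one_ne_zero, map_one σ, by linear_combination ha, by ring⟩
  have hd : det !![0, 0, s⁻¹; 0, -1, -a; s, -s * σ a, s * b] = 1 := by simp [det_fin_three, s0]
  refine ⟨_, hP (glOfDet _ hd) hd ?_, (tr_conj _ _).trans (by simp [tr, glOfDet]; ring)⟩
  ext i j
  fin_cases i <;> fin_cases j <;> simp [glOfDet, Matrix.mul_apply, Fin.sum_univ_three, hs, h2, s0] <;> grind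

end Forms

theorem card_dvd_so [Fintype F] (h2 : (2 : F) ≠ 0) :
    Fintype.card F ∣ Nat.card (suG (RingHom.id F) (1 : Matrix (Fin 3) (Fin 3) F)) := by
  obtain ⟨P, hP⟩ := exists_J (σ := RingHom.id F) (.inr h2) fun _ => rfl
  have hd : ∀ a : F, det !![1, -2 * a, -2 * a ^ 2; 0, 1, 2 * a; 0, 0, 1] = 1 := by simp [det_fin_three]
  let φ : Multiplicative F →* suG (RingHom.id F) (1 : Matrix (Fin 3) (Fin 3) F) := MonoidHom.mk'
    (fun a => ⟨_, hP (glOfDet _ (hd a.toAdd)) (hd _) (by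
      ext i j
      fin_cases i <;> fin_cases j <;> simp [glOfDet, Matrix.mul_apply, Fin.sum_univ_three]
      ring)⟩)
    fun a b => Subtype.ext (by
      simp only [Subgroup.coe_mul, conj_mul]
      congr 2
      ext i j
      fin_cases i <;> fin_cases j <;> simp [glOfDet, Matrix.mul_apply, Fin.sum_univ_three] <;> ring)
  rw [← Nat.card_eq_fintype_card]
  refine Subgroup.card_dvd_of_injective (α := Multiplicative F) φ fun a b e => ?_
  simpa [glOfDet, h2] using congrArg (fun g : G3 F => g.1 1 2)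
    (mul_left_cancel (mul_right_cancel (congrArg Subtype.val e)))

theorem quad_eq (h2 : (2 : F) ≠ 0) {Q : (Fin 3 → F) → F} (hQ : IsNondegenerateQuadraticForm Q) :
    quadSimilarityGroup Q = similarityGroup (gf (RingHom.id F) (gramMatrix (QuadraticMap.polar Q))) := by
  rw [← IsBilinearForm.eq_gf hQ.polar_bilinear]
  refine le_antisymm (quadSimilarityGroup_le Q) fun g ⟨c, hc⟩ => ⟨c, fun v => mul_left_cancel₀ h2 ?_⟩
  rw [← polar_self_of_quad hQ.smul, hc, polar_self_of_quad hQ.smul, mul_left_comm]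

/-! ### Forms over subfields -/

/-- The inclusion of the general linear group over a subfield. -/
abbrev gm (F₀ : Subfield F) : G3 F₀ →* G3 F := GeneralLinearGroup.map F₀.subtype

theorem gm_injective (F₀ : Subfield F) : Function.Injective (gm F₀) := fun _ _ h =>
  Units.ext (map_injective F₀.subtype.injective (congrArg Units.val h))

theorem tr_gm {F₀ : Subfield F} (g : G3 F₀) : tr (gm F₀ g) = (tr g : F₀) :=
  (AddMonoidHom.map_trace F₀.subtype g.1).symm

theorem gm_mem_S3 {F₀ : Subfield F} {g : G3 F₀} (h : g ∈ S3 F₀) : gm F₀ g ∈ S3 F :=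
  mem_SL.2 ((F₀.subtype.map_det g.1).symm.trans (by rw [mem_SL.1 h, map_one]))

theorem mem_sub_one {F₀ : Subfield F} {g : G3 F} (h : ∀ i j, g.1 i j ∈ F₀) : g ∈ subfieldSubgroup F₀ 1 :=
  (mem_subfieldSubgroup_iff F₀ 1 g).2 ⟨1, one_ne_zero, by simpa [conjAlgHom_one] using h⟩

/-- The restriction of an endomorphism to a subfield. -/
def res {σ : F →+* F} {q : ℕ} (hσ : ∀ a, σ a = a ^ q) (F₀ : Subfield F) : F₀ →+* F₀ :=
  (σ.comp F₀.subtype).codRestrict F₀ fun c => (hσ c).symm ▸ F₀.pow_mem c.2 q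

theorem gpull_gm {σ : F →+* F} {q : ℕ} (hσ : ∀ a, σ a = a ^ q) {F₀ : Subfield F}
    (G : Matrix (Fin 3) (Fin 3) F₀) (a : G3 F₀) :
    gpull σ (G.map F₀.subtype) (gm F₀ a) = (gpull (res hσ F₀) G a).map F₀.subtype := by
  rw [gpull, gpull, Matrix.map_mul, Matrix.map_mul]; rfl

theorem gm_mem_su {σ : F →+* F} {q : ℕ} (hσ : ∀ a, σ a = a ^ q) {F₀ : Subfield F} {g : G3 F₀}
    (h : g ∈ suG (res hσ F₀) 1) : gm F₀ g ∈ suG σ 1 := by
  refine ⟨?_, gm_mem_S3 h.2⟩
  have := gpull_gm hσ 1 g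
  rw [show gpull _ 1 g = _ from h.1, one_smul, Matrix.map_one _ (map_zero _) (map_one _)] at this
  exact this.trans (one_smul _ _).symm

theorem gpull_mul (σ : F →+* F) (G : Matrix (Fin 3) (Fin 3) F) (a b : G3 F) :
    gpull σ G (a * b) = gpull σ (gpull σ G a) b := by
  simp only [gpull, Units.val_mul, transpose_mul, Matrix.map_mul, Matrix.mul_assoc]

theorem cj_su {σ : F →+* F} {g : G3 F} (h : g ∈ isoGrp σ 1) : cj g (suG σ 1) = suG σ 1 := by
  rw [cj_inf, cj_S3, cj_eq_of_mem h]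

section SU

variable [Fintype F] {q : ℕ} (hF : Fintype.card F = q ^ 2) {σ : F →+* F} (hσ : ∀ a, σ a = a ^ q)
include hF hσ

theorem sub_std {F₀ : Subfield F} (h0 : (¬ ∀ a, res hσ F₀ a = a) ∨ (2 : F₀) ≠ 0) {P : G3 F}
    (hP : IsFormRationalStructure (gf σ 1) F₀ 1 P) :
    ∃ P' ∈ isoGrp σ 1, subfieldSubgroup F₀ P ⊓ suG σ 1 = cj P' (subfieldSubgroup F₀ 1 ⊓ suG σ 1) := by
  have h1 := (herm_one (κ := Fin 3) (sig_invol hF hσ)).gpull P
  obtain ⟨G, hG⟩ : ∃ G : Matrix (Fin 3) (Fin 3) F₀, G.map F₀.subtype = gpull σ 1 P :=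
    ⟨of fun i j => ⟨gpull σ 1 P i j, by
      simpa only [one_mul, ← gf_gpull, gf_single] using
        hP _ _ (single_mem_subfield F₀ i) (single_mem_subfield F₀ j)⟩, rfl⟩
  have i0 : ∀ a, res hσ F₀ (res hσ F₀ a) = a := fun a => Subtype.ext (h1.invol a)
  have h2 : Herm (res hσ F₀) 1 G := ⟨i0, fun e => h1.det_ne (by
    rw [← hG, ← RingHom.mapMatrix_apply, ← RingHom.map_det, e, map_zero]), by
      ext i j
      have := congrFun (congrFun h1.herm i) j
      rw [← hG, one_smul] at this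
      rw [one_smul]; exact this, .inl rfl⟩
  obtain ⟨c, a, c0, e⟩ := congr3 h0 h2 (herm_one i0)
  have hc : σ c = c := congrArg Subtype.val (show res hσ F₀ c = c by
    simpa [e] using congrFun (congrFun (h2.gpull a).herm 0) 0)
  obtain ⟨d, hd⟩ := exists_mul_sig hF hσ (a := (c : F)⁻¹) (by rw [map_inv₀, hc])
  have d0 : d ≠ 0 := by rintro rfl; simp [eq_comm, c0] at hd
  have hm : P * gm F₀ a * scGL _ d d0 ∈ isoGrp σ 1 := by
    refine (gpull_mul_scGL _ _ _ _).trans ?_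
    rw [gpull_mul, ← hG, gpull_gm hσ, e, hd]
    ext i j; by_cases h : i = j <;> simp [h, c0]
  refine ⟨_, hm, ?_⟩
  rw [cj_inf, cj_su hm, ← subfield_eq_cj, subfieldSubgroup_mul_scalar _ _ (scGL_mem _ _),
    subfield_eq_cj _ (_ * _), ← cj_cj, cj_eq_of_mem (mem_sub_one fun i j => (a.1 i j).2), ← subfield_eq_cj]

theorem frame_std {D : Fin 3 → Submodule F (Fin 3 → F)} (hD : IsNondegenerateMDecomposition (gf σ 1) 1 D) :
    ∃ P ∈ isoGrp σ 1, decompositionStabilizer D ⊓ suG σ 1 = cj P (Mon F ⊓ suG σ 1) := by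
  obtain ⟨e, P, h1, h2, -⟩ := frame_coord hF hσ (herm_one (sig_invol hF hσ)) (Fintype.card_fin 3) hD
  obtain ⟨Q, hQ, h⟩ := exists_frame hD.decomp h2 fun i => cvec_ne_zero _ _ (single_one_ne_zero i)
  suffices hm : Q ∈ isoGrp σ 1 from ⟨Q, hm, by rw [h, cj_inf, cj_su hm]⟩
  rw [mem_isoGrp, IsSim, one_smul, hQ]
  refine Eq.trans ?_ h1
  ext i j
  rw [← gf_single (σ := σ) (cpull _ _ _ _), gf_cpull, gf_eq_sum]
  simp [Matrix.mul_apply, one_apply]

theorem c6_std (h3 : q % 3 = 2) {R : Subgroup (G3 F)} (hR : IsSymplecticTypeGroup 3 R)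
    (hi : ActsAbsolutelyIrreducibly (matrixSet R)) (hs : R ≤ similarityGroup (gf σ 1)) (hc : Nat.card R = 27)
    (hZ : Nat.card (Subgroup.center R) = 3) : ∃ (ω : F) (h : W ω) (K : Subgroup (G3 F)) (g : G3 F),
      Std h K ∧ g ∈ isoGrp σ 1 ∧ subgroupNormalizer R ⊓ suG σ 1 = cj g (subgroupNormalizer K ⊓ suG σ 1) := by
  obtain rfl : σ = Uni.sig hF := RingHom.ext hσ
  obtain ⟨ω, h, g, hK, h1⟩ := exists_gen hR hi hZ le_rfl hc
  have k : ∀ x ∈ cj g⁻¹ R, g * x * g⁻¹ ∈ GU 3 F q := fun x hx => by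
    rw [mem_cj, inv_inv] at hx
    obtain ⟨c, hc⟩ := (mem_similarityGroup (by simp)).1 (hs hx)
    have e := hc.mul (hc.mul hc)
    rw [← Units.val_mul, ← Units.val_mul, ← pow_three, ← pow_three, h1 _ hx] at e
    have e3 : c ^ 3 = 1 := e.unique (by simp) (isoGrp _ _).one_mem
    have e1 : c ^ q = c := hc.fixed (herm_sig hF)
    rw [← Nat.div_add_mod q 3, h3, pow_add, pow_mul, e3, one_pow, one_mul] at e1
    rw [GU_eq hF, mem_isoGrp, ← show c = 1 by grind]; exact hc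
  obtain ⟨g', hg, e⟩ := exists_unitary hF h (by omega) (k _ hK.D) (k _ hK.P)
  refine ⟨ω, h, _, g', hK, GU_eq hF 3 ▸ hg, ?_⟩
  rw [cj_inf, cj_su (GU_eq hF 3 ▸ hg), ← norm_cj, show cj g' _ = cj g _ from
    congrArg (Subgroup.map · _) (MonoidHom.ext e), cj_cj, mul_inv_cancel, cj_one]

end SU

end CL.L3
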