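import Cfsg.Agent.CLAS.U3Min8
import Cfsg.Agent.CLAS.AschCod
import Cfsg.Agent.CLAS.UniCongr

/-!
# A subgroup of index 50 in `PSU₃(5)`
-/

set_option autoImplicit false

namespace CL.U3M

open Matrix Cfsg CL.Asch

theorem cube_dvd_card {G : Type*} [Group G] [Finite G] {p : ℕ} [hp : Fact p.Prime] {K : Subgroup G}
    {x y c : G} (hx : x ∈ K) (hy : y ∈ K) (hc : c ∈ K) (x1 : x ^ p = 1) (y1 : y ^ p = 1)
    (c1 : c ^ p = 1) (h : x * y = c * (y * x)) (cx : c * x = x * c) (cy : c * y = y * c)
    (c0 : c ≠ 1) : p ^ 3 ∣ Nat.card K := by
  have zp : ∀ g : G, g ^ p = 1 → IsPGroup p (Subgroup.zpowers g) := fun g hg => by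
    rintro ⟨_, k, rfl⟩
    refine ⟨1, Subtype.ext ?_⟩
    show (g ^ k) ^ p ^ 1 = 1
    rw [pow_one, ← _root_.zpow_natCast, ← _root_.zpow_mul, mul_comm, _root_.zpow_mul,
      _root_.zpow_natCast, hg, _root_.one_zpow]
  have nm : ∀ (H : Subgroup G) (g : G), (∀ a ∈ H, g * a * g⁻¹ ∈ H) →
      Subgroup.zpowers g ≤ Subgroup.normalizer (H : Set G) := fun H g hg =>
    Subgroup.zpowers_le.2 (Subgroup.mem_normalizer_fintype hg)
  have h1 : IsPGroup p (Subgroup.zpowers y ⊔ Subgroup.zpowers c : Subgroup G) :=
    (zp y y1).to_sup_of_normal_right' (zp c c1) (nm _ _ (by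
      rintro _ ⟨k, rfl⟩
      exact ⟨k, by simp only [← conj_zpow]; rw [← cy, mul_inv_cancel_right]⟩))
  have h2 : IsPGroup p (Subgroup.zpowers x ⊔ (Subgroup.zpowers y ⊔ Subgroup.zpowers c) : Subgroup G) :=
    (zp x x1).to_sup_of_normal_right' h1 (nm _ _ fun a ha => by
      have : Subgroup.zpowers y ⊔ Subgroup.zpowers c ≤
          (Subgroup.zpowers y ⊔ Subgroup.zpowers c).comap (MulAut.conj x).toMonoidHom := by
        refine sup_le (Subgroup.zpowers_le.2 ?_) (Subgroup.zpowers_le.2 ?_)
        · show x * y * x⁻¹ ∈ Subgroup.zpowers y ⊔ Subgroup.zpowers c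
          rw [h, mul_assoc, mul_inv_cancel_right]
          exact Subgroup.mul_mem _ (Subgroup.mem_sup_right (Subgroup.mem_zpowers c))
            (Subgroup.mem_sup_left (Subgroup.mem_zpowers y))
        · show x * c * x⁻¹ ∈ Subgroup.zpowers y ⊔ Subgroup.zpowers c
          rw [← cx, mul_inv_cancel_right]
          exact Subgroup.mem_sup_right (Subgroup.mem_zpowers c)
      exact this ha)
  have hle : Subgroup.zpowers x ⊔ (Subgroup.zpowers y ⊔ Subgroup.zpowers c) ≤ K := by
    simp [hx, hy, hc]
  generalize hL : Subgroup.zpowers x ⊔ (Subgroup.zpowers y ⊔ Subgroup.zpowers c) = L at h2 hle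
  have xL : x ∈ L := hL ▸ Subgroup.mem_sup_left (Subgroup.mem_zpowers x)
  have yL : y ∈ L := hL ▸ Subgroup.mem_sup_right (Subgroup.mem_sup_left (Subgroup.mem_zpowers y))
  obtain ⟨n, hn⟩ := IsPGroup.iff_card.1 h2
  refine dvd_trans ?_ (Subgroup.card_dvd_of_le hle)
  rw [hn]
  refine pow_dvd_pow p (not_lt.1 fun h3 => c0 ?_)
  have hcomm : ∀ a b : L, a * b = b * a := by
    interval_cases n
    · have := (Nat.card_eq_one_iff_unique.1 hn).1
      exact fun _ _ => Subsingleton.elim _ _
    · have := isCyclic_of_prime_card (hn.trans (pow_one p))
      exact fun a b => (IsCyclic.commGroup (α := L)).mul_comm a b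
    · exact fun a b => (IsPGroup.commGroupOfCardEqPrimeSq hn).mul_comm a b
  have := congrArg Subtype.val (hcomm ⟨x, xL⟩ ⟨y, yL⟩)
  exact mul_eq_right.1 (h.symm.trans this)

/-- An element of `SU₃(5)` given by a coded matrix. -/
def su (M : List (List ℕ)) (h1 : (E25.cod.dm 3 M).det = 1)
    (h2 : (E25.cod.dm 3 M)ᵀ * (E25.cod.dm 3 M).map E25.fr = 1) : SU 3 E25 5 :=
  ⟨⟨E25.cod.dm 3 M, h1⟩, fun u v => by
    have e : ∀ u v : Fin 3 → E25, hermForm 3 E25 5 u v = u ⬝ᵥ (E25.fr ∘ v) := fun u v => by
      simp [hermForm, dotProduct, E25.fr_eq]
    have e2 : ∀ (A : Matrix (Fin 3) (Fin 3) E25) v, E25.fr ∘ (A *ᵥ v) = A.map E25.fr *ᵥ (E25.fr ∘ v) :=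
      fun A v => funext fun i => RingHom.map_mulVec E25.fr A v i
    rw [e, e]
    show (E25.cod.dm 3 M *ᵥ u) ⬝ᵥ (E25.fr ∘ (E25.cod.dm 3 M *ᵥ v)) = _
    rw [e2, ← vecMul_transpose, ← dotProduct_mulVec, mulVec_mulVec, h2, one_mulVec]⟩

/-- An orbit of `3.A₇` on vectors. -/
noncomputable def orb7 : List ℕ → Bool := mask 25 (nat_lit 0x6008208008001040800c010a00002011000909104001948040334a2808000080220063010648008a0000801080404800405c5480080010c20000980080100412800000681d0918112120800804004c004220000020208080801c1400200329002040812170188814080021004034205020020000006d000a0a8219c0902000844000280008095c1403050020c800001004800840200060080203000108041508e401002800826c908022900a0460190000800020d000a082005000318081080080002140112121088000010050101002100010200e000000b82001080820004241001007052c200801200008200e00000a000c20000841200140001060181002242400103000c040002008260a001252080104a60a257050090008001300002100207052c000004d300410030004840001440a0402002802294540281180005c1001030000089064c019040050080801000e0005000a8000224040009080008104040080329000408811028104206015000040a020008008040000a1008800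68219c00c00082008045000a0a0082500200880200900038000400090d0c80c4996801091040028002004600500010220000a205020041001001264031801001030000e000040044200801080669400840110800802801880084040c0008a001410800121001008a0000250000102002200600080084010102200100413318280190000601810080080650700c980208844000200cb5108180500412800000990400402c03000008501a103301408c1508e4080008102080081004114000410200208001020081100806695400020000006c0104a0180010004820948200040050008020801a1023240040000a400130000000131004520318010080c005c5480000448500008080020204012002811800c1000430000a8472002009060a00134c0114c0302032400408240002000422000480040c0280000800188010204000a0009010020800202021002601810440a0422424700048200012641010020a2008810120006000419200221100008800020482d628000800130000318081001009040040b8a9000018040000a10101800002e0816018040196a0400084a02000718a800023000038000004990501000200080840050110000430500210480000c602130041000001342cc904220000000520c004008001024080080019480190000000c021440112800040100140b3008a402800040009000000d08014010040200820028000810810200c1400a2424710800026018101c62a0140000400170421220810040201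808002008a407052c08008042c0300000c40a086701004022014000008401002410200201000052000029004004400180214002a0001804108008440a04200040800001328802202242434c011400410260020000c6023050008041001018200000224020050021800000a000828018895c1400905ac80010200c10000342048020042880222800540080208501000004200d9804500401108008040021010301000200500d0c80c0004480318010002e0800180412001040104a00018818280040c80000d081981400c401010402100810004040202080140010b00c003000210b3240004102100100d00004250700c04201006020004048000000262294540065200009320802010932d0060020021030082c0300000142004c00000214002800203040080002081018001400c40008500030040802292800040030400400040804041120400064800842060142000080084040c600400062028005420000820048201828012800081930064a0002038c540008400930041128380600208104000844200200200884996800400a000018800200a0028118280054000001a10204021220866305001400c40742468100104a4100001080208080120200400031001808000024c80180020084008a0200000482010480000021402000428599200809000020600000284001704063002200801004200566011494820000684080440020401200180021040040008204030004000148210300a42e03000000d2880220200220000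2840890900500314028000080240080801400040c0008111000052904000182000040412800040104d92a001413001000c90010305002825305220000b318280022001a000080200220003008840c021080080640000848820218000100024100402004400200460003a12302416b2094c140204400080824080080401148101200800020e0a001080020202044094820000c602000052090200008090004136480011203420660203000020600a200889802080100440080280082002424410028118402800010100220020101080124080021000048032d4a00141040480000c01016018010c0000002140040140042010100100e98022804088030500200d081010400410100280200410045240104a180080090200089091c2200009930064240020104800300c0800600082400205000a80011800004991000041120010260082080020240400880500008a5151a1901810204010c000008800408020900020490b80c006840800904000420204484800118014000040c60040065204028000040141400020401002500004043000010204006000403010000401402100101048000010809204000009800000c020101800008c0000014201004404005020400404100100400442002010008204000000)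

/-- The stabiliser of the orbit. -/
def K7 : Subgroup (SU 3 E25 5) :=
  (stabilizing (glToMat (Fin 3) E25) (E25.cod.set 3 orb7)).comap
    (SpecialLinearGroup.toGL.comp (SU 3 E25 5).subtype)

theorem pres7 : E25.cod.pres 3 orb7 [[[2, 0, 23], [0, 4, 0], [8, 0, 3]], [[3, 7, 0], [22, 2, 0], [0, 0, 4]],
    [[1, 7, 16], [22, 0, 3], [11, 3, 3]], [[0, 0, 4], [18, 0, 0], [0, 17, 0]],
    [[3, 12, 12], [12, 21, 13], [1, 18, 6]], [[12, 0, 0], [0, 12, 0], [0, 0, 12]],
    [[17, 0, 0], [0, 17, 0], [0, 0, 17]], [[1, 0, 0], [0, 1, 0], [0, 0, 1]],
    [[0, 0, 13], [8, 3, 0], [6, 8, 0]], [[0, 0, 1], [24, 22, 0], [23, 9, 0]]] = true := by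
  decide +kernel

theorem su_ext {g h : SU 3 E25 5} (e : g.1.1 = h.1.1) : g = h := Subtype.ext (Subtype.ext e)

theorem card_K7 : 7560 ∣ Nat.card K7 := by
  have h8 : 2 ^ 3 ∣ Nat.card K7 := cube_dvd_card
    (x := su [[2, 0, 23], [0, 4, 0], [8, 0, 3]] (by decide +kernel) (by decide +kernel))
    (y := su [[3, 7, 0], [22, 2, 0], [0, 0, 4]] (by decide +kernel) (by decide +kernel))
    (c := su [[1, 7, 16], [22, 0, 3], [11, 3, 3]] (by decide +kernel) (by decide +kernel))
    (E25.cod.mem_of_pres pres7 (by decide +kernel)) (E25.cod.mem_of_pres pres7 (by decide +kernel))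
    (E25.cod.mem_of_pres pres7 (by decide +kernel)) (su_ext (by decide +kernel))
    (su_ext (by decide +kernel)) (su_ext (by decide +kernel)) (su_ext (by decide +kernel))
    (su_ext (by decide +kernel)) (su_ext (by decide +kernel)) (by decide +kernel)
  have : Fact (Nat.Prime 3) := ⟨by norm_num⟩
  have h27 : 3 ^ 3 ∣ Nat.card K7 := cube_dvd_card
    (x := su [[0, 0, 4], [18, 0, 0], [0, 17, 0]] (by decide +kernel) (by decide +kernel))
    (y := su [[3, 12, 12], [12, 21, 13], [1, 18, 6]] (by decide +kernel) (by decide +kernel))
    (c := su [[12, 0, 0], [0, 12, 0], [0, 0, 12]] (by decide +kernel) (by decide +kernel))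
    (E25.cod.mem_of_pres pres7 (by decide +kernel)) (E25.cod.mem_of_pres pres7 (by decide +kernel))
    (E25.cod.mem_of_pres pres7 (by decide +kernel)) (su_ext (by decide +kernel))
    (su_ext (by decide +kernel)) (su_ext (by decide +kernel)) (su_ext (by decide +kernel))
    (su_ext (by decide +kernel)) (su_ext (by decide +kernel)) (by decide +kernel)
  have hp : ∀ (p : ℕ) (g : SU 3 E25 5), p.Prime → g ∈ K7 → g ^ p = 1 → g ≠ 1 → p ∣ Nat.card K7 :=
    fun p g hp hg h1 h2 => by
      have := Fact.mk hp
      exact (orderOf_eq_prime h1 h2).symm.dvd.trans (Subgroup.orderOf_dvd_natCard _ hg)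
  have h5 := hp 5 (su [[0, 0, 13], [8, 3, 0], [6, 8, 0]] (by decide +kernel) (by decide +kernel))
    (by norm_num) (E25.cod.mem_of_pres pres7 (by decide +kernel)) (su_ext (by decide +kernel))
    (by decide +kernel)
  have h7 := hp 7 (su [[0, 0, 1], [24, 22, 0], [23, 9, 0]] (by decide +kernel) (by decide +kernel))
    (by norm_num) (E25.cod.mem_of_pres pres7 (by decide +kernel)) (su_ext (by decide +kernel))
    (by decide +kernel)
  omega

theorem K7_ne_top : K7 ≠ ⊤ := fun h =>
  have : su [[1, 0, 0], [0, 4, 0], [0, 0, 4]] (by decide +kernel) (by decide +kernel) ∉ K7 :=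
    E25.cod.not_mem_of (E25.cod.dv 3 [1, 0, 11]) (by decide +kernel) (by decide +kernel)
  this (h.ge (Subgroup.mem_top _))

theorem center_le_K7 : Subgroup.center _ ≤ K7 := fun g hg => by
  obtain ⟨c, hc⟩ := (CL.Uni.mem_center_SU_iff E25.card_eq (by norm_num)).1 hg
  have hd := g.1.2
  rw [hc, det_smul, det_one, mul_one, Fintype.card_fin] at hd
  refine E25.cod.mem_of_pres pres7 ?_
  show E25.cod.cm g.1.1 ∈ _
  rw [hc]
  clear hc
  revert c
  decide +kernel

theorem exists_index_fifty {F : Type*} [Field F] [Fintype F] (hF : Fintype.card F = 25) :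
    ∃ H : Subgroup (PSU 3 F 5), H.index = 50 := by
  obtain ⟨H, hH⟩ := exists_psu_index center_le_K7
  obtain ⟨e⟩ := CL.Uni.nonempty_psuCongr (hF.trans E25.card_eq.symm) 3 5
  refine ⟨H.comap e.toMonoidHom, (Subgroup.index_comap_of_surjective _ e.surjective).trans (hH.trans ?_)⟩
  have h1 := su_index E25.card_eq (by norm_num) K7_ne_top center_le_K7
  have h2 := K7.card_mul_index
  rw [CL.U3.card_SU3 E25.card_eq] at h2
  have h3 := Nat.mul_le_mul_right K7.index (Nat.le_of_dvd Nat.card_pos card_K7)
  omega

end CL.U3M
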