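/-
Elements of prime order in the normaliser of a group of symplectic type in dimension four.
-/
import Mathlib
import Cfsg.Agent.CLAS.Pauli1
import Cfsg.Agent.CLAS.Elus8
import Cfsg.Agent.KSG.GLnClsNum
import Cfsg.Agent.KSG.SpUUnitary

set_option autoImplicit false

namespace CL.Pauli

open Matrix Subgroup Cfsg.Geo Module CL.Witt CL.Witt.Form CL.GLn CL.Elus CL.PrimeCl CL.SpU
open scoped MatrixGroups

variable {F : Type*} [Field F] {ι : Type} [Fintype ι] [DecidableEq ι] {T : FormType F}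
  {R : Subgroup (GL ι F)} {f : Form T (ι → F)} {M N : Matrix ι ι F} {c d : F} {s : GL ι F}

/-- `M` normalises `R` and multiplies the form by `c`. -/
def NM (R : Subgroup (GL ι F)) (f : Form T (ι → F)) (c : F) (M : Matrix ι ι F) : Prop :=
  (∃ y ∈ normalizer (R : Set (GL ι F)), (y : Matrix ι ι F) = M) ∧
    ∀ u v, f.B (M *ᵥ u) (M *ᵥ v) = c * f.B u v

theorem NM.mul (h : NM R f c M) (h' : NM R f d N) : NM R f (c * d) (M * N) :=
  let ⟨⟨y, h1, h2⟩, h3⟩ := h
  let ⟨⟨z, h4, h5⟩, h6⟩ := h'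
  ⟨⟨y * z, mul_mem h1 h4, by rw [← h2, ← h5]; rfl⟩, fun u v => by
    rw [← mulVec_mulVec, ← mulVec_mulVec, h3, h6, mul_assoc]⟩

theorem sc_mem_normalizer (h : Sc s) : s ∈ normalizer (R : Set (GL ι F)) := fun t => by
  rw [h.comm, mul_inv_cancel_right]

theorem exists_sc {a : F} (ha : a ≠ 0) : ∃ s : GL ι F, (s : Matrix ι ι F) = a • 1 :=
  ⟨GeneralLinearGroup.scalar ι (Units.mk0 a ha), by simp [smul_one_eq_diagonal]⟩

theorem NM.smul (h : NM R f c M) {a : F} (ha : a ≠ 0) : NM R f (T.σ a * a * c) (a • M) := by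
  obtain ⟨⟨y, h1, rfl⟩, h3⟩ := h
  obtain ⟨z, hz⟩ := exists_sc (ι := ι) ha
  refine ⟨⟨z * y, mul_mem (sc_mem_normalizer ⟨a, hz⟩) h1, by simp [hz]⟩, fun u v => ?_⟩
  rw [smul_mulVec, smul_mulVec, f.B_smul_left, f.B_smul_right, h3]; ring

theorem NM.half (h2 : (2 : F) ≠ 0) (h : NM R f (2 * 2) M) : NM R f 1 ((2 : F)⁻¹ • M) := by
  convert h.smul (inv_ne_zero h2) using 1
  rw [map_inv₀, map_ofNat]; field_simp

theorem NM.pow (h : NM R f 1 M) (k : ℕ) : NM R f 1 (M ^ k) := by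
  induction k with
  | zero => exact ⟨⟨1, one_mem _, by simp⟩, by simp⟩
  | succ k ih => simpa [pow_succ] using ih.mul h

theorem trace_invol {V : Type*} [AddCommGroup V] [Module F V] [FiniteDimensional F V]
    (h2 : (2 : F) ≠ 0) {A : Module.End F V} (h : A ^ 2 = 1) :
    LinearMap.trace F V A = finrank F V - 2 * finrank F (LinearMap.range (A - 1)) := by
  have h1 : IsIdempotentElem ((-2 : F)⁻¹ • (A - 1)) := by
    rw [IsIdempotentElem, smul_mul_smul_comm, sub_mul, mul_sub, mul_sub, ← pow_two A, h]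
    simp only [mul_one, one_mul]
    match_scalars <;> field_simp <;> ring
  have h3 := (LinearMap.IsIdempotentElem.isProj_range _ h1).trace
  rw [LinearMap.range_smul _ _ (inv_ne_zero (neg_ne_zero.2 h2)), map_smul, map_sub,
    LinearMap.trace_one, smul_eq_mul, inv_mul_eq_iff_eq_mul₀ (neg_ne_zero.2 h2)] at h3
  linear_combination h3

/-- The element of order three attached to three anticommuting involutions. -/
noncomputable def W3 (a b c : GL ι F) : Matrix ι ι F :=
  (2 : F)⁻¹ • ((a - b : Matrix ι ι F) * (b - c : Matrix ι ι F))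

theorem W3_sq (h2 : (2 : F) ≠ 0) {a b c : GL ι F} (ha : a * a = 1) (hb : b * b = 1)
    (hc : c * c = 1) (h1 : a * b = -(b * a)) (h3 : a * c = -(c * a)) (h4 : b * c = -(c * b)) :
    W3 a b c * W3 a b c = -W3 a b c - 1 := by
  have k1 : (a : Matrix ι ι F) * a = 1 := congrArg Units.val ha
  have k2 : (b : Matrix ι ι F) * b = 1 := congrArg Units.val hb
  have k3 : (c : Matrix ι ι F) * c = 1 := congrArg Units.val hc
  have k4 : (b : Matrix ι ι F) * a = -(a * b) := congrArg Units.val (anti_symm h1)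
  have k5 : (c : Matrix ι ι F) * a = -(a * c) := congrArg Units.val (anti_symm h3)
  have k6 : (c : Matrix ι ι F) * b = -(b * c) := congrArg Units.val (anti_symm h4)
  simp only [W3, smul_mul_smul_comm, mul_sub, sub_mul, mul_assoc, k1, k2, k3, k4, k5, k6,
    anti_assoc k4, anti_assoc k5, anti_assoc k6, sq_assoc k1, sq_assoc k2, mul_one,
    one_mul, mul_neg, neg_neg]
  match_scalars <;> field_simp <;> ring

theorem commute_W3 {a b c : GL ι F} (h1 : M * a = -(a * M)) (h2 : M * b = -(b * M))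
    (h3 : M * c = -(c * M)) : Commute M (W3 a b c) := by
  refine Commute.smul_right ?_ _
  simp only [Commute, SemiconjBy, mul_sub, sub_mul, mul_assoc, anti_assoc h1, anti_assoc h2, h2, h3,
    mul_neg, neg_neg]

theorem cube_eq_one {A : Type*} [Ring A] {w : A} (h : w * w = -w - 1) : w ^ 3 = 1 := by
  rw [pow_three, h, mul_sub, mul_neg, h]; simp

namespace Pau

variable [Finite F] (h : Pau R) (hf : ∀ s ∈ R, ∀ u v, f.B (s.1 *ᵥ u) (s.1 *ᵥ v) = f.B u v)
include h

omit [Finite F] in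
theorem trace_mul_W3 {a b c : GL ι F} (hb : b * b = 1) (ha : a * a = 1) (h1 : a * b = -(b * a))
    (h3 : a * c = -(c * a)) (h4 : b * c = -(c * b)) (h5 : M * a = a * M) (h6 : M * b = b * M) :
    trace (M * W3 a b c) = -(2 : F)⁻¹ * trace M := by
  have k2 : (b : Matrix ι ι F) * b = 1 := congrArg Units.val hb
  have k4 : (b : Matrix ι ι F) * a = -(a * b) := congrArg Units.val (anti_symm h1)
  have k5 : (c : Matrix ι ι F) * a = -(a * c) := congrArg Units.val (anti_symm h3)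
  have k6 : (c : Matrix ι ι F) * b = -(b * c) := congrArg Units.val (anti_symm h4)
  have e1 := h.trace_eq_zero_of (M := M * (a * b)) (t := a) (by
    simp [mul_assoc, k4, comm_assoc h5])
  have e2 := h.trace_eq_zero_of (M := M * (a * c)) (t := a) (by
    simp [mul_assoc, k5, comm_assoc h5])
  have e3 := h.trace_eq_zero_of (M := M * (b * c)) (t := b) (by
    simp [mul_assoc, k6, comm_assoc h6])
  simp [W3, mul_sub, sub_mul, k2, e1, e2, e3]

omit [Finite F] in
theorem rank_of_trace (h1 : M ^ 2 = 1) (h2 : M ≠ 1) (h3 : M ≠ -1) {k : ℕ} (h4 : 1 ≤ k ∧ k ≤ 3)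
    (h5 : trace M = 4 - 2 * k) : finrank F (LinearMap.range (toLin' M - 1)) = k := by
  have h6 : toLin' M ^ 2 = 1 := by rw [← toLin'_pow, h1, toLin'_one]; rfl
  have h7 := trace_invol h.two h6
  have h8 := finrank_range_pos (A := toLin' M) fun h => h2 (toLin'.injective (h.trans toLin'_one.symm))
  have h9 := finrank_ker_add_range (toLin' M - 1)
  have h10 : 0 < finrank F (LinearMap.ker (toLin' M - 1)) := Nat.pos_of_ne_zero fun h10 => h3 (by
    refine toLin'.injective (LinearMap.ext fun v => ?_)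
    rw [map_neg, toLin'_one, LinearMap.neg_apply, LinearMap.id_apply, eq_neg_iff_add_eq_zero]
    refine (Submodule.eq_bot_iff _).1 (Submodule.finrank_eq_zero.1 h10) _ ?_
    simp [mulVec_add, ← pow_two, h1, add_comm])
  rw [trace_toLin'_eq, h5, finrank_fintype_fun_eq_card, h.card] at h7
  rw [finrank_fintype_fun_eq_card, h.card] at h9
  have h11 := h.two
  have h12 := h.four
  generalize finrank F (LinearMap.range (toLin' M - 1)) = j at *
  have : j ≤ 3 := by omega
  obtain ⟨h4, h13⟩ := h4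
  interval_cases k <;> interval_cases j <;> first | rfl | grind

include hf

omit [Finite F] h in
theorem nm_mem (hs : s ∈ R) : NM R f 1 (s : Matrix ι ι F) :=
  ⟨⟨s, le_normalizer hs, rfl⟩, by simpa using hf s hs⟩

theorem nm_one_add (hs : s ∈ R) (h1 : s * s = -1) : NM R f 2 (1 + s : Matrix ι ι F) := by
  have h2 : (s : Matrix ι ι F) * s = -1 := congrArg Units.val h1
  have h3 : (1 + s : Matrix ι ι F) * ((2 : F)⁻¹ • (1 - s)) = 1 := by
    simp only [mul_smul_comm, mul_sub, add_mul, h2, mul_one, one_mul]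
    match_scalars <;> simp [h.two, one_add_one_eq_two]
  obtain ⟨y, hy⟩ : IsUnit (1 + s : Matrix ι ι F) := IsUnit.of_mul_eq_one _ h3
  refine ⟨⟨y, mem_normalizer_fintype fun t ht => ?_, hy⟩, fun u v => ?_⟩
  · rcases h.pm s hs t ht with h4 | h4
    · rwa [show y * t = t * y from Units.ext (by
        simpa [hy, add_mul, mul_add] using congrArg Units.val h4), mul_inv_cancel_right]
    · have h5 : (t : Matrix ι ι F) * s = -(s.1 * t.1) := congrArg Units.val (anti_symm h4 :)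
      rw [show y * t = s * t * y from Units.ext (by
        simp [hy, add_mul, mul_add, mul_assoc, h5, sq_assoc h2, add_comm]), mul_inv_cancel_right]
      exact R.mul_mem hs ht
  · have h4 := hf s hs (s.1 *ᵥ u) v
    rw [mulVec_mulVec, h2, neg_mulVec, one_mulVec, f.B_neg_left] at h4
    simp only [add_mulVec, one_mulVec, B_add_left, B_add_right, hf s hs, ← h4]
    ring

theorem nm_sub {a b : GL ι F} (ha : a ∈ R) (hb : b ∈ R) (h1 : a * a = 1) (h2 : b * b = 1)
    (h3 : a * b = -(b * a)) : NM R f 2 (a - b : Matrix ι ι F) := by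
  convert (nm_mem hf ha).mul (h.nm_one_add hf (R.mul_mem hb ha) (by
    simp [mul_assoc, anti_assoc h3, h1, h2])) using 1
  · simp
  · have k1 : (a : Matrix ι ι F) * a = 1 := congrArg Units.val h1
    have k2 : (a : Matrix ι ι F) * b = -(b * a) := congrArg Units.val h3
    simp [mul_add, anti_assoc k2, k1, sub_eq_add_neg]

theorem nm_W3 {a b c : GL ι F} (ha : a ∈ R) (hb : b ∈ R) (hc : c ∈ R) (h1 : a * a = 1)
    (h2 : b * b = 1) (h3 : c * c = 1) (h4 : a * b = -(b * a)) (h5 : b * c = -(c * b)) :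
    NM R f 1 (W3 a b c) :=
  ((h.nm_sub hf ha hb h1 h2 h4).mul (h.nm_sub hf hb hc h2 h3 h5)).half h.two

variable {γ : Fin 5 → GL ι F} (hγ : Fr R γ)
include hγ

theorem exists_five : ∃ M, NM R f 1 M ∧ M ^ 5 = 1 ∧ M ≠ 1 := by
  have h1 := fun i j hij => h.nm_sub hf (hγ.mem i) (hγ.mem j) (hγ.sq i) (hγ.sq j) (hγ.anti i j hij)
  have h2 := ((h1 0 1 (by decide)).mul (h1 1 2 (by decide))).half h.two |>.mul
    (((h1 2 3 (by decide)).mul (h1 3 4 (by decide))).half h.two)
  have h3 : ∀ i j k, i ≠ j → (γ i - γ j : Matrix ι ι F) * γ k =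
      -(γ (Equiv.swap i j k) * (γ i - γ j : Matrix ι ι F)) := fun i j k hij => by
    have k1 : ∀ i, (γ i : Matrix ι ι F) * γ i = 1 := fun i => congrArg Units.val (hγ.sq i)
    have k2 : ∀ i j, i ≠ j → (γ i : Matrix ι ι F) * γ j = -(γ j * γ i) := fun i j hij =>
      congrArg Units.val (hγ.anti i j hij)
    by_cases hi : k = i
    · simp [hi, sub_mul, mul_sub, k1]
    by_cases hj : k = j
    · simp [hj, sub_mul, mul_sub, k1]
    rw [Equiv.swap_apply_of_ne_of_ne hi hj, sub_mul, mul_sub, k2 k i hi, k2 k j hj]; abel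
  rw [one_mul] at h2
  obtain ⟨y, -, hy⟩ := h2.1
  have h4 : ∀ k, y * γ k = γ (k + 1) * y := fun k => Units.ext (by
    rw [show k + 1 = Equiv.swap 0 1 (Equiv.swap 1 2 (Equiv.swap 2 3 (Equiv.swap 3 4 k))) by
      revert k; decide]
    simp only [Units.val_mul, hy, smul_mul_assoc, mul_smul_comm, mul_assoc, h3 3 4 _ (by decide),
      mul_neg, ← mul_assoc _ (γ _ : Matrix ι ι F), h3 2 3 _ (by decide), h3 1 2 _ (by decide),
      h3 0 1 _ (by decide), neg_mul, neg_neg])
  have h5 : ∀ n : ℕ, y ^ n * γ 0 = γ (Fin.ofNat 5 n) * y ^ n := fun n => by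
    induction n with
    | zero => simp
    | succ n ih => rw [pow_succ', mul_assoc, ih, ← mul_assoc, h4, mul_assoc]; congr 2; ext; simp [Fin.val_add]
  have h6 : 5 ∣ orderOf y := by
    have h6 := h5 (orderOf y)
    rw [pow_orderOf_eq_one, one_mul, mul_one] at h6
    by_contra h7
    exact h.not_comm (hγ.anti 0 (Fin.ofNat 5 (orderOf y)) fun h8 => h7 (Nat.dvd_of_mod_eq_zero
      (congrArg Fin.val h8).symm)) (by rw [← h6])
  have h7 := orderOf_pow_orderOf_div (orderOf_pos y).ne' h6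
  rw [← hy] at h2
  refine ⟨_, h2.pow (orderOf y / 5), ?_, fun h8 => ?_⟩
  · exact congrArg Units.val (orderOf_dvd_iff_pow_eq_one.1 h7.dvd)
  · rw [show y ^ (orderOf y / 5) = 1 from Units.ext h8] at h7
    simp at h7

theorem exists_three (h3 : (3 : F) ≠ 0) : ∃ M, NM R f 1 M ∧ M ^ 3 = 1 ∧
    finrank F (LinearMap.range (toLin' M - 1)) = 4 := by
  have h1 := W3_sq h.two (hγ.sq 0) (hγ.sq 1) (hγ.sq 2) (hγ.anti 0 1 (by decide))
    (hγ.anti 0 2 (by decide)) (hγ.anti 1 2 (by decide))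
  refine ⟨_, h.nm_W3 hf (hγ.mem 0) (hγ.mem 1) (hγ.mem 2) (hγ.sq 0) (hγ.sq 1) (hγ.sq 2)
    (hγ.anti 0 1 (by decide)) (hγ.anti 1 2 (by decide)), cube_eq_one h1, ?_⟩
  generalize W3 (γ 0) (γ 1) (γ 2) = w at h1
  have h2 : (w - 1) * ((-3 : F)⁻¹ • (w + (2 : F) • 1)) = 1 := by
    simp only [mul_smul_comm, mul_add, sub_mul, h1, mul_one, one_mul]
    match_scalars <;> field_simp <;> ring
  rw [LinearMap.range_eq_top.2 fun v => ⟨((-3 : F)⁻¹ • (w + (2 : F) • 1)) *ᵥ v, by
    conv_rhs => rw [← one_mulVec v, ← h2, ← mulVec_mulVec, sub_mulVec, one_mulVec]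
    rfl⟩, finrank_top,
    finrank_fintype_fun_eq_card, h.card]

theorem exists_three' (h3 : (3 : F) ≠ 0) {j : GL ι F} (hj : j ∈ R) (h1 : Sc j) (h2 : j * j = -1) :
    ∃ M, NM R f 1 M ∧ M ^ 3 = 1 ∧ M ≠ 1 ∧ finrank F (LinearMap.range (toLin' M - 1)) ≠ 4 := by
  have ha := hγ.anti
  have h4 := W3_sq h.two (hγ.sq 0) (hγ.sq 1) (hγ.sq 2) (ha 0 1 (by decide)) (ha 0 2 (by decide))
    (ha 1 2 (by decide))
  have h5 : j * γ 3 * γ 4 * (j * γ 3 * γ 4) = 1 := by
    simp [mul_assoc, ← comm_assoc (h1.comm _), anti_assoc (ha 4 3 (by decide)), sq_assoc h2, hγ.sq,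
      sq_assoc (hγ.sq _), h2]
  have h6 : γ 3 * (j * γ 3 * γ 4) = -(j * γ 3 * γ 4 * γ 3) := by
    simp [mul_assoc, ← comm_assoc (h1.comm _), ha 4 3 (by decide)]
  have h7 : γ 4 * (j * γ 3 * γ 4) = -(j * γ 3 * γ 4 * γ 4) := by
    simp [mul_assoc, ← comm_assoc (h1.comm _), anti_assoc (ha 4 3 (by decide))]
  have h8 := W3_sq h.two (hγ.sq 3) (hγ.sq 4) h5 (ha 3 4 (by decide)) h6 h7
  have h9 : ∀ i, 3 ≤ i → Commute (W3 (γ 0) (γ 1) (γ 2)) (γ i) := fun i hi =>
    (commute_W3 (congrArg Units.val (ha i 0 (by omega))) (congrArg Units.val (ha i 1 (by omega)))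
      (congrArg Units.val (ha i 2 (by omega)))).symm
  have h10 : Commute (W3 (γ 0) (γ 1) (γ 2)) (W3 (γ 3) (γ 4) (j * γ 3 * γ 4)) := by
    obtain ⟨i, hi⟩ := h1
    refine (((h9 3 le_rfl).sub_right (h9 4 (by decide))).mul_right
      ((h9 4 (by decide)).sub_right ?_)).smul_right _
    rw [Units.val_mul, Units.val_mul, hi]
    exact (((Commute.one_right _).smul_right i).mul_right (h9 3 le_rfl)).mul_right (h9 4 (by decide))
  have h11 := fun M => h.trace_mul_W3 (M := M) (hγ.sq 4) (hγ.sq 3) (ha 3 4 (by decide)) h6 h7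
  have h12 := h11 _ (h9 3 le_rfl) (h9 4 (by decide))
  have h13 := h11 1 (by simp) (by simp)
  have h14 := h.trace_mul_W3 (M := 1) (hγ.sq 1) (hγ.sq 0) (ha 0 1 (by decide)) (ha 0 2 (by decide))
    (ha 1 2 (by decide)) (by simp) (by simp)
  have h15 := (h.nm_W3 hf (hγ.mem 0) (hγ.mem 1) (hγ.mem 2) (hγ.sq 0) (hγ.sq 1) (hγ.sq 2)
    (ha 0 1 (by decide)) (ha 1 2 (by decide))).mul (h.nm_W3 hf (hγ.mem 3) (hγ.mem 4)
    (R.mul_mem (R.mul_mem hj (hγ.mem 3)) (hγ.mem 4)) (hγ.sq 3) (hγ.sq 4) h5 (ha 3 4 (by decide)) h7)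
  generalize W3 (γ 0) (γ 1) (γ 2) = v at *
  generalize W3 (γ 3) (γ 4) (j * γ 3 * γ 4) = w at *
  have h16 : (v * w) ^ 3 = 1 := by rw [h10.mul_pow, cube_eq_one h4, cube_eq_one h8, mul_one]
  have h17 := h.two
  rw [one_mul, trace_one, h.card] at h13 h14
  replace h12 : trace (v * w) = 1 := by rw [h12, h14]; field_simp; norm_num
  refine ⟨_, by simpa using h15, h16, fun h18 => h3 ?_, fun h18 => h3 ?_⟩
  · rw [h18, trace_one, h.card] at h12
    linear_combination h12
  · have h19 : IsUnit (v * w - 1) := by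
      rw [← isUnit_toLin'_iff, map_sub, toLin'_one, LinearMap.isUnit_iff_range_eq_top]
      exact Submodule.eq_top_of_finrank_eq (by rw [finrank_fintype_fun_eq_card, h.card]; exact h18)
    have h20 : (v * w) ^ 2 + v * w + 1 = 0 := h19.mul_right_eq_zero.1 (by
      rw [← sub_eq_zero.2 h16]; noncomm_ring)
    rw [h10.mul_pow, pow_two, pow_two, h4, h8] at h20
    replace h20 := congrArg trace h20
    simp only [sub_mul, mul_sub, neg_mul, mul_neg, mul_one, one_mul, trace_add, trace_sub, trace_neg,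
      h12, h13, h14, trace_one, h.card, trace_zero] at h20
    field_simp at h20
    refine mul_left_cancel₀ h.four ?_
    linear_combination h20

theorem exists_two : ∃ M, NM R f 1 M ∧ M ^ 2 = 1 ∧
    finrank F (LinearMap.range (toLin' M - 1)) = 2 := by
  have h1 := h.not_sc (hγ.anti 0 1 (by decide))
  have h2 : (γ 0 : Matrix ι ι F) ^ 2 = 1 := (pow_two _).trans (congrArg Units.val (hγ.sq 0))
  exact ⟨_, nm_mem hf (hγ.mem 0), h2, h.rank_of_trace h2 (fun h => h1 ⟨1, by simpa using h⟩)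
    (fun h => h1 ⟨-1, by simpa using h⟩) (by omega)
    (by rw [h.trace_eq_zero (hγ.mem 0) h1]; norm_num)⟩

omit [Finite F] h in
theorem exists_sq_neg : ∃ M, NM R f 1 M ∧ M ^ 2 = -1 :=
  ⟨_, nm_mem hf (R.mul_mem (hγ.mem 0) (hγ.mem 1)), (pow_two _).trans (congrArg Units.val (show
    γ 0 * γ 1 * (γ 0 * γ 1) = -1 by simp [mul_assoc, anti_assoc (hγ.anti 1 0 (by decide)), hγ.sq]))⟩

theorem exists_refl {j : GL ι F} (hj : j ∈ R) (h1 : Sc j) (h2 : j * j = -1) :
    ∃ M, NM R f 1 M ∧ M ^ 2 = 1 ∧ M ≠ 1 ∧ M ≠ -1 ∧ trace M = 2 := by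
  have ha := hγ.anti
  have h3 : j * γ 1 * γ 2 * (j * γ 1 * γ 2) = 1 := by
    simp [mul_assoc, ← comm_assoc (h1.comm _), anti_assoc (ha 2 1 (by decide)), sq_assoc h2, hγ.sq,
      sq_assoc (hγ.sq _), h2]
  have h4 : j * γ 1 * γ 2 * γ 0 = γ 0 * (j * γ 1 * γ 2) := by
    simp [mul_assoc, ← comm_assoc (h1.comm _), anti_assoc (ha 1 0 (by decide)), ha 2 0 (by decide)]
  have h5 : ¬ Sc (j * γ 1 * γ 2) := h.not_sc (t := γ 1) (by
    simp [mul_assoc, ← comm_assoc (h1.comm _), ha 2 1 (by decide)])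
  have h6 : ¬ Sc (γ 0 * (j * γ 1 * γ 2)) := h.not_sc (t := γ 3) (by
    simp [mul_assoc, ← comm_assoc (h1.comm _), anti_assoc (ha 3 0 (by decide)),
      anti_assoc (ha 3 1 (by decide)), ha 3 2 (by decide)])
  have h7 := h.not_sc (ha 0 1 (by decide))
  have hb := R.mul_mem (R.mul_mem hj (hγ.mem 1)) (hγ.mem 2)
  have ha := hγ.mem 0
  have h8 := hγ.sq 0
  generalize j * γ 1 * γ 2 = b at *
  generalize γ 0 = a at *
  have key : ∀ s ∈ R, s * s = 1 → NM R f 2 (1 + (j * s : GL ι F) : Matrix ι ι F) ∧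
      ∀ u v, f.B (s.1 *ᵥ u) v = f.B u (s.1 *ᵥ v) := fun s hs h9 =>
    ⟨h.nm_one_add hf (R.mul_mem hj hs) (by rw [mul_assoc, ← comm_assoc (h1.comm s), h9, mul_one, h2]),
      fun u v => by rw [← hf s hs u, mulVec_mulVec, ← Units.val_mul, h9]; simp⟩
  have h9 := key _ (h.neg_mem (R.mul_mem ha hb)) (by simp [mul_assoc, comm_assoc h4, h3, h8])
  obtain ⟨i, hi⟩ := h1
  have := h.nonempty
  have h10 : i * i = -1 := smul_one_inj' (ι := ι) (by
    simpa [hi, smul_smul] using congrArg Units.val h2)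
  have k1 : (a : Matrix ι ι F) * a = 1 := congrArg Units.val h8
  have k2 : (b : Matrix ι ι F) * b = 1 := congrArg Units.val h3
  have k3 : (b : Matrix ι ι F) * a = a * b := congrArg Units.val h4
  have h11 := h.two
  have h12 : 1 + i ≠ 0 := fun h12 => h11 (by linear_combination h10 + (1 - i) * h12)
  set M : Matrix ι ι F := (2 : F)⁻¹ • (1 + a + b - a * b) with hM
  have h13 : M ^ 2 = 1 := by
    simp only [pow_two, hM, smul_mul_smul_comm, mul_sub, sub_mul, mul_add, add_mul, mul_assoc, k1,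
      k2, k3, comm_assoc k3, sq_assoc k1, mul_one, one_mul]
    match_scalars <;> field_simp <;> ring
  have e1 := h.trace_eq_zero ha h7
  have e2 := h.trace_eq_zero hb h5
  have e3 : trace (a.1 * b.1) = 0 := h.trace_eq_zero (R.mul_mem ha hb) h6
  have h14 : trace (a.1 * M) ≠ 0 := by
    simp [hM, mul_sub, mul_add, k1, sq_assoc k1, e1, e2, e3, h.card, h11, h.four]
  refine ⟨M, ⟨?_, fun u v => ?_⟩, h13, fun h15 => h14 (by simp [h15, e1]),
    fun h15 => h14 (by simp [h15, e1]), ?_⟩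
  · obtain ⟨y, h15, h16⟩ := ((((key a ha h8).1.mul (key b hb h3).1).mul h9.1).smul
      (inv_ne_zero (mul_ne_zero h11 h12))).1
    refine ⟨y, h15, h16.trans ?_⟩
    simp only [hM, Units.val_mul, Units.val_neg, hi, smul_mul_assoc, mul_smul_comm, mul_add, add_mul,
      mul_assoc, k1, k2, k3, comm_assoc k3, sq_assoc k1, mul_one, one_mul, mul_neg]
    match_scalars <;> field_simp <;> grind
  · have h15 : ∀ u v, f.B (M *ᵥ u) v = f.B u (M *ᵥ v) := fun u v => by
      rw [hM]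
      simp only [smul_mulVec, sub_mulVec, add_mulVec, one_mulVec, ← mulVec_mulVec, B_smul_left,
        B_smul_right, B_add_left, B_add_right, B_sub_left, B_sub_right, (key a ha h8).2,
        (key b hb h3).2, map_inv₀, map_ofNat]
      rw [mulVec_mulVec, mulVec_mulVec v a.1, k3]
    rw [h15, mulVec_mulVec, ← pow_two, h13, one_mulVec, one_mul]
  · simp only [hM, trace_smul, trace_sub, trace_add, trace_one, h.card, e1, e2, e3, smul_eq_mul]
    field_simp; norm_num

end Pau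

end CL.Pauli
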