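/-
Rank three actions of the symplectic groups in odd characteristic: definitions and basic facts.
-/
import Cfsg.Agent.CLAS.SpAlt

set_option autoImplicit false

namespace CL.Rk

open Module CL.Witt CL.Witt.Form FormType Submodule

variable {F : Type*} [Field F] {V : Type*} [AddCommGroup V] [Module F V]

/-- `h` lies in the double coset `K g K`. -/
def DC (K : Subgroup (V ≃ₗ[F] V)) (g h : V ≃ₗ[F] V) : Prop := ∃ k ∈ K, ∃ k' ∈ K, h = k * g * k'

/-- `K` is a maximal subgroup of `Sp(V)`, `dim V ≥ 6`, `q` odd, with at most three double cosets. -/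
structure R3 (f : Form (alt F) V) (K : Subgroup (V ≃ₗ[F] V)) : Prop where
  nd : f.Nondeg
  two : (2 : F) ≠ 0
  dim : 6 ≤ finrank F V
  le : K ≤ f.O
  ne : ¬ f.O ≤ K
  max : ∀ H, K ≤ H → H ≤ f.O → H ≤ K ∨ f.O ≤ H
  four : ∀ a ∈ f.O, ∀ b ∈ f.O, ∀ c ∈ f.O, a ∉ K → b ∉ K → c ∉ K →
    DC K a b ∨ DC K a c ∨ DC K b c

/-- `K` contains no transvection. -/
def TF (f : Form (alt F) V) (K : Subgroup (V ≃ₗ[F] V)) : Prop :=
  ∀ v c, f.tv v c ∈ K → v = 0 ∨ c = 0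

/-- The points spanned by `x` and `y` are in the same `K`-orbit. -/
def Eqv (K : Subgroup (V ≃ₗ[F] V)) (x y : V) : Prop := ∃ k ∈ K, ∃ c : F, y = c • k x

/-- `K` has at least three orbits on the points. -/
def Three (K : Subgroup (V ≃ₗ[F] V)) : Prop :=
  ∃ x y z : V, x ≠ 0 ∧ y ≠ 0 ∧ z ≠ 0 ∧ ¬ Eqv K x y ∧ ¬ Eqv K x z ∧ ¬ Eqv K y z

/-- `K` is irreducible. -/
def Irr (K : Subgroup (V ≃ₗ[F] V)) : Prop :=
  ∀ W : Submodule F V, (∀ k ∈ K, ∀ v ∈ W, k v ∈ W) → W = ⊥ ∨ W = ⊤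

/-- `v` spans the centre of a transvection in `K`. -/
def Ctr (f : Form (alt F) V) (K : Subgroup (V ≃ₗ[F] V)) (v : V) : Prop :=
  v ≠ 0 ∧ ∃ a, a ≠ 0 ∧ f.tv v a ∈ K

/-- Connectedness of centres by chains of non-perpendicular centres. -/
def Conn (f : Form (alt F) V) (K : Subgroup (V ≃ₗ[F] V)) : V → V → Prop :=
  Relation.ReflTransGen fun v w => Ctr f K v ∧ Ctr f K w ∧ f.B v w ≠ 0

/-- Every transvection has a partner of the other class in the same coset of `K`, with centre in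
any prescribed `K`-orbit. -/
def Par (f : Form (alt F) V) (K : Subgroup (V ≃ₗ[F] V)) : Prop :=
  ∀ v ≠ 0, ∀ a ≠ 0, ∀ w₀ ≠ 0, ∃ k ∈ K, ∃ b, ¬ IsSquare (a * b) ∧
    f.tv (k w₀) (-b) * f.tv v a ∈ K

/-- The elements of `K` supported on `W`. -/
def Sup (f : Form (alt F) V) (K : Subgroup (V ≃ₗ[F] V)) (W : Submodule F V) :
    Subgroup (V ≃ₗ[F] V) := K ⊓ f.fix (f.perp W)

/-- Hyperbolic line. -/
def Hyp (f : Form (alt F) V) (U : Submodule F V) : Prop :=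
  ∃ e e', f.B e e' = 1 ∧ U = span F {e, e'}

/-- A hyperbolic line on which the elements of `K` supported there act irreducibly. -/
def IL (f : Form (alt F) V) (K : Subgroup (V ≃ₗ[F] V)) (U : Submodule F V) : Prop :=
  Hyp f U ∧ ∀ y ∈ U, y ≠ 0 → ∃ g ∈ Sup f K U, g y ∉ F ∙ y

section Basic
variable {f : Form (alt F) V} {K : Subgroup (V ≃ₗ[F] V)}

theorem Bl (c : F) (x z : V) : f.B (c • x) z = c * f.B x z := by
  rw [f.B_smul_left, alt_σ]

theorem Br (c : F) (x z : V) : f.B x (c • z) = c * f.B x z := f.B_smul_right c x z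

theorem mem_Sup {W : Submodule F V} {g : V ≃ₗ[F] V} :
    g ∈ Sup f K W ↔ g ∈ K ∧ g ∈ f.O ∧ ∀ v ∈ f.perp W, g v = v := Iff.rfl

theorem Eqv.refl (x : V) : Eqv K x x := ⟨1, K.one_mem, 1, by simp⟩

/-- Three orbits from two invariant predicates. -/
theorem three_of_inv (P Q : V → Prop) (hP : ∀ k ∈ K, ∀ (c : F) v, c ≠ 0 → (P (c • k v) ↔ P v))
    (hQ : ∀ k ∈ K, ∀ (c : F) v, c ≠ 0 → (Q (c • k v) ↔ Q v)) {x y z : V} (hx : x ≠ 0) (hy : y ≠ 0)
    (hz : z ≠ 0) (px : P x) (py : ¬ P y) (pz : ¬ P z) (qy : Q y) (qz : ¬ Q z) : Three K := by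
  refine ⟨x, y, z, hx, hy, hz, ?_, ?_, ?_⟩
  · rintro ⟨k, hk, c, rfl⟩
    exact py ((hP k hk c x (by rintro rfl; simp at hy)).2 px)
  · rintro ⟨k, hk, c, rfl⟩
    exact pz ((hP k hk c x (by rintro rfl; simp at hz)).2 px)
  · rintro ⟨k, hk, c, rfl⟩
    exact qz ((hQ k hk c y (by rintro rfl; simp at hz)).2 qy)

/-- Four double cosets from an invariant. -/
theorem R3.false_of_inv (h : R3 f K) {α : Type*} (I : (V ≃ₗ[F] V) → α)
    (hI : ∀ g ∈ f.O, ∀ k ∈ K, ∀ k' ∈ K, I (k * g * k') = I g) {a b c : V ≃ₗ[F] V}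
    (ha : a ∈ f.O) (hb : b ∈ f.O) (hc : c ∈ f.O) (h1 : I a ≠ I 1) (h2 : I b ≠ I 1)
    (h3 : I c ≠ I 1) (hab : I a ≠ I b) (hac : I a ≠ I c) (hbc : I b ≠ I c) : False := by
  have hK : ∀ g, I g ≠ I 1 → g ∉ K := fun g hg hgK => hg (by
    simpa using hI 1 (one_mem _) g hgK 1 K.one_mem)
  rcases h.four a ha b hb c hc (hK a h1) (hK b h2) (hK c h3) with
    ⟨k, hk, k', hk', rfl⟩ | ⟨k, hk, k', hk', rfl⟩ | ⟨k, hk, k', hk', rfl⟩
  · exact hab (hI a ha k hk k' hk').symm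
  · exact hac (hI a ha k hk k' hk').symm
  · exact hbc (hI b hb k hk k' hk').symm

theorem Ctr.conj (hK : K ≤ f.O) {v : V} (h : Ctr f K v) {k : V ≃ₗ[F] V} (hk : k ∈ K) :
    Ctr f K (k v) := by
  obtain ⟨h0, a, ha, h⟩ := h
  refine ⟨by simpa using h0, a, ha, ?_⟩
  rw [← tv_conj (hK hk)]
  exact K.mul_mem (K.mul_mem hk h) (K.inv_mem hk)

theorem Ctr.smul {v : V} (h : Ctr f K v) {c : F} (hc : c ≠ 0) : Ctr f K (c • v) := by
  obtain ⟨h0, a, ha, h⟩ := h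
  refine ⟨smul_ne_zero hc h0, a / c ^ 2, div_ne_zero ha (pow_ne_zero 2 hc), ?_⟩
  rwa [tv_smul, mul_div_cancel₀ _ (pow_ne_zero 2 hc)]

theorem perp_apply {W : Submodule F V} {k : V ≃ₗ[F] V} (hk : k ∈ f.O) {v : V} :
    k v ∈ f.perp (W.map (k : V →ₗ[F] V)) ↔ v ∈ f.perp W := by
  simp only [mem_perp]
  constructor
  · intro h w hw
    rw [← mem_O_B hk]
    exact h _ ⟨w, hw, rfl⟩
  · rintro h _ ⟨w, hw, rfl⟩
    exact (mem_O_B hk w v).trans (h w hw)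

theorem Sup.conj (hK : K ≤ f.O) {W : Submodule F V} {g k : V ≃ₗ[F] V} (hg : g ∈ Sup f K W)
    (hk : k ∈ K) : k * g * k⁻¹ ∈ Sup f K (W.map (k : V →ₗ[F] V)) := by
  have h1 := K.mul_mem (K.mul_mem hk hg.1) (K.inv_mem hk)
  refine ⟨h1, hK h1, fun v hv => ?_⟩
  obtain ⟨v, rfl⟩ := k.surjective v
  have := hg.2.2 v ((perp_apply (hK hk)).1 hv)
  simp [this]

theorem Sup.mono {W W' : Submodule F V} (h : W ≤ W') : Sup f K W ≤ Sup f K W' :=
  fun _ hg => ⟨hg.1, hg.2.1, fun v hv => hg.2.2 v (f.perp_anti h hv)⟩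

theorem Hyp.map {U : Submodule F V} (h : Hyp f U) {k : V ≃ₗ[F] V} (hk : k ∈ f.O) :
    Hyp f (U.map (k : V →ₗ[F] V)) := by
  obtain ⟨e, e', h1, rfl⟩ := h
  exact ⟨k e, k e', (mem_O_B hk e e').trans h1, by simp [Submodule.map_span, Set.image_pair]⟩

theorem IL.map (hK : K ≤ f.O) {U : Submodule F V} (h : IL f K U) {k : V ≃ₗ[F] V} (hk : k ∈ K) :
    IL f K (U.map (k : V →ₗ[F] V)) := by
  refine ⟨h.1.map (hK hk), ?_⟩
  rintro _ ⟨y, hy, rfl⟩ h0
  obtain ⟨g, hg, hy'⟩ := h.2 y hy (by rintro rfl; simp at h0)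
  refine ⟨_, Sup.conj hK hg hk, fun hm => hy' ?_⟩
  obtain ⟨c, hc⟩ := mem_span_singleton.1 hm
  refine mem_span_singleton.2 ⟨c, k.injective ?_⟩
  simpa using hc

/-- Coordinates with respect to a hyperbolic pair. -/
theorem proj_perp {e e' : V} (h : f.B e e' = 1) (v : V) :
    v - (f.B v e' • e + f.B e v • e') ∈ f.perp (span F {e, e'}) := by
  rw [mem_perp_span_pair]
  have h' : f.B e' e = -1 := by rw [f.alt_symm, h]
  constructor
  · simp [f.alt_B_self, h]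
  · simp [f.alt_B_self, h', f.alt_symm v e']

theorem coord {e e' v : V} (h : f.B e e' = 1) (hv : v ∈ span F {e, e'}) :
    v = f.B v e' • e + f.B e v • e' := by
  obtain ⟨a, b, rfl⟩ := mem_span_pair.1 hv
  simp [alt_σ, f.alt_B_self, h]

theorem Hyp.eq_zero {U : Submodule F V} (h : Hyp f U) {v : V} (hv : v ∈ U) (hv' : v ∈ f.perp U) :
    v = 0 := by
  obtain ⟨e, e', h1, rfl⟩ := h
  obtain ⟨h2, h3⟩ := f.mem_perp_span_pair.1 hv'
  rw [coord h1 hv, h2, f.alt_symm e' v, h3]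
  simp

theorem Hyp.exists_add {U : Submodule F V} (h : Hyp f U) (v : V) :
    ∃ u ∈ U, ∃ r ∈ f.perp U, v = u + r := by
  obtain ⟨e, e', h1, rfl⟩ := h
  exact ⟨_, mem_span_pair.2 ⟨_, _, rfl⟩, _, proj_perp h1 v, by abel⟩

/-- Any nonzero vector of a hyperbolic line is the first vector of a hyperbolic basis. -/
theorem Hyp.exists_basis {U : Submodule F V} (h : Hyp f U) {y : V} (hy : y ∈ U) (h0 : y ≠ 0) :
    ∃ y', f.B y y' = 1 ∧ U = span F {y, y'} := by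
  obtain ⟨e, e', h1, rfl⟩ := h
  obtain ⟨a, b, rfl⟩ := mem_span_pair.1 hy
  have h' : f.B e' e = -1 := by rw [f.alt_symm, h1]
  have key : ∀ y y' : V, y ∈ span F {e, e'} → y' ∈ span F {e, e'} → e ∈ span F {y, y'} →
      e' ∈ span F {y, y'} → span F {e, e'} = span F {y, y'} := fun y y' h1 h2 h3 h4 =>
    le_antisymm (span_le.2 (by rintro _ (rfl | rfl) <;> assumption))
      (span_le.2 (by rintro _ (rfl | rfl) <;> assumption))
  by_cases ha : a = 0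
  · subst ha
    have hb : b ≠ 0 := by rintro rfl; simp at h0
    refine ⟨(-b⁻¹) • e, by simp [alt_σ, h', hb], key _ _ hy (mem_span_pair.2 ⟨-b⁻¹, 0, by simp⟩)
      (mem_span_pair.2 ⟨0, -b, by simp [smul_smul, hb]⟩)
      (mem_span_pair.2 ⟨b⁻¹, 0, by simp [smul_smul, hb]⟩)⟩
  · refine ⟨a⁻¹ • e', by simp [alt_σ, h1, f.alt_B_self, ha],
      key _ _ hy (mem_span_pair.2 ⟨0, a⁻¹, by simp⟩)
      (mem_span_pair.2 ⟨a⁻¹, -b, ?_⟩) (mem_span_pair.2 ⟨0, a, by simp [smul_smul, ha]⟩)⟩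
    simp only [smul_add, smul_smul, inv_mul_cancel₀ ha, one_smul]
    module

theorem hyp_of_ne {v w : V} (h : f.B v w ≠ 0) : Hyp f (span F {v, w}) := by
  refine ⟨v, (f.B v w)⁻¹ • w, by rw [Br, inv_mul_cancel₀ h], le_antisymm ?_ ?_⟩
  · refine span_le.2 (Set.pair_subset (subset_span (by simp)) ?_)
    exact mem_span_pair.2 ⟨0, f.B v w, by simp [smul_smul, h]⟩
  · refine span_le.2 (Set.pair_subset (subset_span (by simp)) ?_)
    exact mem_span_pair.2 ⟨0, (f.B v w)⁻¹, by simp⟩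

variable [FiniteDimensional F V]

/-- An element fixing `W^⊥` pointwise moves every vector by an element of `W`. -/
theorem sub_mem_of_fix (hf : f.Nondeg) {W : Submodule F V} {g : V ≃ₗ[F] V} (hg : g ∈ f.O)
    (h : ∀ v ∈ f.perp W, g v = v) (x : V) : g x - x ∈ W := by
  rw [← hf.perp_perp W, mem_perp]
  intro w hw
  rw [f.B_sub_right, ← mem_O_B hg w x, h w hw, sub_self]

theorem Sup.sub_mem (hf : f.Nondeg) {W : Submodule F V} {g : V ≃ₗ[F] V} (hg : g ∈ Sup f K W)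
    (x : V) : g x - x ∈ W := sub_mem_of_fix hf hg.2.1 hg.2.2 x

theorem Sup.apply_mem (hf : f.Nondeg) {W : Submodule F V} {g : V ≃ₗ[F] V} (hg : g ∈ Sup f K W)
    {x : V} (hx : x ∈ W) : g x ∈ W := by
  simpa using W.add_mem (Sup.sub_mem hf hg x) hx

/-- An isometry fixing `v^⊥` pointwise is a transvection with centre `v`. -/
theorem eq_tv_of_fix (hf : f.Nondeg) {g : V ≃ₗ[F] V} (hg : g ∈ f.O) {v : V} (h0 : v ≠ 0)
    (h : ∀ x, f.B v x = 0 → g x = x) : ∃ c, g = f.tv v c := by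
  obtain ⟨t, ht⟩ := hf.exists_B_eq h0 1
  obtain ⟨c, hc⟩ := mem_span_singleton.1 (sub_mem_of_fix hf (W := F ∙ v) hg
    (fun x hx => h x (f.mem_perp_span_singleton.1 hx)) t)
  refine ⟨c, LinearEquiv.ext fun x => ?_⟩
  have h1 := h (x - f.B v x • t) (by simp [ht])
  rw [map_sub, map_smul, sub_eq_iff_eq_add] at h1
  rw [tv_apply, h1, ← sub_eq_iff_eq_add.1 hc.symm |>.symm]
  module

/-- In a transvection-free group, an element fixing a hyperplane pointwise is trivial. -/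
theorem TF.eq_one (hf : f.Nondeg) (hT : TF f K) {g : V ≃ₗ[F] V} (hgK : g ∈ K) (hg : g ∈ f.O)
    {v : V} (h0 : v ≠ 0) (h : ∀ x, f.B v x = 0 → g x = x) : g = 1 := by
  obtain ⟨c, rfl⟩ := eq_tv_of_fix hf hg h0 h
  rcases hT v c hgK with h | rfl
  · exact absurd h h0
  · exact f.tv_zero v

/-- An isometry supported on a hyperbolic line and fixing a vector of it is a transvection. -/
theorem Hyp.eq_tv (hf : f.Nondeg) {U : Submodule F V} (hU : Hyp f U) {g : V ≃ₗ[F] V}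
    (hg : g ∈ f.O) (h : ∀ v ∈ f.perp U, g v = v) {y : V} (hy : y ∈ U) (h0 : y ≠ 0)
    (h1 : g y = y) : ∃ c, g = f.tv y c := by
  refine eq_tv_of_fix hf hg h0 fun x hx => ?_
  obtain ⟨y', h2, rfl⟩ := hU.exists_basis hy h0
  have h3 := h _ (proj_perp h2 x)
  rw [hx, zero_smul, add_zero, map_sub, map_smul, h1] at h3
  exact sub_left_inj.1 h3

theorem TF.eq_one_of_fix (hf : f.Nondeg) (hT : TF f K) {U : Submodule F V} (hU : Hyp f U)
    {g : V ≃ₗ[F] V} (hg : g ∈ Sup f K U) {y : V} (hy : y ∈ U) (h0 : y ≠ 0) (h1 : g y = y) :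
    g = 1 := by
  obtain ⟨c, rfl⟩ := hU.eq_tv hf hg.2.1 hg.2.2 hy h0 h1
  rcases hT y c hg.1 with h | rfl
  · exact absurd h h0
  · exact f.tv_zero y

end Basic

end CL.Rk
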