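/-
Rank three actions of the symplectic groups in odd characteristic: the complement lemma.
-/
import Cfsg.Agent.CLAS.RkDef
import Cfsg.Agent.PLOC.Dickson

set_option autoImplicit false

namespace CL.Rk

open Module CL.Witt CL.Witt.Form FormType Submodule Matrix
open scoped MatrixGroups

section SL2
variable {F : Type*} [Field F]

theorem eq_neg_one_of_sq (h2 : (2 : F) ≠ 0) {g : SL(2, F)} (h : g * g = 1) (h1 : g ≠ 1) :
    g = -1 := by
  have hi : g⁻¹ = g := inv_eq_of_mul_eq_one_right h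
  have h01 := Dickson.inv01 g
  have h10 := Dickson.inv10 g
  have h00 := Dickson.inv00 g
  rw [hi] at h01 h10 h00
  refine ((Dickson.mem_center_iff'' g).1 ((Dickson.mem_center_iff' g).2 ⟨?_, ?_, h00⟩)).resolve_left h1
  · exact mul_left_cancel₀ h2 (by linear_combination h01)
  · exact mul_left_cancel₀ h2 (by linear_combination h10)

/-- Action of `SL₂` on column vectors. -/
def mv (g : SL(2, F)) (v : Fin 2 → F) : Fin 2 → F := (g : Matrix (Fin 2) (Fin 2) F) *ᵥ v

theorem mv_mul (g h : SL(2, F)) (v : Fin 2 → F) : mv (g * h) v = mv g (mv h v) := by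
  unfold mv
  rw [mulVec_mulVec]
  rfl

theorem mv_one (v : Fin 2 → F) : mv 1 v = v := by simp [mv]

theorem mv_smul (g : SL(2, F)) (d : F) (v : Fin 2 → F) : mv g (d • v) = d • mv g v := by
  simp [mv, mulVec_smul]

theorem mv_zero (g : SL(2, F)) (v : Fin 2 → F) : mv g v 0 = g 0 0 * v 0 + g 0 1 * v 1 := by
  simp [mv, mulVec, dotProduct, Fin.sum_univ_two]

theorem mv_one' (g : SL(2, F)) (v : Fin 2 → F) : mv g v 1 = g 1 0 * v 0 + g 1 1 * v 1 := by
  simp [mv, mulVec, dotProduct, Fin.sum_univ_two]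

theorem det_ne_zero {v w : Fin 2 → F} (h0 : v ≠ 0) (h : ∀ d : F, w ≠ d • v) :
    v 0 * w 1 - v 1 * w 0 ≠ 0 := by
  intro hd
  by_cases h1 : v 0 = 0
  · have h2 : v 1 ≠ 0 := fun h2 => h0 (by ext i; fin_cases i <;> simp [h1, h2])
    refine h (w 1 / v 1) (by
      ext i; fin_cases i
      · have : w 0 = 0 := mul_left_cancel₀ h2 (by rw [h1] at hd; linear_combination -hd)
        simp [this, h1]
      · simp [h2])
  · refine h (w 0 / v 0) (by
      ext i; fin_cases i
      · simp [h1]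
      · simp only [Fin.mk_one, Pi.smul_apply, smul_eq_mul]
        field_simp
        linear_combination hd)

theorem eq_one_of_fix_two {g : SL(2, F)} {v w : Fin 2 → F} (hv : mv g v = v) (hw : mv g w = w)
    (h0 : v ≠ 0) (h : ∀ d : F, w ≠ d • v) : g = 1 := by
  have hd := det_ne_zero h0 h
  have a0 := congrFun hv 0
  have a1 := congrFun hv 1
  have b0 := congrFun hw 0
  have b1 := congrFun hw 1
  rw [mv_zero] at a0 b0
  rw [mv_one'] at a1 b1
  refine Dickson.ext2 ?_ ?_ ?_ ?_ <;> refine mul_right_cancel₀ hd ?_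
  · rw [Dickson.one00]; linear_combination w 1 * a0 - v 1 * b0
  · rw [Dickson.one01]; linear_combination v 0 * b0 - w 0 * a0
  · rw [Dickson.one10]; linear_combination w 1 * a1 - v 1 * b1
  · rw [Dickson.one11]; linear_combination v 0 * b1 - w 0 * a1

theorem neg_one_mem [Finite F] {p : ℕ} [hp : Fact p.Prime] [CharP F p] (h2 : (2 : F) ≠ 0)
    (G : Subgroup SL(2, F)) (hirr : ∀ v : Fin 2 → F, v ≠ 0 → ∃ g ∈ G, ∀ d : F, mv g v ≠ d • v)
    (hG : p ∣ Nat.card G) : -1 ∈ G := by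
  have hp2 : p ≠ 2 := by
    rintro rfl
    exact h2 (by simpa using CharP.cast_eq_zero F 2)
  obtain ⟨⟨x, hxG⟩, hx⟩ := exists_prime_orderOf_dvd_card' p hG
  rw [Subgroup.orderOf_mk] at hx
  have hxp : x ^ p = 1 := by rw [← hx, pow_orderOf_eq_one]
  have hx1 : x ≠ 1 := fun h => hp.out.one_lt.ne' (by rw [← hx, h, orderOf_one])
  obtain ⟨v, hv0, hv⟩ : ∃ v ≠ 0, ((x : Matrix (Fin 2) (Fin 2) F) - 1) *ᵥ v = 0 := by
    rw [Matrix.exists_mulVec_eq_zero_iff]
    have : ((x : Matrix (Fin 2) (Fin 2) F) - 1) ^ p = 0 := by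
      have h3 : (x : Matrix (Fin 2) (Fin 2) F) ^ p = 1 :=
        (Matrix.SpecialLinearGroup.coe_pow x p).symm.trans (congrArg Subtype.val hxp)
      rw [sub_pow_char_of_commute _ (Commute.one_right _), one_pow, h3, sub_self]
    have h3 := congrArg det this
    rw [det_pow, det_zero] at h3
    exact pow_eq_zero_iff hp.out.ne_zero |>.1 h3
  replace hv : mv x v = v := by rwa [sub_mulVec, one_mulVec, sub_eq_zero] at hv
  obtain ⟨g, hg, hgv⟩ := hirr v hv0
  have hy : g * x * g⁻¹ ∈ G := G.mul_mem (G.mul_mem hg hxG) (G.inv_mem hg)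
  have hyp : (g * x * g⁻¹) ^ p = 1 := by rw [conj_pow, hxp, mul_one, mul_inv_cancel]
  have hyv : mv (g * x * g⁻¹) (mv g v) = mv g v := by
    rw [← mv_mul, inv_mul_cancel_right, mv_mul, hv]
  obtain ⟨ψ, hψ⟩ := Dickson.exists_embedding hp2 G hxG hy (a := 1) (b := 1) (by simpa using hxp)
    (by simpa using hyp) (fun hc => by
      set y := g * x * g⁻¹ with hydef
      have h3 : mv x (mv y v) = mv y v := by rw [← mv_mul, hc, mv_mul, hv]
      obtain ⟨d, hd⟩ : ∃ d : F, mv y v = d • v := by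
        by_contra hn
        exact hx1 (eq_one_of_fix_two hv h3 hv0 fun d hd => hn ⟨d, hd⟩)
      have h4 : ∀ n : ℕ, mv (y ^ n) v = d ^ n • v := fun n => by
        induction n with
        | zero => simp [mv_one]
        | succ n ih => rw [pow_succ, mv_mul, hd, mv_smul, ih, smul_smul, pow_succ']
      have h5 : d = 1 := by
        have h6 := h4 p
        rw [hyp, mv_one] at h6
        have h7 : (d - 1) ^ p = 0 := by
          rw [sub_pow_char, one_pow]
          exact (smul_eq_zero.1 (by rw [sub_smul, one_smul, ← h6, sub_self])).resolve_right hv0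
        exact sub_eq_zero.1 (pow_eq_zero_iff hp.out.ne_zero |>.1 h7)
      rw [h5, one_smul] at hd
      have h8 := eq_one_of_fix_two hd hyv hv0 hgv
      exact hx1 (by simpa [hydef] using h8))
  have h3 : (ψ (-1) : SL(2, F)) = -1 := eq_neg_one_of_sq h2
    (by rw [← Subgroup.coe_mul, ← map_mul]; simp) (fun h => by
      have h4 : (-1 : SL(2, ZMod p)) = 1 := hψ (by rw [map_one]; exact Subtype.ext h)
      have h5 := congrFun (congrFun (congrArg Subtype.val h4) 0) 0
      have : Fact (2 < p) := ⟨lt_of_le_of_ne hp.out.two_le hp2.symm⟩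
      exact ZMod.neg_one_ne_one (by simpa using h5))
  exact h3 ▸ (ψ (-1)).2

end SL2

variable {F : Type*} [Field F] {V : Type*} [AddCommGroup V] [Module F V]
  [FiniteDimensional F V] {f : Form (alt F) V} {K : Subgroup (V ≃ₗ[F] V)} {e e' r : V}

section Three
variable (hf : f.Nondeg) (he : f.B e e' = 1) (hr : f.B e r = 0) (hr' : f.B e' r = 0)

omit [FiniteDimensional F V] in
include he hr hr' in
theorem dec3 {v : V} (hv : v ∈ span F {e, e'} ⊔ F ∙ r) :
    ∃ t : F, v = f.B v e' • e + f.B e v • e' + t • r := by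
  obtain ⟨u, hu, _, hw, rfl⟩ := mem_sup.1 hv
  obtain ⟨t, rfl⟩ := mem_span_singleton.1 hw
  refine ⟨t, ?_⟩
  have h1 : f.B r e' = 0 := f.B_eq_zero_symm hr'
  rw [f.B_add_left, f.B_add_right, Bl, Br, h1, hr, mul_zero, add_zero, add_zero, ← coord he hu]

omit [FiniteDimensional F V] in
include hr hr' in
theorem rad3 : r ∈ f.perp (span F {e, e'} ⊔ F ∙ r) := by
  rw [perp_sup]
  exact ⟨f.mem_perp_span_pair.2 ⟨hr, hr'⟩, f.mem_perp_span_singleton.2 (f.alt_B_self r)⟩

omit [FiniteDimensional F V] in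
theorem mem3 (a b t : F) : a • e + b • e' + t • r ∈ span F {e, e'} ⊔ F ∙ r :=
  add_mem_sup (mem_span_pair.2 ⟨a, b, rfl⟩) (mem_span_singleton.2 ⟨t, rfl⟩)

omit [FiniteDimensional F V] in
theorem mem3a : e ∈ span F {e, e'} ⊔ F ∙ r := mem_sup_left (subset_span (by simp))

omit [FiniteDimensional F V] in
theorem mem3b : e' ∈ span F {e, e'} ⊔ F ∙ r := mem_sup_left (subset_span (by simp))

include hf he hr hr' in
/-- An element of a transvection-free group supported on `⟨e, e', r⟩` and fixing `e, e'` is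
trivial. -/
theorem TF.eq_one3 (hT : TF f K) (h0 : r ≠ 0) {g : V ≃ₗ[F] V}
    (hg : g ∈ Sup f K (span F {e, e'} ⊔ F ∙ r)) (h1 : g e = e) (h2 : g e' = e') : g = 1 := by
  refine hT.eq_one hf hg.1 hg.2.1 h0 fun x hx => ?_
  have h3 := hg.2.2 (x - (f.B x e' • e + f.B e x • e')) (by
    rw [perp_sup]
    refine ⟨proj_perp he x, f.mem_perp_span_singleton.2 ?_⟩
    simp [hx, f.B_eq_zero_symm hr, f.B_eq_zero_symm hr'])
  rw [map_sub, map_add, map_smul, map_smul, h1, h2] at h3
  exact sub_left_inj.1 h3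

/-- The matrix of the action on `⟨e, e', r⟩ / ⟨r⟩`. -/
def rho (K : Subgroup (V ≃ₗ[F] V)) : Sup f K (span F {e, e'} ⊔ F ∙ r) →* SL(2, F) where
  toFun g := Dickson.mk2 (f.B (g.1 e) e') (f.B (g.1 e') e') (f.B e (g.1 e)) (f.B e (g.1 e')) (by
    obtain ⟨t, ht⟩ := dec3 he hr hr' (Sup.apply_mem hf g.2 mem3a)
    obtain ⟨t', ht'⟩ := dec3 he hr hr' (Sup.apply_mem hf g.2 mem3b)
    have h := mem_O_B g.2.2.1 e e'
    rw [ht, ht', he] at h
    simp [alt_σ, f.alt_B_self, he, hr, hr', f.alt_symm e e', f.B_eq_zero_symm hr,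
      f.B_eq_zero_symm hr'] at h
    linear_combination h)
  map_one' := Dickson.ext2 (by simp [Dickson.mk00, he]) (by simp [Dickson.mk01, f.alt_B_self])
    (by simp [Dickson.mk10, f.alt_B_self]) (by simp [Dickson.mk11, he])
  map_mul' g k := by
    obtain ⟨t, ht⟩ := dec3 he hr hr' (Sup.apply_mem hf k.2 mem3a)
    obtain ⟨t', ht'⟩ := dec3 he hr hr' (Sup.apply_mem hf k.2 mem3b)
    have h1 : g.1 r = r := g.2.2.2 r (rad3 hr hr')
    have h2 := f.B_eq_zero_symm hr'
    have h3 : (g * k).1 e = g.1 (k.1 e) := rfl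
    have h4 : (g * k).1 e' = g.1 (k.1 e') := rfl
    refine Dickson.ext2 ?_ ?_ ?_ ?_ <;>
      simp only [Dickson.mul_apply2, Dickson.mk00, Dickson.mk01, Dickson.mk10, Dickson.mk11, h3, h4]
    · conv_lhs => rw [ht]
      simp [alt_σ, h1, h2]; ring
    · conv_lhs => rw [ht']
      simp [alt_σ, h1, h2]; ring
    · conv_lhs => rw [ht]
      simp [h1, hr]; ring
    · conv_lhs => rw [ht']
      simp [h1, hr]; ring

theorem rho_act (g : Sup f K (span F {e, e'} ⊔ F ∙ r)) (v : Fin 2 → F) :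
    ∃ t : F, g.1 (v 0 • e + v 1 • e') =
      mv (rho hf he hr hr' K g) v 0 • e + mv (rho hf he hr hr' K g) v 1 • e' + t • r := by
  obtain ⟨t, ht⟩ := dec3 he hr hr' (Sup.apply_mem hf g.2 mem3a)
  obtain ⟨t', ht'⟩ := dec3 he hr hr' (Sup.apply_mem hf g.2 mem3b)
  refine ⟨v 0 * t + v 1 * t', ?_⟩
  rw [mv_zero, mv_one', map_add, map_smul, map_smul, ht, ht']
  simp only [rho, MonoidHom.coe_mk, OneHom.coe_mk, Dickson.mk00, Dickson.mk01, Dickson.mk10,
    Dickson.mk11, ← ht, ← ht']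
  conv_lhs => rw [ht, ht']
  module

include hf he hr hr' in
/-- Two elements of the kernel have proportional parameters. -/
theorem ker_comm (h2 : (2 : F) ≠ 0) (hT : TF f K) (h0 : r ≠ 0) {g k : V ≃ₗ[F] V}
    (hg : g ∈ Sup f K (span F {e, e'} ⊔ F ∙ r)) (hk : k ∈ Sup f K (span F {e, e'} ⊔ F ∙ r))
    {a b c d : F} (g1 : g e = e + a • r) (g2 : g e' = e' + b • r) (k1 : k e = e + c • r)
    (k2 : k e' = e' + d • r) : a * d = b * c := by
  have gr : g r = r := hg.2.2 r (rad3 hr hr')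
  have kr : k r = r := hk.2.2 r (rad3 hr hr')
  have hc : (k * g)⁻¹ * (g * k) = 1 := by
    refine hT.eq_one3 hf he hr hr' h0 (Subgroup.mul_mem _ (Subgroup.inv_mem _
      (Subgroup.mul_mem _ hk hg)) (Subgroup.mul_mem _ hg hk)) ?_ ?_ <;>
    · rw [LinearEquiv.mul_apply, LinearEquiv.coe_inv, LinearEquiv.symm_apply_eq]
      simp only [LinearEquiv.mul_apply, g1, g2, k1, k2, map_add, map_smul, gr, kr]
      abel
  obtain ⟨s, hs⟩ := hf.exists_B_eq h0 1
  have hs' : f.B s r = -1 := by rw [f.alt_symm, hs]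
  have key : ∀ {g : V ≃ₗ[F] V}, g ∈ Sup f K (span F {e, e'} ⊔ F ∙ r) → ∀ {a b : F},
      g e = e + a • r → g e' = e' + b • r → ∃ t : F, g s = s + b • e - a • e' + t • r := by
    intro g hg a b g1 g2
    obtain ⟨t, ht⟩ := dec3 he hr hr' (Sup.sub_mem hf hg s)
    have gr : g r = r := hg.2.2 r (rad3 hr hr')
    have h3 := mem_O_B hg.2.1 s e'
    have h4 := mem_O_B hg.2.1 e s
    have h5 := mem_O_B hg.2.1 s r
    have h6 := mem_O_B hg.2.1 r s
    rw [g2, f.B_add_right, Br, ← gr, h5, hs'] at h3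
    rw [g1, f.B_add_left, Bl, ← gr, h6, hs] at h4
    refine ⟨t, ?_⟩
    rw [f.B_sub_left, f.B_sub_right, show f.B (g s) e' - f.B s e' = b by linear_combination h3,
      show f.B e (g s) - f.B e s = -a by linear_combination h4, sub_eq_iff_eq_add] at ht
    rw [ht]; module
  obtain ⟨t, ht⟩ := key hg g1 g2
  obtain ⟨t', ht'⟩ := key hk k1 k2
  have h3 : g (k s) = k (g s) := by
    rw [← LinearEquiv.mul_apply, ← LinearEquiv.mul_apply, ← inv_mul_eq_one.1 hc]
  rw [ht, ht'] at h3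
  simp only [map_add, map_sub, map_smul, ht, ht', g1, g2, k1, k2, gr, kr] at h3
  have h4 : (2 * (a * d - b * c)) • r = 0 := by linear_combination (norm := module) h3
  exact sub_eq_zero.1 ((mul_eq_zero.1 ((smul_eq_zero.1 h4).resolve_right h0)).resolve_left h2)

theorem rho_eq_one {g : Sup f K (span F {e, e'} ⊔ F ∙ r)} (h : rho hf he hr hr' K g = 1) :
    ∃ a b : F, g.1 e = e + a • r ∧ g.1 e' = e' + b • r := by
  obtain ⟨a, ha⟩ := rho_act hf he hr hr' g ![1, 0]
  obtain ⟨b, hb⟩ := rho_act hf he hr hr' g ![0, 1]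
  rw [h, mv_one] at ha hb
  exact ⟨a, b, by simpa using ha, by simpa using hb⟩

theorem rho_injective (h2 : (2 : F) ≠ 0) (hT : TF f K) (h0 : r ≠ 0)
    (hirr : ∀ v : Fin 2 → F, v ≠ 0 → ∃ g, ∀ d : F, mv (rho hf he hr hr' K g) v ≠ d • v) :
    Function.Injective (rho hf he hr hr' K) := by
  rw [injective_iff_map_eq_one]
  intro g hg
  obtain ⟨a, b, g1, g2⟩ := rho_eq_one hf he hr hr' hg
  by_cases hab : a = 0 ∧ b = 0
  · exact Subtype.ext (hT.eq_one3 hf he hr hr' h0 g.2 (by simp [g1, hab.1]) (by simp [g2, hab.2]))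
  exfalso
  have hv : (![b, -a] : Fin 2 → F) ≠ 0 := fun h => hab
    ⟨by simpa using congrFun h 1, by simpa using congrFun h 0⟩
  obtain ⟨x, hx⟩ := hirr _ hv
  obtain ⟨c, d, k1, k2⟩ := rho_eq_one hf he hr hr' (g := x * g * x⁻¹) (by simp [hg])
  have h3 := ker_comm hf he hr hr' h2 hT h0 g.2 (x * g * x⁻¹).2 g1 g2 k1 k2
  obtain ⟨t, ht⟩ := rho_act hf he hr hr' x ![b, -a]
  have hd := det_ne_zero hv hx
  set w := mv (rho hf he hr hr' K x) ![b, -a]
  have h4 : (x * g * x⁻¹).1 (x.1 (b • e + (-a) • e')) = x.1 (b • e + (-a) • e') := by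
    have : g.1 (b • e + (-a) • e') = b • e + (-a) • e' := by
      rw [map_add, map_smul, map_smul, g1, g2]; module
    simp only [Subgroup.coe_mul, Subgroup.coe_inv, LinearEquiv.mul_apply, LinearEquiv.coe_inv,
      LinearEquiv.symm_apply_apply, this]
  simp only [Matrix.cons_val_zero, Matrix.cons_val_one, Matrix.cons_val_fin_one] at ht hd
  rw [ht, map_add, map_add, map_smul, map_smul, map_smul, k1, k2,
    (x * g * x⁻¹).2.2.2 r (rad3 hr hr')] at h4
  have h5 : (w 0 * c + w 1 * d) • r = 0 := by linear_combination (norm := module) h4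
  have h6 := (smul_eq_zero.1 h5).resolve_right h0
  have hc : c = 0 := mul_left_cancel₀ hd (by linear_combination (-w 1) * h3 + a * h6)
  have hd' : d = 0 := mul_left_cancel₀ hd (by linear_combination w 0 * h3 + b * h6)
  have h7 : x * g * x⁻¹ = 1 :=
    Subtype.ext (hT.eq_one3 hf he hr hr' h0 (x * g * x⁻¹).2 (by simpa [hc] using k1)
      (by simpa [hd'] using k2))
  have h8 : g = 1 := by simpa using h7
  rw [h8] at g1 g2
  exact hab ⟨by simpa [h0] using g1, by simpa [h0] using g2⟩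

include hf he hr hr' in
/-- An equivariant projection with kernel `⟨r⟩`. -/
theorem exists_proj [Finite F] (h2 : (2 : F) ≠ 0) (hT : TF f K) (h0 : r ≠ 0)
    (hirr : ∀ v : Fin 2 → F, v ≠ 0 → ∃ g, ∀ d : F, mv (rho hf he hr hr' K g) v ≠ d • v) :
    ∃ P : V →ₗ[F] V, (∀ g ∈ Sup f K (span F {e, e'} ⊔ F ∙ r), ∀ v, P (g v) = g (P v)) ∧ P r = 0 ∧
      ∀ u ∈ span F {e, e'}, ∃ t : F, P u = u + t • r := by
  classical
  have : Finite V := Module.finite_of_finite F
  have : Finite (V ≃ₗ[F] V) := Finite.of_injective _ (DFunLike.coe_injective (F := V ≃ₗ[F] V))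
  obtain ⟨p, hp⟩ := CharP.exists F
  have : Fact p.Prime := ⟨CharP.char_is_prime F p⟩
  have hinj := rho_injective hf he hr hr' h2 hT h0 hirr
  set X := Sup f K (span F {e, e'} ⊔ F ∙ r)
  have hXr : ∀ g : X, g.1 r = r := fun g => g.2.2.2 r (rad3 hr hr')
  by_cases hX : p ∣ Nat.card X
  · obtain ⟨c, hc⟩ := neg_one_mem h2 (rho hf he hr hr' K).range
      (fun v hv => let ⟨g, hg⟩ := hirr v hv; ⟨_, ⟨g, rfl⟩, hg⟩)
      (by rwa [← Nat.card_congr (MonoidHom.ofInjective hinj).toEquiv])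
    refine ⟨(2 : F)⁻¹ • (LinearMap.id - (c.1 : V →ₗ[F] V)), fun g hg v => ?_, by simp [hXr], ?_⟩
    · have h3 : c * ⟨g, hg⟩ = ⟨g, hg⟩ * c := hinj (by simp [hc])
      have h4 : c.1 (g v) = g (c.1 v) := congrArg (fun x : X => x.1 v) h3
      simp [h4]
    · intro u hu
      obtain ⟨a, b, rfl⟩ := mem_span_pair.1 hu
      obtain ⟨t, ht⟩ := rho_act hf he hr hr' c ![a, b]
      rw [hc, mv_zero, mv_one'] at ht
      refine ⟨-(2⁻¹ * t), ?_⟩
      simp only [Matrix.cons_val_zero, Matrix.cons_val_one, Matrix.cons_val_fin_one] at ht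
      simp only [LinearMap.smul_apply, LinearMap.sub_apply, LinearMap.id_apply,
        LinearEquiv.coe_coe, ht]
      simp only [Matrix.SpecialLinearGroup.coe_neg, Matrix.SpecialLinearGroup.coe_one,
        Matrix.neg_apply, Matrix.one_apply]
      match_scalars <;> simp <;> field_simp <;> ring
  · have hc : (Nat.card X : F) ≠ 0 := by rwa [Ne, CharP.cast_eq_zero_iff F p]
    have := Fintype.ofFinite X
    let P₀ : V →ₗ[F] V := (-f.B e').smulRight e + (f.B e).smulRight e'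
    have hP₀ : ∀ v, P₀ v = f.B v e' • e + f.B e v • e' := fun v => by
      simp [P₀, f.alt_symm v e']
    refine ⟨(Nat.card X : F)⁻¹ • ∑ x : X, (x.1 : V →ₗ[F] V) ∘ₗ P₀ ∘ₗ ((x⁻¹).1 : V →ₗ[F] V),
      fun g hg v => ?_, ?_, fun u hu => ?_⟩
    · simp only [LinearMap.smul_apply, LinearMap.coe_sum, Finset.sum_apply, LinearMap.comp_apply,
        LinearEquiv.coe_coe, map_smul, map_sum]
      congr 1
      refine (Fintype.sum_equiv (Equiv.mulLeft (⟨g, hg⟩ : X)) _ _ fun x => ?_).symm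
      simp
    · simp only [LinearMap.smul_apply, LinearMap.coe_sum, Finset.sum_apply, LinearMap.comp_apply,
        LinearEquiv.coe_coe, hXr, hP₀, hr, f.B_eq_zero_symm hr']
      simp
    · have h3 : ∀ x : X, ∃ t : F, x.1 (P₀ ((x⁻¹).1 u)) = u + t • r := fun x => by
        obtain ⟨t, ht⟩ := dec3 he hr hr' (Sup.apply_mem hf (x⁻¹).2 (mem_sup_left hu))
        rw [← hP₀, ← sub_eq_iff_eq_add] at ht
        exact ⟨-t, by rw [← ht, map_sub, map_smul, hXr]; simp [sub_eq_add_neg]⟩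
      choose t ht using h3
      refine ⟨(Nat.card X : F)⁻¹ * ∑ x, t x, ?_⟩
      simp only [LinearMap.smul_apply, LinearMap.coe_sum, Finset.sum_apply, LinearMap.comp_apply,
        LinearEquiv.coe_coe, ht, Finset.sum_add_distrib, Finset.sum_const, Finset.card_univ,
        ← Finset.sum_smul, ← Nat.card_eq_fintype_card]
      rw [← Nat.cast_smul_eq_nsmul F, smul_add, smul_smul, smul_smul, inv_mul_cancel₀ hc, one_smul]

end Three

end CL.Rk
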