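/-
Rank three actions of the symplectic groups in odd characteristic: elements supported on a hyperbolic line.
-/
import Cfsg.Agent.CLAS.RkB0

set_option autoImplicit false

namespace CL.Rk

open Module CL.Witt CL.Witt.Form FormType Submodule

variable {F : Type*} [Field F] [Finite F] {V : Type*} [AddCommGroup V] [Module F V]
  [FiniteDimensional F V] {f : Form (alt F) V} {K : Subgroup (V ≃ₗ[F] V)}

variable {U U' : Submodule F V} {g c : V ≃ₗ[F] V} {w x y z : V} {a b : F}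

/-- A non-trivial element supported on `U` acts without fixed points, so `c - 1` is onto `U`. -/
theorem TF.exists_sub (hf : f.Nondeg) (hT : TF f K) (hU : Hyp f U) (hc : c ∈ Sup f K U)
    (h1 : c ≠ 1) (hy : y ∈ U) : ∃ u ∈ U, y = c u - u := by
  have : Finite V := Module.finite_of_finite F
  let φ : U → U := fun u => ⟨c u - u, Sup.sub_mem hf hc u⟩
  have hφ : Function.Injective φ := fun u u' h => by
    by_contra hne
    refine h1 (hT.eq_one_of_fix hf hU hc (U.sub_mem u.2 u'.2)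
      (fun h => hne (Subtype.ext (sub_eq_zero.1 h))) ?_)
    have h2 : c u - u = c u' - u' := congrArg Subtype.val h
    rw [map_sub]
    linear_combination (norm := module) h2
  obtain ⟨u, hu⟩ := Finite.injective_iff_surjective.1 hφ ⟨y, hy⟩
  exact ⟨u, u.2, (congrArg Subtype.val hu).symm⟩

/-- Complement lemma. -/
theorem inv_of_irr (h : R3 f K) (hT : TF f K) (hU : Hyp f U) (hc : c ∈ Sup f K U) (h1 : c ≠ 1)
    (hirr : ∀ y ∈ U, y ≠ 0 → ∃ g ∈ Sup f K (U ⊔ F ∙ w), ∀ d : F, g y - d • y ∉ f.perp U)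
    (hg : g ∈ Sup f K (U ⊔ F ∙ w)) (hy : y ∈ U) : g y ∈ U := by
  obtain ⟨u, hu, r, hr, rfl⟩ := hU.exists_add w
  have hW : U ⊔ F ∙ (u + r) = U ⊔ F ∙ r := le_antisymm
    (sup_le le_sup_left ((span_singleton_le_iff_mem _ _).2
      (add_mem_sup hu (mem_span_singleton_self r))))
    (sup_le le_sup_left ((span_singleton_le_iff_mem _ _).2 (by
      simpa using Submodule.sub_mem _ (mem_sup_right (mem_span_singleton_self (u + r)))
        (mem_sup_left hu))))
  rw [hW] at hirr hg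
  by_cases h0 : r = 0
  · rw [h0, span_zero_singleton, sup_bot_eq] at hg
    exact Sup.apply_mem h.nd hg hy
  have hU' := hU
  obtain ⟨e, e', he, rfl⟩ := hU
  obtain ⟨hr1, hr2⟩ := f.mem_perp_span_pair.1 hr
  obtain ⟨P, hP, hPr, hPu⟩ := exists_proj h.nd he hr1 hr2 h.two hT h0 (fun v hv => by
    obtain ⟨g, hg, hd⟩ := hirr (v 0 • e + v 1 • e') (mem_span_pair.2 ⟨_, _, rfl⟩) (fun h0 => hv (by
      have h3 := congrArg (f.B e) h0
      have h4 := congrArg (f.B · e') h0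
      ext i; fin_cases i
      · simpa [alt_σ, f.alt_B_self, he] using h4
      · simpa [f.alt_B_self, he] using h3))
    refine ⟨⟨g, hg⟩, fun d hd' => hd d ?_⟩
    obtain ⟨t, ht⟩ := rho_act h.nd he hr1 hr2 ⟨g, hg⟩ v
    rw [hd'] at ht
    rw [show g (v 0 • e + v 1 • e') - d • (v 0 • e + v 1 • e') = t • r by
      rw [ht]; simp only [Pi.smul_apply, smul_eq_mul]; module]
    exact smul_mem _ _ hr)
  have hcX := Sup.mono (le_sup_left (b := F ∙ r)) hc
  have hid : ∀ u ∈ span F {e, e'}, P u = u := fun u hu => by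
    obtain ⟨u', hu', rfl⟩ := hT.exists_sub h.nd hU' hc h1 hu
    obtain ⟨t, ht⟩ := hPu u' hu'
    rw [map_sub, hP c hcX, ht, map_add, map_smul, hc.2.2 r hr]
    abel
  obtain ⟨t, ht⟩ := dec3 he hr1 hr2 (Sup.apply_mem h.nd hg (mem_sup_left hy))
  have h3 : f.B (g y) e' • e + f.B e (g y) • e' ∈ span F {e, e'} := mem_span_pair.2 ⟨_, _, rfl⟩
  rw [← hid y hy, ← hP g hg, ht, map_add, map_smul, hPr, smul_zero, add_zero, hid _ h3]
  exact h3

/-- A partner outside `U` of a transvection with centre in `U` is perpendicular to `U`. -/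
theorem perp_of_par (h : R3 f K) (hT : TF f K) (hU : Hyp f U) (hc : c ∈ Sup f K U) (h1 : c ≠ 1)
    (hirr : ∀ y ∈ U, y ≠ 0 → ∃ g ∈ Sup f K (U ⊔ F ∙ w), ∀ d : F, g y - d • y ∉ f.perp U)
    (hy : y ∈ U) (_h0 : y ≠ 0) (hw : w ∉ U) (hb : b ≠ 0) (hg : f.tv w b * f.tv y a ∈ K) :
    w ∈ f.perp U := by
  have hg' : f.tv w b * f.tv y a ∈ Sup f K (U ⊔ F ∙ w) := ⟨hg, h.le hg, fun v hv => by
    rw [perp_sup] at hv
    rw [LinearEquiv.mul_apply, f.tv_apply_of_B_eq_zero _ (f.mem_perp.1 hv.1 y hy),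
      f.tv_apply_of_B_eq_zero _ (f.mem_perp_span_singleton.1 hv.2)]⟩
  have key : ∀ u ∈ U, f.B w (f.tv y a u) = 0 := fun u hu => by
    have h2 := inv_of_irr h hT hU hc h1 hirr hg' hu
    have h3 : f.tv y a u ∈ U := by
      rw [tv_apply]; exact U.add_mem hu (U.smul_mem _ hy)
    rw [LinearEquiv.mul_apply, tv_apply, U.add_mem_iff_right h3] at h2
    by_contra hne
    exact hw ((U.smul_mem_iff (mul_ne_zero hb hne)).1 h2)
  rw [mem_perp']
  intro u hu
  have h3 : f.tv y (-a) u ∈ U := by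
    rw [tv_apply]; exact U.add_mem hu (U.smul_mem _ hy)
  have := key _ h3
  rwa [← LinearEquiv.mul_apply, tv_mul, add_neg_cancel, tv_zero] at this

omit [Finite F] in
theorem IL.irr (hf : f.Nondeg) (hU : IL f K U) (w : V) :
    ∀ y ∈ U, y ≠ 0 → ∃ g ∈ Sup f K (U ⊔ F ∙ w), ∀ d : F, g y - d • y ∉ f.perp U := by
  intro y hy h0
  obtain ⟨g, hg, h1⟩ := hU.2 y hy h0
  refine ⟨g, Sup.mono le_sup_left hg, fun d hd => h1 (mem_span_singleton.2 ⟨d, ?_⟩)⟩
  exact (sub_eq_zero.1 (hU.1.eq_zero (U.sub_mem (Sup.apply_mem hf hg hy) (U.smul_mem d hy)) hd)).symm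

omit [Finite F] [FiniteDimensional F V] in
theorem Hyp.exists_ne (hU : Hyp f U) : ∃ y ∈ U, y ≠ 0 := by
  obtain ⟨e, e', he, rfl⟩ := hU
  exact ⟨e, subset_span (by simp), by rintro rfl; simp at he⟩

omit [Finite F] [FiniteDimensional F V] in
theorem IL.exists_ne (hU : IL f K U) : ∃ c ∈ Sup f K U, c ≠ 1 := by
  obtain ⟨y, hy, h0⟩ := hU.1.exists_ne
  obtain ⟨g, hg, h1⟩ := hU.2 y hy h0
  exact ⟨g, hg, by rintro rfl; exact h1 (mem_span_singleton_self y)⟩

theorem IL.perp_of_par (h : R3 f K) (hT : TF f K) (hU : IL f K U) (hy : y ∈ U) (h0 : y ≠ 0)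
    (hw : w ∉ U) (hb : b ≠ 0) (hg : f.tv w b * f.tv y a ∈ K) : w ∈ f.perp U := by
  obtain ⟨c, hc, h1⟩ := hU.exists_ne
  exact CL.Rk.perp_of_par h hT hU.1 hc h1 (hU.irr h.nd w) hy h0 hw hb hg

/-- An `I`-line meets no other hyperbolic line that supports an element of `K`. -/
theorem IL.eq (h : R3 f K) (hT : TF f K) (hU : IL f K U) (hU' : Hyp f U') (hg : g ∈ Sup f K U')
    (h1 : g ≠ 1) (hy : y ∈ U) (hy' : y ∈ U') (h0 : y ≠ 0) : U = U' := by
  obtain ⟨c, hc, hc1⟩ := hU.exists_ne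
  obtain ⟨y', hyy, hUe⟩ := hU'.exists_basis hy' h0
  obtain ⟨y'', hyy', hUe'⟩ := hU.1.exists_basis hy h0
  have hle : U' ≤ U ⊔ F ∙ y' := by
    rw [hUe]
    exact span_le.2 (Set.pair_subset (mem_sup_left hy) (mem_sup_right (mem_span_singleton_self _)))
  have hg' := Sup.mono hle hg
  have hinv : ∀ u ∈ U, g u ∈ U := fun u hu =>
    inv_of_irr h hT hU.1 hc hc1 (hU.irr h.nd y') hg' hu
  obtain ⟨u₀, hu₀, r, hr, hy''⟩ := hU.1.exists_add y'
  have hgr : g r = r := hg'.2.2 r (by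
    rw [perp_sup]
    refine ⟨hr, f.mem_perp_span_singleton.2 ?_⟩
    rw [hy'', f.B_add_left, f.mem_perp.1 hr u₀ hu₀, f.alt_B_self, add_zero])
  have hle' : U' ≤ U := fun x hx => by
    obtain ⟨u, hu, rfl⟩ := hT.exists_sub h.nd hU' hg h1 hx
    obtain ⟨u₁, hu₁, _, hw, rfl⟩ := mem_sup.1 (hle hu)
    obtain ⟨t, rfl⟩ := mem_span_singleton.1 hw
    rw [hy'', map_add, map_smul, map_add, hgr,
      show g u₁ + t • (g u₀ + r) - (u₁ + t • (u₀ + r)) = g u₁ - u₁ + t • (g u₀ - u₀) by module]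
    exact U.add_mem (U.sub_mem (hinv _ hu₁) hu₁) (U.smul_mem _ (U.sub_mem (hinv _ hu₀) hu₀))
  refine le_antisymm ?_ hle'
  have h3 : y' ∈ span F {y, y''} := hUe' ▸ hle' (hUe ▸ subset_span (by simp))
  have h4 := coord hyy' h3
  rw [hyy, one_smul] at h4
  rw [hUe', hUe]
  refine span_le.2 (Set.pair_subset (subset_span (by simp)) (mem_span_pair.2 ⟨-f.B y' y'', 1, ?_⟩))
  linear_combination (norm := module) h4

theorem IL.eq' (h : R3 f K) (hT : TF f K) (hU : IL f K U) (hU' : IL f K U') (hy : y ∈ U)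
    (hy' : y ∈ U') (h0 : y ≠ 0) : U = U' := by
  obtain ⟨c, hc, h1⟩ := hU'.exists_ne
  exact hU.eq h hT hU'.1 hc h1 hy hy' h0

theorem IL.le_perp (h : R3 f K) (hT : TF f K) (hU : IL f K U) (hU' : IL f K U') (hz : z ∈ U')
    (hz' : z ∈ f.perp U) (h0 : z ≠ 0) : U' ≤ f.perp U := by
  obtain ⟨c, hc, h1⟩ := hU.exists_ne
  have hcz : c z = z := hc.2.2 z hz'
  have h3 : U' = U'.map (c : V →ₗ[F] V) :=
    hU'.eq' h hT (hU'.map h.le hc.1) hz ⟨z, hz, hcz⟩ h0
  intro x hx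
  have h4 : c x - x ∈ U' := U'.sub_mem (h3 ▸ ⟨x, h3 ▸ hx, rfl⟩) hx
  have h5 : c x - x = 0 := by
    by_contra hne
    have h6 := hU.eq' h hT hU' (Sup.sub_mem h.nd hc x) h4 hne
    exact h0 (hU.1.eq_zero (h6 ▸ hz) hz')
  obtain ⟨u, hu, r, hr, rfl⟩ := hU.1.exists_add x
  rw [map_add, hc.2.2 r hr, add_sub_add_right_eq_sub, sub_eq_zero] at h5
  by_cases h6 : u = 0
  · simpa [h6] using hr
  · exact absurd (hT.eq_one_of_fix h.nd hU.1 hc hu h6 h5) h1

omit [Finite F] in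
theorem eq_or_neg_of_tv (hf : f.Nondeg) (h0 : x ≠ 0) (ha : a ≠ 0) (h : f.tv y a = f.tv x a) :
    y = x ∨ y = -x := by
  obtain ⟨t, ht⟩ := hf.exists_B_eq h0 1
  have h1 := DFunLike.congr_fun h t
  rw [tv_apply, tv_apply, add_right_inj, ht, mul_one, mul_smul] at h1
  have h2 : f.B y t • y = x := smul_right_injective V ha h1
  have h3 : f.B y t * f.B y t = 1 := by rw [← Bl, h2, ht]
  rcases mul_self_eq_one_iff.1 h3 with h4 | h4 <;> rw [h4] at h2
  · exact Or.inl (by simpa using h2)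
  · exact Or.inr (by rw [← h2]; simp)

/-- An isometry supported on a hyperbolic line has order prime to `p` or eigenvalue `±1`. -/
theorem pow_or_eigen (hf : f.Nondeg) (hU : Hyp f U) (hg : g ∈ f.O)
    (h : ∀ v ∈ f.perp U, g v = v) :
    (∃ n : ℕ, (n : F) ≠ 0 ∧ g ^ n = 1) ∨ ∃ v ∈ U, v ≠ 0 ∧ (g v = v ∨ g v = -v) := by
  have : Finite V := Module.finite_of_finite F
  have : Finite (V ≃ₗ[F] V) := Finite.of_injective _ (DFunLike.coe_injective (F := V ≃ₗ[F] V))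
  obtain ⟨p, hp⟩ := CharP.exists F
  have hpp : Fact p.Prime := ⟨CharP.char_is_prime F p⟩
  obtain ⟨s, n, hn, hs⟩ := Nat.exists_eq_pow_mul_and_not_dvd (orderOf_pos g).ne' p hpp.out.ne_one
  have hu : g ^ n ∈ f.fix (f.perp U) := Subgroup.pow_mem _ (show g ∈ f.fix _ from ⟨hg, h⟩) n
  obtain ⟨y, hy, hy0⟩ := hU.exists_ne
  have : Nontrivial V := ⟨y, 0, hy0⟩
  have : CharP (Module.End F V) p := charP_of_injective_algebraMap (algebraMap F _).injective p
  let N : Module.End F V := ((g ^ n : V ≃ₗ[F] V) : V →ₗ[F] V) - 1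
  have hN : N ^ p ^ s = 0 := by
    have h1 : ((g ^ n : V ≃ₗ[F] V) : Module.End F V) ^ p ^ s = 1 := by
      have h2 : (g ^ n) ^ p ^ s = 1 := by rw [← pow_mul, mul_comm, ← hs, pow_orderOf_eq_one]
      ext x
      rw [Module.End.pow_apply, LinearEquiv.coe_coe, ← LinearEquiv.pow_apply, h2]; rfl
    rw [sub_pow_char_pow_of_commute _ _ (Commute.one_right _), one_pow, h1, sub_self]
  obtain ⟨v, hv, hv0, hv1⟩ : ∃ v ∈ U, v ≠ 0 ∧ (g ^ n) v = v := by
    by_contra hcon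
    push Not at hcon
    have key : ∀ k : ℕ, ∀ v ∈ U, (N ^ k) v = 0 → v = 0 := fun k => by
      induction k with
      | zero => simp
      | succ k ih =>
        intro v hv h1
        rw [pow_succ, Module.End.mul_apply] at h1
        by_contra h0
        exact hcon v hv h0 (sub_eq_zero.1 (ih _ (sub_mem_of_fix hf hu.1 hu.2 v) h1))
    exact hy0 (key _ y hy (by rw [hN]; rfl))
  obtain ⟨c, hc⟩ := hU.eq_tv hf hu.1 hu.2 hv hv0 hv1
  by_cases hc0 : c = 0
  · exact Or.inl ⟨n, by rwa [Ne, CharP.cast_eq_zero_iff F p], by rw [hc, hc0, tv_zero]⟩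
  · refine Or.inr ⟨v, hv, hv0, eq_or_neg_of_tv hf hv0 hc0 ?_⟩
    rw [← tv_conj hg, ← hc]
    group

/-- Reducible support group with a non-scalar element: simultaneous diagonalisation. -/
theorem exists_diag (h : R3 f K) (hT : TF f K) (hU : Hyp f U) (hI : ¬ IL f K U)
    (hc : c ∈ Sup f K U) (h1 : c ≠ 1) (h2 : ¬ ∀ u ∈ U, c u = -u) :
    ∃ (e e' : V) (l : F), f.B e e' = 1 ∧ U = span F {e, e'} ∧ l ≠ 0 ∧ l ^ 2 ≠ 1 ∧ c e = l • e ∧
      c e' = l⁻¹ • e' ∧ ∀ g ∈ Sup f K U, ∃ m : F, m ≠ 0 ∧ g e = m • e ∧ g e' = m⁻¹ • e' := by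
  obtain ⟨e, he, he0, hE⟩ : ∃ e ∈ U, e ≠ 0 ∧ ∀ g ∈ Sup f K U, g e ∈ F ∙ e := by
    by_contra hcon
    push Not at hcon
    exact hI ⟨hU, hcon⟩
  obtain ⟨l, hl⟩ := mem_span_singleton.1 (hE c hc)
  obtain ⟨e₀, hee, hUe⟩ := hU.exists_basis he he0
  have he₀ : e₀ ∈ U := hUe ▸ subset_span (by simp)
  have hl0 : l ≠ 0 := by rintro rfl; exact he0 (by simpa using hl.symm)
  have hB : ∀ g ∈ Sup f K U, ∀ m : F, g e = m • e → ∀ x ∈ U, f.B e x = 1 →
      m ≠ 0 ∧ g x = f.B (g x) e₀ • e + m⁻¹ • e₀ := fun g hg m hm x hx h1 => by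
    have h3 := mem_O_B hg.2.1 e x
    rw [hm, Bl, h1] at h3
    refine ⟨left_ne_zero_of_mul_eq_one h3, ?_⟩
    rw [inv_eq_of_mul_eq_one_right h3]
    exact coord hee (hUe ▸ Sup.apply_mem h.nd hg hx)
  obtain ⟨-, h3⟩ := hB c hc l hl.symm e₀ he₀ hee
  have hl2 : l ^ 2 ≠ 1 := fun hl2 => by
    rcases mul_self_eq_one_iff.1 ((sq l).symm.trans hl2) with rfl | rfl
    · exact h1 (hT.eq_one_of_fix h.nd hU hc he he0 (by simpa using hl.symm))
    · have h4 : c * c = 1 := hT.eq_one_of_fix h.nd hU (Subgroup.mul_mem _ hc hc) he he0 (by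
        rw [LinearEquiv.mul_apply, ← hl, map_smul, ← hl]; simp)
      refine h2 fun u hu => ?_
      obtain ⟨u', -, rfl⟩ := hT.exists_sub h.nd hU hc h1 hu
      rw [map_sub, ← LinearEquiv.mul_apply, h4]
      simp
  have hll : l - l⁻¹ ≠ 0 := fun h0 => hl2 (by
    rw [sq]; nth_rewrite 2 [sub_eq_zero.1 h0]; exact mul_inv_cancel₀ hl0)
  set ν := -(f.B (c e₀) e₀ / (l - l⁻¹)) with hν
  have hee' : f.B e (e₀ + ν • e) = 1 := by simp [hee, f.alt_B_self]
  have he' : e₀ + ν • e ∈ U := U.add_mem he₀ (U.smul_mem _ he)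
  have hce' : c (e₀ + ν • e) = l⁻¹ • (e₀ + ν • e) := by
    rw [map_add, map_smul, ← hl, h3]
    match_scalars
    · rw [hν]; field_simp; ring
    · ring
  have hUe' : U = span F {e, e₀ + ν • e} := le_antisymm
    (hUe ▸ span_le.2 (Set.pair_subset (subset_span (by simp))
      (mem_span_pair.2 ⟨-ν, 1, by module⟩)))
    (span_le.2 (Set.pair_subset he he'))
  refine ⟨e, e₀ + ν • e, l, hee', hUe', hl0, hl2, hl.symm, hce', fun g hg => ?_⟩
  obtain ⟨m, hm⟩ := mem_span_singleton.1 (hE g hg)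
  have hm0 : m ≠ 0 := by rintro rfl; exact he0 (by simpa using hm.symm)
  refine ⟨m, hm0, hm.symm, ?_⟩
  have h4 : (g * c)⁻¹ * (c * g) = 1 := hT.eq_one_of_fix h.nd hU (Subgroup.mul_mem _
    (Subgroup.inv_mem _ (Subgroup.mul_mem _ hg hc)) (Subgroup.mul_mem _ hc hg)) he he0 (by
      rw [LinearEquiv.mul_apply, LinearEquiv.coe_inv, LinearEquiv.symm_apply_eq]
      simp only [LinearEquiv.mul_apply, ← hl, ← hm, map_smul, smul_comm l m])
  have h5 : c (g (e₀ + ν • e)) = l⁻¹ • g (e₀ + ν • e) := by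
    rw [← LinearEquiv.mul_apply, ← inv_mul_eq_one.1 h4, LinearEquiv.mul_apply, hce', map_smul]
  have h6 := coord hee' (hUe' ▸ Sup.apply_mem h.nd hg he')
  have h7 := mem_O_B hg.2.1 e (e₀ + ν • e)
  rw [← hm, Bl, hee'] at h7
  rw [← inv_eq_of_mul_eq_one_right h7] at h6
  set t := f.B (g (e₀ + ν • e)) (e₀ + ν • e)
  rw [h6, map_add, map_smul, map_smul, hce', ← hl] at h5
  have h8 : (t * (l - l⁻¹)) • e = 0 := by linear_combination (norm := module) h5
  rw [h6, (mul_eq_zero.1 ((smul_eq_zero.1 h8).resolve_right he0)).resolve_right hll]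
  simp

/-- Such a group is not normalised by a transvection with centre in `U`. -/
theorem not_norm (h : R3 f K) (hT : TF f K) (hU : Hyp f U) (hI : ¬ IL f K U)
    (hc : c ∈ Sup f K U) (h1 : c ≠ 1) (h2 : ¬ ∀ u ∈ U, c u = -u) (hx : x ∈ U) (h0 : x ≠ 0)
    (ha : a ≠ 0) (hn : f.tv x a * c * (f.tv x a)⁻¹ ∈ K) : False := by
  obtain ⟨e, e', l, he, rfl, hl0, hl2, h3, h4, hD⟩ := exists_diag h hT hU hI hc h1 h2
  obtain ⟨m, -, h5, h6⟩ := hD _ ⟨hn, h.le hn, fun v hv => by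
    have h7 := f.mem_perp.1 hv x hx
    rw [tv_inv, LinearEquiv.mul_apply, LinearEquiv.mul_apply, f.tv_apply_of_B_eq_zero _ h7,
      hc.2.2 v hv, f.tv_apply_of_B_eq_zero _ h7]⟩
  obtain ⟨α, β, rfl⟩ := mem_span_pair.1 hx
  have he' : f.B e' e = -1 := by rw [f.alt_symm, he]
  have hll : l - l⁻¹ ≠ 0 := fun h0 => hl2 (by
    rw [sq]; nth_rewrite 2 [sub_eq_zero.1 h0]; exact mul_inv_cancel₀ hl0)
  have key : ∀ (s t n : F) (v : V), (f.tv (α • e + β • e') a)⁻¹ v = s • e + t • e' →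
      (f.tv (α • e + β • e') a * c * (f.tv (α • e + β • e') a)⁻¹) v = n • v → s * t = 0 := by
    intro s t n v h7 h8
    rw [LinearEquiv.mul_apply, LinearEquiv.mul_apply, ← LinearEquiv.eq_symm_apply, map_smul,
      ← LinearEquiv.coe_inv, h7, map_add, map_smul, map_smul, h3, h4] at h8
    have h9 := congrArg (f.B e) h8
    have h10 := congrArg (f.B · e') h8
    simp [alt_σ, f.alt_B_self, he] at h9 h10
    exact mul_left_cancel₀ hll (by linear_combination t * h10 - s * h9)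
  have k1 := key (1 + a * α * β) (a * β * β) m e (by
    rw [tv_inv, tv_apply]; simp [alt_σ, f.alt_B_self, he']; module) h5
  have k2 := key (-(a * α * α)) (1 - a * α * β) m⁻¹ e' (by
    rw [tv_inv, tv_apply]; simp [alt_σ, f.alt_B_self, he]; module) h6
  have k3 : β * (1 + a * α * β) = 0 := by
    by_cases hβ : β = 0
    · simp [hβ]
    · exact mul_left_cancel₀ (mul_ne_zero ha hβ) (by linear_combination k1)
  have k4 : α * (1 - a * α * β) = 0 := by
    by_cases hα : α = 0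
    · simp [hα]
    · exact mul_left_cancel₀ (mul_ne_zero ha hα) (by linear_combination -k2)
  have k5 : α * β = 0 := mul_left_cancel₀ h.two (by linear_combination α * k3 + β * k4)
  have k6 : α = 0 := by linear_combination k4 + a * α * k5
  have k7 : β = 0 := by linear_combination k3 - a * β * k5
  exact h0 (by simp [k6, k7])

end CL.Rk
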