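/-
Rank three actions of the symplectic groups in odd characteristic: the case of irreducible hyperbolic lines.
-/
import Cfsg.Agent.CLAS.RkB1

set_option autoImplicit false

namespace CL.Rk

open Module CL.Witt CL.Witt.Form FormType Submodule

variable {F : Type*} [Field F] [Finite F] {V : Type*} [AddCommGroup V] [Module F V]
  [FiniteDimensional F V] {f : Form (alt F) V} {K : Subgroup (V ≃ₗ[F] V)}

namespace B2

omit [Finite F] [FiniteDimensional F V] in
theorem finrank_hyp {U : Submodule F V} (h : Hyp f U) : finrank F U = 2 := by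
  obtain ⟨e, e', h1, rfl⟩ := h
  exact f.finrank_span_pair (f.alt_q e) (f.alt_q e') h1

theorem cast_card {W : Submodule F V} (h : 0 < finrank F W) : (Nat.card W : F) = 0 := by
  have := Fintype.ofFinite F
  rw [Module.natCard_eq_pow_finrank (K := F), Nat.cast_pow, Nat.card_eq_fintype_card,
    FiniteField.cast_card_eq_zero, zero_pow h.ne']

/-- A symmetric family of large subspaces has a second absolute vector. -/
theorem absolute (P : V → Submodule F V) (hs : ∀ v w, w ∈ P v → v ∈ P w)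
    (hd : ∀ v w, 0 < finrank F (P v ⊓ P w : Submodule F V)) : ∃ v ≠ 0, v ∈ P v := by
  classical
  have : Finite V := Module.finite_of_finite F
  have := Fintype.ofFinite V
  by_contra hn
  push Not at hn
  let A : Matrix V V F := Matrix.of fun v w => if w ∈ P v then 1 else 0
  have h2 : A ^ 2 = 0 := by
    ext v w
    have e : ∀ x, A v x * A x w = if x ∈ P v ⊓ P w then 1 else 0 := fun x => by
      simp only [A, Matrix.of_apply, Submodule.mem_inf]
      by_cases h1 : x ∈ P v <;> by_cases h2 : x ∈ P w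
      · simp [h1, h2, hs _ _ h2]
      · simp [h1, h2, mt (hs _ _) h2]
      · simp [h1]
      · simp [h1]
    rw [sq, Matrix.mul_apply, Finset.sum_congr rfl fun x _ => e x, Finset.sum_boole,
      Matrix.zero_apply, ← cast_card (hd v w), Nat.card_eq_fintype_card, Fintype.card_subtype]
  have h3 := (Matrix.isNilpotent_trace_of_isNilpotent ⟨2, h2⟩).eq_zero
  rw [Matrix.trace, Finset.sum_eq_single (0 : V)] at h3
  · simp [A] at h3
  · intro v _ hv
    simp [A, hn v hv]
  · simp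

omit [Finite F] [FiniteDimensional F V] in
theorem tv_comm {w y : V} (h : f.B w y = 0) (a b : F) : Commute (f.tv w b) (f.tv y a) := by
  have := tv_conj (f.tv_mem_O w b) y a
  rw [f.tv_apply_of_B_eq_zero b h] at this
  exact mul_inv_eq_iff_eq_mul.1 this

omit [Finite F] [FiniteDimensional F V] in
theorem tv_pow (w : V) (b : F) (n : ℕ) : f.tv w b ^ n = f.tv w (n * b) := by
  induction n with
  | zero => simp [tv_zero]
  | succ n ih => rw [pow_succ, ih, tv_mul]; congr 1; push_cast; ring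

omit [Finite F] [FiniteDimensional F V] in
/-- Two independent vectors of a hyperbolic line span it and are not perpendicular. -/
theorem span_of_notMem {U : Submodule F V} (hU : Hyp f U) {y y' : V} (hy : y ∈ U) (h0 : y ≠ 0)
    (hy' : y' ∈ U) (h : y' ∉ F ∙ y) :
    f.B y y' ≠ 0 ∧ ∀ u ∈ U, ∃ α β : F, u = α • y + β • y' := by
  obtain ⟨z, h1, rfl⟩ := hU.exists_basis hy h0
  have e := coord h1 hy'
  have hk : f.B y y' ≠ 0 := fun h2 => h (by
    rw [e, h2, zero_smul, add_zero]
    exact smul_mem _ _ (mem_span_singleton_self y))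
  refine ⟨hk, fun u hu => ?_⟩
  obtain ⟨a, b, rfl⟩ := mem_span_pair.1 hu
  refine ⟨a - b * (f.B y y')⁻¹ * f.B y' z, b * (f.B y y')⁻¹, ?_⟩
  have e2 : z = (f.B y y')⁻¹ • (y' - f.B y' z • y) := by
    rw [sub_eq_iff_eq_add'.2 e, smul_smul, inv_mul_cancel₀ hk, one_smul]
  conv_lhs => rw [e2]
  module

omit [Finite F] [FiniteDimensional F V] in
theorem ind {y y' : V} (hk : f.B y y' ≠ 0) {α β α' β' : F}
    (h : α • y + β • y' = α' • y + β' • y') : α = α' ∧ β = β' := by
  have h1 := congrArg (f.B y) h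
  have h2 := congrArg (f.B y') h
  simp only [map_add, map_smul, f.alt_B_self, f.alt_symm y y', smul_eq_mul, mul_zero, zero_add,
    add_zero, mul_neg, neg_inj] at h1 h2
  exact ⟨mul_right_cancel₀ hk h2, mul_right_cancel₀ hk h1⟩

omit [Finite F] [FiniteDimensional F V] in
theorem tv_tv (y y' : V) (a a' α β : F) : (f.tv y a * f.tv y' a') (α • y + β • y') =
    (α + a * f.B y y' * (β - a' * α * f.B y y')) • y + (β - a' * α * f.B y y') • y' := by
  simp only [LinearEquiv.mul_apply, tv_apply, map_add, map_smul, f.alt_B_self, f.alt_symm y y']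
  module

section
variable (h : R3 f K) (hT : TF f K) {U : Submodule F V} (hU : IL f K U) {y : V} (hy : y ∈ U)
  (h0 : y ≠ 0)
  (key : ∀ a ≠ 0, ∃ w ∈ f.perp U, w ≠ 0 ∧ ∃ b ≠ 0, f.tv w b * f.tv y a ∈ K)
include h hT hU hy h0 key

theorem sq_eq {ρ : V ≃ₗ[F] V} (hρ : ρ ∈ Sup f K U) (hn : ρ y ∉ F ∙ y) {a : F} (ha : a ≠ 0) :
    a ^ 2 * f.B y (ρ y) ^ 2 = 4 := by
  obtain ⟨w, hw, hw0, b, hb, hg⟩ := key a ha
  have hy' := Sup.apply_mem h.nd hρ hy
  obtain ⟨hk, hsp⟩ := span_of_notMem hU.1 hy h0 hy' hn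
  have hg' : f.tv w b * f.tv (ρ y) a ∈ K := by
    have := K.mul_mem (K.mul_mem hρ.1 hg) (K.inv_mem hρ.1)
    rwa [← conj_mul, tv_conj hρ.2.1, tv_conj hρ.2.1, hρ.2.2 w hw] at this
  have c1 : ∀ c d, Commute (f.tv w c) (f.tv y d) := fun c d =>
    tv_comm (f.B_eq_zero_symm (hw y hy)) d c
  have c2 : ∀ c d, Commute (f.tv w c) (f.tv (ρ y) d) := fun c d =>
    tv_comm (f.B_eq_zero_symm (hw _ hy')) d c
  have hp : f.tv w (b + b) * (f.tv y a * f.tv (ρ y) a) ∈ K := by
    have := K.mul_mem hg hg'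
    rwa [mul_assoc, ← mul_assoc (f.tv y a), ← (c1 b a).eq, mul_assoc, ← mul_assoc, tv_mul] at this
  rcases pow_or_eigen h.nd hU.1 (g := f.tv y a * f.tv (ρ y) a)
    (mul_mem (f.tv_mem_O _ _) (f.tv_mem_O _ _)) (fun v hv => by
      rw [LinearEquiv.mul_apply, f.tv_apply_of_B_eq_zero a (hv _ hy'),
        f.tv_apply_of_B_eq_zero a (hv _ hy)]) with ⟨n, hn0, hn1⟩ | ⟨v, hv, hv0, he⟩
  · have := K.pow_mem hp n
    rw [((c1 _ _).mul_right (c2 _ _)).mul_pow, hn1, mul_one, tv_pow] at this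
    rcases hT _ _ this with h1 | h1
    · exact absurd h1 hw0
    · rw [← two_mul] at h1
      exact absurd h1 (mul_ne_zero hn0 (mul_ne_zero h.two hb))
  · obtain ⟨α, β, rfl⟩ := hsp v hv
    rw [tv_tv] at he
    have hz : α = 0 → β = 0 → False := by
      rintro rfl rfl
      simp at hv0
    rcases he with he | he
    · obtain ⟨e1, e2⟩ := ind hk he
      have hα : α = 0 := by
        have : a * f.B y (ρ y) * α = 0 := by linear_combination -e2
        exact (mul_eq_zero.1 this).resolve_left (mul_ne_zero ha hk)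
      have hβ : β = 0 := by
        have : a * f.B y (ρ y) * β = 0 := by rw [hα] at e1; linear_combination e1
        exact (mul_eq_zero.1 this).resolve_left (mul_ne_zero ha hk)
      exact (hz hα hβ).elim
    · rw [neg_add, ← neg_smul, ← neg_smul] at he
      obtain ⟨e1, e2⟩ := ind hk he
      have hα : α ≠ 0 := fun hα => hz hα (by
        have : 2 * β = 0 := by rw [hα] at e2; linear_combination e2
        exact (mul_eq_zero.1 this).resolve_left h.two)
      refine mul_left_cancel₀ hα ?_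
      linear_combination -2 * e1 + a * f.B y (ρ y) * e2

/-- The support group of an `I`-line is transitive on its nonzero vectors. -/
theorem trans {u : V} (hu : u ∈ U) (hu0 : u ≠ 0) : ∃ σ ∈ Sup f K U, σ y = u := by
  obtain ⟨ρ, hρ, hn⟩ := hU.2 y hy h0
  have hy' := Sup.apply_mem h.nd hρ hy
  obtain ⟨hk, hsp⟩ := span_of_notMem hU.1 hy h0 hy' hn
  have k4 : f.B y (ρ y) ^ 2 = 4 := by simpa using sq_eq h hT hU hy h0 key hρ hn one_ne_zero
  have h4 : (4 : F) ≠ 0 := by
    have := mul_ne_zero h.two h.two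
    rwa [show (2 : F) * 2 = 4 by norm_num] at this
  have hsq : ∀ a : F, a ≠ 0 → a ^ 2 = 1 := fun a ha => by
    have := sq_eq h hT hU hy h0 key hρ hn ha
    rw [k4] at this
    exact mul_right_cancel₀ h4 (by rw [this, one_mul])
  have h3 : (3 : F) = 0 := by linear_combination hsq 2 h.two
  have hF : ∀ a : F, a = 0 ∨ a = 1 ∨ a = -1 := fun a => by
    by_cases ha : a = 0
    · exact Or.inl ha
    · exact Or.inr (sq_eq_one_iff.1 (hsq a ha))
  obtain ⟨w, hw, hw0, b, hb, hg⟩ := key 1 one_ne_zero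
  have hg' : f.tv w b * f.tv (ρ y) 1 ∈ K := by
    have := K.mul_mem (K.mul_mem hρ.1 hg) (K.inv_mem hρ.1)
    rwa [← conj_mul, tv_conj hρ.2.1, tv_conj hρ.2.1, hρ.2.2 w hw] at this
  set τ := f.tv y 1 * f.tv (ρ y) (-1) with hτ
  have hτS : τ ∈ Sup f K U := by
    refine ⟨?_, mul_mem (f.tv_mem_O _ _) (f.tv_mem_O _ _), fun v hv => ?_⟩
    · have := K.mul_mem hg (K.inv_mem hg')
      have c1 := tv_comm (f.B_eq_zero_symm (hw y hy)) 1 b
      have c2 := tv_comm (f.B_eq_zero_symm (hw _ hy')) (-1) b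
      rwa [mul_inv_rev, tv_inv, ← mul_assoc, mul_assoc (f.tv w b), (c1.mul_right c2).eq,
        mul_inv_cancel_right] at this
    · rw [hτ, LinearEquiv.mul_apply, f.tv_apply_of_B_eq_zero _ (hv _ hy'),
        f.tv_apply_of_B_eq_zero _ (hv _ hy)]
  set κ := f.B y (ρ y) with hκ
  have k1 : κ ^ 2 = 1 := hsq κ hk
  let R : F → F → Prop := fun α β => ∃ σ ∈ Sup f K U, σ y = α • y + β • ρ y
  have r1 : R 1 0 := ⟨1, one_mem _, by simp⟩
  have r2 : R 0 1 := ⟨ρ, hρ, by simp⟩
  have rt : ∀ {α β α' β'}, R α β → α' = -α + κ * β → β' = β + α * κ → R α' β' := by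
    rintro α β _ _ ⟨σ, hσ, e⟩ rfl rfl
    refine ⟨τ * σ, mul_mem hτS hσ, ?_⟩
    rw [LinearEquiv.mul_apply, e, hτ, tv_tv, ← hκ]
    congr 2
    · linear_combination α * k1 + α * h3
    · ring
  have rn : ∀ {α β α' β'}, R α β → α' = -α → β' = -β → R α' β' := by
    rintro α β _ _ hr rfl rfl
    refine rt (rt hr rfl rfl) ?_ ?_
    · linear_combination -α * k1 - α * h3
    · linear_combination -β * k1 - β * h3
  have r3 : R (-1) κ := rt r1 (by ring) (by ring)
  have r4 : R κ 1 := rt r2 (by ring) (by ring)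
  have r5 : R 1 1 ∧ R 1 (-1) := by
    rcases sq_eq_one_iff.1 k1 with e | e
    · rw [e] at r3 r4
      exact ⟨r4, rn r3 (by ring) rfl⟩
    · rw [e] at r3 r4
      exact ⟨rn r3 (by ring) (by ring), rn r4 (by ring) rfl⟩
  obtain ⟨α, β, rfl⟩ := hsp u hu
  change R α β
  rcases hF α with rfl | rfl | rfl <;> rcases hF β with rfl | rfl | rfl
  · simp at hu0
  · exact r2
  · exact rn r2 (by ring) rfl
  · exact r1
  · exact r5.1
  · exact r5.2
  · exact rn r1 rfl (by ring)
  · exact rn r5.2 rfl (by ring)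
  · exact rn r5.1 rfl rfl

end

end B2

/-- The `I`-lines cannot cover all points: the incidence matrix of `w ∈ U_v^⊥` has square zero
and trace one. -/
theorem false_of_cover (h : R3 f K) (hT : TF f K) (hc : ∀ v ≠ 0, ∃ U, IL f K U ∧ v ∈ U) :
    False := by
  classical
  choose! U hU hm using hc
  let P : V → Submodule F V := fun v => if v = 0 then ⊤ else f.perp (U v)
  have hr : ∀ v, finrank F V ≤ finrank F (P v) + 2 := fun v => by
    by_cases hv : v = 0
    · rw [show P v = ⊤ from if_pos hv, finrank_top]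
      omega
    · have := h.nd.finrank_add_finrank_perp (U v)
      rw [B2.finrank_hyp (hU v hv).1] at this
      rw [show P v = _ from if_neg hv]
      omega
  obtain ⟨v, hv, h1⟩ := B2.absolute P (fun v w hw => by
    by_cases h1 : w = 0
    · simp [P, h1]
    by_cases h2 : v = 0
    · simp [h2]
    simp only [P, if_neg h1, if_neg h2] at hw ⊢
    exact f.le_perp_comm.1 (IL.le_perp h hT (hU v h2) (hU w h1) (hm w h1) hw h1) (hm v h2))
    (fun v w => by
      have h1 := Submodule.finrank_sup_add_finrank_inf_eq (P v) (P w)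
      have h2 := Submodule.finrank_le (P v ⊔ P w)
      have h3 := hr v
      have h4 := hr w
      have h5 := h.dim
      omega)
  simp only [P, if_neg hv] at h1
  exact hv ((hU v hv).1.eq_zero (hm v hv) h1)

/-- If there is an `I`-line, the `I`-lines cover all points. -/
theorem cover_of_IL (h : R3 f K) (hT : TF f K) (hP : Par f K) {U : Submodule F V}
    (hU : IL f K U) : ∀ v ≠ 0, ∃ U, IL f K U ∧ v ∈ U := by
  intro w₀ hw₀
  by_contra hn
  let O : V → Prop := fun v => ∃ U, IL f K U ∧ v ∈ U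
  have hO : ∀ k ∈ K, ∀ v, O v → O (k v) := by
    rintro k hk v ⟨U, hU, hv⟩
    exact ⟨_, hU.map h.le hk, ⟨v, hv, rfl⟩⟩
  have hO' : ∀ k ∈ K, ∀ v, O v ↔ O (k v) := fun k hk v =>
    ⟨hO k hk v, fun h1 => by simpa using hO _ (K.inv_mem hk) _ h1⟩
  have key : ∀ y ∈ U, y ≠ 0 → ∀ a ≠ 0, ∃ w ∈ f.perp U, w ≠ 0 ∧ ∃ b ≠ 0,
      f.tv w b * f.tv y a ∈ K := by
    intro y hy h0 a ha
    obtain ⟨k, hk, b, hb, hg⟩ := hP y h0 a ha w₀ hw₀
    have hb0 : -b ≠ 0 := by
      rw [neg_ne_zero]
      rintro rfl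
      simp at hb
    have hw : k w₀ ∉ U := fun h1 => hn ((hO' k hk w₀).2 ⟨U, hU, h1⟩)
    exact ⟨_, hU.perp_of_par h hT hy h0 hw hb0 hg, by simpa using hw₀, _, hb0, hg⟩
  let H : Subgroup (V ≃ₗ[F] V) :=
    { carrier := {g | g ∈ f.O ∧ ∀ v, O v ↔ O (g v)}
      one_mem' := ⟨one_mem _, fun _ => Iff.rfl⟩
      mul_mem' := fun {a b} ha hb => ⟨mul_mem ha.1 hb.1, fun v => (hb.2 v).trans (ha.2 _)⟩
      inv_mem' := fun {a} ha => ⟨inv_mem ha.1, fun v => by simpa using (ha.2 (a⁻¹ v)).symm⟩ }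
  obtain ⟨e, e', h1, hs⟩ := hU.1
  have he : e ∈ U := hs ▸ subset_span (by simp)
  have he0 : e ≠ 0 := by
    rintro rfl
    simp at h1
  rcases h.max H (fun k hk => ⟨h.le hk, hO' k hk⟩) (fun g hg => hg.1) with h2 | h2
  · have : f.tv e 1 ∈ H := by
      refine ⟨f.tv_mem_O _ _, fun x => ?_⟩
      obtain ⟨u, hu, r, hr, rfl⟩ := hU.1.exists_add x
      rw [map_add, f.tv_apply_of_B_eq_zero 1 (hr e he)]
      by_cases hu0 : u = 0
      · simp [hu0]
      obtain ⟨σ, hσ, e1⟩ := B2.trans h hT hU hu hu0 (key u hu hu0) (u := f.tv e 1 u)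
        (add_mem hu (smul_mem _ _ he)) (by simpa using hu0)
      rw [hO' σ hσ.1, map_add, e1, hσ.2.2 r hr]
    rcases hT _ _ (h2 this) with h3 | h3
    · exact he0 h3
    · exact one_ne_zero h3
  · obtain ⟨g, hg, e1⟩ := h.nd.witt_vector he0 hw₀ (by rw [f.alt_q, f.alt_q])
    exact hn (e1 ▸ ((h2 hg).2 e).1 ⟨U, hU, he⟩)

end CL.Rk
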