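/-
Characteristic two, transvection groups of order two: a non-degenerate triple containing a pair
whose product has order at least five is monomial.
-/
import Cfsg.Agent.CLAS.ZsM1
import Cfsg.Agent.INV.ZStar
import Cfsg.Agent.SOLV.Core
import Cfsg.Agent.S0205

set_option autoImplicit false

namespace CL.Zs.ZM

open Matrix Cfsg.Geo CL.Asch
open MH (cr trip)

variable {F : Type*} [Field F]

theorem trip_mul (x u y φ θ η : Fin 3 → F) (h1 : φ ⬝ᵥ x = 0) (h2 : θ ⬝ᵥ u = 0) (h3 : η ⬝ᵥ y = 0) :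
    trip φ θ η * trip x u y =
      (φ ⬝ᵥ u) * (θ ⬝ᵥ y) * (η ⬝ᵥ x) + (φ ⬝ᵥ y) * (η ⬝ᵥ u) * (θ ⬝ᵥ x) := by
  have : trip φ θ η * trip x u y =
      (φ ⬝ᵥ u) * (θ ⬝ᵥ y) * (η ⬝ᵥ x) + (φ ⬝ᵥ y) * (η ⬝ᵥ u) * (θ ⬝ᵥ x) +
      (φ ⬝ᵥ x) * (θ ⬝ᵥ u) * (η ⬝ᵥ y) - (φ ⬝ᵥ y) * (θ ⬝ᵥ u) * (η ⬝ᵥ x) -
      (φ ⬝ᵥ u) * (θ ⬝ᵥ x) * (η ⬝ᵥ y) - (φ ⬝ᵥ x) * (θ ⬝ᵥ y) * (η ⬝ᵥ u) := by
    simp only [MH.trip_eq, MH.dot3]; ring
  rw [this, h1, h2, h3]; ring

theorem irr3 {K : Subgroup (GL (Fin 3) F)} {x φ u θ y η : Fin 3 → F} (h1 : TV K x φ)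
    (h2 : TV K u θ) (h3 : TV K y η)
    (hd : (φ ⬝ᵥ u) * (θ ⬝ᵥ y) * (η ⬝ᵥ x) + (φ ⬝ᵥ y) * (η ⬝ᵥ u) * (θ ⬝ᵥ x) ≠ 0) : Irr K := by
  intro W hW
  rw [or_iff_not_imp_left]
  intro h0
  obtain ⟨v, hv, hv0⟩ := (Submodule.ne_bot_iff W).1 h0
  have step : ∀ {a α : Fin 3 → F}, TV K a α → ∀ w ∈ W, α ⬝ᵥ w ≠ 0 → a ∈ W := by
    rintro a α ⟨-, g, hg, e⟩ w hw hα
    have := W.sub_mem (hW g hg w hw) hw
    rw [show (g : Matrix (Fin 3) (Fin 3) F) *ᵥ w = _ from e w, add_sub_cancel_left] at this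
    exact (W.smul_mem_iff hα).1 this
  have ht := hd
  rw [← trip_mul x u y φ θ η h1.1 h2.1 h3.1] at ht
  have one : x ∈ W ∨ u ∈ W ∨ y ∈ W := by
    by_contra hn
    push Not at hn
    refine hv0 (MH.eq_zero_of_dot_basis (left_ne_zero_of_mul ht) ?_ ?_ ?_) <;>
      rw [dotProduct_comm] <;> by_contra e
    exacts [hn.1 (step h1 v hv e), hn.2.1 (step h2 v hv e), hn.2.2 (step h3 v hv e)]
  have all : x ∈ W ∧ u ∈ W ∧ y ∈ W := by
    by_cases e : (φ ⬝ᵥ u) * (θ ⬝ᵥ y) * (η ⬝ᵥ x) = 0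
    · rw [e, zero_add] at hd
      have a1 : y ∈ W → x ∈ W := fun h =>
        step h1 y h (left_ne_zero_of_mul (left_ne_zero_of_mul hd))
      have a2 : u ∈ W → y ∈ W := fun h =>
        step h3 u h (right_ne_zero_of_mul (left_ne_zero_of_mul hd))
      have a3 : x ∈ W → u ∈ W := fun h => step h2 x h (right_ne_zero_of_mul hd)
      tauto
    · have a1 : u ∈ W → x ∈ W := fun h =>
        step h1 u h (left_ne_zero_of_mul (left_ne_zero_of_mul e))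
      have a2 : y ∈ W → u ∈ W := fun h =>
        step h2 y h (right_ne_zero_of_mul (left_ne_zero_of_mul e))
      have a3 : x ∈ W → y ∈ W := fun h => step h3 x h (right_ne_zero_of_mul e)
      tauto
  refine eq_top_iff.2 fun w _ => ?_
  obtain ⟨r, s, t, rfl⟩ := MH.exists_coords (right_ne_zero_of_mul ht) w
  exact W.add_mem (W.add_mem (W.smul_mem _ all.1) (W.smul_mem _ all.2.1)) (W.smul_mem _ all.2.2)

theorem tv_smul {ι : Type} [Fintype ι] [DecidableEq ι] (K : Subgroup (GL ι F)) (c : F)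
    (x φ : ι → F) : TV K (c • x) φ ↔ TV K x (c • φ) := by
  simp only [TV, IsT.smul_iff, dotProduct_smul, smul_dotProduct]

/-- step (1) -/
theorem eq_of_comm {K : Subgroup (GL (Fin 3) F)} (hs : Small2 (TV K)) (hU : Uni (TV K))
    (hU' : Uni (fun φ x => TV K x φ)) {x φ u θ : Fin 3 → F} (h1 : NT (TV K) x φ)
    (h2 : NT (TV K) u θ) {s t : GL (Fin 3) F} (e1 : IsT s x φ) (e2 : IsT t u θ)
    (hc : s * t = t * s) : t = s := by
  have a1 : θ ⬝ᵥ x = 0 := dot_of_comm e1 e2 h1.2.2 h2.2.1 h2.1.1 hc.symm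
  have a2 : φ ⬝ᵥ u = 0 := dot_of_comm e2 e1 h2.2.2 h1.2.1 h1.1.1 hc
  have key : ∀ c : F, u = c • x → t = s := by
    rintro c rfl
    have b1 := (tv_smul K c x θ).1 h2.1
    obtain ⟨d, hd⟩ := hU.eq h1 b1
    rw [IsT.smul_iff, hd] at e2
    rcases hs x φ d h1 (hd ▸ b1) with rfl | rfl
    · rw [zero_smul, smul_eq_zero] at hd
      exact (hd.elim (fun e => h2.2.1 (by rw [e, zero_smul])) h2.2.2).elim
    · rw [one_smul] at e2
      exact e2.unique e1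
  by_cases e : cr u x = 0
  · obtain ⟨c, hc⟩ := MH.exists_smul_of_cr h1.2.1 e
    exact key c hc
  · obtain ⟨c, rfl⟩ := MH.exists_smul_of_cr h1.2.2
      (MH.cr_eq_zero_of_dots e h2.1.1 a1 a2 h1.1.1)
    have hc0 : c ≠ 0 := fun e => h2.2.2 (by rw [e, zero_smul])
    obtain ⟨d, hd⟩ := hU'.eq h1.flip ((tv_smul K c u φ).2 h2.1)
    refine key (c⁻¹ * d) ?_
    rw [← smul_smul, ← hd, smul_smul, inv_mul_cancel₀ hc0, one_smul]

/-- step (2) -/
theorem exists_solv [Finite F] (h2 : (2 : F) = 0) {K : Subgroup (GL (Fin 3) F)}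
    (hs : Small2 (TV K)) (hU : Uni (TV K)) (hU' : Uni (fun φ x => TV K x φ))
    {x φ u θ : Fin 3 → F} (h1 : NT (TV K) x φ) (h1' : NT (TV K) u θ)
    (m0 : (φ ⬝ᵥ u) * (θ ⬝ᵥ x) ≠ 0) :
    ∃ N : Subgroup (GL (Fin 3) F), NormBy K N ∧ ¬ N ≤ scalars (Fin 3) F ∧ Odd (Nat.card N) := by
  obtain ⟨p1, s, hsK, e1⟩ := h1.1
  obtain ⟨p2, t, htK, e2⟩ := h1'.1
  have hiso : Cfsg.IsIsolatedInvolution (⟨s, hsK⟩ : K) := by
    refine ⟨orderOf_eq_prime ?_ fun e => ?_, fun g hg => Subtype.ext ?_⟩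
    · exact Subtype.ext (by rw [pow_two]; exact sq_one h2 e1 p1)
    · exact (e1.eq_one_iff.1 (congrArg Subtype.val e)).elim h1.2.1 h1.2.2
    · exact eq_of_comm hs hU hU' h1
        ⟨h1.1.conj g.2, ac_ne_zero _ h1.2.1, dc_ne_zero _ h1.2.2⟩ e1 (e1.conj g)
        (congrArg Subtype.val hg.eq)
  refine ⟨(Cfsg.oddCore K).map K.subtype, ?_, fun h => ?_, ?_⟩
  · rintro g hg _ ⟨a, ha, rfl⟩
    exact ⟨_, (inferInstance : (Cfsg.oddCore K).Normal).conj_mem a ha ⟨g, hg⟩, rfl⟩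
  · have hz := h ⟨_, CL.BS.zstar hiso ⟨t, htK⟩, rfl⟩
    have ha := left_ne_zero_of_mul m0
    have hb := right_ne_zero_of_mul m0
    have hw : cr θ φ ≠ 0 := MH.cr_ne_zero_of_dot' (ne_left ha) p1 hb
    refine hb (dot_of_comm e1 e2 h1.2.2 h1'.2.1 p2
      (comm_fix (a := s) (b := t) hz hw (c := 1) (d := 1) ?_ ?_).symm)
    · rw [e1, MH.dot_cr_right, zero_smul, add_zero, one_smul]
    · rw [e2, MH.dot_cr_left, zero_smul, add_zero, one_smul]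
  · rw [Subgroup.card_map_of_injective K.subtype_injective]
    exact Nat.coprime_two_right.1 (CL.coprime_card_pPrimeCore 2 K)

/-- steps (3) to (5) -/
theorem exists_frame [Finite F] (h2 : (2 : F) = 0) {K N : Subgroup (GL (Fin 3) F)} (hK : Irr K)
    (hN : NormBy K N) (hns : ¬ N ≤ scalars (Fin 3) F) (ho : Odd (Nat.card N))
    {x φ u θ : Fin 3 → F} (h1 : TV K x φ) (h1' : TV K u θ)
    (m0 : (φ ⬝ᵥ u) * (θ ⬝ᵥ x) ≠ 0) (m1 : (φ ⬝ᵥ u) * (θ ⬝ᵥ x) ≠ 1) :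
    ∃ b β : Fin 3 → Fin 3 → F, DualB b β ∧
      ∀ g ∈ K, ∀ i, ∃ (j : Fin 3) (c : F), ac g (b i) = c • b j := by
  obtain ⟨p1, s, hsK, e1⟩ := h1
  obtain ⟨p2, t, htK, e2⟩ := h1'
  obtain ⟨A, hAN, hA, hAs, hmin⟩ := exists_minimal_nonscalar K N hN hns
  have hc : ∀ a ∈ A, ∀ b ∈ A, a * b * a⁻¹ * b⁻¹ ∈ scalars (Fin 3) F := by
    rcases hmin _ (commutator_le_self' A) hA.commutator with h | h
    · exact fun a ha b hb => h (Subgroup.commutator_mem_commutator ha hb)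
    · exfalso
      have := Cfsg.Agent.S0205.result (G := A) (ho.of_dvd_nat (Subgroup.card_dvd_of_le hAN))
      have : Nontrivial A := (Subgroup.nontrivial_iff_ne_bot A).2 fun e => hAs (e ▸ bot_le)
      refine (Group.IsSolvable.commutator_lt_top_of_nontrivial A).ne
        (Subgroup.map_injective A.subtype_injective ?_)
      rw [Subgroup.map_subtype_commutator, h, ← MonoidHom.range_eq_map, Subgroup.range_subtype]
  have hab : ∀ a ∈ A, ∀ b ∈ A, a * b = b * a := by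
    rcases hmin (A ⊓ Subgroup.centralizer A) inf_le_left (fun g hg a ha =>
      ⟨hA g hg a ha.1, fun b hb => by
        have := ha.2 _ (hA g⁻¹ (K.inv_mem hg) b hb)
        calc b * (g * a * g⁻¹) = g * (g⁻¹ * b * g⁻¹⁻¹ * a) * g⁻¹ := by group
          _ = g * a * g⁻¹ * b := by rw [this]; group⟩) with h | h
    · exact abelian_of h2 hc (fun c hcA hcb => h ⟨hcA, fun b hb => (hcb b hb).symm⟩) e1 e2 p1 p2
        m0 m1 (hA s hsK) (hA t htK)
    · exact fun a ha b hb => (h.ge hb).2 a ha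
  have hcomm : ∀ z ∈ (alg A).toSubring, ∀ w ∈ (alg A).toSubring, z * w = w * z :=
    fun z hz w hw => commute_alg (fun a ha => (commute_alg (fun b hb => by
      rw [← Units.val_mul, hab a ha b hb, Units.val_mul]) z hz).symm) w hw
  have hnorm : ∀ g ∈ K, ∀ z ∈ (alg A).toSubring, conjAlgHom g z ∈ (alg A).toSubring :=
    fun g hg z hz => conj_mem_alg (hA g hg) z hz
  rcases idem_or_inv _ K hcomm hnorm hK with ⟨f, hf, f1, f2, f3⟩ | h
  · obtain ⟨n, e, hn, he, -⟩ := exists_idemFam _ K hcomm hnorm hK hf f1 f2 f3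
    exact frame_of_idem hn he
  · exact (hAs (field_case h2 hab h e1 p1 (ne_right (right_ne_zero_of_mul m0))
      (ne_left (left_ne_zero_of_mul m0)) (hA s hsK))).elim

theorem mono_core [Finite F] (h2 : (2 : F) = 0) {K : Subgroup (GL (Fin 3) F)}
    (hs : Small2 (TV K)) (hU : Uni (TV K)) (hU' : Uni (fun φ x => TV K x φ))
    {x φ u θ y η : Fin 3 → F} (h1 : NT (TV K) x φ) (h1' : NT (TV K) u θ) (h1'' : NT (TV K) y η)
    (m0 : (φ ⬝ᵥ u) * (θ ⬝ᵥ x) ≠ 0) (m1 : (φ ⬝ᵥ u) * (θ ⬝ᵥ x) ≠ 1)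
    (hd : (φ ⬝ᵥ u) * (θ ⬝ᵥ y) * (η ⬝ᵥ x) + (φ ⬝ᵥ y) * (η ⬝ᵥ u) * (θ ⬝ᵥ x) ≠ 0) :
    (φ ⬝ᵥ y) * (η ⬝ᵥ x) = 1 ∧ ∃ (e ε : Fin 3 → Fin 3 → F) (ζ : F), DualB e ε ∧ ζ ≠ 0 ∧ ζ ^ 3 ≠ 1 ∧
      TV K (e 0 + e 1) (ε 0 + ε 1) ∧ TV K (e 0 + ζ • e 1) (ε 0 + ζ⁻¹ • ε 1) ∧
      TV K (e 0 + e 2) (ε 0 + ε 2) := by
  obtain ⟨N, hN, hns, ho⟩ := exists_solv h2 hs hU hU' h1 h1' m0
  obtain ⟨b, β, hb, H⟩ := exists_frame h2 (irr3 h1.1 h1'.1 h1''.1 hd) hN hns ho h1.1 h1'.1 m0 m1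
  have sh : ∀ {a α}, NT (TV K) a α → ∃ l, Sh b β a α l := by
    rintro a α ⟨⟨p, g, hg, e⟩, ha, hα⟩
    exact shape h2 hb e p ha hα (H g hg)
  obtain ⟨l, s1⟩ := sh h1
  obtain ⟨l1, s2⟩ := sh h1'
  obtain ⟨l', s3⟩ := sh h1''
  obtain rfl : l = l1 := by
    by_contra e
    exact m1 (pair_one hb e s1 s2)
  have hl : l ≠ l' := by
    rintro rfl
    rw [← trip_mul x u y φ θ η h1.1.1 h1'.1.1 h1''.1.1] at hd
    have := hb l l
    rw [MH.eq_zero_of_dot_basis (right_ne_zero_of_mul hd) s1.1 s2.1 s3.1, zero_dotProduct,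
      if_pos rfl] at this
    exact zero_ne_one this
  refine ⟨pair_one hb hl s1 s3, ?_⟩
  obtain ⟨σ, hσ, rfl, rfl⟩ := exists_perm l l' hl
  exact frame_std h2 (tv_smul K) (dual_perm hb hσ) h1.1 h1'.1 h1''.1 (s1.perm hσ) (s2.perm hσ)
    (s3.perm hσ) m1 m0

section Emb

variable {ι : Type} [Fintype ι] [DecidableEq ι] {κ : Type} [Fintype κ] [DecidableEq κ]

omit [DecidableEq ι] in
theorem dual_mul {b β : κ → ι → F} (h : DualB b β) : (Matrix.of β) * (Matrix.of b)ᵀ = 1 := by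
  ext i j
  rw [one_apply, ← h i j]
  rfl

/-- extension by the identity on the common kernel of the `β i` -/
def embM {b β : κ → ι → F} (h : DualB b β) : Matrix κ κ F →* Matrix ι ι F where
  toFun g := 1 + (Matrix.of b)ᵀ * (g - 1) * Matrix.of β
  map_one' := by simp
  map_mul' g k := by
    have e : (Matrix.of b)ᵀ * (g - 1) * Matrix.of β * ((Matrix.of b)ᵀ * (k - 1) * Matrix.of β) =
        (Matrix.of b)ᵀ * ((g - 1) * (k - 1)) * Matrix.of β := by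
      simp only [Matrix.mul_assoc]
      rw [← Matrix.mul_assoc (Matrix.of β), dual_mul h, Matrix.one_mul]
    rw [add_mul, mul_add, mul_add, e, one_mul, one_mul, mul_one,
      show g * k - 1 = (k - 1) + ((g - 1) + (g - 1) * (k - 1)) by noncomm_ring]
    simp only [Matrix.mul_add, Matrix.add_mul, add_assoc]

omit [DecidableEq ι] in
theorem up_dot {b β : κ → ι → F} (h : DualB b β) (α a : κ → F) :
    (α ᵥ* Matrix.of β) ⬝ᵥ (a ᵥ* Matrix.of b) = α ⬝ᵥ a := by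
  rw [vecMul_eq_sum, vecMul_eq_sum]
  exact h.dot_sum α a

omit [DecidableEq ι] in
theorem up_ne {b β : κ → ι → F} (h : DualB b β) {a : κ → F} (ha : a ≠ 0) :
    a ᵥ* Matrix.of b ≠ 0 := by
  obtain ⟨α, hα⟩ := exists_dot ha
  exact ne_right (φ := α ᵥ* Matrix.of β) (by rwa [up_dot h])

omit [DecidableEq ι] in
theorem up_inj {b β : κ → ι → F} (h : DualB b β) {a a' : κ → F}
    (e : a ᵥ* Matrix.of b = a' ᵥ* Matrix.of b) : a = a' := by
  by_contra hn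
  exact up_ne h (sub_ne_zero.2 hn) (by rw [sub_vecMul, e, sub_self])

theorem isT_emb {b β : κ → ι → F} (h : DualB b β) {g : GL κ F} {a α : κ → F} (e : IsT g a α) :
    IsT (Units.map (embM h) g) (a ᵥ* Matrix.of b) (α ᵥ* Matrix.of β) := by
  refine isT_of_coe ?_
  change 1 + (Matrix.of b)ᵀ * ((g : Matrix κ κ F) - 1) * Matrix.of β = _
  rw [e.coe_eq, add_sub_cancel_left, mul_vecMulVec, vecMulVec_mul, mulVec_transpose]

theorem exists_isT {a α : κ → F} (h : α ⬝ᵥ a = 0) : ∃ g : GL κ F, IsT g a α := by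
  have e : vecMulVec a α * vecMulVec a α = 0 := by
    rw [vecMulVec_mul_vecMulVec, h, zero_smul, vecMulVec_zero]
  exact ⟨⟨1 + vecMulVec a α, 1 - vecMulVec a α,
    by rw [add_mul, mul_sub, mul_sub, e]; simp, by rw [sub_mul, mul_add, mul_add, e]; simp⟩,
    isT_of_coe rfl⟩

theorem tv_emb {b β : κ → ι → F} (h : DualB b β) (K : Subgroup (GL ι F)) (a α : κ → F) :
    TV (K.comap (Units.map (embM h))) a α ↔ TV K (a ᵥ* Matrix.of b) (α ᵥ* Matrix.of β) := by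
  constructor
  · rintro ⟨p, g, hg, e⟩
    exact ⟨by rwa [up_dot h], _, hg, isT_emb h e⟩
  · rintro ⟨p, g, hg, e⟩
    rw [up_dot h] at p
    obtain ⟨g', e'⟩ := exists_isT p
    exact ⟨p, g', by rw [Subgroup.mem_comap, (isT_emb h e').unique e]; exact hg, e'⟩

omit [DecidableEq ι] in
theorem uni_emb {b β : κ → ι → F} (h : DualB b β) {T : (ι → F) → (ι → F) → Prop} (hU : Uni T) :
    Uni (fun a α : κ → F => T (a ᵥ* Matrix.of b) (α ᵥ* Matrix.of β)) := by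
  rintro a ha ⟨α, α', h1, h2, h3, h4⟩
  exact hU _ (up_ne h ha) ⟨_, _, h1, h2, up_ne h.flip h3, fun c e =>
    h4 c (up_inj h.flip (by rw [e, smul_vecMul]))⟩

end Emb

end CL.Zs.ZM

namespace CL.Zs

open Matrix Cfsg.Geo CL.Asch

variable {F : Type*} [Field F] {ι : Type} [Fintype ι] [DecidableEq ι]

/-- Paper proof.  s=(x,φ), t=(u,θ), r=(y,η).  `hd` = determinant of the Gram matrix of the axes on
the centres.  Take b=(x,u,y), β = dual system in the span of φ,θ,η (Gram inverse), B,C the n×3, 3×n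
matrices, CB=1, emb g = 1 + B(g-1)C : GL₃ →* GLₙ; K3 = comap emb K, MH.TV K3 a α ↔ TV K (Ba) (αC),
pairings are preserved.  X = subgroup of GL₃ generated by the three transvections (irreducible).
(1) Two commuting transvections of K3 are equal (dimension 3: same centre or same axis; hU,hU',hs).
(2) so s is isolated in X: CL.BS.zstar gives [s,g] ∈ N = oddCore X, N solvable (S0205), s t ∈ N since
t is conjugate to s in the dihedral group (or: s t has odd order); N is not scalar.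
(3) A ≤ N minimal non-scalar X-normal (exists_minimal_nonscalar), [A,A] scalar.
(4) A not abelian: Z(A) scalar, commutators are scalars ω with ω³=1.  C = {c ∈ A : [c,s] scalar}
commutes with s (unipotent), so fixes the point x, so C is abelian; for c ∈ C, κ(b)=[c,b] has
κ(sbs)=κ(b), b·sbs ∈ C, so κ(b)²=1, κ=1, c scalar.  So s and t invert A mod scalars, γ=st centralises A
mod scalars, γ³ commutes with A; γ³ fixes only the point ker φ ∩ ker θ (γ³+1=(m+1)γ(γ+1) on ⟨x,u⟩,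
det(γ+1)=m), so A fixes this point and is abelian.
(5) A abelian: idem_or_inv for alg A.  Field case: for a ∈ A, a+sas and a·sas commute with s, so have
the eigenvector x, so are scalars; a²=λa+μ; the plane ⟨v,av⟩ is a-invariant so cr v (av) is a left
eigenvector of a, so a is scalar.  Idempotent case: exists_idemFam, t·m=3, three points ⟨b_i⟩ permuted
by X.  Each transvection (x,φ) of X has an index l with β_l x=0, φ b_l=0, and β_i(x)φ(b_i)=1 for i≠l.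
Different l: m=1.  So s,t have the same l, r has another one (hd); rescale the frame. -/
theorem TS.mono3 [Finite F] {T : (ι → F) → (ι → F) → Prop} (S : TS T) (h2 : (2 : F) = 0)
    (hs : Small2 T) (hU : Uni T) (hU' : Uni (fun φ x => T x φ)) {x φ u θ y η : ι → F}
    (h1 : NT T x φ) (h1' : NT T u θ) (h1'' : NT T y η)
    (m0 : (φ ⬝ᵥ u) * (θ ⬝ᵥ x) ≠ 0) (m1 : (φ ⬝ᵥ u) * (θ ⬝ᵥ x) ≠ 1)
    (hd : (φ ⬝ᵥ u) * (θ ⬝ᵥ y) * (η ⬝ᵥ x) + (φ ⬝ᵥ y) * (η ⬝ᵥ u) * (θ ⬝ᵥ x) ≠ 0) :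
    (φ ⬝ᵥ y) * (η ⬝ᵥ x) = 1 ∧ ∃ (e ε : Fin 3 → ι → F) (ζ : F), DualB e ε ∧ ζ ≠ 0 ∧ ζ ^ 3 ≠ 1 ∧
      T (e 0 + e 1) (ε 0 + ε 1) ∧ T (e 0 + ζ • e 1) (ε 0 + ζ⁻¹ • ε 1) ∧
      T (e 0 + e 2) (ε 0 + ε 2) := by
  obtain ⟨β, hb, hβ⟩ := exists_dual ![x, u, y] ![φ, θ, η]
    (by rwa [det_gram3 (S.dot h1.1) (S.dot h1'.1) (S.dot h1''.1)])
  obtain ⟨K, -, rfl⟩ := S.grp
  have hT : TV (K.comap (Units.map (ZM.embM hb))) =
      fun a α => TV K (a ᵥ* Matrix.of ![x, u, y]) (α ᵥ* Matrix.of β) :=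
    funext fun a => funext fun α => propext (ZM.tv_emb hb K a α)
  have eb : ∀ j, (Pi.single j 1 : Fin 3 → F) ᵥ* Matrix.of ![x, u, y] = ![x, u, y] j :=
    fun j => by rw [single_one_vecMul]; rfl
  have eβ : ∀ j, (fun i => ![φ, θ, η] j ⬝ᵥ ![x, u, y] i) ᵥ* Matrix.of β = ![φ, θ, η] j :=
    fun j => by rw [vecMul_eq_sum]; exact (hβ j).symm
  have ed : ∀ j i, (fun i => ![φ, θ, η] j ⬝ᵥ ![x, u, y] i) ⬝ᵥ (Pi.single i 1 : Fin 3 → F) =
      ![φ, θ, η] j ⬝ᵥ ![x, u, y] i := fun j i => by rw [dotProduct_single_one]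
  have nt : ∀ j, NT (TV K) (![x, u, y] j) (![φ, θ, η] j) →
      NT (TV (K.comap (Units.map (ZM.embM hb)))) (Pi.single j 1)
        (fun i => ![φ, θ, η] j ⬝ᵥ ![x, u, y] i) := fun j h =>
    ⟨by rw [ZM.tv_emb, eb, eβ]; exact h.1, by simp, fun e => h.2.2 (by
      rw [← eβ, e, zero_vecMul])⟩
  obtain ⟨a1, e, ε, ζ, a2, a3, a4, a5, a6, a7⟩ := ZM.mono_core h2 (K := K.comap _)
    (by
      rw [hT]
      intro a α c h h'
      rw [smul_vecMul] at h'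
      exact hs _ _ c ⟨h.1, ZM.up_ne hb h.2.1, ZM.up_ne hb.flip h.2.2⟩ h')
    (by rw [hT]; exact ZM.uni_emb hb hU) (by rw [hT]; exact ZM.uni_emb hb.flip hU')
    (nt 0 h1) (nt 1 h1') (nt 2 h1'') (by rw [ed, ed]; exact m0) (by rw [ed, ed]; exact m1)
    (by simp only [ed]; exact hd)
  rw [ed, ed] at a1
  rw [ZM.tv_emb, add_vecMul, add_vecMul] at a5 a6 a7
  rw [smul_vecMul, smul_vecMul] at a6
  exact ⟨a1, fun i => e i ᵥ* Matrix.of ![x, u, y], fun i => ε i ᵥ* Matrix.of β, ζ,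
    fun i j => by rw [ZM.up_dot hb, a2], a3, a4, a5, a6, a7⟩

end CL.Zs
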